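import Mathlib
import Cfsg.Agent.Lib.Helper40.OpBNDefs
import Cfsg.Agent.Lib.Helper13.Borel

/-!
# OpBN hive (S2548, owner helper40): leaf OPBN-BOREL `mem_Bo_iff` (helper87)

Clone of helper13 `mem_borel_iff` for the isometry group `OG F m = O⁺_{2m}(F)`.
-/

set_option autoImplicit false
set_option linter.unusedSectionVars false
set_option linter.unusedVariables false

namespace Cfsg.Agent.Lib.Helper40.OpBN

open Matrix Cfsg Cfsg.Agent.Lib.Helper13 Cfsg.Agent.Lib.Helper41.SpBN

variable {F : Type*} [Field F] {m : ℕ}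

theorem borel_mulVec_injective (g : OG F m) : Function.Injective (mt g).mulVec := by
  intro x y hxy
  have h := congrArg (fun z => mt g⁻¹ *ᵥ z) hxy
  simp only [Matrix.mulVec_mulVec] at h
  rw [mt_inv_mul, Matrix.one_mulVec, Matrix.one_mulVec] at h
  exact h

/-- LEAF BOREL. -/
theorem mem_Bo_iff (g : OG F m) :
    g ∈ Bo F m ↔
      (∀ i j : Fin m, (j : ℕ) < (i : ℕ) → mt g (Sum.inl i) (Sum.inl j) = 0) ∧
      (∀ i j : Fin m, mt g (Sum.inr i) (Sum.inl j) = 0) := by
  unfold Bo
  rw [Subgroup.mem_iInf]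
  constructor
  · intro h
    have hcol : ∀ j : Fin m, (∀ i : Fin m, (j : ℕ) < (i : ℕ) →
        mt g (Sum.inl i) (Sum.inl j) = 0) ∧
        ∀ i : Fin m, mt g (Sum.inr i) (Sum.inl j) = 0 := by
      intro j
      have h1 := (h j (Pi.single (Sum.inl j) 1)).mp ⟨by
        intro i hi
        have : (Sum.inl i : Fin m ⊕ Fin m) ≠ Sum.inl j := by
          intro h'
          have := Sum.inl.inj h'
          rw [this] at hi
          omega
        rw [Pi.single_apply, if_neg this], by
        intro i
        rw [Pi.single_apply, if_neg (by simp)]⟩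
      change mt g *ᵥ Pi.single (Sum.inl j) 1 ∈ _ at h1
      rw [Matrix.mulVec_single_one] at h1
      exact h1
    exact ⟨fun i j hij => (hcol j).1 i hij, fun i j => (hcol j).2 i⟩
  · rintro ⟨h1, h2⟩ k v
    change v ∈ flagSubmodule F m k ↔ mt g *ᵥ v ∈ flagSubmodule F m k
    apply mem_iff_mulVec_mem_of_mapsTo _ _ (borel_mulVec_injective g)
    rintro w ⟨hw1, hw2⟩
    refine ⟨?_, ?_⟩
    · intro i hi
      rw [Matrix.mulVec, dotProduct, Fintype.sum_sum_type]
      have e1 : ∑ j : Fin m, mt g (Sum.inl i) (Sum.inl j) * w (Sum.inl j) = 0 := by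
        apply Finset.sum_eq_zero
        intro j _
        by_cases hj : (k : ℕ) < (j : ℕ)
        · rw [hw1 j hj, mul_zero]
        · rw [h1 i j (by omega), zero_mul]
      have e2 : ∑ j : Fin m, mt g (Sum.inl i) (Sum.inr j) * w (Sum.inr j) = 0 := by
        apply Finset.sum_eq_zero
        intro j _
        rw [hw2 j, mul_zero]
      rw [e1, e2, add_zero]
    · intro i
      rw [Matrix.mulVec, dotProduct, Fintype.sum_sum_type]
      have e1 : ∑ j : Fin m, mt g (Sum.inr i) (Sum.inl j) * w (Sum.inl j) = 0 := by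
        apply Finset.sum_eq_zero
        intro j _
        rw [h2 i j, zero_mul]
      have e2 : ∑ j : Fin m, mt g (Sum.inr i) (Sum.inr j) * w (Sum.inr j) = 0 := by
        apply Finset.sum_eq_zero
        intro j _
        rw [hw2 j, mul_zero]
      rw [e1, e2, add_zero]

end Cfsg.Agent.Lib.Helper40.OpBN
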