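import Cfsg.Agent.Lib.Helper87.Saturation

set_option autoImplicit false

namespace Cfsg.Agent.Lib.Helper87

open Cfsg Cfsg.FusionSystem

variable {Ω : Type*} [Group Ω] {S : Subgroup Ω}

theorem finite_of_le [Finite S] {P : Subgroup Ω} (hP : P ≤ S) : Finite P :=
  Finite.of_injective _ (Subgroup.inclusion_injective hP)

/-- Normalizers grow in a finite `p`-group. -/
theorem card_lt_card_normalizerIn [Finite S] {p : ℕ} [Fact p.Prime] (hS : IsPGroup p S)
    {R : Subgroup Ω} (hR : R ≤ S) (hne : R ≠ S) : Nat.card R < Nat.card (normalizerIn S R) := by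
  have hnil : Group.IsNilpotent S := hS.isNilpotent
  have hlt : R.subgroupOf S < ⊤ := by
    rw [lt_top_iff_ne_top]
    intro h
    rw [Subgroup.subgroupOf_eq_top] at h
    exact hne (le_antisymm hR h)
  have h2 := Group.normalizerCondition_of_isNilpotent (G := S) (R.subgroupOf S) hlt
  obtain ⟨g, hgN, hgR⟩ := SetLike.exists_of_lt h2
  have hgN' : (g : Ω) ∈ normalizerIn S R := by
    refine ⟨g.2, ?_⟩
    show (g : Ω) ∈ Subgroup.normalizer (R : Set Ω)
    rw [Subgroup.mem_normalizer_iff]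
    intro n
    rw [Subgroup.mem_normalizer_iff] at hgN
    constructor
    · intro hn
      have := (hgN ⟨n, hR hn⟩).mp (Subgroup.mem_subgroupOf.mpr hn)
      exact Subgroup.mem_subgroupOf.mp this
    · intro hn
      have hnS : n ∈ S := by
        have h1 : (g : Ω)⁻¹ * ((g : Ω) * n * (g : Ω)⁻¹) * (g : Ω) ∈ S :=
          S.mul_mem (S.mul_mem (S.inv_mem g.2) (hR hn)) g.2
        have e : (g : Ω)⁻¹ * ((g : Ω) * n * (g : Ω)⁻¹) * (g : Ω) = n := by group
        rwa [e] at h1
      have := (hgN ⟨n, hnS⟩).mpr (Subgroup.mem_subgroupOf.mpr hn)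
      exact Subgroup.mem_subgroupOf.mp this
  have hgR' : (g : Ω) ∉ R := fun h => hgR (Subgroup.mem_subgroupOf.mpr h)
  have hfin : Finite (normalizerIn S R) := finite_of_le (normalizerIn_le S R)
  by_contra hcon
  have := Subgroup.eq_of_le_of_card_ge (le_normalizerIn hR) (not_lt.mp hcon)
  exact hgR' (this ▸ hgN')

/-- If all `Aut_F(P)` are `p`-groups in a saturated fusion system, every map is conjugation by an
element of `S`. -/
theorem exists_conj_of_autGroups_pGroups [Finite S] {p : ℕ} [Fact p.Prime] (hS : IsPGroup p S)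
    (F : FusionSystem S) (hF : F.IsSaturated p)
    (hA : ∀ P : Subgroup Ω, P ≤ S → IsPGroup p (F.autGroup P)) :
    ∀ (P : Subgroup Ω) (φ : P →* Ω), φ ∈ F.Hom P → ∃ g ∈ S, ∀ x : P, φ x = g * x * g⁻¹ := by
  have key : ∀ n : ℕ, ∀ (P : Subgroup Ω), Nat.card S - Nat.card P = n → ∀ (φ : P →* Ω),
      φ ∈ F.Hom P → ∃ g ∈ S, ∀ x : P, φ x = g * x * g⁻¹ := by
    intro n
    induction n using Nat.strong_induction_on with
    | _ n ih =>
    intro P hn φ hφ
    have hP : P ≤ S := hom_le F hφ
    obtain ⟨Q, ⟨χ₀, hχ₀, hr₀⟩, hfa, hrec⟩ := hF P hP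
    have hQ : Q ≤ S := hfa.1
    have hcardQ : Nat.card Q = Nat.card P :=
      (card_eq_of_isConj F ⟨χ₀, hχ₀, hr₀⟩).symm
    have hAQ : F.autGroup Q ≤ autInducedBy S Q :=
      autGroup_le_autS_of_isPGroup F hfa (hA Q hQ)
    -- the claim (*)
    have star : ∀ (R : Subgroup Ω) (χ : R →* Ω), χ ∈ F.Hom R → χ.range = Q →
        ∃ s ∈ S, ∀ x : R, χ x = s * x * s⁻¹ := by
      intro R χ hχ hr
      have hR : R ≤ S := hom_le F hχ
      have hcardR : Nat.card R = Nat.card P :=
        (card_eq_of_isConj F ⟨χ, hχ, hr⟩).trans hcardQ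
      let e := isoOfHom χ (F.injective_of_mem hχ) hr
      have he : ∀ x : R, ((e x : Q) : Ω) = χ x := fun x => rfl
      by_cases hRS : R = S
      · -- top case
        have hfinS : Finite S := inferInstance
        have hQS : Q = S := by
          have : Finite S := hfinS
          apply Subgroup.eq_of_le_of_card_ge hQ
          rw [hcardQ, ← hcardR, hRS]
        have hQR : Q ≤ R := by rw [hRS]; exact hQ
        have hRQ : R ≤ Q := by rw [hQS, hRS]
        let α : MulAut Q := (MulEquiv.subgroupCongr (hQS.trans hRS.symm)).trans e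
        have hαx : ∀ y : Q, ((α y : Q) : Ω) = χ ⟨y, hQR y.2⟩ := fun y => rfl
        have hα : α ∈ F.autGroup Q := by
          rw [mem_autGroup_iff F hQ]
          have : Q.subtype.comp α.toMonoidHom = χ.comp (Subgroup.inclusion hQR) := by
            ext y; rfl
          rw [this]; exact restrict_mem F hχ hQR
        obtain ⟨s, hs, hsx⟩ := (mem_autInducedBy_iff S Q _).mp (hAQ hα)
        refine ⟨s, hs, fun x => ?_⟩
        have := hsx ⟨x, hRQ x.2⟩
        rw [hαx] at this
        exact this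
      · -- proper case: extend to the normalizer and use induction
        have H : ∀ g ∈ normalizerIn S R, ∃ h ∈ S, ∀ (x : R) (hx : g * (x : Ω) * g⁻¹ ∈ R),
            χ ⟨g * x * g⁻¹, hx⟩ = h * χ x * h⁻¹ := by
          intro g hg
          have ht : MulAut.congr e (conjAut R g hg.2) ∈ F.autGroup Q :=
            autGroup_congr_mem F hχ hr e he
              (autInducedBy_le_autGroup F hR (conjAut_mem_autInducedBy hg.1 hg.2))
          obtain ⟨h, hh, hconj⟩ := (mem_autInducedBy_iff S Q _).mp (hAQ ht)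
          exact ⟨h, hh, fun x hx => transport_conj e he hg.2 hconj x hx⟩
        obtain ⟨ψ, hψ, hψe⟩ := extend_to_normalizer F hχ hr hrec H
        have hlt := card_lt_card_normalizerIn hS hR hRS
        have hfinN : Finite (normalizerIn S R) := finite_of_le (normalizerIn_le S R)
        have hleN : Nat.card (normalizerIn S R) ≤ Nat.card S :=
          Subgroup.card_le_of_le (normalizerIn_le S R)
        have hm : Nat.card S - Nat.card (normalizerIn S R) < n := by
          rw [← hn, ← hcardR]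
          omega
        obtain ⟨s, hs, hsx⟩ := ih _ hm (normalizerIn S R) rfl ψ hψ
        refine ⟨s, hs, fun x => ?_⟩
        rw [← hψe x (le_normalizerIn hR x.2)]
        exact hsx _
    -- assemble
    obtain ⟨s, hs, hsx⟩ := star P χ₀ hχ₀ hr₀
    obtain ⟨ψ, hψ, hinv, hψr⟩ := inv_exists F hφ rfl
    have hm1 : ∀ y : φ.range, ψ y ∈ P := fun y => by
      have : ψ y ∈ ψ.range := ⟨y, rfl⟩
      exact hψr.le this
    have hχ₁ := F.comp_mem hψ hχ₀ hm1
    have hr₁ : (χ₀.comp (ψ.codRestrict P hm1)).range = Q := by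
      apply le_antisymm
      · rintro _ ⟨y, rfl⟩
        rw [← hr₀]
        exact ⟨_, rfl⟩
      · intro q hq
        rw [← hr₀] at hq
        obtain ⟨x, rfl⟩ := hq
        refine ⟨⟨φ x, x, rfl⟩, ?_⟩
        show χ₀ ⟨ψ ⟨φ x, _⟩, _⟩ = χ₀ x
        congr 1
        exact Subtype.ext (hinv x ⟨x, rfl⟩)
    obtain ⟨t, ht, htx⟩ := star φ.range _ hχ₁ hr₁
    refine ⟨t⁻¹ * s, S.mul_mem (S.inv_mem ht) hs, fun x => ?_⟩
    have h1 := htx ⟨φ x, x, rfl⟩
    have h2 : (χ₀.comp (ψ.codRestrict P hm1)) ⟨φ x, x, rfl⟩ = χ₀ x := by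
      show χ₀ ⟨ψ ⟨φ x, _⟩, _⟩ = χ₀ x
      congr 1
      exact Subtype.ext (hinv x ⟨x, rfl⟩)
    rw [h2, hsx] at h1
    have h3 : φ x = t⁻¹ * (s * x * s⁻¹) * t := by
      rw [h1]
      show φ x = t⁻¹ * (t * φ x * t⁻¹) * t
      group
    rw [h3]
    group
  intro P φ hφ
  exact key _ P rfl φ hφ

/-- Frobenius-type criterion: a saturated fusion system all of whose automorphism groups are
`p`-groups is the inner fusion system. -/
theorem eq_inner_of_autGroups_pGroups [Finite S] {p : ℕ} [Fact p.Prime] (hS : IsPGroup p S)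
    (F : FusionSystem S) (hF : F.IsSaturated p)
    (hA : ∀ P : Subgroup Ω, P ≤ S → IsPGroup p (F.autGroup P)) :
    ∀ P : Subgroup Ω, F.Hom P = (innerFusionSystem S).Hom P := by
  intro P
  ext φ
  constructor
  · intro hφ
    obtain ⟨g, hg, h⟩ := exists_conj_of_autGroups_pGroups hS F hF hA P φ hφ
    exact ⟨hom_le F hφ, g, hg, h⟩
  · rintro ⟨hP, g, hg, h⟩
    have : φ = conjHom P g := by
      ext x; exact h x
    rw [this]
    exact F.conj_mem hP hg

end Cfsg.Agent.Lib.Helper87
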