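import Cfsg.Agent.Lib.Helper87.FusionBasic

set_option autoImplicit false

namespace Cfsg.Agent.Lib.Helper87

open Cfsg Cfsg.FusionSystem

variable {Ω : Type*} [Group Ω] {S : Subgroup Ω}

/-- Elementwise form of the condition `(Q.subgroupOf R).map ψ = Q`. -/
theorem map_subgroupOf_eq_iff {R Q : Subgroup Ω} (ψ : R →* Ω) :
    (Q.subgroupOf R).map ψ = Q ↔
      (∀ y : R, (y : Ω) ∈ Q → ψ y ∈ Q) ∧ ∀ q ∈ Q, ∃ y : R, (y : Ω) ∈ Q ∧ ψ y = q := by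
  constructor
  · intro h
    refine ⟨fun y hy => ?_, fun q hq => ?_⟩
    · rw [← h]
      exact ⟨y, Subgroup.mem_subgroupOf.mpr hy, rfl⟩
    · rw [← h] at hq
      obtain ⟨y, hy, rfl⟩ := hq
      exact ⟨y, Subgroup.mem_subgroupOf.mp hy, rfl⟩
  · rintro ⟨h1, h2⟩
    apply le_antisymm
    · rintro _ ⟨y, hy, rfl⟩
      exact h1 y (Subgroup.mem_subgroupOf.mp hy)
    · intro q hq
      obtain ⟨y, hy, rfl⟩ := h2 q hq
      exact ⟨y, Subgroup.mem_subgroupOf.mpr hy, rfl⟩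

/-- A property of elements of `P ⊔ Q` defined by a subgroup holds everywhere once it holds on `P` and `Q`. -/
theorem forall_sup_of_subgroup {P Q : Subgroup Ω} (C : Subgroup ↥(P ⊔ Q))
    (hP : ∀ (x : Ω) (hx : x ∈ P), (⟨x, (le_sup_left : P ≤ P ⊔ Q) hx⟩ : ↥(P ⊔ Q)) ∈ C)
    (hQ : ∀ (x : Ω) (hx : x ∈ Q), (⟨x, (le_sup_right : Q ≤ P ⊔ Q) hx⟩ : ↥(P ⊔ Q)) ∈ C) :
    ∀ y : ↥(P ⊔ Q), y ∈ C := by
  have hK : P ⊔ Q ≤ C.map (P ⊔ Q).subtype := by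
    apply sup_le
    · intro x hx
      exact ⟨_, hP x hx, rfl⟩
    · intro x hx
      exact ⟨_, hQ x hx, rfl⟩
  intro y
  obtain ⟨y', hy', e⟩ := hK y.2
  have : y' = y := Subtype.ext e
  rwa [← this]

theorem mem_normalizerIn {S Q : Subgroup Ω} {g : Ω} :
    g ∈ normalizerIn S Q ↔ g ∈ S ∧ g ∈ Subgroup.normalizer (Q : Set Ω) := Iff.rfl

/-- The normalizer system `N_F(Q)` as a fusion system over `N_S(Q)`. -/
def normalizerSystem (F : FusionSystem S) (Q : Subgroup Ω) (hQ : Q ≤ S) :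
    FusionSystem (normalizerIn S Q) where
  Hom P := F.normalizerHom Q P
  le_of_mem h := ⟨h.2.1, h.2.2.1⟩
  injective_of_mem h := F.injective_of_mem h.1
  conj_mem := by
    intro P g hP hg
    have hPS : P ≤ S := hP.trans (normalizerIn_le S Q)
    have hgS : g ∈ S := hg.1
    have hgN : g ∈ Subgroup.normalizer (Q : Set Ω) := hg.2
    refine ⟨F.conj_mem hPS hgS, hP, fun x => ?_, conjHom (P ⊔ Q) g,
      F.conj_mem (sup_le hPS hQ) hgS, fun x => rfl, ?_⟩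
    · show g * (x : Ω) * g⁻¹ ∈ normalizerIn S Q
      exact (normalizerIn S Q).mul_mem ((normalizerIn S Q).mul_mem hg (hP x.2))
        ((normalizerIn S Q).inv_mem hg)
    · rw [map_subgroupOf_eq_iff]
      refine ⟨fun y hy => ?_, fun q hq => ?_⟩
      · show g * (y : Ω) * g⁻¹ ∈ Q
        exact (Subgroup.mem_normalizer_iff.mp hgN _).mp hy
      · have hq' : g⁻¹ * q * g ∈ Q := (Subgroup.mem_normalizer_iff''.mp hgN _).mp hq
        refine ⟨⟨g⁻¹ * q * g, (le_sup_right : Q ≤ P ⊔ Q) hq'⟩, hq', ?_⟩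
        show g * (g⁻¹ * q * g) * g⁻¹ = q
        group
  comp_mem := by
    rintro P P' φ ψ ⟨hφ, hP, hφN, φ', hφ', hφe, hφQ⟩ ⟨hψ, hP', hψN, ψ', hψ', hψe, hψQ⟩ h
    rw [map_subgroupOf_eq_iff] at hφQ hψQ
    -- `φ'` maps `P ⊔ Q` into `P' ⊔ Q`
    have hmaps : ∀ y : ↥(P ⊔ Q), φ' y ∈ P' ⊔ Q := by
      apply forall_sup_of_subgroup ((P' ⊔ Q).comap φ')
      · intro x hx
        show φ' _ ∈ P' ⊔ Q
        have := hφe ⟨x, hx⟩
        have e : (Subgroup.inclusion (le_sup_left : P ≤ P ⊔ Q) ⟨x, hx⟩) =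
            (⟨x, (le_sup_left : P ≤ P ⊔ Q) hx⟩ : ↥(P ⊔ Q)) := rfl
        rw [← e, this]
        exact (le_sup_left : P' ≤ P' ⊔ Q) (h ⟨x, hx⟩)
      · intro x hx
        show φ' _ ∈ P' ⊔ Q
        exact (le_sup_right : Q ≤ P' ⊔ Q) (hφQ.1 _ hx)
    refine ⟨F.comp_mem hφ hψ h, hP, fun x => hψN _, _, F.comp_mem hφ' hψ' hmaps, fun x => ?_, ?_⟩
    · show ψ' ⟨φ' (Subgroup.inclusion le_sup_left x), _⟩ = ψ ⟨φ x, h x⟩
      rw [← hψe ⟨φ x, h x⟩]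
      congr 1
      apply Subtype.ext
      show φ' (Subgroup.inclusion le_sup_left x) = φ x
      exact hφe x
    · rw [map_subgroupOf_eq_iff]
      refine ⟨fun y hy => ?_, fun q hq => ?_⟩
      · show ψ' ⟨φ' y, _⟩ ∈ Q
        exact hψQ.1 _ (hφQ.1 y hy)
      · obtain ⟨y', hy', rfl⟩ := hψQ.2 q hq
        obtain ⟨y, hy, hyy⟩ := hφQ.2 (y' : Ω) hy'
        refine ⟨y, hy, ?_⟩
        show ψ' ⟨φ' y, _⟩ = ψ' y'
        congr 1
        exact Subtype.ext hyy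
  inv_mem := by
    rintro P φ ⟨hφ, hP, hφN, φ', hφ', hφe, hφQ⟩
    rw [map_subgroupOf_eq_iff] at hφQ
    obtain ⟨ψ', hψ', hinv⟩ := F.inv_mem hφ'
    have hle1 : φ.range ≤ φ'.range := by
      rintro _ ⟨x, rfl⟩
      exact ⟨Subgroup.inclusion le_sup_left x, hφe x⟩
    have hle2 : Q ≤ φ'.range := by
      intro q hq
      obtain ⟨y, -, rfl⟩ := hφQ.2 q hq
      exact ⟨y, rfl⟩
    have hle : φ.range ⊔ Q ≤ φ'.range := sup_le hle1 hle2
    have key : ∀ x : P, ψ' ⟨φ x, hle1 ⟨x, rfl⟩⟩ = x := by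
      intro x
      have := hinv (Subgroup.inclusion le_sup_left x)
      have e : (⟨φ x, hle1 ⟨x, rfl⟩⟩ : φ'.range) =
          ⟨φ' (Subgroup.inclusion le_sup_left x), ⟨_, rfl⟩⟩ := Subtype.ext (hφe x).symm
      rw [e, this]
      rfl
    refine ⟨ψ'.comp (Subgroup.inclusion hle1), ⟨restrict_mem F hψ' hle1, ?_, ?_,
      ψ'.comp (Subgroup.inclusion hle), restrict_mem F hψ' hle, fun x => rfl, ?_⟩, fun x => key x⟩
    · rintro _ ⟨x, rfl⟩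
      exact hφN x
    · rintro ⟨_, x, rfl⟩
      show ψ' ⟨φ x, _⟩ ∈ normalizerIn S Q
      rw [key x]
      exact hP x.2
    · rw [map_subgroupOf_eq_iff]
      refine ⟨fun y hy => ?_, fun q hq => ?_⟩
      · obtain ⟨y', hy', hyy⟩ := hφQ.2 (y : Ω) hy
        show ψ' ⟨(y : Ω), _⟩ ∈ Q
        have e : (⟨(y : Ω), hle y.2⟩ : φ'.range) = ⟨φ' y', ⟨_, rfl⟩⟩ := Subtype.ext hyy.symm
        rw [e, hinv y']
        exact hy'
      · have hq' := hφQ.1 ⟨q, (le_sup_right : Q ≤ P ⊔ Q) hq⟩ hq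
        refine ⟨⟨φ' ⟨q, (le_sup_right : Q ≤ P ⊔ Q) hq⟩, (le_sup_right : Q ≤ φ.range ⊔ Q) hq'⟩, hq', ?_⟩
        show ψ' ⟨φ' ⟨q, _⟩, _⟩ = q
        exact hinv ⟨q, (le_sup_right : Q ≤ P ⊔ Q) hq⟩

theorem isNormalizerSystem_normalizerSystem (F : FusionSystem S) (Q : Subgroup Ω) (hQ : Q ≤ S) :
    F.IsNormalizerSystem Q (normalizerSystem F Q hQ) := fun _ => rfl

end Cfsg.Agent.Lib.Helper87
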