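import Cfsg.Agent.Lib.Helper87.Alperin
import Cfsg.Agent.Lib.Helper87.NormalizerSystem
import Cfsg.Agent.S5079

set_option autoImplicit false

namespace Cfsg.Agent.Lib.Helper87

open Cfsg Cfsg.FusionSystem

variable {Ω : Type*} [Group Ω] {S : Subgroup Ω}

/-! ### AKO Lemma I.2.6 -/

/-- The map `N_S(P) → N_S(Q)` carrying `P` onto `Q`, for `Q` fully automized and receptive. -/
theorem exists_normalizer_map [Finite S] {p : ℕ} [Fact p.Prime] (hS : IsPGroup p S)
    (F : FusionSystem S) {P Q : Subgroup Ω} (hfa : F.IsFullyAutomized p Q)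
    (hrec : F.IsReceptive Q) (hc : F.IsConj P Q) :
    ∃ ψ ∈ F.Hom (normalizerIn S P), (∀ x, ψ x ∈ normalizerIn S Q) ∧
      (∀ x : normalizerIn S P, (x : Ω) ∈ P → ψ x ∈ Q) ∧
      ∀ q ∈ Q, ∃ x : normalizerIn S P, (x : Ω) ∈ P ∧ ψ x = q := by
  obtain ⟨ψ, hψ, h1, h2⟩ := Cfsg.Agent.S5079.result p hS F Q P hfa hrec hc
  rw [Cfsg.Agent.S5079.map_subgroupOf_eq_iff'] at h2
  exact ⟨ψ, hψ, h1, h2.1, h2.2⟩

/-- AKO I.2.6(a): receptive subgroups are fully centralized. -/
theorem fullyCentralized_of_receptive [Finite S] (F : FusionSystem S) {Q : Subgroup Ω}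
    (hrec : F.IsReceptive Q) : F.IsFullyCentralized Q := by
  refine ⟨hrec.1, fun Q' hc => ?_⟩
  obtain ⟨χ, hχ, hr⟩ := isConj_symm F hc
  have hM : Q' ⊔ centralizerIn S Q' ≤ extender S Q' χ :=
    sup_le (self_le_extender F hχ) (centralizerIn_le_extender' Q' χ)
  obtain ⟨ψ, hψ, hψe⟩ := extend_to_sub F hχ hr hrec hM
  have hfin : Finite (centralizerIn S Q) := finite_of_le (centralizerIn_le S Q)
  have hle : centralizerIn S Q' ≤ Q' ⊔ centralizerIn S Q' := le_sup_right
  have hmaps : ∀ c : centralizerIn S Q', ψ (Subgroup.inclusion hle c) ∈ centralizerIn S Q := by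
    intro c
    refine ⟨hom_mem_S F hψ _, ?_⟩
    intro q hq
    rw [← hr] at hq
    obtain ⟨x, rfl⟩ := hq
    have hxM : (x : Ω) ∈ Q' ⊔ centralizerIn S Q' := (le_sup_left : Q' ≤ _) x.2
    rw [← hψe x x.2 hxM, ← map_mul, ← map_mul]
    congr 1
    apply Subtype.ext
    exact c.2.2 x x.2
  let f : centralizerIn S Q' → centralizerIn S Q := fun c => ⟨ψ (Subgroup.inclusion hle c), hmaps c⟩
  have hf : Function.Injective f := by
    intro a b hab
    have h1 : ψ (Subgroup.inclusion hle a) = ψ (Subgroup.inclusion hle b) :=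
      congrArg Subtype.val hab
    exact Subgroup.inclusion_injective hle (F.injective_of_mem hψ h1)
  exact Nat.card_le_card_of_injective f hf

/-- AKO I.2.6(b): fully automized receptive subgroups are fully normalized. -/
theorem fullyNormalized_of_fa_receptive [Finite S] {p : ℕ} [Fact p.Prime] (hS : IsPGroup p S)
    (F : FusionSystem S) {Q : Subgroup Ω} (hfa : F.IsFullyAutomized p Q)
    (hrec : F.IsReceptive Q) : F.IsFullyNormalized Q := by
  refine ⟨hrec.1, fun Q' hc => ?_⟩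
  obtain ⟨ψ, hψ, h1, -, -⟩ := exists_normalizer_map hS F hfa hrec (isConj_symm F hc)
  have hfin : Finite (normalizerIn S Q) := finite_of_le (normalizerIn_le S Q)
  let f : normalizerIn S Q' → normalizerIn S Q := fun c => ⟨ψ c, h1 c⟩
  have hf : Function.Injective f := by
    intro a b hab
    exact F.injective_of_mem hψ (congrArg Subtype.val hab)
  exact Nat.card_le_card_of_injective f hf

/-- Transfer of "fully automized" along an isomorphism of the system transporting `Aut_S`. -/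
theorem fullyAutomized_of_iso [Finite S] {p : ℕ} [Fact p.Prime] (hS : IsPGroup p S)
    (F : FusionSystem S) {P Q : Subgroup Ω} {φ : P →* Ω} (hφ : φ ∈ F.Hom P) (hr : φ.range = Q)
    (e : P ≃* Q) (he : ∀ x : P, ((e x : Q) : Ω) = φ x) (hfa : F.IsFullyAutomized p Q)
    (hle : autInducedBy S Q ≤ (autInducedBy S P).map (MulAut.congr e).toMonoidHom) :
    F.IsFullyAutomized p P := by
  have hP : P ≤ S := hom_le F hφ
  have hQ : Q ≤ S := hfa.1
  have hfinP : Finite P := finite_of_le hP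
  have hfinQ : Finite Q := finite_of_le hQ
  obtain ⟨-, R, hR⟩ := hfa
  have hEinj : Function.Injective (MulAut.congr e).toMonoidHom := (MulAut.congr e).injective
  have hG : (F.autGroup P).map (MulAut.congr e).toMonoidHom = F.autGroup Q :=
    autGroup_map_congr F hφ hr e he
  have hAPle : autInducedBy S P ≤ F.autGroup P := autInducedBy_le_autGroup F hP
  have hAPp : IsPGroup p (autInducedBy S P) := autInducedBy_isPGroup hS P
  -- the image of `Aut_S(P)` is a `p`-subgroup of `Aut_F(Q)` containing the Sylow subgroup `Aut_S(Q)`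
  have hmapp : IsPGroup p ((autInducedBy S P).map (MulAut.congr e).toMonoidHom) := hAPp.map _
  have hmaple : (autInducedBy S P).map (MulAut.congr e).toMonoidHom ≤ F.autGroup Q := by
    rw [← hG]; exact Subgroup.map_mono hAPle
  have hmapp' : IsPGroup p (((autInducedBy S P).map (MulAut.congr e).toMonoidHom).subgroupOf
      (F.autGroup Q)) := hmapp.comap_of_injective _ (Subgroup.subtype_injective _)
  have hRle : (R : Subgroup (F.autGroup Q)) ≤
      ((autInducedBy S P).map (MulAut.congr e).toMonoidHom).subgroupOf (F.autGroup Q) := by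
    rw [hR]
    intro x hx
    exact Subgroup.mem_subgroupOf.mpr (hle (Subgroup.mem_subgroupOf.mp hx))
  have hReq := R.is_maximal' hmapp' hRle
  have hidx : ¬ p ∣ ((autInducedBy S P).subgroupOf (F.autGroup P)).index := by
    have h1 : ((autInducedBy S P).subgroupOf (F.autGroup P)).index =
        (autInducedBy S P).relIndex (F.autGroup P) := rfl
    rw [h1, ← Subgroup.relIndex_map_map_of_injective _ _ hEinj, hG]
    have h2 : ((autInducedBy S P).map (MulAut.congr e).toMonoidHom).relIndex (F.autGroup Q) =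
        (((autInducedBy S P).map (MulAut.congr e).toMonoidHom).subgroupOf (F.autGroup Q)).index :=
      rfl
    rw [h2, hReq]
    exact R.not_dvd_index
  have hp' : IsPGroup p ((autInducedBy S P).subgroupOf (F.autGroup P)) :=
    hAPp.comap_of_injective _ (Subgroup.subtype_injective _)
  exact ⟨hP, hp'.toSylow hidx, rfl⟩

/-- For fully normalized `P` and a fully automized receptive conjugate `Q`, the normalizer map
is onto `N_S(Q)`. -/
theorem exists_normalizer_iso [Finite S] {p : ℕ} [Fact p.Prime] (hS : IsPGroup p S)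
    (F : FusionSystem S) {P Q : Subgroup Ω} (hfn : F.IsFullyNormalized P)
    (hfa : F.IsFullyAutomized p Q) (hrec : F.IsReceptive Q) (hc : F.IsConj P Q) :
    ∃ ψ ∈ F.Hom (normalizerIn S P), (∀ x, ψ x ∈ normalizerIn S Q) ∧
      (∀ x : normalizerIn S P, (x : Ω) ∈ P → ψ x ∈ Q) ∧
      (∀ q ∈ Q, ∃ x : normalizerIn S P, (x : Ω) ∈ P ∧ ψ x = q) ∧
      ∀ y ∈ normalizerIn S Q, ∃ x : normalizerIn S P, ψ x = y := by
  obtain ⟨ψ, hψ, h1, h2, h3⟩ := exists_normalizer_map hS F hfa hrec hc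
  refine ⟨ψ, hψ, h1, h2, h3, ?_⟩
  have hfin : Finite (normalizerIn S Q) := finite_of_le (normalizerIn_le S Q)
  let f : normalizerIn S P → normalizerIn S Q := fun c => ⟨ψ c, h1 c⟩
  have hf : Function.Injective f := by
    intro a b hab
    exact F.injective_of_mem hψ (congrArg Subtype.val hab)
  have hbij := hf.bijective_of_nat_card_le (hfn.2 Q hc)
  intro y hy
  obtain ⟨x, hx⟩ := hbij.2 ⟨y, hy⟩
  exact ⟨x, congrArg Subtype.val hx⟩

/-- AKO I.2.6(c), first half: in a saturated system, fully normalized subgroups are fully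
centralized and fully automized. -/
theorem fc_fa_of_fullyNormalized [Finite S] {p : ℕ} [Fact p.Prime] (hS : IsPGroup p S)
    (F : FusionSystem S) (hF : F.IsSaturated p) {P : Subgroup Ω} (hfn : F.IsFullyNormalized P) :
    F.IsFullyCentralized P ∧ F.IsFullyAutomized p P := by
  have hP : P ≤ S := hfn.1
  obtain ⟨Q, hc, hfa, hrec⟩ := hF P hP
  obtain ⟨ψ, hψ, h1, h2, h3, h4⟩ := exists_normalizer_iso hS F hfn hfa hrec hc
  have hPN : P ≤ normalizerIn S P := le_normalizerIn hP
  have hφ : ψ.comp (Subgroup.inclusion hPN) ∈ F.Hom P := restrict_mem F hψ hPN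
  have hr : (ψ.comp (Subgroup.inclusion hPN)).range = Q := by
    apply le_antisymm
    · rintro _ ⟨x, rfl⟩
      exact h2 _ x.2
    · intro q hq
      obtain ⟨x, hx, rfl⟩ := h3 q hq
      exact ⟨⟨x, hx⟩, rfl⟩
  constructor
  · -- fully centralized
    refine ⟨hP, fun P' hP' => ?_⟩
    have hQfc := fullyCentralized_of_receptive F hrec
    have hle1 := hQfc.2 P' (isConj_trans F (isConj_symm F hc) hP')
    refine hle1.trans ?_
    have hfin : Finite (centralizerIn S P) := finite_of_le (centralizerIn_le S P)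
    have hsurj : ∀ c : centralizerIn S Q, ∃ x : normalizerIn S P, ψ x = c := by
      intro c
      exact h4 c ⟨c.2.1, Subgroup.centralizer_le_normalizer _ c.2.2⟩
    choose g hg using hsurj
    have hgc : ∀ c : centralizerIn S Q, ((g c : normalizerIn S P) : Ω) ∈ centralizerIn S P := by
      intro c
      refine ⟨(g c).2.1, ?_⟩
      intro x hx
      have hxN : x ∈ normalizerIn S P := hPN hx
      have hψx : ψ ⟨x, hxN⟩ ∈ Q := h2 _ hx
      have hcomm : ψ ⟨x, hxN⟩ * ψ (g c) = ψ (g c) * ψ ⟨x, hxN⟩ := by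
        rw [hg c]
        exact c.2.2 _ hψx
      rw [← map_mul, ← map_mul] at hcomm
      have := F.injective_of_mem hψ hcomm
      exact congrArg Subtype.val this
    let f : centralizerIn S Q → centralizerIn S P := fun c => ⟨g c, hgc c⟩
    have hf : Function.Injective f := by
      intro a b hab
      have h6 : ((g a : normalizerIn S P) : Ω) = ((g b : normalizerIn S P) : Ω) :=
        congrArg (fun z : centralizerIn S P => (z : Ω)) hab
      have h5 : (g a : normalizerIn S P) = g b := Subtype.ext h6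
      apply Subtype.ext
      rw [← hg a, ← hg b, h5]
    exact Nat.card_le_card_of_injective f hf
  · -- fully automized
    let e := isoOfHom _ (F.injective_of_mem hφ) hr
    have he : ∀ x : P, ((e x : Q) : Ω) = (ψ.comp (Subgroup.inclusion hPN)) x := fun x => rfl
    apply fullyAutomized_of_iso hS F hφ hr e he hfa
    intro β hβ
    obtain ⟨g, hgS, hβg⟩ := (mem_autInducedBy_iff S Q β).mp hβ
    have hgN : g ∈ Subgroup.normalizer (Q : Set Ω) := mem_normalizer_of_aut Q β g hβg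
    obtain ⟨x, hx⟩ := h4 g ⟨hgS, hgN⟩
    refine ⟨conjAut P x x.2.2, conjAut_mem_autInducedBy x.2.1 x.2.2, ?_⟩
    ext y
    rw [hβg]
    show ((e (conjAut P x x.2.2 (e.symm y)) : Q) : Ω) = g * y * g⁻¹
    rw [he]
    have hy : (y : Ω) = ψ (Subgroup.inclusion hPN (e.symm y)) := by
      have := he (e.symm y)
      rw [MulEquiv.apply_symm_apply] at this
      exact this
    rw [hy, ← hx, ← map_inv, ← map_mul, ← map_mul]
    rfl

/-- AKO I.2.6(c), second half: in a saturated system, fully centralized subgroups are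
receptive. -/
theorem receptive_of_fullyCentralized [Finite S] {p : ℕ} [Fact p.Prime] (hS : IsPGroup p S)
    (F : FusionSystem S) (hF : F.IsSaturated p) {P : Subgroup Ω} (hfc : F.IsFullyCentralized P) :
    F.IsReceptive P := by
  have hP : P ≤ S := hfc.1
  obtain ⟨Q, hc, hfa, hrec⟩ := hF P hP
  obtain ⟨ψ, hψ, h1, h2, h3⟩ := exists_normalizer_map hS F hfa hrec hc
  have hPN : P ≤ normalizerIn S P := le_normalizerIn hP
  have hCN : centralizerIn S P ≤ normalizerIn S P := fun c hc =>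
    ⟨hc.1, Subgroup.centralizer_le_normalizer _ hc.2⟩
  -- `ψ` maps `C_S(P)` onto `C_S(Q)`
  have hCmaps : ∀ c : centralizerIn S P, ψ (Subgroup.inclusion hCN c) ∈ centralizerIn S Q := by
    intro c
    refine ⟨hom_mem_S F hψ _, ?_⟩
    intro q hq
    obtain ⟨x, hx, rfl⟩ := h3 q hq
    rw [← map_mul, ← map_mul]
    congr 1
    apply Subtype.ext
    exact c.2.2 x hx
  have hCsurj : ∀ c ∈ centralizerIn S Q, ∃ z : normalizerIn S P, ψ z = c := by
    have hfin : Finite (centralizerIn S Q) := finite_of_le (centralizerIn_le S Q)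
    let f : centralizerIn S P → centralizerIn S Q := fun c => ⟨_, hCmaps c⟩
    have hf : Function.Injective f := by
      intro a b hab
      have h5 : ψ (Subgroup.inclusion hCN a) = ψ (Subgroup.inclusion hCN b) :=
        congrArg Subtype.val hab
      exact Subgroup.inclusion_injective hCN (F.injective_of_mem hψ h5)
    have hbij := hf.bijective_of_nat_card_le (hfc.2 Q hc)
    intro c hc'
    obtain ⟨z, hz⟩ := hbij.2 ⟨c, hc'⟩
    exact ⟨Subgroup.inclusion hCN z, congrArg Subtype.val hz⟩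
  refine ⟨hP, fun R θ hθ hrθ => ?_⟩
  have hmapsθ : ∀ x : R, θ x ∈ normalizerIn S P := fun x => hPN (hrθ.le ⟨x, rfl⟩)
  have hρ := F.comp_mem hθ hψ hmapsθ
  set ρ : R →* Ω := ψ.comp (θ.codRestrict (normalizerIn S P) hmapsθ) with hρdef
  have hρapp : ∀ x : R, ρ x = ψ ⟨θ x, hmapsθ x⟩ := fun x => rfl
  have hrρ : ρ.range = Q := by
    apply le_antisymm
    · rintro _ ⟨x, rfl⟩
      exact h2 _ (hrθ.le ⟨x, rfl⟩)
    · intro q hq
      obtain ⟨y, hy, rfl⟩ := h3 q hq
      obtain ⟨x, hx⟩ := hrθ.ge hy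
      refine ⟨x, ?_⟩
      rw [hρapp]
      congr 1
      exact Subtype.ext hx
  -- generators of the extender of `θ` give elements normalizing `P`
  have hgen : ∀ g : Ω, g ∈ S → g ∈ Subgroup.normalizer (R : Set Ω) → ∀ h ∈ S,
      (∀ (x : R) (hx : g * (x : Ω) * g⁻¹ ∈ R), θ ⟨g * x * g⁻¹, hx⟩ = h * θ x * h⁻¹) →
      h ∈ normalizerIn S P := by
    intro g hgS hgN h hhS hh
    refine ⟨hhS, ?_⟩
    show h ∈ Subgroup.normalizer (P : Set Ω)
    rw [Subgroup.mem_normalizer_iff]
    intro n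
    constructor
    · intro hn
      obtain ⟨x, rfl⟩ := hrθ.ge hn
      have hx : g * (x : Ω) * g⁻¹ ∈ R := (Subgroup.mem_normalizer_iff.mp hgN _).mp x.2
      rw [← hh x hx]
      exact hrθ.le ⟨_, rfl⟩
    · intro hn
      obtain ⟨x', hx'⟩ := hrθ.ge hn
      have hx : g⁻¹ * (x' : Ω) * g ∈ R := by
        have := (Subgroup.mem_normalizer_iff.mp (Subgroup.inv_mem _ hgN) (x' : Ω)).mp x'.2
        simpa using this
      have hx2 : g * ((⟨g⁻¹ * (x' : Ω) * g, hx⟩ : R) : Ω) * g⁻¹ ∈ R := by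
        have : g * (g⁻¹ * (x' : Ω) * g) * g⁻¹ = x' := by group
        show g * (g⁻¹ * (x' : Ω) * g) * g⁻¹ ∈ R
        rw [this]; exact x'.2
      have h5 := hh ⟨g⁻¹ * (x' : Ω) * g, hx⟩ hx2
      have h6 : (⟨g * ((⟨g⁻¹ * (x' : Ω) * g, hx⟩ : R) : Ω) * g⁻¹, hx2⟩ : R) = x' := by
        apply Subtype.ext
        show g * (g⁻¹ * (x' : Ω) * g) * g⁻¹ = x'
        group
      rw [h6, hx'] at h5
      have h7 : n = θ ⟨g⁻¹ * (x' : Ω) * g, hx⟩ := by
        have := mul_left_cancel (mul_right_cancel h5)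
        exact this
      rw [h7]
      exact hrθ.le ⟨_, rfl⟩
  -- the extender of `θ` is contained in the extender of `ρ`
  have hNle : extender S R θ ≤ extender S R ρ := by
    apply (Subgroup.closure_le _).mpr
    rintro g ⟨hgS, hgN, h, hhS, hh⟩
    have hhN := hgen g hgS hgN h hhS hh
    refine Subgroup.subset_closure ⟨hgS, hgN, ψ ⟨h, hhN⟩, hom_mem_S F hψ _, fun x hx => ?_⟩
    rw [hρapp, hρapp, ← map_inv, ← map_mul, ← map_mul]
    congr 1
    apply Subtype.ext
    exact hh x hx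
  obtain ⟨χ, hχ, hχe⟩ := extend_to_sub F hρ hrρ hrec hNle
  have hRN : R ≤ extender S R θ := self_le_extender F hθ
  -- `χ` takes values in the image of `ψ`
  have hχrange : ∀ y : extender S R θ, χ y ∈ ψ.range := by
    rintro ⟨y, hy⟩
    refine Subgroup.closure_induction
      (p := fun y hy => χ ⟨y, hy⟩ ∈ ψ.range) ?_ ?_ ?_ ?_ hy
    · rintro g ⟨hgS, hgN, h, hhS, hh⟩
      have hhN := hgen g hgS hgN h hhS hh
      have hgE : g ∈ extender S R θ := Subgroup.subset_closure ⟨hgS, hgN, h, hhS, hh⟩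
      have hcen : (ψ ⟨h, hhN⟩)⁻¹ * χ ⟨g, hgE⟩ ∈ centralizerIn S Q := by
        refine ⟨S.mul_mem (S.inv_mem (hom_mem_S F hψ _)) (hom_mem_S F hχ _), ?_⟩
        intro q hq
        rw [← hrρ] at hq
        obtain ⟨x, rfl⟩ := hq
        have hx : g * (x : Ω) * g⁻¹ ∈ R := (Subgroup.mem_normalizer_iff.mp hgN _).mp x.2
        have e1 : χ ⟨g, hgE⟩ * ρ x * (χ ⟨g, hgE⟩)⁻¹ = ρ ⟨g * x * g⁻¹, hx⟩ := by
          rw [← hχe x x.2 (hRN x.2), ← hχe _ hx (hRN hx), ← map_inv, ← map_mul, ← map_mul]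
          rfl
        have e2 : ρ ⟨g * x * g⁻¹, hx⟩ = ψ ⟨h, hhN⟩ * ρ x * (ψ ⟨h, hhN⟩)⁻¹ := by
          rw [hρapp, hρapp, ← map_inv, ← map_mul, ← map_mul]
          congr 1
          apply Subtype.ext
          exact hh x hx
        rw [e2] at e1
        calc ρ x * ((ψ ⟨h, hhN⟩)⁻¹ * χ ⟨g, hgE⟩)
            = (ψ ⟨h, hhN⟩)⁻¹ * (ψ ⟨h, hhN⟩ * ρ x * (ψ ⟨h, hhN⟩)⁻¹) * χ ⟨g, hgE⟩ := by group
          _ = (ψ ⟨h, hhN⟩)⁻¹ * (χ ⟨g, hgE⟩ * ρ x * (χ ⟨g, hgE⟩)⁻¹) * χ ⟨g, hgE⟩ := by rw [e1]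
          _ = (ψ ⟨h, hhN⟩)⁻¹ * χ ⟨g, hgE⟩ * ρ x := by group
      obtain ⟨z, hz⟩ := hCsurj _ hcen
      refine ⟨⟨h, hhN⟩ * z, ?_⟩
      rw [map_mul, hz]
      group
    · have : (⟨1, Subgroup.one_mem _⟩ : extender S R θ) = 1 := rfl
      rw [this, map_one]
      exact Subgroup.one_mem _
    · intro a b ha hb iha ihb
      have : (⟨a * b, Subgroup.mul_mem _ ha hb⟩ : extender S R θ) = ⟨a, ha⟩ * ⟨b, hb⟩ := rfl
      rw [this, map_mul]
      exact Subgroup.mul_mem _ iha ihb
    · intro a ha iha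
      have : (⟨a⁻¹, Subgroup.inv_mem _ ha⟩ : extender S R θ) = ⟨a, ha⟩⁻¹ := rfl
      rw [this, map_inv]
      exact Subgroup.inv_mem _ iha
  obtain ⟨ψ', hψ', hψ'e⟩ := F.inv_mem hψ
  refine ⟨_, F.comp_mem hχ hψ' hχrange, fun x hR hN => ?_⟩
  show ψ' ⟨χ ⟨x, hN⟩, hχrange _⟩ = θ ⟨x, hR⟩
  have e1 : χ ⟨x, hN⟩ = ψ ⟨θ ⟨x, hR⟩, hmapsθ _⟩ := by
    rw [hχe x hR hN, hρapp]
  have e2 : (⟨χ ⟨x, hN⟩, hχrange _⟩ : ψ.range) = ⟨ψ ⟨θ ⟨x, hR⟩, hmapsθ _⟩, ⟨_, rfl⟩⟩ :=
    Subtype.ext e1
  rw [e2, hψ'e]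

/-- In a saturated system, fully normalized subgroups are receptive. -/
theorem receptive_of_fullyNormalized [Finite S] {p : ℕ} [Fact p.Prime] (hS : IsPGroup p S)
    (F : FusionSystem S) (hF : F.IsSaturated p) {P : Subgroup Ω} (hfn : F.IsFullyNormalized P) :
    F.IsReceptive P :=
  receptive_of_fullyCentralized hS F hF (fc_fa_of_fullyNormalized hS F hF hfn).1

end Cfsg.Agent.Lib.Helper87
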