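import Cfsg.Agent.Lib.Helper87.Chain
import Cfsg.Agent.Lib.Helper63.CoprimeOmega
import Cfsg.Agent.Lib.Helper87.Lemma26

set_option autoImplicit false

namespace Cfsg.Agent.Lib.Helper87

open Cfsg Cfsg.FusionSystem

/-- A `p'`-automorphism of a `p`-group stabilizing a descending chain fixes its top term
pointwise. -/
theorem fixes_of_chain {G : Type*} [Group G] {p : ℕ} (hG : IsPGroup p G) (α : MulAut G)
    (m : ℕ) (hm : m.Coprime p) (hαm : α ^ m = 1) (k : ℕ) (C : ℕ → Subgroup G)
    (hk : C k = ⊥) (hstep : ∀ i < k, ∀ x ∈ C i, x⁻¹ * α x ∈ C (i + 1)) :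
    ∀ x ∈ C 0, α x = x := by
  have claim : ∀ j : ℕ, j ≤ k → ∀ x ∈ C (k - j), α x = x := by
    intro j
    induction j with
    | zero =>
      intro _ x hx
      rw [Nat.sub_zero, hk, Subgroup.mem_bot] at hx
      rw [hx, map_one]
    | succ j ih =>
      intro hj x hx
      have hi : k - (j + 1) < k := by omega
      have hy := hstep _ hi x hx
      have e : k - (j + 1) + 1 = k - j := by omega
      rw [e] at hy
      set y := x⁻¹ * α x with hydef
      have hfix : α y = y := ih (by omega) y hy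
      have hpow : ∀ n : ℕ, (α ^ n) x = x * y ^ n := by
        intro n
        induction n with
        | zero => simp
        | succ n ihn =>
          rw [pow_succ', MulAut.mul_apply, ihn, map_mul, map_pow, hfix, pow_succ']
          have hbx : α x = x * y := by rw [hydef]; group
          rw [hbx, mul_assoc]
      have h1 := hpow m
      rw [hαm] at h1
      have hym : y ^ m = 1 := by
        have : x = x * y ^ m := h1
        exact mul_eq_left.mp this.symm
      obtain ⟨n, hn⟩ := hG y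
      have hg : y ^ (Nat.gcd m (p ^ n)) = 1 := pow_gcd_eq_one.mpr ⟨hym, hn⟩
      have hcop : Nat.gcd m (p ^ n) = 1 := Nat.Coprime.pow_right n hm
      rw [hcop, pow_one] at hg
      have : x⁻¹ * α x = 1 := hg
      exact (inv_mul_eq_one.mp this).symm
  intro x hx
  exact claim k le_rfl x (by rw [Nat.sub_self]; exact hx)

/-- Gorenstein 5.3.10 for automorphisms: for `p` odd, a `p'`-automorphism of a finite `p`-group
fixing the elements of order dividing `p` of an invariant subgroup fixes that subgroup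
pointwise. -/
theorem aut_fixes_of_fixes_omega {R : Type*} [Group R] [Finite R] {p : ℕ} [Fact p.Prime]
    (hp : p ≠ 2) (hR : IsPGroup p R) (β : MulAut R) (m : ℕ) (hm : m.Coprime p) (hβm : β ^ m = 1)
    (R₀ : Subgroup R) (hinv : ∀ x ∈ R₀, β x ∈ R₀) (hΩ : ∀ x ∈ R₀, x ^ p = 1 → β x = x) :
    ∀ x ∈ R₀, β x = x := by
  classical
  let A : Subgroup (MulAut R) := Subgroup.zpowers β
  let φ : A →* MulAut R := A.subtype
  have hfinX : Finite (R ⋊[φ] A) := Finite.of_equiv _ SemidirectProduct.equivProd.symm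
  -- invariance and fixed points for all of `A`
  have hinvA : ∀ a : A, ∀ x ∈ R₀, (a : MulAut R) x ∈ R₀ := by
    rintro ⟨a, ha⟩ x hx
    obtain ⟨k, rfl⟩ := Subgroup.mem_zpowers_iff.mp ha
    show (β ^ k) x ∈ R₀
    have hpos : ∀ n : ℕ, ∀ y ∈ R₀, (β ^ n) y ∈ R₀ := by
      intro n
      induction n with
      | zero => intro y hy; simpa using hy
      | succ n ih =>
        intro y hy
        rw [pow_succ', MulAut.mul_apply]
        exact hinv _ (ih y hy)
    -- β has finite order, so β ^ k is a natural power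
    have hk : β ^ k = β ^ (k % (orderOf β : ℤ)).toNat := by
      have h1 : β ^ k = β ^ (k % (orderOf β : ℤ)) := (zpow_mod_orderOf β k).symm
      rw [h1]
      have h2 : 0 ≤ k % (orderOf β : ℤ) :=
        Int.emod_nonneg _ (by exact_mod_cast (orderOf_pos β).ne')
      conv_lhs => rw [← Int.toNat_of_nonneg h2]
      rw [zpow_natCast]
    rw [hk]
    exact hpos _ x hx
  have hfixA : ∀ a : A, ∀ x ∈ R₀, x ^ p = 1 → (a : MulAut R) x = x := by
    rintro ⟨a, ha⟩ x hx hxp
    obtain ⟨k, rfl⟩ := Subgroup.mem_zpowers_iff.mp ha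
    show (β ^ k) x = x
    have h1 : β x = x := hΩ x hx hxp
    have h2 : β ∈ MulAction.stabilizer (MulAut R) x := h1
    have h3 : β ^ k ∈ MulAction.stabilizer (MulAut R) x := Subgroup.zpow_mem _ h2 k
    exact h3
  -- apply the lemma inside the semidirect product
  have hcard : Nat.card ((⊤ : Subgroup A).map (SemidirectProduct.inr : A →* R ⋊[φ] A)) ∣ m := by
    rw [Subgroup.card_map_of_injective SemidirectProduct.inr_injective, Subgroup.card_top,
      Nat.card_zpowers]
    exact orderOf_dvd_of_pow_eq_one hβm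
  have hcop : (Nat.card ((⊤ : Subgroup A).map (SemidirectProduct.inr : A →* R ⋊[φ] A))).Coprime p :=
    Nat.Coprime.coprime_dvd_left hcard hm
  have hPp : IsPGroup p (R₀.map (SemidirectProduct.inl : R →* R ⋊[φ] A)) :=
    (hR.to_subgroup R₀).map _
  have hconj : ∀ (a : A) (x : R), (SemidirectProduct.inr a : R ⋊[φ] A) * SemidirectProduct.inl x *
      (SemidirectProduct.inr a)⁻¹ = SemidirectProduct.inl ((a : MulAut R) x) := by
    intro a x
    rw [← map_inv, ← SemidirectProduct.inl_aut]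
    rfl
  have hAP : (⊤ : Subgroup A).map (SemidirectProduct.inr : A →* R ⋊[φ] A) ≤
      Subgroup.normalizer ((R₀.map (SemidirectProduct.inl : R →* R ⋊[φ] A) : Subgroup _) : Set _) := by
    rintro _ ⟨a, -, rfl⟩
    have key : ∀ b : A, ∀ y ∈ R₀.map (SemidirectProduct.inl : R →* R ⋊[φ] A),
        (SemidirectProduct.inr b : R ⋊[φ] A) * y * (SemidirectProduct.inr b)⁻¹ ∈
          R₀.map (SemidirectProduct.inl : R →* R ⋊[φ] A) := by
      rintro b _ ⟨x, hx, rfl⟩
      rw [hconj]
      exact ⟨_, hinvA b x hx, rfl⟩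
    rw [Subgroup.mem_normalizer_iff]
    intro y
    constructor
    · exact key a y
    · intro hy
      have := key a⁻¹ _ hy
      rw [map_inv] at this
      have e : (SemidirectProduct.inr a : R ⋊[φ] A)⁻¹ *
          (SemidirectProduct.inr a * y * (SemidirectProduct.inr a)⁻¹) *
          ((SemidirectProduct.inr a : R ⋊[φ] A)⁻¹)⁻¹ = y := by group
      rwa [e] at this
  have hΩ' : ∀ y ∈ R₀.map (SemidirectProduct.inl : R →* R ⋊[φ] A), y ^ p = 1 →
      ∀ b ∈ (⊤ : Subgroup A).map (SemidirectProduct.inr : A →* R ⋊[φ] A), b * y = y * b := by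
    rintro _ ⟨x, hx, rfl⟩ hyp _ ⟨a, -, rfl⟩
    have hxp : x ^ p = 1 := by
      rw [← map_pow] at hyp
      exact SemidirectProduct.inl_injective (by rw [hyp, map_one])
    have h1 := hconj a x
    rw [hfixA a x hx hxp] at h1
    calc (SemidirectProduct.inr a : R ⋊[φ] A) * SemidirectProduct.inl x
        = (SemidirectProduct.inr a * SemidirectProduct.inl x * (SemidirectProduct.inr a)⁻¹) *
            SemidirectProduct.inr a := by group
      _ = SemidirectProduct.inl x * SemidirectProduct.inr a := by rw [h1]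
  have hmain := Cfsg.Agent.Lib.Helper63.le_centralizer_of_centralizes_omega hp
    ((⊤ : Subgroup A).map (SemidirectProduct.inr : A →* R ⋊[φ] A))
    (R₀.map (SemidirectProduct.inl : R →* R ⋊[φ] A)) hcop hPp hAP hΩ'
  intro x hx
  have h1 : (SemidirectProduct.inl x : R ⋊[φ] A) ∈
      Subgroup.centralizer (((⊤ : Subgroup A).map (SemidirectProduct.inr : A →* R ⋊[φ] A) :
        Subgroup _) : Set _) := hmain ⟨x, hx, rfl⟩
  have hβA : β ∈ A := Subgroup.mem_zpowers β
  have h2 := Subgroup.mem_centralizer_iff.mp h1 (SemidirectProduct.inr ⟨β, hβA⟩)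
    ⟨⟨β, hβA⟩, Subgroup.mem_top _, rfl⟩
  have h3 := hconj ⟨β, hβA⟩ x
  rw [h2] at h3
  have h4 : (SemidirectProduct.inl x : R ⋊[φ] A) = SemidirectProduct.inl (β x) := by
    rw [← h3]; group
  exact (SemidirectProduct.inl_injective h4).symm

end Cfsg.Agent.Lib.Helper87

namespace Cfsg.Agent.Lib.Helper87

open Cfsg Cfsg.FusionSystem

variable {Ω : Type*} [Group Ω] {S : Subgroup Ω}

/-- In a radical subgroup, a subgroup of `Aut_F(R)` normalized by `Aut_F(R)` all of whose
`p'`-elements are trivial consists of inner automorphisms. -/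
theorem le_inn_of_normal_of_pprime_trivial [Finite S] {p : ℕ} [Fact p.Prime]
    (F : FusionSystem S) {R : Subgroup Ω} (hRS : R ≤ S) (hrad : F.IsRadical p R)
    (K : Subgroup (MulAut R)) (hKle : K ≤ F.autGroup R)
    (hKn : ∀ γ ∈ F.autGroup R, ∀ β ∈ K, γ * β * γ⁻¹ ∈ K)
    (htriv : ∀ β ∈ K, ∀ m : ℕ, m.Coprime p → β ^ m = 1 → β = 1) : K ≤ Inn R := by
  have hfinR : Finite R := finite_of_le hRS
  have hKn' : (K.subgroupOf (F.autGroup R)).Normal := by
    constructor
    rintro ⟨β, hβA⟩ hβ ⟨γ, hγ⟩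
    exact hKn γ hγ β hβ
  have hKp : IsPGroup p (K.subgroupOf (F.autGroup R)) := by
    rintro ⟨⟨β, hβA⟩, hβ⟩
    have hβK : β ∈ K := hβ
    have hpos : 0 < orderOf β := orderOf_pos β
    obtain ⟨a, m, hm, hord⟩ :=
      Nat.exists_eq_pow_mul_and_not_dvd hpos.ne' p (Nat.Prime.ne_one Fact.out)
    have hcop : m.Coprime p := by
      rw [Nat.coprime_comm]
      exact (Nat.Prime.coprime_iff_not_dvd Fact.out).mpr hm
    have h1 : (β ^ (p ^ a)) ^ m = 1 := by
      rw [← pow_mul, ← hord, pow_orderOf_eq_one]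
    have h2 := htriv _ (K.pow_mem hβK _) m hcop h1
    refine ⟨a, ?_⟩
    apply Subtype.ext
    apply Subtype.ext
    exact h2
  have h3 : K.subgroupOf (F.autGroup R) ≤ pCore p (F.autGroup R) := le_pCore hKn' hKp
  intro α hα
  have h4 : α ∈ (pCore p (F.autGroup R)).map (F.autGroup R).subtype :=
    ⟨⟨α, hKle hα⟩, h3 (Subgroup.mem_subgroupOf.mpr hα), rfl⟩
  rw [hrad.2] at h4
  exact h4

end Cfsg.Agent.Lib.Helper87

namespace Cfsg.Agent.Lib.Helper87

open Cfsg Cfsg.FusionSystem

variable {Ω : Type*} [Group Ω] {S : Subgroup Ω}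

/-- A subgroup of `Aut_F(R)` normalized by `Aut_F(R)` all of whose `p'`-elements are trivial lies
in `O_p(Aut_F(R))`. -/
theorem le_pCore_of_normal_of_pprime_trivial [Finite S] {p : ℕ} [Fact p.Prime]
    (F : FusionSystem S) {R : Subgroup Ω} (hRS : R ≤ S)
    (K : Subgroup (MulAut R)) (hKle : K ≤ F.autGroup R)
    (hKn : ∀ γ ∈ F.autGroup R, ∀ β ∈ K, γ * β * γ⁻¹ ∈ K)
    (htriv : ∀ β ∈ K, ∀ m : ℕ, m.Coprime p → β ^ m = 1 → β = 1) :
    K ≤ (pCore p (F.autGroup R)).map (F.autGroup R).subtype := by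
  have hfinR : Finite R := finite_of_le hRS
  have hKn' : (K.subgroupOf (F.autGroup R)).Normal := by
    constructor
    rintro ⟨β, hβA⟩ hβ ⟨γ, hγ⟩
    exact hKn γ hγ β hβ
  have hKp : IsPGroup p (K.subgroupOf (F.autGroup R)) := by
    rintro ⟨⟨β, hβA⟩, hβ⟩
    have hβK : β ∈ K := hβ
    have hpos : 0 < orderOf β := orderOf_pos β
    obtain ⟨a, m, hm, hord⟩ :=
      Nat.exists_eq_pow_mul_and_not_dvd hpos.ne' p (Nat.Prime.ne_one Fact.out)
    have hcop : m.Coprime p := by
      rw [Nat.coprime_comm]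
      exact (Nat.Prime.coprime_iff_not_dvd Fact.out).mpr hm
    have h1 : (β ^ (p ^ a)) ^ m = 1 := by
      rw [← pow_mul, ← hord, pow_orderOf_eq_one]
    have h2 := htriv _ (K.pow_mem hβK _) m hcop h1
    refine ⟨a, ?_⟩
    apply Subtype.ext
    apply Subtype.ext
    exact h2
  have h3 : K.subgroupOf (F.autGroup R) ≤ pCore p (F.autGroup R) := le_pCore hKn' hKp
  intro α hα
  exact ⟨⟨α, hKle hα⟩, h3 (Subgroup.mem_subgroupOf.mpr hα), rfl⟩

/-- An `F`-automorphism of `R` stabilizing the chain `R ≥ R ∩ W ≥ 1`, where `W` is strongly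
closed, lies in `O_p(Aut_F(R))`. -/
theorem mem_pCore_of_stabilizes [Finite S] {p : ℕ} [Fact p.Prime] (hS : IsPGroup p S)
    (F : FusionSystem S) {R W : Subgroup Ω} (hRS : R ≤ S) (hW : F.StronglyClosed W)
    {α : MulAut R} (hα : α ∈ F.autGroup R) (h1 : ∀ y : R, (y : Ω)⁻¹ * (α y : R) ∈ W)
    (h2 : ∀ y : R, (y : Ω) ∈ W → α y = y) :
    α ∈ (pCore p (F.autGroup R)).map (F.autGroup R).subtype := by
  have hfinR : Finite R := finite_of_le hRS
  have hRp : IsPGroup p R := hS.to_le hRS
  have hinv : ∀ γ ∈ F.autGroup R, ∀ y : R, (y : Ω) ∈ W → ((γ y : R) : Ω) ∈ W := by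
    intro γ hγ y hy
    have hγ' := (mem_autGroup_iff F hRS γ).mp hγ
    have := hW.2 (R ⊓ W) inf_le_right _ (restrict_mem F hγ' (inf_le_left : R ⊓ W ≤ R))
      ⟨y, y.2, hy⟩
    exact this
  let K : Subgroup (MulAut R) :=
    { carrier := {β | β ∈ F.autGroup R ∧ (∀ y : R, (y : Ω)⁻¹ * (β y : R) ∈ W) ∧
        ∀ y : R, (y : Ω) ∈ W → β y = y}
      mul_mem' := by
        rintro a b ⟨ha, ha1, ha2⟩ ⟨hb, hb1, hb2⟩
        refine ⟨(F.autGroup R).mul_mem ha hb, fun y => ?_, fun y hy => ?_⟩
        · have e : (y : Ω)⁻¹ * ((a * b) y : R) =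
              ((y : Ω)⁻¹ * (b y : R)) * (((b y : R) : Ω)⁻¹ * (a (b y) : R)) := by
            rw [mul_assoc, mul_inv_cancel_left]; rfl
          rw [e]
          exact W.mul_mem (hb1 y) (ha1 (b y))
        · show a (b y) = y
          rw [hb2 y hy, ha2 y hy]
      one_mem' := ⟨(F.autGroup R).one_mem, fun y => by simp, fun y _ => rfl⟩
      inv_mem' := by
        rintro a ⟨ha, ha1, ha2⟩
        refine ⟨(F.autGroup R).inv_mem ha, fun y => ?_, fun y hy => ?_⟩
        · have h3 := ha1 (a⁻¹ y)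
          have h4 : a (a⁻¹ y) = y := by simp
          rw [h4] at h3
          have := W.inv_mem h3
          rwa [mul_inv_rev, inv_inv] at this
        · have h3 := ha2 y hy
          calc a⁻¹ y = a⁻¹ (a y) := by rw [h3]
            _ = y := by simp }
  have hKle : K ≤ (pCore p (F.autGroup R)).map (F.autGroup R).subtype := by
    apply le_pCore_of_normal_of_pprime_trivial F hRS K (fun β hβ => hβ.1)
    · rintro γ hγ β ⟨hβ, hβ1, hβ2⟩
      have hγi := (F.autGroup R).inv_mem hγ
      refine ⟨(F.autGroup R).mul_mem ((F.autGroup R).mul_mem hγ hβ) hγi, fun y => ?_,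
        fun y hy => ?_⟩
      · have e : (y : Ω)⁻¹ * ((γ * β * γ⁻¹) y : R) = (γ ((γ⁻¹ y)⁻¹ * β (γ⁻¹ y)) : R) := by
          rw [map_mul, map_inv]
          have h4 : γ (γ⁻¹ y) = y := by simp
          rw [h4]
          rfl
        rw [e]
        exact hinv γ hγ _ (hβ1 (γ⁻¹ y))
      · show γ (β (γ⁻¹ y)) = y
        rw [hβ2 _ (hinv γ⁻¹ hγi y hy)]
        simp
    · rintro β ⟨hβ, hβ1, hβ2⟩ m hm hβm
      have h3 := fixes_of_chain hRp β m hm hβm 2
        (fun i => match i with
          | 0 => ⊤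
          | 1 => W.subgroupOf R
          | _ => ⊥) rfl
        (by
          intro i hi y hy
          match i, hi with
          | 0, _ =>
            exact Subgroup.mem_subgroupOf.mpr (hβ1 y)
          | 1, _ =>
            have : β y = y := hβ2 y (Subgroup.mem_subgroupOf.mp hy)
            show y⁻¹ * β y ∈ (⊥ : Subgroup R)
            rw [this, inv_mul_cancel]
            exact Subgroup.one_mem _)
      ext y
      have := h3 y (Subgroup.mem_top y)
      rw [this]
      rfl
  exact hKle ⟨hα, h1, h2⟩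

end Cfsg.Agent.Lib.Helper87

namespace Cfsg.Agent.Lib.Helper87

open Cfsg Cfsg.FusionSystem

variable {Ω : Type*} [Group Ω] {S : Subgroup Ω}

theorem inn_map_congr {P Q : Type*} [Group P] [Group Q] (e : P ≃* Q) :
    (Inn P).map (MulAut.congr e).toMonoidHom = Inn Q := by
  have key : ∀ x : P, MulAut.congr e (MulAut.conj x) = MulAut.conj (e x) := by
    intro x
    ext y
    simp [MulAut.congr]
  apply le_antisymm
  · rintro _ ⟨_, ⟨x, rfl⟩, rfl⟩
    exact ⟨e x, (key x).symm⟩
  · rintro _ ⟨y, rfl⟩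
    refine ⟨MulAut.conj (e.symm y), ⟨_, rfl⟩, ?_⟩
    show MulAut.congr e (MulAut.conj (e.symm y)) = MulAut.conj y
    rw [key]
    simp

/-- Radical subgroups are preserved under isomorphisms of the system. -/
theorem isRadical_of_iso {p : ℕ} [Fact p.Prime] (F : FusionSystem S) {P Q : Subgroup Ω}
    {φ : P →* Ω} (hφ : φ ∈ F.Hom P) (hr : φ.range = Q) (hrad : F.IsRadical p P) :
    F.IsRadical p Q := by
  have hQ : Q ≤ S := hr ▸ range_le F hφ
  refine ⟨hQ, ?_⟩
  let e := isoOfHom φ (F.injective_of_mem hφ) hr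
  have he : ∀ x : P, ((e x : Q) : Ω) = φ x := fun x => rfl
  have hG := autGroup_map_congr F hφ hr e he
  have h1 := pCore_map_subtype_equiv (p := p) (MulAut.congr e) (F.autGroup P) (F.autGroup Q) hG
  rw [hrad.2, inn_map_congr] at h1
  exact h1.symm

end Cfsg.Agent.Lib.Helper87
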