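import Cfsg.Agent.Lib.Helper87.Alperin

set_option autoImplicit false

namespace Cfsg.Agent.Lib.Helper87

open Cfsg Cfsg.FusionSystem

/-- A coprime automorphism of a `p`-group stabilizing a chain from `⊤` to `⊥` is trivial. -/
theorem aut_eq_one_of_chain {G : Type*} [Group G] {p : ℕ} (hG : IsPGroup p G) (α : MulAut G)
    (m : ℕ) (hm : m.Coprime p) (hαm : α ^ m = 1) (k : ℕ) (C : ℕ → Subgroup G) (h0 : C 0 = ⊤)
    (hk : C k = ⊥) (hstep : ∀ i < k, ∀ x ∈ C i, x⁻¹ * α x ∈ C (i + 1)) : α = 1 := by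
  have claim : ∀ j : ℕ, j ≤ k → ∀ x ∈ C (k - j), α x = x := by
    intro j
    induction j with
    | zero =>
      intro _ x hx
      rw [Nat.sub_zero, hk, Subgroup.mem_bot] at hx
      rw [hx, map_one]
    | succ j ih =>
      intro hj x hx
      have hi : k - (j + 1) < k := by omega
      have hy := hstep _ hi x hx
      have e : k - (j + 1) + 1 = k - j := by omega
      rw [e] at hy
      set y := x⁻¹ * α x with hydef
      have hfix : α y = y := ih (by omega) y hy
      have hpow : ∀ n : ℕ, (α ^ n) x = x * y ^ n := by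
        intro n
        induction n with
        | zero => simp
        | succ n ihn =>
          rw [pow_succ', MulAut.mul_apply, ihn, map_mul, map_pow, hfix, pow_succ']
          have hbx : α x = x * y := by rw [hydef]; group
          rw [hbx, mul_assoc]
      have h1 := hpow m
      rw [hαm] at h1
      have hym : y ^ m = 1 := by
        have : x = x * y ^ m := h1
        exact mul_eq_left.mp this.symm
      obtain ⟨n, hn⟩ := hG y
      have hg : y ^ (Nat.gcd m (p ^ n)) = 1 := pow_gcd_eq_one.mpr ⟨hym, hn⟩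
      have hcop : Nat.gcd m (p ^ n) = 1 := Nat.Coprime.pow_right n hm
      rw [hcop, pow_one] at hg
      have : x⁻¹ * α x = 1 := hg
      exact (inv_mul_eq_one.mp this).symm
  ext x
  have := claim k le_rfl x (by rw [Nat.sub_self, h0]; exact Subgroup.mem_top x)
  rw [this]
  rfl

variable {Ω : Type*} [Group Ω] {S : Subgroup Ω}

/-- In a radical subgroup, an `F`-automorphism stabilizing an `Aut_F`-invariant chain is inner. -/
theorem stabilizer_le_inn [Finite S] {p : ℕ} [Fact p.Prime] (hS : IsPGroup p S)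
    (F : FusionSystem S) {R : Subgroup Ω} (hRS : R ≤ S) (hrad : F.IsRadical p R) (k : ℕ)
    (C : ℕ → Subgroup R) (h0 : C 0 = ⊤) (hk : C k = ⊥)
    (hinv : ∀ γ ∈ F.autGroup R, ∀ i, ∀ x ∈ C i, γ x ∈ C i) {α : MulAut R}
    (hα : α ∈ F.autGroup R) (hαC : ∀ i < k, ∀ x ∈ C i, x⁻¹ * α x ∈ C (i + 1)) : α ∈ Inn R := by
  have hfinR : Finite R := finite_of_le hRS
  have hRp : IsPGroup p R := hS.to_le hRS
  let K : Subgroup (MulAut R) :=
    { carrier := {β | β ∈ F.autGroup R ∧ ∀ i < k, ∀ x ∈ C i, x⁻¹ * β x ∈ C (i + 1)}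
      mul_mem' := by
        rintro β γ ⟨hβ, hβC⟩ ⟨hγ, hγC⟩
        refine ⟨(F.autGroup R).mul_mem hβ hγ, fun i hi x hx => ?_⟩
        have e : x⁻¹ * (β * γ) x = (x⁻¹ * β x) * β (x⁻¹ * γ x) := by
          rw [MulAut.mul_apply, map_mul, map_inv]; group
        rw [e]
        exact (C (i + 1)).mul_mem (hβC i hi x hx) (hinv β hβ _ _ (hγC i hi x hx))
      one_mem' := by
        refine ⟨(F.autGroup R).one_mem, fun i _ x _ => ?_⟩
        simp
      inv_mem' := by
        rintro β ⟨hβ, hβC⟩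
        refine ⟨(F.autGroup R).inv_mem hβ, fun i hi x hx => ?_⟩
        have e : x⁻¹ * β⁻¹ x = β⁻¹ ((x⁻¹ * β x)⁻¹) := by
          rw [map_inv, map_mul, map_inv]
          have : β⁻¹ (β x) = x := by
            show β.symm (β x) = x
            simp
          rw [this]; group
        rw [e]
        exact hinv β⁻¹ ((F.autGroup R).inv_mem hβ) _ _ ((C (i + 1)).inv_mem (hβC i hi x hx)) }
  have hKle : K ≤ F.autGroup R := fun β hβ => hβ.1
  have hKn : (K.subgroupOf (F.autGroup R)).Normal := by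
    constructor
    rintro ⟨β, hβA⟩ hβ ⟨γ, hγ⟩
    have hβK : β ∈ K := hβ
    show γ * β * γ⁻¹ ∈ K
    refine ⟨(F.autGroup R).mul_mem ((F.autGroup R).mul_mem hγ hβA) ((F.autGroup R).inv_mem hγ),
      fun i hi x hx => ?_⟩
    have hγi := (F.autGroup R).inv_mem hγ
    have e : x⁻¹ * (γ * β * γ⁻¹) x = γ ((γ⁻¹ x)⁻¹ * β (γ⁻¹ x)) := by
      rw [MulAut.mul_apply, MulAut.mul_apply, map_mul, map_inv]
      have : γ (γ⁻¹ x) = x := by
        show γ (γ.symm x) = x
        simp
      rw [this]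
    rw [e]
    exact hinv γ hγ _ _ (hβK.2 i hi _ (hinv γ⁻¹ hγi _ _ hx))
  have hKp : IsPGroup p (K.subgroupOf (F.autGroup R)) := by
    rintro ⟨⟨β, hβA⟩, hβ⟩
    have hβK : β ∈ K := hβ
    have hpos : 0 < orderOf β := orderOf_pos β
    obtain ⟨a, m, hm, hord⟩ :=
      Nat.exists_eq_pow_mul_and_not_dvd hpos.ne' p (Nat.Prime.ne_one Fact.out)
    have hcop : m.Coprime p := by
      rw [Nat.coprime_comm]
      exact (Nat.Prime.coprime_iff_not_dvd Fact.out).mpr hm
    have h1 : (β ^ (p ^ a)) ^ m = 1 := by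
      rw [← pow_mul, ← hord, pow_orderOf_eq_one]
    have hpK : β ^ (p ^ a) ∈ K := K.pow_mem hβK _
    have h2 := aut_eq_one_of_chain hRp (β ^ (p ^ a)) m hcop h1 k C h0 hk hpK.2
    refine ⟨a, ?_⟩
    apply Subtype.ext
    apply Subtype.ext
    exact h2
  have h3 : K.subgroupOf (F.autGroup R) ≤ pCore p (F.autGroup R) := le_pCore hKn hKp
  have h4 : α ∈ (pCore p (F.autGroup R)).map (F.autGroup R).subtype :=
    ⟨⟨α, hα⟩, h3 (show α ∈ K from ⟨hα, hαC⟩), rfl⟩
  rw [hrad.2] at h4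
  exact h4

/-- Elements of `R ⊔ D` are products when `R` normalizes `D`. -/
theorem exists_mul_of_mem_sup {R D : Subgroup Ω} (hRD : R ≤ Subgroup.normalizer (D : Set Ω))
    {g : Ω} (hg : g ∈ R ⊔ D) : ∃ r ∈ R, ∃ d ∈ D, g = r * d := by
  let T : Subgroup Ω :=
    { carrier := {g | ∃ r ∈ R, ∃ d ∈ D, g = r * d}
      mul_mem' := by
        rintro _ _ ⟨r, hr, d, hd, rfl⟩ ⟨r', hr', d', hd', rfl⟩
        refine ⟨r * r', R.mul_mem hr hr', r'⁻¹ * d * r' * d', D.mul_mem ?_ hd', by group⟩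
        exact (Subgroup.mem_normalizer_iff''.mp (hRD hr') d).mp hd
      one_mem' := ⟨1, R.one_mem, 1, D.one_mem, by simp⟩
      inv_mem' := by
        rintro _ ⟨r, hr, d, hd, rfl⟩
        refine ⟨r⁻¹, R.inv_mem hr, r * d⁻¹ * r⁻¹, ?_, by group⟩
        exact (Subgroup.mem_normalizer_iff.mp (hRD hr) _).mp (D.inv_mem hd) }
  have hT : R ⊔ D ≤ T := by
    apply sup_le
    · intro r hr; exact ⟨r, hr, 1, D.one_mem, by simp⟩
    · intro d hd; exact ⟨1, R.one_mem, d, hd, by simp⟩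
  exact hT hg

/-- Normalizers grow: existence form. -/
theorem exists_mem_normalizerIn_not_mem [Finite S] {p : ℕ} [Fact p.Prime] (hS : IsPGroup p S)
    {R : Subgroup Ω} (hR : R ≤ S) (hne : R ≠ S) : ∃ g ∈ normalizerIn S R, g ∉ R := by
  have hlt := card_lt_card_normalizerIn hS hR hne
  by_contra hcon
  have hcon' : ∀ g ∈ normalizerIn S R, g ∈ R := fun g hg => by
    by_contra h
    exact hcon ⟨g, hg, h⟩
  have hfin : Finite R := finite_of_le hR
  have hle : Nat.card (normalizerIn S R) ≤ Nat.card R := Subgroup.card_le_of_le hcon'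
  omega

/-- If `D` is normalized by `S` and `N_D(R) ≤ R` then `D ≤ R` (inside a finite `p`-group `S`). -/
theorem le_of_normalizer_inf_le [Finite S] {p : ℕ} [Fact p.Prime] (hS : IsPGroup p S)
    {R D : Subgroup Ω} (hR : R ≤ S) (hD : D ≤ S) (hDn : S ≤ Subgroup.normalizer (D : Set Ω))
    (h : D ⊓ Subgroup.normalizer (R : Set Ω) ≤ R) : D ≤ R := by
  by_contra hcon
  have hT : R ⊔ D ≤ S := sup_le hR hD
  have hfinT : Finite (R ⊔ D : Subgroup Ω) := finite_of_le hT
  have hTp : IsPGroup p (R ⊔ D : Subgroup Ω) := hS.to_le hT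
  have hne : R ≠ R ⊔ D := by
    intro he
    apply hcon
    rw [he]
    exact le_sup_right
  obtain ⟨g, hg, hgR⟩ := exists_mem_normalizerIn_not_mem hTp (le_sup_left : R ≤ R ⊔ D) hne
  obtain ⟨r, hr, d, hd, rfl⟩ := exists_mul_of_mem_sup (hR.trans hDn) hg.1
  apply hgR
  have hdN : d ∈ Subgroup.normalizer (R : Set Ω) := by
    have h1 : r⁻¹ * (r * d) ∈ Subgroup.normalizer (R : Set Ω) :=
      (Subgroup.normalizer (R : Set Ω)).mul_mem
        ((Subgroup.normalizer (R : Set Ω)).inv_mem (Subgroup.le_normalizer hr)) hg.2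
    have e : r⁻¹ * (r * d) = d := by group
    rwa [e] at h1
  exact R.mul_mem hr (h ⟨hd, hdN⟩)

end Cfsg.Agent.Lib.Helper87
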