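import Cfsg.Agent.Lib.Helper87.Alperin
import Cfsg.Agent.Lib.Helper87.NormalizerSystem

set_option autoImplicit false

namespace Cfsg.Agent.Lib.Helper87

open Cfsg Cfsg.FusionSystem

variable {Ω : Type*} [Group Ω] {S : Subgroup Ω}

/-- A weakly closed subgroup is normalized by `S`. -/
theorem weaklyClosed_le_normalizer (F : FusionSystem S) {D : Subgroup Ω} (hD : F.WeaklyClosed D) :
    S ≤ Subgroup.normalizer (D : Set Ω) := by
  have key : ∀ s ∈ S, ∀ d ∈ D, s * d * s⁻¹ ∈ D := by
    intro s hs d hd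
    have h1 := hD.2 (conjHom D s) (F.conj_mem hD.1 hs)
    rw [← h1]
    exact ⟨⟨d, hd⟩, rfl⟩
  intro s hs
  rw [Subgroup.mem_normalizer_iff]
  intro n
  constructor
  · exact key s hs n
  · intro hn
    have := key s⁻¹ (S.inv_mem hs) _ hn
    have e : s⁻¹ * (s * n * s⁻¹) * s⁻¹⁻¹ = n := by group
    rwa [e] at this

theorem weaklyClosed_of_stronglyClosed [Finite S] (F : FusionSystem S) {Q : Subgroup Ω}
    (hQ : F.StronglyClosed Q) : F.WeaklyClosed Q := by
  refine ⟨hQ.1, fun φ hφ => ?_⟩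
  have hfin : Finite Q := finite_of_le hQ.1
  apply Subgroup.eq_of_le_of_card_ge
  · rintro _ ⟨x, rfl⟩
    exact hQ.2 Q le_rfl φ hφ x
  · exact (card_eq_of_isConj F ⟨φ, hφ, rfl⟩).le

/-- Normal subgroup criterion: a weakly closed subgroup contained in every Alperin subgroup is
normal in the (saturated) fusion system. -/
theorem isNormal_of_weaklyClosed_of_le_alperin [Finite S] {p : ℕ} [Fact p.Prime]
    (hS : IsPGroup p S) (F : FusionSystem S) (hF : F.IsSaturated p) {Q : Subgroup Ω}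
    (hQ : F.WeaklyClosed Q) (hle : ∀ R : Subgroup Ω, IsAlperin F p R → Q ≤ R) : F.IsNormal Q := by
  have hSN : S ≤ normalizerIn S Q := le_inf le_rfl (weaklyClosed_le_normalizer F hQ)
  have key : ∀ (P : Subgroup Ω) (φ : P →* Ω), AlpGen F p P φ → φ ∈ F.normalizerHom Q P := by
    intro P φ h
    induction h with
    | @aut P R hR α hα hPR =>
      have hRS : R ≤ S := hR.1.1
      have hQR : Q ≤ R := hle R hR
      have hα' := (mem_autGroup_iff F hRS α).mp hα
      have hsup : P ⊔ Q ≤ R := sup_le hPR hQR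
      have hφQ := restrict_mem F hα' hQR
      have hrange := hQ.2 _ hφQ
      refine ⟨restrict_mem F hα' hPR, (hPR.trans hRS).trans hSN,
        fun x => hSN (hRS (α _).2), _, restrict_mem F hα' hsup, fun x => rfl, ?_⟩
      rw [map_subgroupOf_eq_iff]
      refine ⟨fun y hy => ?_, fun q hq => ?_⟩
      · have : ((R.subtype.comp α.toMonoidHom).comp (Subgroup.inclusion hQR)) ⟨y, hy⟩ ∈
            ((R.subtype.comp α.toMonoidHom).comp (Subgroup.inclusion hQR)).range := ⟨_, rfl⟩
        rw [hrange] at this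
        exact this
      · rw [← hrange] at hq
        obtain ⟨y, rfl⟩ := hq
        exact ⟨⟨y, (le_sup_right : Q ≤ P ⊔ Q) y.2⟩, y.2, rfl⟩
    | @comp P P' φ ψ _ _ h ih1 ih2 =>
      exact (normalizerSystem F Q hQ.1).comp_mem ih1 ih2 h
  refine ⟨hQ.1, fun P φ hφ => ?_⟩
  exact (key P φ (alperin hS F hF P φ hφ)).2.2.2

end Cfsg.Agent.Lib.Helper87
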