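import Cfsg.Prelude.Def_FusionSystem

set_option autoImplicit false

namespace Cfsg.Agent.Lib.Helper87

open Cfsg Cfsg.FusionSystem

variable {Ω : Type*} [Group Ω] {S : Subgroup Ω}

/-! ### Basic facts about `Hom` -/

theorem hom_le (F : FusionSystem S) {P : Subgroup Ω} {φ : P →* Ω} (h : φ ∈ F.Hom P) : P ≤ S :=
  (F.le_of_mem h).1

theorem hom_mem_S (F : FusionSystem S) {P : Subgroup Ω} {φ : P →* Ω} (h : φ ∈ F.Hom P) (x : P) :
    φ x ∈ S :=
  (F.le_of_mem h).2 x

theorem range_le (F : FusionSystem S) {P : Subgroup Ω} {φ : P →* Ω} (h : φ ∈ F.Hom P) :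
    φ.range ≤ S := by
  rintro _ ⟨x, rfl⟩
  exact hom_mem_S F h x

theorem subtype_mem (F : FusionSystem S) {P : Subgroup Ω} (hP : P ≤ S) : P.subtype ∈ F.Hom P := by
  have h := F.conj_mem (g := 1) hP S.one_mem
  have e : conjHom P 1 = P.subtype := by
    ext x
    simp [conjHom]
  rwa [e] at h

theorem restrict_mem (F : FusionSystem S) {P R : Subgroup Ω} {φ : P →* Ω} (h : φ ∈ F.Hom P)
    (hR : R ≤ P) : φ.comp (Subgroup.inclusion hR) ∈ F.Hom R := by
  have h1 : R.subtype ∈ F.Hom R := subtype_mem F (hR.trans (hom_le F h))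
  have h2 := F.comp_mem h1 h (fun x => hR x.2)
  have e : φ.comp (R.subtype.codRestrict P fun x => hR x.2) = φ.comp (Subgroup.inclusion hR) := by
    ext x
    rfl
  rwa [e] at h2

theorem cast_mem (F : FusionSystem S) {P P' : Subgroup Ω} (h : P = P') {φ : P →* Ω}
    (hφ : φ ∈ F.Hom P) : φ.comp (Subgroup.inclusion h.ge) ∈ F.Hom P' :=
  restrict_mem F hφ h.ge

/-- Composition, in a convenient elementwise form. -/
theorem comp_mem' (F : FusionSystem S) {P Q : Subgroup Ω} {φ : P →* Ω} {ψ : Q →* Ω}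
    (hφ : φ ∈ F.Hom P) (hψ : ψ ∈ F.Hom Q) (h : ∀ x : P, φ x ∈ Q) :
    ∃ χ ∈ F.Hom P, ∀ x : P, χ x = ψ ⟨φ x, h x⟩ :=
  ⟨_, F.comp_mem hφ hψ h, fun _ => rfl⟩

/-- Inverse of a map onto a given subgroup. -/
theorem inv_exists (F : FusionSystem S) {P Q : Subgroup Ω} {φ : P →* Ω} (hφ : φ ∈ F.Hom P)
    (hr : φ.range = Q) :
    ∃ ψ ∈ F.Hom Q, (∀ (x : P) (h : φ x ∈ Q), ψ ⟨φ x, h⟩ = x) ∧ ψ.range = P := by
  subst hr
  obtain ⟨ψ, hψ, hinv⟩ := F.inv_mem hφ
  refine ⟨ψ, hψ, fun x h => hinv x, ?_⟩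
  apply le_antisymm
  · rintro _ ⟨⟨_, x, rfl⟩, rfl⟩
    rw [hinv x]
    exact x.2
  · intro x hx
    exact ⟨⟨φ ⟨x, hx⟩, ⟨x, hx⟩, rfl⟩, hinv ⟨x, hx⟩⟩

/-! ### Conjugacy of subgroups -/

theorem isConj_refl (F : FusionSystem S) {P : Subgroup Ω} (hP : P ≤ S) : F.IsConj P P :=
  ⟨P.subtype, subtype_mem F hP, Subgroup.range_subtype P⟩

theorem isConj_symm (F : FusionSystem S) {P Q : Subgroup Ω} (h : F.IsConj P Q) : F.IsConj Q P := by
  obtain ⟨φ, hφ, hr⟩ := h
  obtain ⟨ψ, hψ, -, hψr⟩ := inv_exists F hφ hr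
  exact ⟨ψ, hψ, hψr⟩

theorem isConj_trans (F : FusionSystem S) {P Q R : Subgroup Ω} (h1 : F.IsConj P Q)
    (h2 : F.IsConj Q R) : F.IsConj P R := by
  obtain ⟨φ, hφ, hr⟩ := h1
  obtain ⟨ψ, hψ, hr'⟩ := h2
  have hm : ∀ x : P, φ x ∈ Q := fun x => hr ▸ ⟨x, rfl⟩
  refine ⟨_, F.comp_mem hφ hψ hm, ?_⟩
  apply le_antisymm
  · rintro _ ⟨x, rfl⟩
    rw [← hr']
    exact ⟨_, rfl⟩
  · intro y hy
    rw [← hr'] at hy
    obtain ⟨⟨q, hq⟩, rfl⟩ := hy
    rw [← hr] at hq
    obtain ⟨x, rfl⟩ := hq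
    exact ⟨x, rfl⟩

theorem isConj_le_left (F : FusionSystem S) {P Q : Subgroup Ω} (h : F.IsConj P Q) : P ≤ S := by
  obtain ⟨φ, hφ, -⟩ := h
  exact hom_le F hφ

theorem isConj_le_right (F : FusionSystem S) {P Q : Subgroup Ω} (h : F.IsConj P Q) : Q ≤ S := by
  obtain ⟨φ, hφ, hr⟩ := h
  exact hr ▸ range_le F hφ

/-- The isomorphism of `P` onto the range of an injective map. -/
theorem card_eq_of_isConj (F : FusionSystem S) {P Q : Subgroup Ω} (h : F.IsConj P Q) :
    Nat.card P = Nat.card Q := by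
  obtain ⟨φ, hφ, hr⟩ := h
  subst hr
  exact Nat.card_congr (MonoidHom.ofInjective (F.injective_of_mem hφ)).toEquiv

/-! ### Fully normalized / fully centralized conjugates exist (pure counting) -/

theorem normalizerIn_le (S P : Subgroup Ω) : normalizerIn S P ≤ S := inf_le_left

theorem centralizerIn_le (S P : Subgroup Ω) : centralizerIn S P ≤ S := inf_le_left

theorem exists_fullyNormalized_conj (F : FusionSystem S) [Finite S] {P : Subgroup Ω} (hP : P ≤ S) :
    ∃ Q : Subgroup Ω, F.IsConj P Q ∧ F.IsFullyNormalized Q := by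
  classical
  -- the set of values |N_S(Q)| over conjugates Q is bounded by |S|
  have hb : ∀ Q : Subgroup Ω, Nat.card (normalizerIn S Q) ≤ Nat.card S := fun Q =>
    Subgroup.card_le_of_le (normalizerIn_le S Q)
  let T : Set ℕ := {n | ∃ Q : Subgroup Ω, F.IsConj P Q ∧ n = Nat.card (normalizerIn S Q)}
  have hT : T.Nonempty := ⟨_, P, isConj_refl F hP, rfl⟩
  have hTb : BddAbove T := ⟨Nat.card S, by rintro n ⟨Q, -, rfl⟩; exact hb Q⟩
  obtain ⟨Q, hQ, hQm⟩ := Nat.sSup_mem hT hTb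
  refine ⟨Q, hQ, isConj_le_right F hQ, fun R hR => ?_⟩
  rw [← hQm]
  exact le_csSup hTb ⟨R, isConj_trans F hQ hR, rfl⟩

theorem exists_fullyCentralized_conj (F : FusionSystem S) [Finite S] {P : Subgroup Ω} (hP : P ≤ S) :
    ∃ Q : Subgroup Ω, F.IsConj P Q ∧ F.IsFullyCentralized Q := by
  classical
  have hb : ∀ Q : Subgroup Ω, Nat.card (centralizerIn S Q) ≤ Nat.card S := fun Q =>
    Subgroup.card_le_of_le (centralizerIn_le S Q)
  let T : Set ℕ := {n | ∃ Q : Subgroup Ω, F.IsConj P Q ∧ n = Nat.card (centralizerIn S Q)}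
  have hT : T.Nonempty := ⟨_, P, isConj_refl F hP, rfl⟩
  have hTb : BddAbove T := ⟨Nat.card S, by rintro n ⟨Q, -, rfl⟩; exact hb Q⟩
  obtain ⟨Q, hQ, hQm⟩ := Nat.sSup_mem hT hTb
  refine ⟨Q, hQ, isConj_le_right F hQ, fun R hR => ?_⟩
  rw [← hQm]
  exact le_csSup hTb ⟨R, isConj_trans F hQ hR, rfl⟩

/-! ### Explicit membership in `autGroup` and `autInducedBy` -/

theorem mem_autGroup_iff (F : FusionSystem S) {P : Subgroup Ω} (hP : P ≤ S) (α : MulAut P) :
    α ∈ F.autGroup P ↔ P.subtype.comp α.toMonoidHom ∈ F.Hom P := by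
  constructor
  · intro h
    refine Subgroup.closure_induction (p := fun α _ => P.subtype.comp α.toMonoidHom ∈ F.Hom P)
      (fun α hα => hα) ?_ ?_ ?_ h
    · have : P.subtype.comp (1 : MulAut P).toMonoidHom = P.subtype := by
        ext x; rfl
      rw [this]
      exact subtype_mem F hP
    · intro α β _ _ hα hβ
      have h2 := F.comp_mem hβ hα (fun x => (β x).2)
      have e : (P.subtype.comp α.toMonoidHom).comp
          ((P.subtype.comp β.toMonoidHom).codRestrict P fun x => (β x).2) =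
          P.subtype.comp (α * β).toMonoidHom := by
        ext x; rfl
      rwa [e] at h2
    · intro α _ hα
      have hr : (P.subtype.comp α.toMonoidHom).range = P := by
        apply le_antisymm
        · rintro _ ⟨x, rfl⟩
          exact (α x).2
        · intro x hx
          exact ⟨α.symm ⟨x, hx⟩, by simp⟩
      obtain ⟨ψ, hψ, hinv, -⟩ := inv_exists F hα hr
      have e : ψ = P.subtype.comp (α⁻¹).toMonoidHom := by
        ext x
        have e2 : α (α⁻¹ x) = x := by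
          show α (α.symm x) = x
          simp
        have hm : (P.subtype.comp α.toMonoidHom) (α⁻¹ x) ∈ P := (α (α⁻¹ x)).2
        have h3 := hinv (α⁻¹ x) hm
        have e3 : (⟨(P.subtype.comp α.toMonoidHom) (α⁻¹ x), hm⟩ : P) = x := by
          apply Subtype.ext
          show ((α (α⁻¹ x) : P) : Ω) = x
          rw [e2]
        rw [e3] at h3
        exact h3
      rwa [e] at hψ
  · intro h
    exact Subgroup.subset_closure h

theorem mem_autInducedBy_iff (K P : Subgroup Ω) (α : MulAut P) :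
    α ∈ autInducedBy K P ↔ ∃ g ∈ K, ∀ x : P, ((α x : P) : Ω) = g * (x : Ω) * g⁻¹ := by
  constructor
  · intro h
    refine Subgroup.closure_induction
      (p := fun α _ => ∃ g ∈ K, ∀ x : P, ((α x : P) : Ω) = g * (x : Ω) * g⁻¹)
      (fun α hα => hα) ⟨1, K.one_mem, fun x => by simp⟩ ?_ ?_ h
    · rintro α β _ _ ⟨g, hg, hα⟩ ⟨k, hk, hβ⟩
      refine ⟨g * k, K.mul_mem hg hk, fun x => ?_⟩
      show ((α (β x) : P) : Ω) = _
      rw [hα, hβ]
      group
    · rintro α _ ⟨g, hg, hα⟩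
      refine ⟨g⁻¹, K.inv_mem hg, fun x => ?_⟩
      have h1 := hα (α⁻¹ x)
      have e2 : α (α⁻¹ x) = x := by
        show α (α.symm x) = x
        simp
      rw [e2] at h1
      rw [h1]
      group
  · intro h
    exact Subgroup.subset_closure h

end Cfsg.Agent.Lib.Helper87
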