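import Mathlib

/-!
# The property "`p'`-groups of automorphisms are abelian of exponent dividing `p - 1`"
-/

set_option autoImplicit false

namespace Cfsg.Agent.Lib.Helper87

/-- Every `p'`-subgroup of `Aut(V)` is abelian of exponent dividing `p - 1`. -/
def PPrimeAutProp (p : ℕ) (V : Type*) [Group V] : Prop :=
  ∀ H : Subgroup (MulAut V), (Nat.card H).Coprime p →
    IsMulCommutative H ∧ ∀ h ∈ H, h ^ (p - 1) = 1

theorem pPrimeAutProp_of_injective {p : ℕ} {V V' : Type*} [Group V] [Group V']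
    (f : MulAut V →* MulAut V') (hf : Function.Injective f) (h : PPrimeAutProp p V') :
    PPrimeAutProp p V := by
  intro H hH
  have hcard : Nat.card (H.map f) = Nat.card H := Subgroup.card_map_of_injective hf
  obtain ⟨hc, he⟩ := h (H.map f) (by rw [hcard]; exact hH)
  constructor
  · refine ⟨⟨fun a b => ?_⟩⟩
    have h1 := hc.is_comm.comm (⟨f a, ⟨a, a.2, rfl⟩⟩ : H.map f) ⟨f b, ⟨b, b.2, rfl⟩⟩
    have h2 : f a * f b = f b * f a := congrArg (fun w : H.map f => (w : MulAut V')) h1
    rw [← map_mul, ← map_mul] at h2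
    exact Subtype.ext (hf h2)
  · intro a ha
    have h1 := he (f a) ⟨a, ha, rfl⟩
    rw [← map_pow, ← map_one f] at h1
    exact hf h1

theorem pPrimeAutProp_of_mulEquiv {p : ℕ} {V V' : Type*} [Group V] [Group V'] (e : V ≃* V')
    (h : PPrimeAutProp p V') : PPrimeAutProp p V :=
  pPrimeAutProp_of_injective (MulAut.congr e).toMonoidHom (MulAut.congr e).injective h

/-- `Aut(V)` embeds in `Aut(V × K)`. -/
def mulAutProdLeft (V K : Type*) [Group V] [Group K] : MulAut V →* MulAut (V × K) where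
  toFun α := MulEquiv.prodCongr α (MulEquiv.refl K)
  map_one' := by ext x <;> rfl
  map_mul' α β := by ext x <;> rfl

theorem mulAutProdLeft_injective (V K : Type*) [Group V] [Group K] :
    Function.Injective (mulAutProdLeft V K) := by
  intro α β h
  ext x
  have := congrArg (fun γ : MulAut (V × K) => (γ (x, 1)).1) h
  exact this

theorem pPrimeAutProp_of_prod {p : ℕ} {V K : Type*} [Group V] [Group K]
    (h : PPrimeAutProp p (V × K)) : PPrimeAutProp p V :=
  pPrimeAutProp_of_injective (mulAutProdLeft V K) (mulAutProdLeft_injective V K) h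

section rot

variable (A : Type*) [CommGroup A]

/-- The automorphism `(a, b) ↦ (b⁻¹, a b⁻¹)` of order `3`. -/
def rot3 : MulAut (A × A) where
  toFun x := (x.2⁻¹, x.1 * x.2⁻¹)
  invFun x := (x.1⁻¹ * x.2, x.1⁻¹)
  left_inv x := by ext <;> simp
  right_inv x := by ext <;> simp
  map_mul' x y := by ext <;> simp [mul_comm, mul_left_comm, mul_assoc]

theorem rot3_apply (x : A × A) : rot3 A x = (x.2⁻¹, x.1 * x.2⁻¹) := rfl

theorem rot3_pow_three : rot3 A ^ 3 = 1 := by
  have h : rot3 A ^ 3 = rot3 A * rot3 A * rot3 A := by rw [pow_succ, pow_two]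
  rw [h]
  ext x <;> simp [rot3_apply, mul_comm]

theorem not_pPrimeAutProp_two [Finite A] {g : A} (hg : g ≠ 1) : ¬ PPrimeAutProp 2 (A × A) := by
  intro h
  have hord : orderOf (rot3 A) ∣ 3 := orderOf_dvd_of_pow_eq_one (rot3_pow_three A)
  have hcop : (Nat.card (Subgroup.zpowers (rot3 A))).Coprime 2 := by
    rw [Nat.card_zpowers]
    exact Nat.Coprime.coprime_dvd_left hord (by decide)
  obtain ⟨-, he⟩ := h _ hcop
  have h1 := he (rot3 A) (Subgroup.mem_zpowers _)
  have h2 : rot3 A = 1 := by simpa using h1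
  have h3 := congrArg (fun γ : MulAut (A × A) => (γ (g, 1)).2) h2
  simp [rot3_apply] at h3
  exact hg h3

end rot

section signed

variable (A : Type*) [CommGroup A]

/-- Optional inversion. -/
def sgn (u : Bool) (a : A) : A := if u then a⁻¹ else a

/-- Signed permutation of the two coordinates. -/
def sact (s u₁ u₂ : Bool) (x : A × A) : A × A :=
  if s then (sgn A u₁ x.2, sgn A u₂ x.1) else (sgn A u₁ x.1, sgn A u₂ x.2)

/-- The group of signed permutation automorphisms of `A × A` (of order dividing `8`). -/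
def signedPerm : Subgroup (MulAut (A × A)) where
  carrier := {α | ∃ s u₁ u₂, ∀ x, α x = sact A s u₁ u₂ x}
  one_mem' := ⟨false, false, false, fun x => by simp [sact, sgn]⟩
  mul_mem' := by
    rintro α β ⟨s, u₁, u₂, hα⟩ ⟨s', u₁', u₂', hβ⟩
    refine ⟨xor s s', xor u₁ (if s then u₂' else u₁'), xor u₂ (if s then u₁' else u₂'),
      fun x => ?_⟩
    rw [MulAut.mul_apply, hβ, hα]
    cases s <;> cases s' <;> cases u₁ <;> cases u₂ <;> cases u₁' <;> cases u₂' <;>
      simp [sact, sgn]
  inv_mem' := by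
    rintro α ⟨s, u₁, u₂, hα⟩
    refine ⟨s, if s then u₂ else u₁, if s then u₁ else u₂, fun x => ?_⟩
    rw [MulAut.inv_apply, MulEquiv.symm_apply_eq, hα]
    cases s <;> cases u₁ <;> cases u₂ <;> simp [sact, sgn]

theorem signedPerm_pow_four {α : MulAut (A × A)} (hα : α ∈ signedPerm A) : α ^ 4 = 1 := by
  obtain ⟨s, u₁, u₂, hα⟩ := hα
  have h : α ^ 4 = α * α * α * α := by rw [pow_succ, pow_succ, pow_two]
  rw [h]
  ext x <;>
  · simp only [MulAut.mul_apply, MulAut.one_apply, hα]
    cases s <;> cases u₁ <;> cases u₂ <;> simp [sact, sgn]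

theorem signedPerm_isPGroup : IsPGroup 2 (signedPerm A) := by
  intro α
  refine ⟨2, Subtype.ext ?_⟩
  have := signedPerm_pow_four A α.2
  simpa using this

/-- The coordinate swap. -/
def swapAut : MulAut (A × A) where
  toFun x := (x.2, x.1)
  invFun x := (x.2, x.1)
  left_inv _ := rfl
  right_inv _ := rfl
  map_mul' _ _ := rfl

/-- Inversion of the second coordinate. -/
def negSnd : MulAut (A × A) where
  toFun x := (x.1, x.2⁻¹)
  invFun x := (x.1, x.2⁻¹)
  left_inv x := by ext <;> simp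
  right_inv x := by ext <;> simp
  map_mul' x y := by ext <;> simp [mul_comm]

theorem swapAut_mem : swapAut A ∈ signedPerm A :=
  ⟨true, false, false, fun x => by simp [sact, sgn, swapAut]⟩

theorem negSnd_mem : negSnd A ∈ signedPerm A :=
  ⟨false, false, true, fun x => by simp [sact, sgn, negSnd]⟩

theorem not_pPrimeAutProp_odd [Finite A] {p : ℕ} [hp : Fact p.Prime] (hp2 : p ≠ 2) {g : A}
    (hg : g ^ 2 ≠ 1) : ¬ PPrimeAutProp p (A × A) := by
  intro h
  have hfin : Finite (signedPerm A) := inferInstance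
  obtain ⟨k, hk⟩ := (signedPerm_isPGroup A).exists_card_eq
  have hcop : (Nat.card (signedPerm A)).Coprime p := by
    rw [hk]
    exact Nat.Coprime.pow_left k ((Nat.coprime_primes Nat.prime_two hp.out).mpr (Ne.symm hp2))
  obtain ⟨hc, -⟩ := h _ hcop
  have h1 := hc.is_comm.comm (⟨swapAut A, swapAut_mem A⟩ : signedPerm A) ⟨negSnd A, negSnd_mem A⟩
  have h2 : swapAut A * negSnd A = negSnd A * swapAut A :=
    congrArg (fun w : signedPerm A => (w : MulAut (A × A))) h1
  have h3 := congrArg (fun γ : MulAut (A × A) => (γ (g, 1)).2) h2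
  simp only [MulAut.mul_apply] at h3
  have h4 : g = g⁻¹ := h3
  apply hg
  rw [pow_two]
  nth_rewrite 1 [h4]
  exact inv_mul_cancel g

end signed

/-- The failure of the property for `(ℤ/pⁿ)²`. -/
theorem not_pPrimeAutProp_zmod_sq (p : ℕ) [hp : Fact p.Prime] {n : ℕ} (hn : 0 < n) :
    ¬ PPrimeAutProp p (Multiplicative (ZMod (p ^ n)) × Multiplicative (ZMod (p ^ n))) := by
  have hne : NeZero (p ^ n) := ⟨(pow_pos hp.out.pos n).ne'⟩
  have hfin : Finite (Multiplicative (ZMod (p ^ n))) :=
    inferInstanceAs (Finite (ZMod (p ^ n)))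
  have hlt : 1 < p ^ n := Nat.one_lt_pow hn.ne' hp.out.one_lt
  rcases eq_or_ne p 2 with rfl | hp2
  · refine not_pPrimeAutProp_two _ (g := Multiplicative.ofAdd (1 : ZMod (2 ^ n))) ?_
    intro h
    have h1 : (1 : ZMod (2 ^ n)) = 0 := h
    have : Fact (1 < 2 ^ n) := ⟨hlt⟩
    exact one_ne_zero h1
  · refine not_pPrimeAutProp_odd _ hp2 (g := Multiplicative.ofAdd (1 : ZMod (p ^ n))) ?_
    intro h
    have h1 : (2 : ℕ) • (1 : ZMod (p ^ n)) = 0 := h
    have h2 : ((2 : ℕ) : ZMod (p ^ n)) = 0 := by simpa using h1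
    rw [ZMod.natCast_eq_zero_iff] at h2
    have h3 : p ^ n ≤ 2 := Nat.le_of_dvd (by norm_num) h2
    have h4 : 3 ≤ p := by
      have := hp.out.two_le
      omega
    have h5 : p ≤ p ^ n := Nat.le_self_pow hn.ne' p
    omega

end Cfsg.Agent.Lib.Helper87
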