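import Mathlib
import Cfsg.Agent.Lib.Helper16.PSLDefs
import Cfsg.Agent.Lib.Helper79.Basic
import Cfsg.Agent.Lib.Helper39.PSLS1
import Cfsg.Agent.Lib.Helper16.PSLA1

/-!
# PSL hive (S4472, owner helper16): leaf PSL-B1 `bound_npc`, core in hypothesis form (helper87)

`b1_coprime` : under the hypotheses of `bound_npc`, `|Q|` is prime to `|L : Q|` (the `hcop`
needed by `exists_pi_char`) and `|L : Q|` divides `|P|`.

`b1_main` : the statement of `bound_npc`, with the conclusion of `exists_pi_char` (leaf X2) for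
`Q` and `χ` as a hypothesis.  The final `bound_npc` is then the one-liner
`b1_main p hp Q P hQ hP hQP χ hχ hfaith n hn
  (exists_pi_char Q (b1_coprime p hp Q P hQ hP hQP).1 hχ)`.
-/

set_option autoImplicit false
set_option linter.style.haveILetI false
set_option linter.unusedVariables false

namespace Cfsg.Agent.Lib.Helper16.PSL

open Cfsg

universe u

theorem b1_coprime {L : Type u} [Group L] [Finite L] (p : ℕ) (hp : p.Prime) (Q P : Subgroup L)
    [Q.Normal] (hQ : (Nat.card Q).Coprime p) (hP : IsPGroup p P) (hQP : Q ⊔ P = ⊤) :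
    (Nat.card Q).Coprime Q.index ∧ Q.index ∣ Nat.card P := by
  haveI : Fact p.Prime := ⟨hp⟩
  have h1 : Q.index = Q.relIndex P := by
    rw [← Subgroup.relIndex_top_right, ← hQP, Subgroup.relIndex_sup_left]
  have h2 : Q.index ∣ Nat.card P := by
    rw [h1]; exact Subgroup.relIndex_dvd_card Q P
  obtain ⟨k, hk⟩ := hP.exists_card_eq
  refine ⟨?_, h2⟩
  rw [hk] at h2
  exact Nat.Coprime.coprime_dvd_right h2 (Nat.Coprime.pow_right k hQ)

/-- The power-map congruence: for `y` with `y ^ N = 1`, `j` prime to `N`, `r` prime to `N`,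
`M ∣ r * N`: there is `m` prime to `M` with `m ≡ 1 [MOD r]` and `y ^ m = y ^ j`. -/
theorem b1_crt {L : Type u} [Group L] (y : L) (N r M j : ℕ) (hy : y ^ N = 1)
    (hrN : r.Coprime N) (hj : j.Coprime N) (hM : M ∣ r * N) :
    ∃ m : ℕ, m.Coprime M ∧ m ≡ 1 [MOD r] ∧ y ^ m = y ^ j := by
  obtain ⟨m, hm1, hm2⟩ := Nat.chineseRemainder hrN 1 j
  refine ⟨m, ?_, hm1, ?_⟩
  · apply Nat.Coprime.coprime_dvd_right hM
    apply Nat.Coprime.mul_right
    · have := hm1.gcd_eq
      rw [Nat.coprime_iff_gcd_eq_one, this]; simp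
    · have := hm2.gcd_eq
      rw [Nat.coprime_iff_gcd_eq_one, this]; exact hj
  · rw [pow_eq_pow_iff_modEq]
    exact hm2.of_dvd (orderOf_dvd_of_pow_eq_one hy)

theorem b1_main {L : Type u} [Group L] [Finite L] (p : ℕ) (hp : p.Prime) (Q P : Subgroup L)
    [Q.Normal] (hQ : (Nat.card Q).Coprime p) (hP : IsPGroup p P) (hQP : Q ⊔ P = ⊤)
    (χ : L → ℂ) (hχ : IsCharacter L χ) (hfaith : ∀ g : L, χ g = χ 1 → g = 1) (n : ℕ)
    (hn : charDegree χ = n)
    (hX2 : ∃ X : L → ℂ, IsCharacter L X ∧ PowInv (Nat.card Q) X ∧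
      (∃ a b : ℕ, X 1 = (a : ℂ) ∧ χ 1 = (b : ℂ) ∧ a ≤ b) ∧
      ∀ q ∈ Q, X q = X 1 → χ q = χ 1) :
    ((P ⊓ Subgroup.centralizer (Q : Set L)).relIndex P).factorization p ≤ lam p n := by
  haveI : Fact p.Prime := ⟨hp⟩
  obtain ⟨X, hXc, hXp, ⟨a, b, hXa, hχb, hab⟩, hXk⟩ := hX2
  obtain ⟨hcop, hidx⟩ := b1_coprime p hp Q P hQ hP hQP
  obtain ⟨k, hk⟩ := hP.exists_card_eq
  -- n = b
  have hnb : n = b := by
    rw [← hn]; simp [charDegree, hχb]
  -- restriction to P and its kernel
  have hY : IsCharacter P (fun y : P => X y) := Cfsg.Agent.Lib.Helper79.isCharacter_restrict hXc P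
  set D : Subgroup P := Cfsg.Agent.Lib.Helper79.charKer hY with hDdef
  have hD : ∀ y : P, y ∈ D ↔ X y = X 1 := by
    intro y
    have := Cfsg.Agent.Lib.Helper79.mem_charKer hY y
    simpa using this
  -- the kernel centralizes Q
  have hDle : D.map P.subtype ≤ P ⊓ Subgroup.centralizer (Q : Set L) := by
    rintro _ ⟨y, hyD, rfl⟩
    refine ⟨y.2, ?_⟩
    show (y : L) ∈ Subgroup.centralizer (Q : Set L)
    rw [Subgroup.mem_centralizer_iff]
    intro q hq
    have hq' : q ∈ Q := hq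
    set c : L := (y : L) * q * (y : L)⁻¹ * q⁻¹ with hc
    have hcQ : c ∈ Q := Q.mul_mem (Subgroup.Normal.conj_mem inferInstance q hq' _) (Q.inv_mem hq')
    have hyK : (y : L) ∈ Cfsg.Agent.Lib.Helper79.charKer hXc :=
      (Cfsg.Agent.Lib.Helper79.mem_charKer hXc _).2 ((hD y).1 hyD)
    have hcK : c ∈ Cfsg.Agent.Lib.Helper79.charKer hXc := by
      have h1 : q * (y : L)⁻¹ * q⁻¹ ∈ Cfsg.Agent.Lib.Helper79.charKer hXc :=
        Subgroup.Normal.conj_mem inferInstance _ (Subgroup.inv_mem _ hyK) q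
      have h2 := Subgroup.mul_mem _ hyK h1
      have : c = (y : L) * (q * (y : L)⁻¹ * q⁻¹) := by rw [hc]; group
      rw [this]; exact h2
    have hc1 : c = 1 :=
      hfaith c (hXk c hcQ ((Cfsg.Agent.Lib.Helper79.mem_charKer hXc c).1 hcK))
    have : (y : L) * q = q * (y : L) := by
      have h3 : (y : L) * q * (y : L)⁻¹ * q⁻¹ = 1 := hc1
      calc (y : L) * q = ((y : L) * q * (y : L)⁻¹ * q⁻¹) * (q * (y : L)) := by group
        _ = q * (y : L) := by rw [h3, one_mul]
    exact this.symm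
  -- deflate
  obtain ⟨ψ, hψc, hψ⟩ := Cfsg.Agent.Lib.Helper79.isCharacter_deflate hY D
    (fun x hx => (Cfsg.Agent.Lib.Helper79.mem_charKer hY x).1 hx)
  have hψ1 : ψ 1 = X 1 := by
    have := hψ 1
    simpa using this
  have hψfaith : ∀ g : P ⧸ D, ψ g = ψ 1 → g = 1 := by
    intro g
    induction g using QuotientGroup.induction_on with
    | H y =>
      intro h
      rw [hψ y, hψ1] at h
      exact (QuotientGroup.eq_one_iff y).2 ((hD y).2 h)
  have hdeg : charDegree ψ = a := by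
    simp [charDegree, hψ1, hXa]
  have hpe : ∀ (x : P ⧸ D) (e j : ℕ), x ^ p ^ e = 1 → j.Coprime p → ψ (x ^ j) = ψ x := by
    intro x e j _ hj
    induction x using QuotientGroup.induction_on with
    | H y =>
      have hyN : (y : L) ^ (Nat.card P) = 1 := by
        have h1 : y ^ Nat.card P = 1 := pow_card_eq_one'
        have h2 := congrArg (fun z : P => (z : L)) h1
        simp only [Subgroup.coe_pow, Subgroup.coe_one] at h2
        exact h2
      have hjN : j.Coprime (Nat.card P) := by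
        rw [hk]; exact Nat.Coprime.pow_right k hj
      have hrN : (Nat.card Q).Coprime (Nat.card P) := by
        rw [hk]; exact Nat.Coprime.pow_right k hQ
      have hM : Nat.card L ∣ Nat.card Q * Nat.card P := by
        rw [← Subgroup.card_mul_index Q]
        exact Nat.mul_dvd_mul_left _ hidx
      obtain ⟨m, hmM, hm1, hmy⟩ := b1_crt (y : L) (Nat.card P) (Nat.card Q) (Nat.card L) j
        hyN hrN hjN hM
      have h1 : ((y : P ⧸ D)) ^ j = ((y ^ j : P) : P ⧸ D) := rfl
      rw [h1, hψ, hψ]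
      show X ((y ^ j : P) : L) = X y
      rw [Subgroup.coe_pow, ← hmy]
      exact hXp (y : L) m hmM hm1
  have hschur := schur_pe p hp ψ hψc hψfaith hpe a hdeg
  have hlam : lam p a ≤ lam p n := lam_mono p (by rw [hnb]; exact hab)
  -- the index
  have hrel : (D.map P.subtype).relIndex P = Nat.card (P ⧸ D) := by
    rw [Subgroup.relIndex, Subgroup.subgroupOf,
      Subgroup.comap_map_eq_self_of_injective P.subtype_injective, Subgroup.index_eq_card]
  have hdvd : (P ⊓ Subgroup.centralizer (Q : Set L)).relIndex P ∣ Nat.card (P ⧸ D) := by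
    rw [← hrel]
    exact Subgroup.relIndex_dvd_of_le_left P hDle
  have hne : Nat.card (P ⧸ D) ≠ 0 := Nat.card_pos.ne'
  have hne' : (P ⊓ Subgroup.centralizer (Q : Set L)).relIndex P ≠ 0 :=
    ne_zero_of_dvd_ne_zero hne hdvd
  exact ((Nat.factorization_le_iff_dvd hne' hne).2 hdvd p).trans (hschur.trans hlam)

end Cfsg.Agent.Lib.Helper16.PSL
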