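import Mathlib
import Cfsg.Agent.Lib.Helper24.SZCompl

set_option autoImplicit false

/-! # S4472 (PSL hive) leaf G1a: Schur–Zassenhaus + Frattini -/

universe u

namespace Cfsg.Agent.Lib.Helper16.PSL

open Subgroup

/-- LEAF G1a.  Schur–Zassenhaus + Frattini: a complement `Q` of the normal Sylow `p`-subgroup
`N` of `K ⊴ G` with `G = N · N_G(Q)`. -/
theorem exists_frattini_compl {G : Type u} [Group G] [Finite G] (p : ℕ) [Fact p.Prime]
    (N K : Subgroup G) [N.Normal] [K.Normal] (hNK : N ≤ K) (hN : IsPGroup p N)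
    (hcop : (N.relIndex K).Coprime p) :
    ∃ Q : Subgroup G, Q ≤ K ∧ N ⊓ Q = ⊥ ∧ N ⊔ Q = K ∧
      N ⊔ Subgroup.normalizer (Q : Set G) = ⊤ := by
  have hpp : p.Prime := Fact.out
  -- work inside `K`
  set N' : Subgroup K := N.subgroupOf K with hN'
  have hN'p : IsPGroup p N' := hN.comap_of_injective _ (Subgroup.subtype_injective _)
  have hcop' : (Nat.card N').Coprime N'.index := by
    obtain ⟨k, hk⟩ := IsPGroup.iff_card.mp hN'p
    rw [hk]
    have : N'.index = N.relIndex K := rfl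
    rw [this]
    exact Nat.Coprime.pow_left _ hcop.symm
  obtain ⟨Q', hQ'⟩ := Subgroup.exists_right_complement'_of_coprime hcop'
  have hdisj' : N' ⊓ Q' = ⊥ := disjoint_iff.mp hQ'.disjoint
  have hsup' : N' ⊔ Q' = ⊤ := hQ'.sup_eq_top
  have hNmap : N'.map K.subtype = N := by
    rw [hN', Subgroup.subgroupOf_map_subtype, inf_of_le_left hNK]
  set Q : Subgroup G := Q'.map K.subtype with hQ
  have hQK : Q ≤ K := by
    rintro _ ⟨x, -, rfl⟩
    exact x.2
  have hNQ : N ⊓ Q = ⊥ := by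
    rw [eq_bot_iff]
    rintro x ⟨hxN, y, hy, rfl⟩
    have : y ∈ N' ⊓ Q' := ⟨Subgroup.mem_subgroupOf.mpr hxN, hy⟩
    rw [hdisj', Subgroup.mem_bot] at this
    rw [this]
    exact Subgroup.one_mem _
  have hNQK : N ⊔ Q = K := by
    have h1 : (N' ⊔ Q').map K.subtype = N ⊔ Q := by
      rw [Subgroup.map_sup, hNmap]
    rw [← h1, hsup', ← MonoidHom.range_eq_map, Subgroup.range_subtype]
  refine ⟨Q, hQK, hNQ, hNQK, ?_⟩
  rw [eq_top_iff]
  intro g _
  -- the conjugate complement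
  set Qg : Subgroup G := Q.map (MulAut.conj g).toMonoidHom with hQg
  have hQgK : Qg ≤ K := by
    rintro _ ⟨x, hx, rfl⟩
    exact (inferInstance : K.Normal).conj_mem x (hQK hx) g
  set Q'' : Subgroup K := Qg.subgroupOf K with hQ''
  have hcardQ : Nat.card Q'' = Nat.card Q' := by
    have h1 : Nat.card Q'' = Nat.card Qg := by
      rw [hQ'']
      exact Nat.card_congr (Subgroup.subgroupOfEquivOfLe hQgK).toEquiv
    have h2 : Nat.card Qg = Nat.card Q :=
      (Nat.card_congr (Subgroup.equivMapOfInjective Q (MulAut.conj g).toMonoidHom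
        (MulAut.conj g).injective).toEquiv).symm
    have h3 : Nat.card Q = Nat.card Q' :=
      (Nat.card_congr (Subgroup.equivMapOfInjective Q' K.subtype
        (Subgroup.subtype_injective _)).toEquiv).symm
    rw [h1, h2, h3]
  have hcompl'' : IsComplement' N' Q'' := by
    apply Subgroup.isComplement'_of_card_mul_and_disjoint
    · rw [hcardQ]
      exact hQ'.card_mul_card
    · rw [disjoint_iff, eq_bot_iff]
      rintro x ⟨hxN, hxQ⟩
      rw [Subgroup.mem_bot]
      have hxN' : (x : G) ∈ N := Subgroup.mem_subgroupOf.mp hxN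
      obtain ⟨q, hq, hqx⟩ : (x : G) ∈ Qg := Subgroup.mem_subgroupOf.mp hxQ
      have hqx' : g * q * g⁻¹ = (x : G) := hqx
      have hqN : q ∈ N := by
        have : q = g⁻¹ * (x : G) * g⁻¹⁻¹ := by rw [← hqx']; group
        rw [this]
        exact (inferInstance : N.Normal).conj_mem _ hxN' g⁻¹
      have hq1 : q = 1 := by
        have : q ∈ N ⊓ Q := ⟨hqN, hq⟩
        rwa [hNQ, Subgroup.mem_bot] at this
      apply Subtype.ext
      rw [← hqx', hq1]
      simp
  have hsolv : Group.IsSolvable N' := by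
    have := hN'p.isNilpotent
    infer_instance
  obtain ⟨x, hxN, hx⟩ := Cfsg.Agent.Lib.Helper24.sz_conj N' hcop' (Or.inl hsolv) Q' Q'' hQ' hcompl''
  -- `x Q x⁻¹ = g Q g⁻¹` in `G`
  have hxG : (x : G) ∈ N := Subgroup.mem_subgroupOf.mp hxN
  have hkey : ∀ q ∈ Q, (x : G)⁻¹ * g * q * ((x : G)⁻¹ * g)⁻¹ ∈ Q := by
    intro q hq
    -- `g q g⁻¹ ∈ Qg`, so it is `x q' x⁻¹` for some `q' ∈ Q'`
    have h1 : g * q * g⁻¹ ∈ Qg := ⟨q, hq, rfl⟩
    have h2 : (⟨g * q * g⁻¹, hQgK h1⟩ : K) ∈ Q'' := Subgroup.mem_subgroupOf.mpr h1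
    rw [← hx] at h2
    obtain ⟨q', hq', hq'x⟩ := h2
    have h3 : (x : G) * (q' : G) * (x : G)⁻¹ = g * q * g⁻¹ := by
      have := congrArg Subtype.val hq'x
      simpa using this
    have h4 : (x : G)⁻¹ * g * q * ((x : G)⁻¹ * g)⁻¹ = (q' : G) := by
      have : (x : G)⁻¹ * g * q * ((x : G)⁻¹ * g)⁻¹ = (x : G)⁻¹ * (g * q * g⁻¹) * (x : G) := by group
      rw [this, ← h3]; group
    rw [h4]
    exact ⟨q', hq', rfl⟩
  have hnorm : (x : G)⁻¹ * g ∈ Subgroup.normalizer (Q : Set G) := by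
    have hle : Q.map (MulAut.conj ((x : G)⁻¹ * g)).toMonoidHom ≤ Q := by
      rintro _ ⟨q, hq, rfl⟩
      exact hkey q hq
    have hcard : Nat.card Q ≤ Nat.card (Q.map (MulAut.conj ((x : G)⁻¹ * g)).toMonoidHom) :=
      (Nat.card_congr (Subgroup.equivMapOfInjective Q (MulAut.conj ((x : G)⁻¹ * g)).toMonoidHom
        (MulAut.conj ((x : G)⁻¹ * g)).injective).toEquiv).le
    have heq : Q.map (MulAut.conj ((x : G)⁻¹ * g)).toMonoidHom = Q :=
      Subgroup.eq_of_le_of_card_ge hle hcard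
    rw [Subgroup.mem_normalizer_iff]
    intro h
    constructor
    · intro hh
      exact hkey h hh
    · intro hh
      have hh' : (x : G)⁻¹ * g * h * ((x : G)⁻¹ * g)⁻¹ ∈
          Q.map (MulAut.conj ((x : G)⁻¹ * g)).toMonoidHom := by
        rw [heq]; exact hh
      obtain ⟨q, hq, hqh⟩ := hh'
      have : q = h := by
        have h5 : (x : G)⁻¹ * g * q * ((x : G)⁻¹ * g)⁻¹ = (x : G)⁻¹ * g * h * ((x : G)⁻¹ * g)⁻¹ := hqh
        simpa using h5
      rw [← this]; exact hq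
  have : g = (x : G) * ((x : G)⁻¹ * g) := by group
  rw [this]
  exact Subgroup.mul_mem_sup hxG hnorm

end Cfsg.Agent.Lib.Helper16.PSL
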