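import Mathlib

set_option autoImplicit false

/-! # A model for the `p`-local structure of the alternating groups (definitions only)

Points: `PtI I p a0 = (I × ZMod p) ⊕ Fin a0`: blocks `{k} × ZMod p` indexed by `k : I`, and `a0`
extra points (in use `a0 ≤ 1`).  For `I = Idx p m' = ZMod p ⊕ Fin m'` the first `p` blocks form the
square `Δ = ZMod p × ZMod p`.

* `blk σ f` : `(k, s) ↦ (σ k, f k s)`, identity on the extra points;
* `cyc k` : the `p`-cycle `(k, s) ↦ (k, s + 1)` on block `k`;  `lift σ = blk σ 1`;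
* `Bs` : the subgroup generated by all `cyc k` (elementary abelian of rank `|I|`);
  `Bg = Bs ⊓ alternatingGroup` (equal to `Bs` for `p` odd);
* `mulOf g k`, `uu g` : the multiplier of `g` on block `k` and the product of all multipliers
  (meaningful for `g` normalizing `Bs`);
* on `Pt p m' a0`: the translations `vt1, vt2` of `Δ`, `Vg = ⟨vt1, vt2⟩`, `Brest = ⟨cyc (inr i)⟩`,
  `Rg = Vg ⊔ Brest`, `Qg = Bs ⊔ Vg`, and `h0 lam : (a, b) ↦ (lam a, lam⁻¹ b)` on `Δ`.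
-/

namespace Cfsg.Agent.Lib.Helper87.AltF

open Equiv

/-- the points -/
abbrev PtI (I : Type) (p a0 : ℕ) : Type := (I × ZMod p) ⊕ Fin a0

/-- block indices with a distinguished square: the first `p` blocks are indexed by `ZMod p` -/
abbrev Idx (p m' : ℕ) : Type := ZMod p ⊕ Fin m'

/-- the points, with the distinguished square `Δ = {inl (inl a, b)}` -/
abbrev Pt (p m' a0 : ℕ) : Type := PtI (Idx p m') p a0

variable {I : Type} (p a0 : ℕ)

/-- `(k, s) ↦ (σ k, f k s)`, identity on the extra points -/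
def blk (σ : Perm I) (f : I → Perm (ZMod p)) : Perm (PtI I p a0) :=
  Equiv.sumCongr (Equiv.prodShear σ f) (Equiv.refl (Fin a0))

@[simp] theorem blk_inl (σ : Perm I) (f : I → Perm (ZMod p)) (k : I) (s : ZMod p) :
    blk p a0 σ f (Sum.inl (k, s)) = Sum.inl (σ k, f k s) := rfl

@[simp] theorem blk_inr (σ : Perm I) (f : I → Perm (ZMod p)) (x : Fin a0) :
    blk p a0 σ f (Sum.inr x) = Sum.inr x := rfl

/-- the lift of a permutation of the blocks -/
def lift (σ : Perm I) : Perm (PtI I p a0) := blk p a0 σ (fun _ => 1)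

@[simp] theorem lift_inl (σ : Perm I) (k : I) (s : ZMod p) :
    lift p a0 σ (Sum.inl (k, s)) = Sum.inl (σ k, s) := rfl

@[simp] theorem lift_inr (σ : Perm I) (x : Fin a0) :
    lift p a0 σ (Sum.inr x) = Sum.inr x := rfl

/-- second coordinate (`0` on the extra points) -/
def snd2 : PtI I p a0 → ZMod p := Sum.elim Prod.snd (fun _ => 0)

/-- the multiplier of `g` on block `k` -/
def mulOf (g : Perm (PtI I p a0)) (k : I) : ZMod p :=
  snd2 p a0 (g (Sum.inl (k, 1))) - snd2 p a0 (g (Sum.inl (k, 0)))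

/-- the product of the multipliers -/
def uu [Fintype I] (g : Perm (PtI I p a0)) : ZMod p := ∏ k, mulOf p a0 g k

variable [DecidableEq I]

/-- the `p`-cycle `(k, s) ↦ (k, s + 1)` on block `k` -/
def cyc (k : I) : Perm (PtI I p a0) :=
  blk p a0 1 (fun j => if j = k then Equiv.addRight (1 : ZMod p) else 1)

theorem cyc_inl_self (k : I) (s : ZMod p) :
    cyc p a0 k (Sum.inl (k, s)) = Sum.inl (k, s + 1) := by
  simp [cyc]

theorem cyc_inl_of_ne {j k : I} (h : j ≠ k) (s : ZMod p) :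
    cyc p a0 k (Sum.inl (j, s)) = Sum.inl (j, s) := by
  simp [cyc, h]

@[simp] theorem cyc_inr (k : I) (x : Fin a0) : cyc p a0 k (Sum.inr x) = Sum.inr x := rfl

/-- the base group -/
def Bs : Subgroup (Perm (PtI I p a0)) := Subgroup.closure (Set.range (cyc p a0))

variable [Fintype I] [Fact p.Prime]

/-- the even part of the base group -/
def Bg : Subgroup (Perm (PtI I p a0)) := Bs p a0 ⊓ alternatingGroup (PtI I p a0)

variable (m' : ℕ)

/-- translation of the square by `(1, 0)` -/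
def vt1 : Perm (Pt p m' a0) :=
  lift p a0 (Equiv.sumCongr (Equiv.addRight (1 : ZMod p)) (Equiv.refl (Fin m')))

/-- translation of the square by `(0, 1)` -/
def vt2 : Perm (Pt p m' a0) :=
  blk p a0 1 (fun j => Sum.elim (fun _ => Equiv.addRight (1 : ZMod p)) (fun _ => 1) j)

theorem vt1_sq (a b : ZMod p) :
    vt1 p a0 m' (Sum.inl (Sum.inl a, b)) = Sum.inl (Sum.inl (a + 1), b) := rfl

theorem vt1_rest (i : Fin m') (b : ZMod p) :
    vt1 p a0 m' (Sum.inl (Sum.inr i, b)) = Sum.inl (Sum.inr i, b) := rfl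

theorem vt2_sq (a b : ZMod p) :
    vt2 p a0 m' (Sum.inl (Sum.inl a, b)) = Sum.inl (Sum.inl a, b + 1) := rfl

theorem vt2_rest (i : Fin m') (b : ZMod p) :
    vt2 p a0 m' (Sum.inl (Sum.inr i, b)) = Sum.inl (Sum.inr i, b) := rfl

/-- the regular elementary abelian group of translations of the square -/
def Vg : Subgroup (Perm (Pt p m' a0)) := Subgroup.closure {vt1 p a0 m', vt2 p a0 m'}

/-- the base group of the blocks outside the square -/
def Brest : Subgroup (Perm (Pt p m' a0)) :=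
  Subgroup.closure (Set.range (fun i : Fin m' => cyc p a0 (Sum.inr i : Idx p m')))

/-- the self-centralizing subgroup `V × B_rest` -/
def Rg : Subgroup (Perm (Pt p m' a0)) := Vg p a0 m' ⊔ Brest p a0 m'

/-- the `p`-group `⟨B, V⟩` -/
def Qg : Subgroup (Perm (Pt p m' a0)) := Bs p a0 ⊔ Vg p a0 m'

/-- the diagonal element `(a, b) ↦ (lam a, lam⁻¹ b)` of `SL₂(p)` acting on the square -/
def h0 (lam : (ZMod p)ˣ) : Perm (Pt p m' a0) :=
  blk p a0 (Equiv.sumCongr (Units.mulLeft lam) (Equiv.refl (Fin m')))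
    (fun j => Sum.elim (fun _ => Units.mulLeft lam⁻¹) (fun _ => 1) j)

theorem h0_sq (lam : (ZMod p)ˣ) (a b : ZMod p) :
    h0 p a0 m' lam (Sum.inl (Sum.inl a, b)) =
      Sum.inl (Sum.inl ((lam : ZMod p) * a), ((lam⁻¹ : (ZMod p)ˣ) : ZMod p) * b) := rfl

theorem h0_rest (lam : (ZMod p)ˣ) (i : Fin m') (b : ZMod p) :
    h0 p a0 m' lam (Sum.inl (Sum.inr i, b)) = Sum.inl (Sum.inr i, b) := rfl

theorem h0_inr (lam : (ZMod p)ˣ) (x : Fin a0) :
    h0 p a0 m' lam (Sum.inr x) = Sum.inr x := rfl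

/-! ### Two bundled predicates used by the leaves -/

/-- relative form of `AltCrit.BaseHyp`: everything happens in the subgroup `A` of `Ω` -/
def BaseHypIn {Ω : Type*} [Group Ω] (p : ℕ) (A S : Subgroup Ω) : Prop :=
  S ≤ A ∧ S ≠ ⊥ ∧
  (∀ T : Subgroup Ω, T ≤ S → T ≠ ⊥ →
      (∀ x ∈ T, ∀ g ∈ A, g * x * g⁻¹ ∈ S → g * x * g⁻¹ ∈ T) → T = S) ∧
  ∃ (B : Subgroup Ω) (X : Set Ω), B ≤ S ∧ X ⊆ A ∧
    (∀ g ∈ A, (∀ x ∈ B, g * x = x * g) → g ∈ B) ∧
    (∀ x ∈ X, x ∈ Subgroup.normalizer (B : Set Ω) ∧ ∃ P Q : Subgroup Ω, P ≤ Q ∧ B ≤ Q ∧ Q ≤ S ∧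
      (∀ g ∈ A, (∀ y ∈ P, g * y = y * g) → g ∈ P) ∧ x ∈ Subgroup.normalizer (Q : Set Ω) ∧
      x ∈ Subgroup.closure {g : Ω | g ∈ A ∧ g ∈ Subgroup.normalizer (P : Set Ω) ∧
        ∃ k : ℕ, orderOf g = p ^ k}) ∧
    ∀ n ∈ A, (∀ x ∈ S, n * x * n⁻¹ ∈ S) → n ∈ Subgroup.closure X

/-- a conjugation-closed family of `p`-elements of `A` whose intersection with every `p`-subgroup
of `A` is a subgroup -/
def ClosedFam {Ω : Type*} [Group Ω] (p : ℕ) (A : Subgroup Ω) (𝒯 : Set Ω) : Prop :=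
  (1 : Ω) ∈ 𝒯 ∧ (∀ y ∈ 𝒯, y ∈ A ∧ ∃ k : ℕ, orderOf y = p ^ k) ∧
  (∀ y ∈ 𝒯, ∀ g ∈ A, g * y * g⁻¹ ∈ 𝒯) ∧
  (∀ P : Subgroup Ω, IsPGroup p P → P ≤ A → ∀ y ∈ P, ∀ y' ∈ P, y ∈ 𝒯 → y' ∈ 𝒯 → y * y' ∈ 𝒯) ∧
  ∀ y ∈ 𝒯, ∀ k : ℕ, y ^ k ∈ 𝒯

end Cfsg.Agent.Lib.Helper87.AltF
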