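import Cfsg.Prelude.Def_FusionSystem

set_option autoImplicit false

namespace Cfsg.Agent.Lib.Helper87

open Cfsg

theorem pCore_normal (p : ℕ) (G : Type*) [Group G] : (pCore p G).Normal :=
  Subgroup.sSup_normal _ (fun _ h => h.1)

theorem pCore_isPGroup (p : ℕ) [Fact p.Prime] (G : Type*) [Group G] : IsPGroup p (pCore p G) := by
  unfold pCore
  exact Sylow.sSup_of_normal _ (fun _ h => h.2) (fun _ h => h.1)

theorem le_pCore {p : ℕ} {G : Type*} [Group G] {N : Subgroup G} (hN : N.Normal)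
    (hp : IsPGroup p N) : N ≤ pCore p G :=
  le_sSup ⟨hN, hp⟩

theorem pCore_map_le {p : ℕ} [Fact p.Prime] {G G' : Type*} [Group G] [Group G'] (e : G ≃* G') :
    (pCore p G).map e.toMonoidHom ≤ pCore p G' :=
  le_pCore ((pCore_normal p G).map e.toMonoidHom e.surjective)
    ((pCore_isPGroup p G).map e.toMonoidHom)

theorem pCore_map_equiv {p : ℕ} [Fact p.Prime] {G G' : Type*} [Group G] [Group G'] (e : G ≃* G') :
    (pCore p G).map e.toMonoidHom = pCore p G' := by
  apply le_antisymm (pCore_map_le e)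
  intro x hx
  have h := pCore_map_le (p := p) e.symm ⟨x, hx, rfl⟩
  exact ⟨_, h, by simp⟩

/-- Transport of the (embedded) `p`-core of a subgroup along an isomorphism of ambient groups. -/
theorem pCore_map_subtype_equiv {p : ℕ} [Fact p.Prime] {A A' : Type*} [Group A] [Group A']
    (Φ : A ≃* A') (H : Subgroup A) (H' : Subgroup A') (hH : H.map Φ.toMonoidHom = H') :
    ((pCore p H).map H.subtype).map Φ.toMonoidHom = (pCore p H').map H'.subtype := by
  subst hH
  have h1 : (pCore p H).map (Φ.subgroupMap H).toMonoidHom =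
      pCore p ↥(Subgroup.map Φ.toMonoidHom H) := pCore_map_equiv (p := p) (Φ.subgroupMap H)
  rw [← h1]
  ext x
  constructor
  · rintro ⟨_, ⟨h, hh, rfl⟩, rfl⟩
    exact ⟨_, ⟨h, hh, rfl⟩, rfl⟩
  · rintro ⟨_, ⟨h, hh, rfl⟩, rfl⟩
    exact ⟨_, ⟨h, hh, rfl⟩, rfl⟩

/-- `O_p(K) ∩ H ≤ O_p(H)` for `H ≤ K`, all embedded in an ambient group. -/
theorem pCore_inf_le {p : ℕ} [Fact p.Prime] {A : Type*} [Group A] {H K : Subgroup A} (hHK : H ≤ K) :
    (pCore p K).map K.subtype ⊓ H ≤ (pCore p H).map H.subtype := by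
  rintro x ⟨⟨k, hk, rfl⟩, hxH⟩
  let M : Subgroup H := (pCore p K).comap (Subgroup.inclusion hHK)
  have hMn : M.Normal := (pCore_normal p K).comap _
  have hMp : IsPGroup p M :=
    (pCore_isPGroup p K).comap_of_injective _ (Subgroup.inclusion_injective hHK)
  have hM : M ≤ pCore p H := le_pCore hMn hMp
  refine ⟨⟨K.subtype k, hxH⟩, hM ?_, rfl⟩
  show Subgroup.inclusion hHK ⟨K.subtype k, hxH⟩ ∈ pCore p K
  have : Subgroup.inclusion hHK ⟨K.subtype k, hxH⟩ = k := Subtype.ext rfl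
  rw [this]
  exact hk

end Cfsg.Agent.Lib.Helper87
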