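import Cfsg.Agent.Lib.Helper87.FusionBasic
import Cfsg.Agent.Lib.Helper87.PCore

set_option autoImplicit false

namespace Cfsg.Agent.Lib.Helper87

open Cfsg Cfsg.FusionSystem

variable {Ω : Type*} [Group Ω]

/-- `Aut_G(Q)`: the image of `N_G(Q)` in `Aut(Q)`. -/
def autN (Q : Subgroup Ω) : Subgroup (MulAut Q) := Q.normalizerMonoidHom.range

theorem normalizerMonoidHom_coe (Q : Subgroup Ω) (g : Subgroup.normalizer (Q : Set Ω)) (x : Q) :
    ((Q.normalizerMonoidHom g x : Q) : Ω) = (g : Ω) * x * (g : Ω)⁻¹ := rfl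

theorem mem_normalizer_of_aut (Q : Subgroup Ω) (α : MulAut Q) (g : Ω)
    (h : ∀ x : Q, ((α x : Q) : Ω) = g * x * g⁻¹) : g ∈ Subgroup.normalizer (Q : Set Ω) := by
  rw [Subgroup.mem_normalizer_iff]
  intro n
  constructor
  · intro hn
    rw [← h ⟨n, hn⟩]
    exact (α _).2
  · intro hn
    have h1 := h (α.symm ⟨g * n * g⁻¹, hn⟩)
    rw [MulEquiv.apply_symm_apply] at h1
    have h2 : n = ((α.symm ⟨g * n * g⁻¹, hn⟩ : Q) : Ω) := by
      have : g * n * g⁻¹ = g * ((α.symm ⟨g * n * g⁻¹, hn⟩ : Q) : Ω) * g⁻¹ := h1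
      exact mul_left_cancel (mul_right_cancel this)
    rw [h2]
    exact (α.symm _).2

theorem mem_autN_iff (Q : Subgroup Ω) (α : MulAut Q) :
    α ∈ autN Q ↔ ∃ g : Ω, ∀ x : Q, ((α x : Q) : Ω) = g * x * g⁻¹ := by
  constructor
  · rintro ⟨g, rfl⟩
    exact ⟨g, fun x => rfl⟩
  · rintro ⟨g, hg⟩
    refine ⟨⟨g, mem_normalizer_of_aut Q α g hg⟩, ?_⟩
    ext x
    rw [hg x]
    rfl

theorem groupFusion_autGroup_eq (P : Subgroup Ω) {Q : Subgroup Ω} (hQ : Q ≤ P) :
    (groupFusionSystem P).autGroup Q = autN Q := by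
  ext α
  rw [mem_autGroup_iff _ hQ, mem_autN_iff]
  constructor
  · rintro ⟨-, -, g, hg⟩
    exact ⟨g, hg⟩
  · rintro ⟨g, hg⟩
    exact ⟨hQ, fun x => hQ (α x).2, g, hg⟩

/-- The image of `x` in `G ⧸ K` lies in the `p`-core iff `f x` lies in the `p`-core of the range of `f`, when `K = ker f`. -/
theorem mk_mem_pCore_iff {p : ℕ} [Fact p.Prime] {G A : Type*} [Group G] [Group A] (f : G →* A)
    (K : Subgroup G) [hK : K.Normal] (h : f.ker = K) (x : G) :
    (QuotientGroup.mk x : G ⧸ K) ∈ pCore p (G ⧸ K) ↔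
      f x ∈ (pCore p f.range).map f.range.subtype := by
  subst h
  have h1 := pCore_map_equiv (p := p) (QuotientGroup.quotientKerEquivRange f)
  constructor
  · intro hx
    refine ⟨QuotientGroup.quotientKerEquivRange f (QuotientGroup.mk x), ?_, rfl⟩
    rw [← h1]
    exact ⟨_, hx, rfl⟩
  · rintro ⟨y, hy, hyx⟩
    rw [← h1] at hy
    obtain ⟨z, hz, rfl⟩ := hy
    have : z = QuotientGroup.mk x := by
      apply (QuotientGroup.quotientKerEquivRange f).injective
      apply Subtype.ext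
      exact hyx
    rwa [← this]

end Cfsg.Agent.Lib.Helper87
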