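import Cfsg.Agent.Lib.Helper87.Inner
import Cfsg.Agent.Lib.Helper87.GroupFusion

set_option autoImplicit false

namespace Cfsg.Agent.Lib.Helper87

open Cfsg Cfsg.FusionSystem

variable {Ω : Type*} [Group Ω] {S : Subgroup Ω}

/-! ### More on the extender -/

theorem self_le_extender (F : FusionSystem S) {P : Subgroup Ω} {φ : P →* Ω} (hφ : φ ∈ F.Hom P) :
    P ≤ extender S P φ := by
  intro g hg
  refine Subgroup.subset_closure ⟨hom_le F hφ hg, Subgroup.le_normalizer hg, φ ⟨g, hg⟩,
    hom_mem_S F hφ _, fun x hx => ?_⟩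
  have : (⟨g * x * g⁻¹, hx⟩ : P) = ⟨g, hg⟩ * x * ⟨g, hg⟩⁻¹ := Subtype.ext rfl
  rw [this, map_mul, map_mul, map_inv]

theorem centralizerIn_le_extender' (P : Subgroup Ω) (φ : P →* Ω) :
    centralizerIn S P ≤ extender S P φ := by
  intro g hg
  have hc : ∀ x : P, g * (x : Ω) * g⁻¹ = x := by
    intro x
    have := hg.2 x x.2
    calc g * (x : Ω) * g⁻¹ = (x : Ω) * g * g⁻¹ := by rw [this]
      _ = x := by group
  refine Subgroup.subset_closure ⟨hg.1, ?_, 1, S.one_mem, fun x hx => ?_⟩
  · rw [Subgroup.mem_normalizer_iff]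
    intro n
    constructor
    · intro hn
      have := hc ⟨n, hn⟩
      rw [show g * n * g⁻¹ = n from this]; exact hn
    · intro hn
      have h1 := hc ⟨g * n * g⁻¹, hn⟩
      have h2 : g * (g * n * g⁻¹) * g⁻¹ = g * n * g⁻¹ := h1
      have h3 : g * n * g⁻¹ = n := by
        have := mul_left_cancel (mul_right_cancel h2)
        exact this
      rw [← h3]; exact hn
  · have : (⟨g * x * g⁻¹, hx⟩ : P) = x := Subtype.ext (hc x)
    rw [this]; simp

theorem extend_to_sub (F : FusionSystem S) {P Q : Subgroup Ω} {φ : P →* Ω}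
    (hφ : φ ∈ F.Hom P) (hr : φ.range = Q) (hrec : F.IsReceptive Q) {M : Subgroup Ω}
    (hM : M ≤ extender S P φ) :
    ∃ ψ ∈ F.Hom M, ∀ (x : Ω) (hP : x ∈ P) (hx : x ∈ M), ψ ⟨x, hx⟩ = φ ⟨x, hP⟩ := by
  obtain ⟨ψ, hψ, hψe⟩ := hrec.2 P φ hφ hr
  exact ⟨ψ.comp (Subgroup.inclusion hM), restrict_mem F hψ hM, fun x hP hx => hψe x hP (hM hx)⟩

/-- A receptive subgroup containing its centralizer is centric. -/
theorem centric_of_receptive (F : FusionSystem S) {Q : Subgroup Ω} (hrec : F.IsReceptive Q)
    (hC : centralizerIn S Q ≤ Q) : F.IsCentric Q := by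
  refine ⟨hrec.1, fun Q' hc => ?_⟩
  obtain ⟨χ, hχ, hr⟩ := isConj_symm F hc
  have hQ' : Q' ≤ S := hom_le F hχ
  have hM : Q' ⊔ centralizerIn S Q' ≤ extender S Q' χ :=
    sup_le (self_le_extender F hχ) (centralizerIn_le_extender' Q' χ)
  obtain ⟨ψ, hψ, hψe⟩ := extend_to_sub F hχ hr hrec hM
  intro c hc
  have hcM : c ∈ Q' ⊔ centralizerIn S Q' := (le_sup_right : _ ≤ Q' ⊔ centralizerIn S Q') hc
  -- ψ c centralizes Q
  have h1 : ψ ⟨c, hcM⟩ ∈ centralizerIn S Q := by
    refine ⟨hom_mem_S F hψ _, ?_⟩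
    intro q hq
    rw [← hr] at hq
    obtain ⟨x, rfl⟩ := hq
    have hxM : (x : Ω) ∈ Q' ⊔ centralizerIn S Q' := (le_sup_left : Q' ≤ _) x.2
    rw [← hψe x x.2 hxM, ← map_mul, ← map_mul]
    congr 1
    apply Subtype.ext
    exact hc.2 x x.2
  have h2 := hC h1
  rw [← hr] at h2
  obtain ⟨x, hx⟩ := h2
  have hxM : (x : Ω) ∈ Q' ⊔ centralizerIn S Q' := (le_sup_left : Q' ≤ _) x.2
  rw [← hψe x x.2 hxM] at hx
  have := F.injective_of_mem hψ hx
  have e : (x : Ω) = c := congrArg Subtype.val this
  rw [← e]; exact x.2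

/-! ### `O_p(Aut_F(P))` -/

theorem inn_le_autInducedBy {P : Subgroup Ω} (hP : P ≤ S) : Inn P ≤ autInducedBy S P := by
  rintro _ ⟨x, rfl⟩
  exact (mem_autInducedBy_iff S P _).mpr ⟨x, hP x.2, fun y => rfl⟩

theorem inn_le_pCore {p : ℕ} [Fact p.Prime] (hS : IsPGroup p S) (F : FusionSystem S)
    {P : Subgroup Ω} (hP : P ≤ S) :
    Inn P ≤ (pCore p (F.autGroup P)).map (F.autGroup P).subtype := by
  have hle : Inn P ≤ F.autGroup P := (inn_le_autInducedBy hP).trans (autInducedBy_le_autGroup F hP)
  have hN : ((Inn P).subgroupOf (F.autGroup P)).Normal := Subgroup.Normal.subgroupOf inferInstance _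
  have hp : IsPGroup p ((Inn P).subgroupOf (F.autGroup P)) :=
    ((autInducedBy_isPGroup hS P).to_le (inn_le_autInducedBy hP)).comap_of_injective _
      (Subgroup.subtype_injective _)
  intro α hα
  exact ⟨⟨α, hle hα⟩, le_pCore hN hp (Subgroup.mem_subgroupOf.mpr hα), rfl⟩

theorem pCore_le_autS {p : ℕ} [Fact p.Prime] (F : FusionSystem S) {Q : Subgroup Ω}
    (hfa : F.IsFullyAutomized p Q) :
    (pCore p (F.autGroup Q)).map (F.autGroup Q).subtype ≤ autInducedBy S Q := by
  obtain ⟨-, R, hR⟩ := hfa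
  rintro _ ⟨x, hx, rfl⟩
  have := pCore_normal p (F.autGroup Q)
  have h1 : pCore p (F.autGroup Q) ≤ R := (pCore_isPGroup p _).le_sylow_of_normal R
  have h2 := h1 hx
  have h3 : x ∈ (R : Subgroup (F.autGroup Q)) := h2
  rw [hR] at h3
  exact Subgroup.mem_subgroupOf.mp h3

/-! ### Alperin subgroups and generation -/

/-- Alperin subgroups: fully automized, receptive, centric and radical. -/
def IsAlperin (F : FusionSystem S) (p : ℕ) (R : Subgroup Ω) : Prop :=
  F.IsFullyAutomized p R ∧ F.IsReceptive R ∧ F.IsCentric R ∧ F.IsRadical p R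

/-- Maps generated by restrictions of automorphisms of Alperin subgroups. -/
inductive AlpGen (F : FusionSystem S) (p : ℕ) : (P : Subgroup Ω) → (P →* Ω) → Prop
  | aut {P R : Subgroup Ω} (hR : IsAlperin F p R) (α : MulAut R) (hα : α ∈ F.autGroup R)
      (hPR : P ≤ R) :
      AlpGen F p P ((R.subtype.comp α.toMonoidHom).comp (Subgroup.inclusion hPR))
  | comp {P Q : Subgroup Ω} {φ : P →* Ω} {ψ : Q →* Ω} (hφ : AlpGen F p P φ)
      (hψ : AlpGen F p Q ψ) (h : ∀ x : P, φ x ∈ Q) :
      AlpGen F p P (ψ.comp (φ.codRestrict Q h))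

theorem AlpGen.mem_hom {F : FusionSystem S} {p : ℕ} {P : Subgroup Ω} {φ : P →* Ω}
    (h : AlpGen F p P φ) : φ ∈ F.Hom P := by
  induction h with
  | aut hR α hα hPR =>
    exact restrict_mem F ((mem_autGroup_iff F hR.1.1 α).mp hα) hPR
  | comp _ _ h ih1 ih2 => exact F.comp_mem ih1 ih2 h

theorem AlpGen.restrict {F : FusionSystem S} {p : ℕ} {P : Subgroup Ω} {φ : P →* Ω}
    (h : AlpGen F p P φ) : ∀ {P' : Subgroup Ω} (hP' : P' ≤ P),
    AlpGen F p P' (φ.comp (Subgroup.inclusion hP')) := by
  induction h with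
  | aut hR α hα hPR =>
    intro P' hP'
    exact AlpGen.aut hR α hα (hP'.trans hPR)
  | @comp P Q φ ψ _ hψ h ih1 _ =>
    intro P' hP'
    have := AlpGen.comp (ih1 hP') hψ (fun x => h _)
    exact this

/-- Variant of `comp` with an explicit target equation. -/
theorem AlpGen.comp' {F : FusionSystem S} {p : ℕ} {P Q : Subgroup Ω} {φ : P →* Ω} {ψ : Q →* Ω}
    (hφ : AlpGen F p P φ) (hψ : AlpGen F p Q ψ) (h : ∀ x : P, φ x ∈ Q) {χ : P →* Ω}
    (hχ : ∀ x : P, χ x = ψ ⟨φ x, h x⟩) : AlpGen F p P χ := by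
  have : χ = ψ.comp (φ.codRestrict Q h) := by
    ext x; exact hχ x
  rw [this]
  exact AlpGen.comp hφ hψ h

theorem AlpGen.inv {F : FusionSystem S} {p : ℕ} {P : Subgroup Ω} {φ : P →* Ω}
    (h : AlpGen F p P φ) :
    ∃ ψ : φ.range →* Ω, AlpGen F p φ.range ψ ∧ ∀ x : P, ψ ⟨φ x, ⟨x, rfl⟩⟩ = x := by
  induction h with
  | @aut P R hR α hα hPR =>
    have hle : ((R.subtype.comp α.toMonoidHom).comp (Subgroup.inclusion hPR)).range ≤ R := by
      rintro _ ⟨x, rfl⟩
      exact (α _).2
    refine ⟨_, AlpGen.aut hR α⁻¹ ((F.autGroup R).inv_mem hα) hle, fun x => ?_⟩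
    show ((α⁻¹ ⟨((α (Subgroup.inclusion hPR x) : R) : Ω), _⟩ : R) : Ω) = x
    have h2 : α⁻¹ (α (Subgroup.inclusion hPR x)) = Subgroup.inclusion hPR x := by
      show α.symm (α _) = _
      simp
    have h3 : ((α⁻¹ ⟨((α (Subgroup.inclusion hPR x) : R) : Ω), (α _).2⟩ : R) : Ω) =
        ((α⁻¹ (α (Subgroup.inclusion hPR x)) : R) : Ω) := rfl
    rw [h3, h2]
    rfl
  | @comp P Q φ ψ _ _ h ih1 ih2 =>
    obtain ⟨φi, hφi, hφinv⟩ := ih1
    obtain ⟨ψi, hψi, hψinv⟩ := ih2
    have hle : (ψ.comp (φ.codRestrict Q h)).range ≤ ψ.range := by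
      rintro _ ⟨x, rfl⟩
      exact ⟨_, rfl⟩
    have hmaps : ∀ y : (ψ.comp (φ.codRestrict Q h)).range,
        (ψi.comp (Subgroup.inclusion hle)) y ∈ φ.range := by
      rintro ⟨_, x, rfl⟩
      show ψi ⟨ψ ⟨φ x, h x⟩, _⟩ ∈ φ.range
      rw [hψinv ⟨φ x, h x⟩]
      exact ⟨x, rfl⟩
    refine ⟨_, AlpGen.comp (hψi.restrict hle) hφi hmaps, fun x => ?_⟩
    show φi ⟨ψi ⟨ψ ⟨φ x, h x⟩, _⟩, _⟩ = x
    rw [← hφinv x]
    congr 1
    exact Subtype.ext (hψinv ⟨φ x, h x⟩)

/-! ### `S` itself is an Alperin subgroup -/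

theorem eq_top_of_isConj_top [Finite S] (F : FusionSystem S) {Q : Subgroup Ω}
    (h : F.IsConj S Q) : Q = S :=
  Subgroup.eq_of_le_of_card_ge (isConj_le_right F h) (card_eq_of_isConj F h).le

theorem autInducedBy_top_le_inn : autInducedBy S S ≤ Inn S := by
  intro α hα
  obtain ⟨g, hg, hα⟩ := (mem_autInducedBy_iff S S α).mp hα
  refine ⟨⟨g, hg⟩, ?_⟩
  ext x
  rw [hα x]
  rfl

theorem top_isAlperin [Finite S] {p : ℕ} [Fact p.Prime] (hS : IsPGroup p S) (F : FusionSystem S)
    (hF : F.IsSaturated p) : IsAlperin F p S := by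
  obtain ⟨Q, hc, hfa, hrec⟩ := hF S le_rfl
  have hQ : Q = S := eq_top_of_isConj_top F hc
  subst hQ
  refine ⟨hfa, hrec, ⟨le_rfl, fun Q' hc' => ?_⟩, le_rfl, ?_⟩
  · rw [eq_top_of_isConj_top F hc']
    exact inf_le_left
  · apply le_antisymm
    · exact (pCore_le_autS F hfa).trans autInducedBy_top_le_inn
    · exact inn_le_pCore hS F le_rfl

/-! ### Alperin's fusion theorem -/

/-- **Alperin's fusion theorem** (centric radical version): in a saturated fusion system over a
finite `p`-group every map is a composite of restrictions of automorphisms of fully automized,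
receptive, centric, radical subgroups. -/
theorem alperin [Finite S] {p : ℕ} [Fact p.Prime] (hS : IsPGroup p S) (F : FusionSystem S)
    (hF : F.IsSaturated p) :
    ∀ (P : Subgroup Ω) (φ : P →* Ω), φ ∈ F.Hom P → AlpGen F p P φ := by
  have key : ∀ n : ℕ, ∀ (P : Subgroup Ω), Nat.card S - Nat.card P = n → ∀ (φ : P →* Ω),
      φ ∈ F.Hom P → AlpGen F p P φ := by
    intro n
    induction n using Nat.strong_induction_on with
    | _ n ih =>
    intro P hn φ hφ
    have hP : P ≤ S := hom_le F hφ
    have hfinP : Finite P := finite_of_le hP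
    by_cases hPS : P = S
    · -- top case
      have hr : φ.range = P := by
        apply Subgroup.eq_of_le_of_card_ge
        · exact (range_le F hφ).trans hPS.ge
        · exact (card_eq_of_isConj F ⟨φ, hφ, rfl⟩).le
      let α : MulAut P := isoOfHom φ (F.injective_of_mem hφ) hr
      have hα : α ∈ F.autGroup P := by
        rw [mem_autGroup_iff F hP]
        have : P.subtype.comp α.toMonoidHom = φ := by
          ext x; rfl
        rw [this]; exact hφ
      have hA : IsAlperin F p P := hPS ▸ top_isAlperin hS F hF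
      have := AlpGen.aut hA α hα le_rfl
      have e : (P.subtype.comp α.toMonoidHom).comp (Subgroup.inclusion le_rfl) = φ := by
        ext x; rfl
      rwa [e] at this
    · -- proper case
      obtain ⟨Q, ⟨χ₀, hχ₀, hr₀⟩, hfa, hrec⟩ := hF P hP
      have hQ : Q ≤ S := hfa.1
      have hfinQ : Finite Q := finite_of_le hQ
      have hcardQ : Nat.card Q = Nat.card P := (card_eq_of_isConj F ⟨χ₀, hχ₀, hr₀⟩).symm
      have hcardPS : Nat.card P < Nat.card S := by
        by_contra hcon
        exact hPS (Subgroup.eq_of_le_of_card_ge hP (not_lt.mp hcon))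
      have big : ∀ M : Subgroup Ω, M ≤ S → Nat.card P < Nat.card M → ∀ ψ : M →* Ω,
          ψ ∈ F.Hom M → AlpGen F p M ψ := by
        intro M hM hlt ψ hψ
        have hfinM : Finite M := finite_of_le hM
        have hle : Nat.card M ≤ Nat.card S := Subgroup.card_le_of_le hM
        exact ih (Nat.card S - Nat.card M) (by omega) M rfl ψ hψ
      -- Claim 2: automorphisms of Q are generated
      have claim2 : ∀ α : MulAut Q, α ∈ F.autGroup Q →
          AlpGen F p Q (Q.subtype.comp α.toMonoidHom) := by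
        intro α hα
        have hα' := (mem_autGroup_iff F hQ α).mp hα
        have hrα : (Q.subtype.comp α.toMonoidHom).range = Q := by
          apply le_antisymm
          · rintro _ ⟨x, rfl⟩; exact (α x).2
          · intro x hx
            exact ⟨α.symm ⟨x, hx⟩, by simp⟩
        -- general reduction: a strictly larger M inside the extender suffices
        have reduce : ∀ M : Subgroup Ω, M ≤ S → M ≤ extender S Q (Q.subtype.comp α.toMonoidHom) →
            Q ≤ M → Nat.card Q < Nat.card M → AlpGen F p Q (Q.subtype.comp α.toMonoidHom) := by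
          intro M hMS hMe hQM hlt
          obtain ⟨ψ, hψ, hψe⟩ := extend_to_sub F hα' hrα hrec hMe
          have h1 := big M hMS (hcardQ ▸ hlt) ψ hψ
          have h2 := h1.restrict hQM
          have e : ψ.comp (Subgroup.inclusion hQM) = Q.subtype.comp α.toMonoidHom := by
            ext x
            exact hψe x x.2 (hQM x.2)
          rwa [e] at h2
        by_cases hcen : centralizerIn S Q ≤ Q
        · have hcentric := centric_of_receptive F hrec hcen
          by_cases hrad : F.IsRadical p Q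
          · have := AlpGen.aut ⟨hfa, hrec, hcentric, hrad⟩ α hα le_rfl
            have e : (Q.subtype.comp α.toMonoidHom).comp (Subgroup.inclusion le_rfl) =
                Q.subtype.comp α.toMonoidHom := by
              ext x; rfl
            rwa [e] at this
          · -- not radical
            set K := (pCore p (F.autGroup Q)).map (F.autGroup Q).subtype with hK
            have hInnK : Inn Q ≤ K := inn_le_pCore hS F hQ
            have hKS : K ≤ autInducedBy S Q := pCore_le_autS F hfa
            have hKne : ¬ K ≤ Inn Q := fun hle => hrad ⟨hQ, le_antisymm hle hInnK⟩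
            have hKnormal : ∀ k ∈ K, α * k * α⁻¹ ∈ K := by
              rintro _ ⟨k, hk, rfl⟩
              have hn := pCore_normal p (F.autGroup Q)
              have := hn.conj_mem k hk ⟨α, hα⟩
              exact ⟨_, this, rfl⟩
            let f : ↥(normalizerIn S Q) →* MulAut Q :=
              Q.normalizerMonoidHom.comp (Subgroup.inclusion inf_le_right)
            let M : Subgroup Ω := (K.comap f).map (normalizerIn S Q).subtype
            have hMS : M ≤ S := by
              rintro _ ⟨g, -, rfl⟩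
              exact g.2.1
            have hMe : M ≤ extender S Q (Q.subtype.comp α.toMonoidHom) := by
              rintro _ ⟨g, hg, rfl⟩
              have hgK : f g ∈ K := hg
              obtain ⟨h, hh, hconj⟩ := (mem_autInducedBy_iff S Q _).mp (hKS (hKnormal _ hgK))
              refine Subgroup.subset_closure ⟨g.2.1, g.2.2, h, hh, fun x hx => ?_⟩
              have h1 := hconj (α x)
              have h2 : (α * f g * α⁻¹) (α x) = α (f g x) := by
                simp [MulAut.mul_apply]
              rw [h2] at h1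
              exact h1
            have hQM : Q ≤ M := by
              intro g hg
              refine ⟨⟨g, le_normalizerIn hQ hg⟩, ?_, rfl⟩
              apply hInnK
              refine ⟨⟨g, hg⟩, ?_⟩
              ext x
              rfl
            have hlt : Nat.card Q < Nat.card M := by
              have hfinM : Finite M := finite_of_le hMS
              by_contra hcon
              have hMQ : Q = M := Subgroup.eq_of_le_of_card_ge hQM (not_lt.mp hcon)
              apply hKne
              intro k hk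
              obtain ⟨g, hg, hkg⟩ := (mem_autInducedBy_iff S Q k).mp (hKS hk)
              have hgN := mem_normalizer_of_aut Q k g hkg
              have hfg : f ⟨g, hg, hgN⟩ = k := by
                ext x
                rw [hkg x]; rfl
              have hgM : g ∈ M := ⟨⟨g, hg, hgN⟩, by show f _ ∈ K; rw [hfg]; exact hk, rfl⟩
              rw [← hMQ] at hgM
              refine ⟨⟨g, hgM⟩, ?_⟩
              ext x
              rw [hkg x]; rfl
            exact reduce M hMS hMe hQM hlt
        · -- not centric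
          let M : Subgroup Ω := Q ⊔ centralizerIn S Q
          have hMS : M ≤ S := sup_le hQ (centralizerIn_le S Q)
          have hMe : M ≤ extender S Q (Q.subtype.comp α.toMonoidHom) :=
            sup_le (self_le_extender F hα') (centralizerIn_le_extender' Q _)
          have hQM : Q ≤ M := le_sup_left
          have hlt : Nat.card Q < Nat.card M := by
            have hfinM : Finite M := finite_of_le hMS
            by_contra hcon
            have hMQ : Q = M := Subgroup.eq_of_le_of_card_ge hQM (not_lt.mp hcon)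
            apply hcen
            intro c hc
            rw [hMQ]
            exact (le_sup_right : centralizerIn S Q ≤ M) hc
          exact reduce M hMS hMe hQM hlt
      -- Step 1: maps onto Q are generated
      have step1 : ∀ (R : Subgroup Ω) (χ : R →* Ω), χ ∈ F.Hom R → χ.range = Q →
          AlpGen F p R χ := by
        intro R χ hχ hr
        have hR : R ≤ S := hom_le F hχ
        have hcardR : Nat.card R = Nat.card P :=
          (card_eq_of_isConj F ⟨χ, hχ, hr⟩).trans hcardQ
        have hRS : R ≠ S := by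
          intro h
          rw [h] at hcardR
          omega
        obtain ⟨β, hβ, ψ, hψ, hψe⟩ := exists_extension_normalizer hS F hχ hr hfa hrec
        have hlt := card_lt_card_normalizerIn hS hR hRS
        have h1 := big (normalizerIn S R) (normalizerIn_le S R) (hcardR ▸ hlt) ψ hψ
        have h2 := h1.restrict (le_normalizerIn hR)
        have h3 := claim2 β⁻¹ ((F.autGroup Q).inv_mem hβ)
        have hmaps : ∀ x : R, χ x ∈ Q := fun x => hr.le ⟨x, rfl⟩
        have hmaps' : ∀ x : R, (ψ.comp (Subgroup.inclusion (le_normalizerIn hR))) x ∈ Q := by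
          intro x
          have := hψe x (le_normalizerIn hR x.2) (hmaps x)
          show ψ ⟨x, _⟩ ∈ Q
          rw [this]
          exact (β _).2
        refine AlpGen.comp' h2 h3 hmaps' (fun x => ?_)
        have h4 := hψe x (le_normalizerIn hR x.2) (hmaps x)
        show χ x = ((β⁻¹ ⟨ψ ⟨x, _⟩, _⟩ : Q) : Ω)
        have h5 : (⟨ψ ⟨x, le_normalizerIn hR x.2⟩, hmaps' x⟩ : Q) = β ⟨χ x, hmaps x⟩ :=
          Subtype.ext h4
        rw [h5]
        have h6 : β⁻¹ (β ⟨χ x, hmaps x⟩) = ⟨χ x, hmaps x⟩ := by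
          show β.symm (β _) = _
          simp
        rw [h6]
      -- Step 3: assemble
      obtain ⟨ψ, hψ, hinv, hψr⟩ := inv_exists F hφ rfl
      have hm1 : ∀ y : φ.range, ψ y ∈ P := fun y => by
        have : ψ y ∈ ψ.range := ⟨y, rfl⟩
        exact hψr.le this
      have hχ₁ := F.comp_mem hψ hχ₀ hm1
      have hχ₁x : ∀ x : P, (χ₀.comp (ψ.codRestrict P hm1)) ⟨φ x, x, rfl⟩ = χ₀ x := by
        intro x
        show χ₀ ⟨ψ ⟨φ x, _⟩, _⟩ = χ₀ x
        congr 1
        exact Subtype.ext (hinv x ⟨x, rfl⟩)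
      have hr₁ : (χ₀.comp (ψ.codRestrict P hm1)).range = Q := by
        apply le_antisymm
        · rintro _ ⟨y, rfl⟩
          rw [← hr₀]
          exact ⟨_, rfl⟩
        · intro q hq
          rw [← hr₀] at hq
          obtain ⟨x, rfl⟩ := hq
          exact ⟨⟨φ x, x, rfl⟩, hχ₁x x⟩
      have g0 := step1 P χ₀ hχ₀ hr₀
      have g1 := step1 φ.range _ hχ₁ hr₁
      obtain ⟨θ, hθ, hθinv⟩ := g1.inv
      have hmaps : ∀ x : P, χ₀ x ∈ (χ₀.comp (ψ.codRestrict P hm1)).range := by
        intro x
        exact ⟨⟨φ x, x, rfl⟩, hχ₁x x⟩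
      refine AlpGen.comp' g0 hθ hmaps (fun x => ?_)
      have h1 := hθinv ⟨φ x, x, rfl⟩
      have h2 : (⟨χ₀ x, hmaps x⟩ : (χ₀.comp (ψ.codRestrict P hm1)).range) =
          ⟨(χ₀.comp (ψ.codRestrict P hm1)) ⟨φ x, x, rfl⟩, ⟨_, rfl⟩⟩ :=
        Subtype.ext (hχ₁x x).symm
      rw [h2, h1]
  intro P φ hφ
  exact key _ P rfl φ hφ

end Cfsg.Agent.Lib.Helper87
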