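import Cfsg.Agent.Lib.Helper87.AutSystem
import Cfsg.Agent.Lib.Helper87.Inner
import Cfsg.Agent.Lib.Helper87.NormalizerSystem

set_option autoImplicit false
open Cfsg Cfsg.FusionSystem

namespace Cfsg.Agent.Lib.Helper87

variable {Ω : Type*} [Group Ω] {S : Subgroup Ω}

theorem pow_mem_of_mem_sup_zpowers {G : Type*} [Group G] (N : Subgroup G) [N.Normal] {b : G}
    {q : ℕ} (hb : b ^ q ∈ N) : ∀ a ∈ N ⊔ Subgroup.zpowers b, a ^ q ∈ N := by
  intro a ha
  have hle : N ⊔ Subgroup.zpowers b ≤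
      (Subgroup.zpowers (QuotientGroup.mk' N b)).comap (QuotientGroup.mk' N) := by
    refine sup_le ?_ ?_
    · intro n hn
      rw [Subgroup.mem_comap]
      have : QuotientGroup.mk' N n = 1 := (QuotientGroup.eq_one_iff n).mpr hn
      rw [this]; exact Subgroup.one_mem _
    · rw [Subgroup.zpowers_le]
      exact Subgroup.mem_zpowers _
  obtain ⟨k, hk⟩ := Subgroup.mem_zpowers_iff.mp (hle ha)
  have : QuotientGroup.mk' N (a ^ q) = 1 := by
    have hb' : QuotientGroup.mk' N (b ^ q) = 1 := (QuotientGroup.eq_one_iff _).mpr hb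
    rw [map_pow, ← hk, ← zpow_natCast, ← zpow_mul, mul_comm, zpow_mul, zpow_natCast, ← map_pow,
      hb', one_zpow]
  exact (QuotientGroup.eq_one_iff _).mp this

/-- A non-inner saturated fusion system has an automorphism of prime order `q ≠ p` on some subgroup. -/
theorem exists_prime_order_aut [Finite S] {p : ℕ} [Fact p.Prime] (hS : IsPGroup p S)
    (F : FusionSystem S) (hF : F.IsSaturated p)
    (hne : ¬ ∀ P : Subgroup Ω, F.Hom P = (innerFusionSystem S).Hom P) :
    ∃ (P : Subgroup Ω) (q : ℕ) (β : MulAut P), P ≤ S ∧ q.Prime ∧ q ≠ p ∧ β ∈ F.autGroup P ∧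
      orderOf β = q := by
  have h1 : ∃ P : Subgroup Ω, P ≤ S ∧ ¬ IsPGroup p (F.autGroup P) := by
    by_contra hcon
    push Not at hcon
    exact hne (eq_inner_of_autGroups_pGroups hS F hF hcon)
  obtain ⟨P, hPS, hnp⟩ := h1
  have : Finite P := finite_of_le hPS
  have h2 : ∃ q : ℕ, q.Prime ∧ q ∣ Nat.card (F.autGroup P) ∧ q ≠ p := by
    by_contra hcon
    push Not at hcon
    apply hnp
    rw [IsPGroup.iff_card]
    exact ⟨_, Nat.eq_prime_pow_of_unique_prime_dvd Nat.card_pos.ne'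
      (fun {d} hd hdvd => hcon d hd hdvd)⟩
  obtain ⟨q, hq, hdvd, hqp⟩ := h2
  have : Fact q.Prime := ⟨hq⟩
  obtain ⟨β, hβ⟩ := exists_prime_orderOf_dvd_card' q hdvd
  exact ⟨P, q, (β : MulAut P), hPS, hq, hqp, β.2, by rw [Subgroup.orderOf_coe]; exact hβ⟩

/-- The saturated subsystem generated by an automorphism of prime order `q ≠ p`. -/
theorem autSystem_prime [Finite S] {p : ℕ} [Fact p.Prime] (hS : IsPGroup p S)
    (F : FusionSystem S) {P : Subgroup Ω} (hP : P ≤ S) {q : ℕ} (hq : q.Prime) (hqp : q ≠ p)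
    {β : MulAut P} (hβ : β ∈ F.autGroup P) (hord : orderOf β = q) :
    (autSystem P (Inn P ⊔ Subgroup.zpowers β) le_sup_left).IsSaturated p ∧
    (autSystem P (Inn P ⊔ Subgroup.zpowers β) le_sup_left).IsSubsystemOf F ∧
    ¬ ∀ R : Subgroup Ω, (autSystem P (Inn P ⊔ Subgroup.zpowers β) le_sup_left).Hom R =
      (innerFusionSystem P).Hom R := by
  have : Finite P := finite_of_le hP
  have hPp : IsPGroup p P := hS.to_le hP
  have hpp : p.Prime := Fact.out
  refine ⟨?_, ?_, ?_⟩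
  · refine autSystem_isSaturated hPp _ _ q ((Nat.coprime_primes hq hpp).mpr hqp) ?_
    apply pow_mem_of_mem_sup_zpowers
    rw [← hord, pow_orderOf_eq_one]
    exact Subgroup.one_mem _
  · intro R φ hφ
    obtain ⟨hR, α, hα, h⟩ := hφ
    have hle : Inn P ⊔ Subgroup.zpowers β ≤ F.autGroup P :=
      sup_le ((inn_le_autInducedBy hP).trans (autInducedBy_le_autGroup F hP))
        ((Subgroup.zpowers_le).mpr hβ)
    have h1 := restrict_mem F ((mem_autGroup_iff F hP α).mp (hle hα)) hR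
    have e : φ = (P.subtype.comp α.toMonoidHom).comp (Subgroup.inclusion hR) := by
      ext x; exact h x
    rw [e]; exact h1
  · intro hcon
    have h1 : P.subtype.comp β.toMonoidHom ∈
        (autSystem P (Inn P ⊔ Subgroup.zpowers β) le_sup_left).Hom P :=
      ⟨le_rfl, β, Subgroup.mem_sup_right (Subgroup.mem_zpowers β), fun x => rfl⟩
    rw [hcon P] at h1
    obtain ⟨-, g, hg, h⟩ := h1
    obtain ⟨k, hk⟩ := hPp ⟨g, hg⟩
    have e : β = MulAut.conj (⟨g, hg⟩ : P) := by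
      ext x
      exact h x
    have h2 : β ^ (p ^ k) = 1 := by
      rw [e, ← map_pow, hk, map_one]
    have h3 : q ∣ p ^ k := hord ▸ orderOf_dvd_of_pow_eq_one h2
    exact hqp ((Nat.prime_dvd_prime_iff_eq hq hpp).mp (hq.dvd_of_dvd_pow h3))


/-- Coprime action: an automorphism of order prime to `p` of a `p`-group that fixes all the
commutators `x⁻¹ β(x)` is trivial. -/
theorem aut_eq_one_of_fixes_comm {G : Type*} [Group G] {p : ℕ} [Fact p.Prime] (hG : IsPGroup p G)
    (β : MulAut G) {q : ℕ} (hq : q.Coprime p) (hβq : β ^ q = 1)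
    (hfix : ∀ x : G, β (x⁻¹ * β x) = x⁻¹ * β x) : β = 1 := by
  ext x
  show β x = x
  have key : ∀ k : ℕ, (β ^ k) x = x * (x⁻¹ * β x) ^ k := by
    intro k
    induction k with
    | zero => simp
    | succ k ih =>
      rw [pow_succ', MulAut.mul_apply, ih, map_mul, map_pow, hfix x, pow_succ', ← mul_assoc x,
        ← mul_assoc x, mul_inv_cancel, one_mul]
  have h1 := key q
  rw [hβq] at h1
  have h2 : (x⁻¹ * β x) ^ q = 1 := by
    have : x = x * (x⁻¹ * β x) ^ q := h1
    exact (mul_eq_left.mp this.symm)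
  obtain ⟨m, hm⟩ := hG (x⁻¹ * β x)
  have h3 : orderOf (x⁻¹ * β x) ∣ Nat.gcd q (p ^ m) :=
    Nat.dvd_gcd (orderOf_dvd_of_pow_eq_one h2) (orderOf_dvd_of_pow_eq_one hm)
  have h4 : Nat.gcd q (p ^ m) = 1 := Nat.Coprime.pow_right m hq
  rw [h4] at h3
  have h5 : x⁻¹ * β x = 1 := orderOf_eq_one_iff.mp (Nat.dvd_one.mp h3)
  exact (inv_mul_eq_one.mp h5).symm

/-- Restriction of an automorphism to an invariant finite subgroup. -/
theorem exists_restrict_aut {P R : Subgroup Ω} [Finite R] (hR : R ≤ P) (α : MulAut P)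
    (h : ∀ x : R, ((α ⟨x, hR x.2⟩ : P) : Ω) ∈ R) :
    ∃ γ : MulAut R, ∀ x : R, ((γ x : R) : Ω) = ((α ⟨x, hR x.2⟩ : P) : Ω) := by
  let f : R →* R := ((P.subtype.comp α.toMonoidHom).comp (Subgroup.inclusion hR)).codRestrict R h
  have hinj : Function.Injective f := by
    intro a b hab
    have h1 : ((α ⟨a, hR a.2⟩ : P) : Ω) = ((α ⟨b, hR b.2⟩ : P) : Ω) :=
      congrArg (fun z : R => (z : Ω)) hab
    have h2 : (⟨(a : Ω), hR a.2⟩ : P) = ⟨(b : Ω), hR b.2⟩ := α.injective (Subtype.ext h1)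
    exact Subtype.ext (congrArg (fun z : P => (z : Ω)) h2)
  have hbij : Function.Bijective f := ⟨hinj, Finite.injective_iff_surjective.mp hinj⟩
  exact ⟨MulEquiv.ofBijective f hbij, fun x => rfl⟩

/-- Structure of an extremely sparse system, second half: `F` is the restriction system of
`Inn(S)⟨β⟩` with `β` of prime order `q ≠ p`. -/
theorem sparse_structure [Finite S] {p : ℕ} [Fact p.Prime] (hS : IsPGroup p S)
    (F : FusionSystem S)
    (hsp : ∀ (T : Subgroup Ω) (E : FusionSystem T), E.IsSaturated p → E.IsSubsystemOf F →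
      (T = S ∧ ∀ P : Subgroup Ω, E.Hom P = F.Hom P) ∨
        (∀ P : Subgroup Ω, E.Hom P = (innerFusionSystem T).Hom P))
    {q : ℕ} (hq : q.Prime) (hqp : q ≠ p) {β : MulAut S} (hβ : β ∈ F.autGroup S)
    (hord : orderOf β = q)
    (hEq : ∀ R : Subgroup Ω,
      (autSystem S (Inn S ⊔ Subgroup.zpowers β) le_sup_left).Hom R = F.Hom R) :
    F.IsNormal S ∧ F.focalSubgroup = S ∧ F.hyperfocalSubgroup p = S ∧
      (F.autGroup S : Subgroup (MulAut S)) = Inn S ⊔ Subgroup.zpowers β := by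
  have hpp : p.Prime := Fact.out
  have hcop : q.Coprime p := (Nat.coprime_primes hq hpp).mpr hqp
  -- the commutator subgroup [S, β]
  let T₁ : Subgroup S := Subgroup.closure {y : S | ∃ x : S, y = x⁻¹ * β x}
  have hT₁inv : ∀ t ∈ T₁, β t ∈ T₁ := by
    intro t ht
    have hle : T₁ ≤ T₁.comap β.toMonoidHom := by
      rw [Subgroup.closure_le]
      rintro _ ⟨x, rfl⟩
      show β (x⁻¹ * β x) ∈ T₁
      rw [map_mul, map_inv]
      exact Subgroup.subset_closure ⟨β x, rfl⟩
    exact hle ht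
  let T₀ : Subgroup Ω := T₁.map S.subtype
  have hT₀S : T₀ ≤ S := by
    rintro _ ⟨t, -, rfl⟩
    exact t.2
  have hT₀mem : ∀ x : S, (x : Ω) ∈ T₀ ↔ x ∈ T₁ := by
    intro x
    constructor
    · rintro ⟨t, ht, hte⟩
      have : t = x := Subtype.ext hte
      exact this ▸ ht
    · intro hx
      exact ⟨x, hx, rfl⟩
  have : Finite T₀ := finite_of_le hT₀S
  have hT₀inv : ∀ x : T₀, ((β ⟨x, hT₀S x.2⟩ : S) : Ω) ∈ T₀ := by
    intro x
    rw [hT₀mem]
    exact hT₁inv _ ((hT₀mem _).mp x.2)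
  obtain ⟨β₁, hβ₁⟩ := exists_restrict_aut hT₀S β hT₀inv
  have hβ₁F : β₁ ∈ F.autGroup T₀ := by
    rw [mem_autGroup_iff F hT₀S]
    have h1 := restrict_mem F ((mem_autGroup_iff F le_rfl β).mp hβ) hT₀S
    have e : T₀.subtype.comp β₁.toMonoidHom =
        (S.subtype.comp β.toMonoidHom).comp (Subgroup.inclusion hT₀S) := by
      ext x; exact hβ₁ x
    rw [e]; exact h1
  have hβ₁q : β₁ ^ q = 1 := by
    ext x
    rw [res_pow hT₀S hβ₁ q x, ← hord, pow_orderOf_eq_one]
    rfl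
  have hβ₁ne : β₁ ≠ 1 := by
    intro h1
    have hβ1 : β = 1 := by
      refine aut_eq_one_of_fixes_comm hS β hcop (hord ▸ pow_orderOf_eq_one β) (fun x => ?_)
      have hx : ((x⁻¹ * β x : S) : Ω) ∈ T₀ :=
        (hT₀mem _).mpr (Subgroup.subset_closure ⟨x, rfl⟩)
      have h2 := hβ₁ ⟨_, hx⟩
      rw [h1] at h2
      exact Subtype.ext h2.symm
    rw [hβ1, orderOf_one] at hord
    exact hq.one_lt.ne hord
  have hord₁ : orderOf β₁ = q := by
    rcases (Nat.dvd_prime hq).mp (orderOf_dvd_of_pow_eq_one hβ₁q) with h | h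
    · exact absurd (orderOf_eq_one_iff.mp h) hβ₁ne
    · exact h
  obtain ⟨hsat, hsub, hni⟩ := autSystem_prime hS F hT₀S hq hqp hβ₁F hord₁
  have hT₀eq : T₀ = S := by
    rcases hsp T₀ _ hsat hsub with ⟨h, -⟩ | h
    · exact h
    · exact absurd h hni
  have hST₁ : ∀ x : S, x ∈ T₁ := fun x => (hT₀mem x).mp (hT₀eq.ge x.2)
  refine ⟨?_, ?_, ?_, ?_⟩
  · -- S is normal in F
    refine ⟨le_rfl, fun P φ hφ => ?_⟩
    rw [← hEq P] at hφ
    obtain ⟨hP, α, hα, h⟩ := hφ
    have hsup : P ⊔ S ≤ S := sup_le hP le_rfl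
    refine ⟨(S.subtype.comp α.toMonoidHom).comp (Subgroup.inclusion hsup), ?_,
      fun x => (h x).symm, ?_⟩
    · rw [← hEq]
      exact ⟨hsup, α, hα, fun x => rfl⟩
    · rw [map_subgroupOf_eq_iff]
      refine ⟨fun y _ => (α _).2, fun s hs => ?_⟩
      refine ⟨⟨(α.symm ⟨s, hs⟩ : S), (le_sup_right : S ≤ P ⊔ S) (α.symm ⟨s, hs⟩).2⟩, (α.symm ⟨s, hs⟩).2, ?_⟩
      show ((α (α.symm ⟨s, hs⟩) : S) : Ω) = s
      simp
  · -- focal subgroup
    apply le_antisymm
    · unfold focalSubgroup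
      rw [Subgroup.closure_le]
      rintro _ ⟨P, φ, x, hφ, rfl⟩
      exact S.mul_mem (S.inv_mem (hom_le F hφ x.2)) (hom_mem_S F hφ x)
    · intro s hs
      have h1 : (⟨s, hs⟩ : S) ∈ (F.focalSubgroup).comap S.subtype := by
        have hle : T₁ ≤ (F.focalSubgroup).comap S.subtype := by
          rw [Subgroup.closure_le]
          rintro _ ⟨x, rfl⟩
          exact Subgroup.subset_closure ⟨S, S.subtype.comp β.toMonoidHom, x,
            (mem_autGroup_iff F le_rfl β).mp hβ, rfl⟩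
        exact hle (hST₁ _)
      exact h1
  · -- hyperfocal subgroup
    apply le_antisymm
    · unfold hyperfocalSubgroup
      rw [Subgroup.closure_le]
      rintro _ ⟨P, α, x, hP, -, rfl⟩
      exact S.mul_mem (S.inv_mem (hP x.2)) (hP ((α : MulAut P) x).2)
    · intro s hs
      have h1 : (⟨s, hs⟩ : S) ∈ (F.hyperfocalSubgroup p).comap S.subtype := by
        have hle : T₁ ≤ (F.hyperfocalSubgroup p).comap S.subtype := by
          rw [Subgroup.closure_le]
          rintro _ ⟨x, rfl⟩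
          refine Subgroup.subset_closure ⟨S, ⟨β, hβ⟩, x, le_rfl, ?_, rfl⟩
          refine Subgroup.subset_closure ?_
          show Nat.Coprime (orderOf (⟨β, hβ⟩ : F.autGroup S)) p
          rw [Subgroup.orderOf_mk, hord]
          exact hcop
        exact hle (hST₁ _)
      exact h1
  · -- Aut_F(S)
    ext γ
    rw [mem_autGroup_iff F le_rfl, ← hEq S]
    constructor
    · rintro ⟨_, α, hα, h⟩
      have : γ = α := by
        ext x
        exact h x
      rw [this]; exact hα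
    · intro hγ
      exact ⟨le_rfl, γ, hγ, fun x => rfl⟩

end Cfsg.Agent.Lib.Helper87
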