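import Cfsg.Agent.Lib.Helper87.ModExt
import Cfsg.Agent.Lib.Helper87.Sparse

set_option autoImplicit false
open Cfsg Cfsg.FusionSystem

namespace Cfsg.Agent.Lib.Helper87

variable {Ω : Type*} [Group Ω] {S : Subgroup Ω}

/-- The elements of `Ω` acting on `T` by conjugation as an element of `B ≤ Aut(T)`. -/
def actSub (T : Subgroup Ω) (B : Subgroup (MulAut T)) : Subgroup Ω where
  carrier := {y | ∃ α ∈ B, ∀ t : T, ((α t : T) : Ω) = y * t * y⁻¹}
  one_mem' := ⟨1, B.one_mem, fun t => by simp⟩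
  mul_mem' := by
    rintro a b ⟨α, hα, ha⟩ ⟨β, hβ, hb⟩
    refine ⟨α * β, B.mul_mem hα hβ, fun t => ?_⟩
    show ((α (β t) : T) : Ω) = _
    rw [ha, hb]; group
  inv_mem' := by
    rintro a ⟨α, hα, ha⟩
    refine ⟨α⁻¹, B.inv_mem hα, fun t => ?_⟩
    have h1 := ha (α⁻¹ t)
    have e : α (α⁻¹ t) = t := by
      show α (α.symm t) = t
      simp
    rw [e] at h1
    rw [h1]; group

theorem mem_actSub {T : Subgroup Ω} {B : Subgroup (MulAut T)} {y : Ω} :
    y ∈ actSub T B ↔ ∃ α ∈ B, ∀ t : T, ((α t : T) : Ω) = y * t * y⁻¹ := Iff.rfl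

/-- An element of a subgroup of order prime to `p` lies in the image of the `p`-residual. -/
theorem mem_map_pResidual {G : Type*} [Group G] {p : ℕ} {A : Subgroup G} {g : G} (hg : g ∈ A)
    (hcop : (orderOf g).Coprime p) : g ∈ (pResidual p A).map A.subtype := by
  refine ⟨⟨g, hg⟩, Subgroup.subset_closure ?_, rfl⟩
  show Nat.Coprime (orderOf (⟨g, hg⟩ : A)) p
  rw [Subgroup.orderOf_mk]; exact hcop

/-- A map of `F` from a finite `M` into `M` is an `F`-automorphism of `M`. -/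
theorem exists_aut_of_hom (F : FusionSystem S) {M : Subgroup Ω} [Finite M] {ψ : M →* Ω}
    (hψ : ψ ∈ F.Hom M) (h : ∀ z : M, ψ z ∈ M) :
    ∃ γ ∈ F.autGroup M, ∀ z : M, ((γ z : M) : Ω) = ψ z := by
  let f : M →* M := ψ.codRestrict M h
  have hinj : Function.Injective f := by
    intro a b hab
    exact F.injective_of_mem hψ (congrArg (fun z : M => (z : Ω)) hab)
  have hbij : Function.Bijective f := ⟨hinj, Finite.injective_iff_surjective.mp hinj⟩
  refine ⟨MulEquiv.ofBijective f hbij, ?_, fun z => rfl⟩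
  rw [mem_autGroup_iff F (hom_le F hψ)]
  have e : M.subtype.comp (MulEquiv.ofBijective f hbij).toMonoidHom = ψ := by
    ext z; rfl
  rw [e]; exact hψ

/-- The power trick: replace an automorphism by a power of order prime to `p` that agrees with
it after taking the same power of an automorphism of order prime to `p`. -/
theorem exists_pow_coprime {A B : Type*} [Group A] [Group B] [Finite B] {p : ℕ} [Fact p.Prime]
    (α : A) (hα : (orderOf α).Coprime p) (Ψ : B) :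
    ∃ k : ℕ, α ^ k = α ∧ (orderOf (Ψ ^ k)).Coprime p := by
  have hpp : p.Prime := Fact.out
  obtain ⟨e, m', hm', ho⟩ := Nat.exists_eq_pow_mul_and_not_dvd (orderOf_pos Ψ).ne' p hpp.ne_one
  have hco : (orderOf α).Coprime (p ^ e) := Nat.Coprime.pow_right e hα
  obtain ⟨k, hk1, hk2⟩ := Nat.chineseRemainder hco 1 0
  refine ⟨k, ?_, ?_⟩
  · have : α ^ k = α ^ 1 := (pow_eq_pow_iff_modEq).mpr hk1
    rw [this, pow_one]
  · have hdvd : p ^ e ∣ k := (Nat.modEq_zero_iff_dvd).mp hk2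
    have h1 : (Ψ ^ k) ^ m' = 1 := by
      rw [← pow_mul]
      apply orderOf_dvd_iff_pow_eq_one.mp
      rw [ho]
      exact Nat.mul_dvd_mul_right hdvd m'
    have h2 : orderOf (Ψ ^ k) ∣ m' := orderOf_dvd_of_pow_eq_one h1
    exact Nat.Coprime.coprime_dvd_left h2 ((Nat.Prime.coprime_iff_not_dvd hpp).mpr hm').symm


/-- Congruence modulo a strongly closed `T` is preserved by taking powers. -/
theorem modT_pow (F : FusionSystem S) {T P : Subgroup Ω} (hT : F.StronglyClosed T)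
    {M : Subgroup Ω} (hPM : P ≤ M) (hM : M ≤ S) {α : MulAut P} {Ψ : MulAut M}
    (hΨ : Ψ ∈ F.autGroup M)
    (h : ∀ x : P, ((α x : P) : Ω)⁻¹ * ((Ψ (Subgroup.inclusion hPM x) : M) : Ω) ∈ T) (k : ℕ) :
    ∀ x : P, (((α ^ k) x : P) : Ω)⁻¹ * (((Ψ ^ k) (Subgroup.inclusion hPM x) : M) : Ω) ∈ T := by
  have hΨ' := (mem_autGroup_iff F hM Ψ).mp hΨ
  induction k with
  | zero => intro x; simp
  | succ k ih =>
    intro x
    rw [pow_succ', pow_succ']
    show ((α ((α ^ k) x) : P) : Ω)⁻¹ * ((Ψ ((Ψ ^ k) (Subgroup.inclusion hPM x)) : M) : Ω) ∈ T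
    set u : P := (α ^ k) x with hu
    set v : M := (Ψ ^ k) (Subgroup.inclusion hPM x) with hv
    have ht : (((Subgroup.inclusion hPM u)⁻¹ * v : M) : Ω) ∈ T := ih x
    have h1 : v = Subgroup.inclusion hPM u * ((Subgroup.inclusion hPM u)⁻¹ * v) := by group
    have h2 : ((Ψ ((Subgroup.inclusion hPM u)⁻¹ * v) : M) : Ω) ∈ T :=
      stronglyClosed_map_mem F hT hΨ' _ ht
    have h3 : ((Ψ v : M) : Ω) = ((Ψ (Subgroup.inclusion hPM u) : M) : Ω) *
        ((Ψ ((Subgroup.inclusion hPM u)⁻¹ * v) : M) : Ω) := by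
      conv_lhs => rw [h1, map_mul]
      rfl
    rw [h3, ← mul_assoc]
    exact T.mul_mem (h u) h2

/-- Key step for the action of the hyperfocal subgroup on a strongly closed subgroup. -/
theorem comm_mem_actSub [Finite S] {p : ℕ} [Fact p.Prime] (hS : IsPGroup p S)
    (F : FusionSystem S) (hF : F.IsSaturated p) {T : Subgroup Ω} (hT : F.StronglyClosed T)
    {P : Subgroup Ω} (hP : P ≤ S) {α : MulAut P} (hα : α ∈ F.autGroup P)
    (hcop : (orderOf α).Coprime p) (x : P) :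
    (x : Ω)⁻¹ * ((α x : P) : Ω) ∈
      actSub T ((pResidual p (F.autGroup T)).map (F.autGroup T).subtype ⊔ Inn T) := by
  have hTS : T ≤ S := hT.1
  have hSN : S ≤ Subgroup.normalizer (T : Set Ω) :=
    weaklyClosed_le_normalizer F (weaklyClosed_of_stronglyClosed F hT)
  have hfinT : Finite T := finite_of_le hTS
  -- `T` itself acts by inner automorphisms
  have hTact : T ≤ actSub T ((pResidual p (F.autGroup T)).map (F.autGroup T).subtype ⊔ Inn T) := by
    intro t ht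
    exact ⟨MulAut.conj ⟨t, ht⟩, Subgroup.mem_sup_right ⟨_, rfl⟩, fun s => rfl⟩
  obtain ⟨ψ, hψ, hψe⟩ := exists_extension_mod hS F hF hT P (P.subtype.comp α.toMonoidHom)
    ((mem_autGroup_iff F hP α).mp hα)
  have hMS : P ⊔ T ≤ S := sup_le hP hTS
  have hfinM : Finite ↥(P ⊔ T) := finite_of_le hMS
  have hmaps : ∀ z : ↥(P ⊔ T), ψ z ∈ P ⊔ T := by
    have := forall_sup_of_subgroup (P := P) (Q := T) ((P ⊔ T).comap ψ) ?_ ?_
    · intro z; exact this z
    · intro y hy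
      show ψ ⟨y, _⟩ ∈ P ⊔ T
      have h1 := hψe ⟨y, hy⟩
      have h2 : ψ ⟨y, (le_sup_left : P ≤ P ⊔ T) hy⟩ =
          ((α ⟨y, hy⟩ : P) : Ω) * ((((α ⟨y, hy⟩ : P) : Ω))⁻¹ *
            ψ ⟨y, (le_sup_left : P ≤ P ⊔ T) hy⟩) := by group
      rw [h2]
      exact (P ⊔ T).mul_mem ((le_sup_left : P ≤ P ⊔ T) (α ⟨y, hy⟩).2)
        ((le_sup_right : T ≤ P ⊔ T) h1)
    · intro y hy
      exact (le_sup_right : T ≤ P ⊔ T) (stronglyClosed_map_mem F hT hψ _ hy)
  obtain ⟨Ψ, hΨ, hΨe⟩ := exists_aut_of_hom F hψ hmaps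
  have hcong : ∀ x : P, ((α x : P) : Ω)⁻¹ *
      ((Ψ (Subgroup.inclusion (le_sup_left : P ≤ P ⊔ T) x) : ↥(P ⊔ T)) : Ω) ∈ T := by
    intro x
    rw [hΨe]
    exact hψe x
  obtain ⟨k, hk1, hk2⟩ := exists_pow_coprime α hcop Ψ
  have hcong' := modT_pow F hT (le_sup_left : P ≤ P ⊔ T) hMS hΨ hcong k
  rw [hk1] at hcong'
  set Ψ' := Ψ ^ k with hΨ'def
  have hΨ'F : Ψ' ∈ F.autGroup (P ⊔ T) := Subgroup.pow_mem _ hΨ k
  have hΨ'hom := (mem_autGroup_iff F hMS Ψ').mp hΨ'F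
  -- restriction of Ψ' to T
  have hΨ'T : ∀ t : T, ((Ψ' ⟨t, (le_sup_right : T ≤ P ⊔ T) t.2⟩ : ↥(P ⊔ T)) : Ω) ∈ T :=
    fun t => stronglyClosed_map_mem F hT hΨ'hom _ t.2
  obtain ⟨ρ, hρ⟩ := exists_restrict_aut (le_sup_right : T ≤ P ⊔ T) Ψ' hΨ'T
  have hρF : ρ ∈ F.autGroup T := by
    rw [mem_autGroup_iff F hTS]
    have h1 := restrict_mem F hΨ'hom (le_sup_right : T ≤ P ⊔ T)
    have e : T.subtype.comp ρ.toMonoidHom =
        ((P ⊔ T).subtype.comp Ψ'.toMonoidHom).comp (Subgroup.inclusion le_sup_right) := by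
      ext t; exact hρ t
    rw [e]; exact h1
  have hρcop : (orderOf ρ).Coprime p := by
    have h1 : ρ ^ (orderOf Ψ') = 1 := by
      ext t
      rw [res_pow (le_sup_right : T ≤ P ⊔ T) hρ (orderOf Ψ') t, pow_orderOf_eq_one]
      rfl
    exact Nat.Coprime.coprime_dvd_left (orderOf_dvd_of_pow_eq_one h1) hk2
  -- the element w = x⁻¹ Ψ'(x)
  have hxN : (x : Ω) ∈ Subgroup.normalizer (T : Set Ω) := hSN (hP x.2)
  set cx := conjAut T (x : Ω) hxN with hcx
  have hcxF : cx ∈ F.autGroup T :=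
    autInducedBy_le_autGroup F hTS (conjAut_mem_autInducedBy (hP x.2) hxN)
  set w : Ω := (x : Ω)⁻¹ *
    ((Ψ' (Subgroup.inclusion (le_sup_left : P ≤ P ⊔ T) x) : ↥(P ⊔ T)) : Ω) with hw
  have hwact : w ∈ actSub T ((pResidual p (F.autGroup T)).map (F.autGroup T).subtype ⊔ Inn T) := by
    refine ⟨cx⁻¹ * ρ * cx * ρ⁻¹, Subgroup.mem_sup_left ?_, fun t => ?_⟩
    · refine Subgroup.mul_mem _ ?_ ?_
      · apply mem_map_pResidual
          ((F.autGroup T).mul_mem ((F.autGroup T).mul_mem ((F.autGroup T).inv_mem hcxF) hρF) hcxF)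
        have e : cx⁻¹ * ρ * cx = MulAut.conj cx⁻¹ ρ := by
          rw [MulAut.conj_apply, inv_inv]
        rw [e, MulEquiv.orderOf_eq]
        exact hρcop
      · apply mem_map_pResidual ((F.autGroup T).inv_mem hρF)
        rw [orderOf_inv]; exact hρcop
    · -- elementwise computation
      set s : T := ρ⁻¹ t with hs
      have hρs : ρ s = t := by
        show ρ (ρ.symm t) = t
        simp
      have h1 : ((cx s : T) : Ω) = (x : Ω) * s * (x : Ω)⁻¹ := conjAut_coe T _ hxN s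
      -- ρ (cx s) = Ψ'(x) t Ψ'(x)⁻¹
      have h2 : ((ρ (cx s) : T) : Ω) =
          ((Ψ' (Subgroup.inclusion (le_sup_left : P ≤ P ⊔ T) x) : ↥(P ⊔ T)) : Ω) * t *
          (((Ψ' (Subgroup.inclusion (le_sup_left : P ≤ P ⊔ T) x) : ↥(P ⊔ T)) : Ω))⁻¹ := by
        rw [hρ (cx s)]
        have e : (⟨((cx s : T) : Ω), (le_sup_right : T ≤ P ⊔ T) (cx s).2⟩ : ↥(P ⊔ T)) =
            Subgroup.inclusion (le_sup_left : P ≤ P ⊔ T) x *
              ⟨(s : Ω), (le_sup_right : T ≤ P ⊔ T) s.2⟩ *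
              (Subgroup.inclusion (le_sup_left : P ≤ P ⊔ T) x)⁻¹ := Subtype.ext h1
        rw [e, map_mul, map_mul, map_inv]
        have e2 : ((Ψ' ⟨(s : Ω), (le_sup_right : T ≤ P ⊔ T) s.2⟩ : ↥(P ⊔ T)) : Ω) = t := by
          rw [← hρ s, hρs]
        show _ * ((Ψ' ⟨(s : Ω), (le_sup_right : T ≤ P ⊔ T) s.2⟩ : ↥(P ⊔ T)) : Ω) * _ = _
        rw [e2]
        rfl
      show ((cx⁻¹ (ρ (cx (ρ⁻¹ t))) : T) : Ω) = w * t * w⁻¹
      -- cx⁻¹ z = x⁻¹ z x
      have h3 : ∀ z : T, ((cx⁻¹ z : T) : Ω) = (x : Ω)⁻¹ * z * (x : Ω) := by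
        intro z
        have h4 := conjAut_coe T _ hxN (cx⁻¹ z)
        have e : cx (cx⁻¹ z) = z := by
          show cx (cx.symm z) = z
          simp
        rw [← hcx, e] at h4
        rw [h4]; group
      rw [h3, h2, hw]
      group
  -- y = w t⁻¹
  have hy : (x : Ω)⁻¹ * ((α x : P) : Ω) =
      w * (((α x : P) : Ω)⁻¹ *
        ((Ψ' (Subgroup.inclusion (le_sup_left : P ≤ P ⊔ T) x) : ↥(P ⊔ T)) : Ω))⁻¹ := by
    rw [hw]; group
  rw [hy]
  exact Subgroup.mul_mem _ hwact (Subgroup.inv_mem _ (hTact (hcong' x)))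

/-- The hyperfocal subgroup acts on a strongly closed subgroup `T` through
`O^p(Aut_F(T)) Inn(T)`. -/
theorem hyperfocal_le_actSub [Finite S] {p : ℕ} [Fact p.Prime] (hS : IsPGroup p S)
    (F : FusionSystem S) (hF : F.IsSaturated p) {T : Subgroup Ω} (hT : F.StronglyClosed T) :
    F.hyperfocalSubgroup p ≤
      actSub T ((pResidual p (F.autGroup T)).map (F.autGroup T).subtype ⊔ Inn T) := by
  unfold hyperfocalSubgroup
  rw [Subgroup.closure_le]
  rintro _ ⟨P, α, x, hP, hα, rfl⟩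
  have hfinP : Finite P := finite_of_le hP
  revert x
  refine Subgroup.closure_induction
    (p := fun (β : F.autGroup P) _ => ∀ x : P, (x : Ω)⁻¹ * (((β : MulAut P) x : P) : Ω) ∈
      actSub T ((pResidual p (F.autGroup T)).map (F.autGroup T).subtype ⊔ Inn T))
    ?_ ?_ ?_ ?_ hα
  · intro β hβ x
    have hβ' : Nat.Coprime (orderOf β) p := hβ
    rw [← Subgroup.orderOf_coe] at hβ'
    exact comm_mem_actSub hS F hF hT hP β.2 hβ' x
  · intro x
    have : (x : Ω)⁻¹ * ((((1 : F.autGroup P) : MulAut P) x : P) : Ω) = 1 := by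
      show (x : Ω)⁻¹ * (x : Ω) = 1
      group
    rw [this]; exact Subgroup.one_mem _
  · intro β γ _ _ hβ hγ x
    have e : (x : Ω)⁻¹ * ((((β * γ : F.autGroup P) : MulAut P) x : P) : Ω) =
        ((x : Ω)⁻¹ * ((((γ : MulAut P) x : P)) : Ω)) *
        (((((γ : MulAut P) x : P)) : Ω)⁻¹ * (((β : MulAut P) ((γ : MulAut P) x) : P) : Ω)) := by
      rw [mul_assoc, mul_inv_cancel_left]; rfl
    rw [e]
    exact Subgroup.mul_mem _ (hγ x) (hβ _)
  · intro β _ hβ x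
    have h1 := hβ (((β⁻¹ : F.autGroup P) : MulAut P) x)
    have e1 : (β : MulAut P) (((β⁻¹ : F.autGroup P) : MulAut P) x) = x := by
      show (β : MulAut P) ((β : MulAut P)⁻¹ x) = x
      show (β : MulAut P) ((β : MulAut P).symm x) = x
      simp
    rw [e1] at h1
    have e : (x : Ω)⁻¹ * ((((β⁻¹ : F.autGroup P) : MulAut P) x : P) : Ω) =
        (((((β⁻¹ : F.autGroup P) : MulAut P) x : P) : Ω)⁻¹ * (x : Ω))⁻¹ := by
      group
    rw [e]
    exact Subgroup.inv_mem _ h1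

end Cfsg.Agent.Lib.Helper87
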