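import Cfsg.Agent.Lib.Helper87.Lemma26
import Cfsg.Agent.Lib.Helper87.HypAct
import Cfsg.Agent.Lib.Helper84.Essential

set_option autoImplicit false
open Cfsg Cfsg.FusionSystem

namespace Cfsg.Agent.Lib.Helper87

variable {Ω : Type*} [Group Ω] {S : Subgroup Ω}

/-- The automorphisms of `C` preserving membership in a fixed subgroup `Z`. -/
def stabSub (C Z : Subgroup Ω) : Subgroup (MulAut C) where
  carrier := {α | ∀ x : C, ((α x : C) : Ω) ∈ Z ↔ (x : Ω) ∈ Z}
  one_mem' := fun x => Iff.rfl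
  mul_mem' := by
    intro a b ha hb x
    show ((a (b x) : C) : Ω) ∈ Z ↔ _
    rw [ha, hb]
  inv_mem' := by
    intro a ha x
    have h := ha (a⁻¹ x)
    have e : a (a⁻¹ x) = x := by
      show a (a.symm x) = x
      simp
    rw [e] at h
    exact h.symm

/-- A subgroup normalized by `S` is fully normalized. -/
theorem fullyNormalized_of_le_normalizer [Finite S] (F : FusionSystem S) {P : Subgroup Ω} (hP : P ≤ S)
    (hN : S ≤ Subgroup.normalizer (P : Set Ω)) : F.IsFullyNormalized P := by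
  refine ⟨hP, fun Q _ => ?_⟩
  have e : normalizerIn S P = S := le_antisymm inf_le_left (le_inf le_rfl hN)
  rw [e]
  exact Subgroup.card_le_of_le (normalizerIn_le S Q)

/-- Essentiality criterion: let `A ≤ S` be abelian and normal in `S` such that `C_S(A)` is a
maximal subgroup of `S`. If some `F`-automorphism of `A` moves an element of a subgroup `Z`
invariant under `Aut_F(S)` out of `Z`, then `C_S(A)` is `F`-essential. -/
theorem isEssential_centralizer_of_move [Finite S] {p : ℕ} [Fact p.Prime] (hS : IsPGroup p S)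
    (F : FusionSystem S) (hF : F.IsSaturated p) {A Z : Subgroup Ω}
    (hAS : A ≤ S) (hAN : S ≤ Subgroup.normalizer (A : Set Ω))
    (hAcomm : ∀ a ∈ A, ∀ b ∈ A, a * b = b * a)
    (hCne : centralizerIn S A ≠ S)
    (hmaxl : ∀ Q : Subgroup Ω, centralizerIn S A < Q → Q ≤ S → Q = S)
    (hZ : ∀ σ : S →* Ω, σ ∈ F.Hom S → ∀ x : S, σ x ∈ Z ↔ (x : Ω) ∈ Z)
    {φ : A →* Ω} (hφ : φ ∈ F.Hom A) (hφr : φ.range = A)
    (hmove : ∃ (z : Ω) (hz : z ∈ A), z ∈ Z ∧ φ ⟨z, hz⟩ ∉ Z) :
    F.IsEssential p (centralizerIn S A) := by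
  have hCS : centralizerIn S A ≤ S := inf_le_left
  have hfinC : Finite ↥(centralizerIn S A) := finite_of_le hCS
  have hAC : A ≤ centralizerIn S A := by
    intro a ha
    refine Subgroup.mem_inf.mpr ⟨hAS ha, ?_⟩
    rw [Subgroup.mem_centralizer_iff]
    intro b hb
    exact hAcomm b hb a ha
  have hmemC : ∀ x : Ω, x ∈ centralizerIn S A ↔ x ∈ S ∧ ∀ a ∈ A, a * x = x * a := by
    intro x
    show x ∈ S ⊓ Subgroup.centralizer (A : Set Ω) ↔ _
    rw [Subgroup.mem_inf, Subgroup.mem_centralizer_iff]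
    rfl
  -- S normalizes C
  have hconjA : ∀ s ∈ S, ∀ a ∈ A, s * a * s⁻¹ ∈ A := by
    intro s hs a ha
    exact (Subgroup.mem_normalizer_iff.mp (hAN hs) a).mp ha
  have hconjC : ∀ s ∈ S, ∀ x ∈ centralizerIn S A, s * x * s⁻¹ ∈ centralizerIn S A := by
    intro s hs x hx
    rw [hmemC] at hx ⊢
    refine ⟨S.mul_mem (S.mul_mem hs hx.1) (S.inv_mem hs), fun a ha => ?_⟩
    have h1 := hx.2 (s⁻¹ * a * s⁻¹⁻¹) (hconjA s⁻¹ (S.inv_mem hs) a ha)
    calc a * (s * x * s⁻¹) = s * ((s⁻¹ * a * s⁻¹⁻¹) * x) * s⁻¹ := by group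
      _ = s * (x * (s⁻¹ * a * s⁻¹⁻¹)) * s⁻¹ := by rw [h1]
      _ = s * x * s⁻¹ * a := by group
  have hSNC : S ≤ Subgroup.normalizer ((centralizerIn S A : Subgroup Ω) : Set Ω) := by
    intro s hs
    rw [Subgroup.mem_normalizer_iff]
    intro x
    constructor
    · exact hconjC s hs x
    · intro h
      have := hconjC s⁻¹ (S.inv_mem hs) _ h
      have e : s⁻¹ * (s * x * s⁻¹) * s⁻¹⁻¹ = x := by group
      rwa [e] at this
  have hfnC : F.IsFullyNormalized (centralizerIn S A) := fullyNormalized_of_le_normalizer F hCS hSNC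
  have hfnA : F.IsFullyNormalized A := fullyNormalized_of_le_normalizer F hAS hAN
  have hrecA := receptive_of_fullyNormalized hS F hF hfnA
  have hrecC := receptive_of_fullyNormalized hS F hF hfnC
  have hfaC := (fc_fa_of_fullyNormalized hS F hF hfnC).2
  have hcen : centralizerIn S (centralizerIn S A) ≤ centralizerIn S A := by
    intro x hx
    have hx' : x ∈ S ⊓ Subgroup.centralizer ((centralizerIn S A : Subgroup Ω) : Set Ω) := hx
    rw [Subgroup.mem_inf, Subgroup.mem_centralizer_iff] at hx'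
    rw [hmemC]
    exact ⟨hx'.1, fun a ha => hx'.2 a (hAC ha)⟩
  -- extend φ to C
  obtain ⟨ψ, hψ, hψe⟩ := extend_to_sub F hφ hφr hrecA (centralizerIn_le_extender' A φ)
  have hψC : ∀ x : ↥(centralizerIn S A), ψ x ∈ centralizerIn S A := by
    intro x
    rw [hmemC]
    refine ⟨hom_mem_S F hψ x, fun a ha => ?_⟩
    have ha' : a ∈ φ.range := hφr.symm ▸ ha
    obtain ⟨a₀, rfl⟩ := ha'
    have h1 : ψ ⟨(a₀ : Ω), hAC a₀.2⟩ = φ a₀ := hψe a₀ a₀.2 (hAC a₀.2)
    rw [← h1, ← map_mul, ← map_mul]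
    congr 1
    apply Subtype.ext
    exact ((hmemC x).mp x.2).2 a₀ a₀.2
  obtain ⟨γ, hγ, hγe⟩ := exists_aut_of_hom F hψ hψC
  -- extendable automorphisms preserve Z
  have hext : Subgroup.closure (extSet F (centralizerIn S A)) ≤ stabSub (centralizerIn S A) Z := by
    rw [Subgroup.closure_le]
    rintro α ⟨Q, hCQ, σ, hσ, hα⟩
    have hQS : Q = S := hmaxl Q hCQ (hom_le F hσ)
    have hσ' := cast_mem F hQS hσ
    intro x
    rw [← hα x]
    have e : σ (Subgroup.inclusion hCQ.le x) =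
        (σ.comp (Subgroup.inclusion hQS.ge)) ⟨(x : Ω), hCS x.2⟩ := rfl
    rw [e]
    exact hZ _ hσ' ⟨(x : Ω), hCS x.2⟩
  have hcon : ¬ F.autGroup (centralizerIn S A) ≤ Subgroup.closure (extSet F (centralizerIn S A)) := by
    intro hle
    obtain ⟨z, hz, hzZ, hφz⟩ := hmove
    have h1 := hext (hle hγ) ⟨z, hAC hz⟩
    apply hφz
    have h2 : ((γ ⟨z, hAC hz⟩ : ↥(centralizerIn S A)) : Ω) = φ ⟨z, hz⟩ := by
      rw [hγe]; exact hψe z hz (hAC hz)
    rw [← h2]
    exact h1.mpr hzZ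
  have hn : ((Inn ↥(centralizerIn S A)).subgroupOf (F.autGroup (centralizerIn S A))).Normal :=
    Subgroup.Normal.subgroupOf inferInstance _
  exact ⟨centric_of_receptive F hrecC hcen, hfnC, hn, _,
    Cfsg.Agent.Lib.Helper84.stronglyPEmbedded_map_closure_extSet hS F hfaC hrecC hcen hCne hcon⟩

end Cfsg.Agent.Lib.Helper87
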