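import Cfsg.Agent.Lib.Helper87.NormalCriterion
import Cfsg.Agent.Lib.Helper87.Chain

set_option autoImplicit false

namespace Cfsg.Agent.Lib.Helper87

open Cfsg Cfsg.FusionSystem
open scoped commutatorElement

variable {Ω : Type*} [Group Ω] {S : Subgroup Ω}

theorem stronglyClosed_of_isNormal (F : FusionSystem S) {Q : Subgroup Ω} (hN : F.IsNormal Q) :
    F.StronglyClosed Q := by
  refine ⟨hN.1, fun R' hR' φ hφ x => ?_⟩
  obtain ⟨ψ, -, hψe, hψQ⟩ := hN.2 R' φ hφ
  rw [map_subgroupOf_eq_iff] at hψQ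
  rw [← hψe x]
  exact hψQ.1 _ (hR' x.2)

/-- A characteristic subgroup of a subgroup normal in `F` is strongly closed in `F`. -/
theorem stronglyClosed_of_char (F : FusionSystem S) {Q : Subgroup Ω} (hN : F.IsNormal Q)
    (K : Subgroup Q) [hK : K.Characteristic] : F.StronglyClosed (K.map Q.subtype) := by
  have hZQ : K.map Q.subtype ≤ Q := by
    rintro _ ⟨z, -, rfl⟩
    exact z.2
  refine ⟨hZQ.trans hN.1, fun R' hR' φ hφ x => ?_⟩
  obtain ⟨ψ, hψ, hψe, hψQ⟩ := hN.2 R' φ hφ
  rw [map_subgroupOf_eq_iff] at hψQ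
  have hmaps : ∀ x : Q, (ψ.comp (Subgroup.inclusion (le_sup_right : Q ≤ R' ⊔ Q))) x ∈ Q :=
    fun x => hψQ.1 _ x.2
  let θh : Q →* Q := (ψ.comp (Subgroup.inclusion (le_sup_right : Q ≤ R' ⊔ Q))).codRestrict Q hmaps
  have hθinj : Function.Injective θh := by
    intro a b hab
    have h1 : ψ (Subgroup.inclusion le_sup_right a) = ψ (Subgroup.inclusion le_sup_right b) :=
      congrArg Subtype.val hab
    have h2 := F.injective_of_mem hψ h1
    exact Subgroup.inclusion_injective _ h2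
  have hθsurj : Function.Surjective θh := by
    rintro ⟨q, hq⟩
    obtain ⟨y, hy, hyq⟩ := hψQ.2 q hq
    refine ⟨⟨y, hy⟩, Subtype.ext ?_⟩
    show ψ (Subgroup.inclusion le_sup_right ⟨(y : Ω), hy⟩) = q
    rw [← hyq]
    congr 1
  let θ : Q ≃* Q := MulEquiv.ofBijective θh ⟨hθinj, hθsurj⟩
  have hchar : K.map θ.toMonoidHom = K := Subgroup.characteristic_iff_map_eq.mp hK θ
  obtain ⟨z, hz, hzx⟩ := hR' x.2
  have h1 : θ z ∈ K := by
    rw [← hchar]; exact ⟨z, hz, rfl⟩
  refine ⟨θ z, h1, ?_⟩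
  show ψ (Subgroup.inclusion le_sup_right z) = φ x
  rw [← hψe]
  congr 1
  exact Subtype.ext hzx

/-- The chain of the stabilizer argument on `R`. -/
def chainOn (R Q : Subgroup Ω) (c : ℕ → Subgroup Ω) (j : ℕ) : ℕ → Subgroup R
  | 0 => ⊤
  | 1 => Q.subgroupOf R
  | (i + 2) => (c (j - i)).subgroupOf R

/-- A strongly closed subgroup with a central chain of weakly closed subgroups is contained in
every centric radical subgroup. -/
theorem le_of_centric_radical [Finite S] {p : ℕ} [Fact p.Prime] (hS : IsPGroup p S)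
    (F : FusionSystem S) {Q : Subgroup Ω} (hQsc : F.StronglyClosed Q) (c : ℕ → Subgroup Ω)
    (hc0 : c 0 = ⊥) (hcmono : Monotone c) (hcQ : ∀ j, c j ≤ Q)
    (hccomm : ∀ j, ⁅c (j + 1), Q⁆ ≤ c j) (hcwc : ∀ j, F.WeaklyClosed (c j))
    {R : Subgroup Ω} (hRS : R ≤ S) (hcen : centralizerIn S R ≤ R) (hrad : F.IsRadical p R) :
    ∀ j, c j ≤ R := by
  have hQwc : F.WeaklyClosed Q := weaklyClosed_of_stronglyClosed F hQsc
  have hQS : Q ≤ S := hQsc.1
  have hSNQ : S ≤ Subgroup.normalizer (Q : Set Ω) := weaklyClosed_le_normalizer F hQwc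
  intro j
  induction j with
  | zero => rw [hc0]; exact bot_le
  | succ j ih =>
    have hcjR : c j ≤ R := ih
    apply le_of_normalizer_inf_le hS hRS (hcwc (j + 1)).1
      (weaklyClosed_le_normalizer F (hcwc (j + 1)))
    rintro g ⟨hgc, hgN⟩
    have hgQ : g ∈ Q := hcQ (j + 1) hgc
    have hgS : g ∈ S := hQS hgQ
    have hα : conjAut R g hgN ∈ F.autGroup R :=
      autInducedBy_le_autGroup F hRS (conjAut_mem_autInducedBy hgS hgN)
    have hinv : ∀ γ ∈ F.autGroup R, ∀ i, ∀ x ∈ chainOn R Q c j i, γ x ∈ chainOn R Q c j i := by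
      intro γ hγ i
      have hγ' := (mem_autGroup_iff F hRS γ).mp hγ
      match i with
      | 0 => intro x _; exact Subgroup.mem_top _
      | 1 =>
        intro x hx
        have hxQ : (x : Ω) ∈ Q := Subgroup.mem_subgroupOf.mp hx
        have hφ := restrict_mem F hγ' (inf_le_left : R ⊓ Q ≤ R)
        have := hQsc.2 (R ⊓ Q) inf_le_right _ hφ ⟨x, x.2, hxQ⟩
        exact Subgroup.mem_subgroupOf.mpr this
      | (i + 2) =>
        intro x hx
        have hxc : (x : Ω) ∈ c (j - i) := Subgroup.mem_subgroupOf.mp hx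
        have hle : c (j - i) ≤ R := (hcmono (Nat.sub_le j i)).trans hcjR
        have hφ := restrict_mem F hγ' hle
        have hrange := (hcwc (j - i)).2 _ hφ
        have : ((R.subtype.comp γ.toMonoidHom).comp (Subgroup.inclusion hle)) ⟨x, hxc⟩ ∈
            ((R.subtype.comp γ.toMonoidHom).comp (Subgroup.inclusion hle)).range := ⟨_, rfl⟩
        rw [hrange] at this
        exact Subgroup.mem_subgroupOf.mpr this
    have hαC : ∀ i < j + 2, ∀ x ∈ chainOn R Q c j i,
        x⁻¹ * conjAut R g hgN x ∈ chainOn R Q c j (i + 1) := by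
      intro i hi
      have hcoe : ∀ x : R, ((x⁻¹ * conjAut R g hgN x : R) : Ω) = ⁅(x : Ω)⁻¹, g⁆ := by
        intro x
        rw [commutatorElement_def]
        show (x : Ω)⁻¹ * (g * x * g⁻¹) = _
        group
      match i with
      | 0 =>
        intro x _
        apply Subgroup.mem_subgroupOf.mpr
        rw [hcoe, commutatorElement_def]
        have h1 : (x : Ω)⁻¹ * g * ((x : Ω)⁻¹)⁻¹ ∈ Q :=
          (Subgroup.mem_normalizer_iff.mp (hSNQ (S.inv_mem (hRS x.2))) g).mp hgQ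
        exact Q.mul_mem h1 (Q.inv_mem hgQ)
      | 1 =>
        intro x hx
        have hxQ : (x : Ω) ∈ Q := Subgroup.mem_subgroupOf.mp hx
        apply Subgroup.mem_subgroupOf.mpr
        rw [hcoe]
        show ⁅(x : Ω)⁻¹, g⁆ ∈ c (j - 0)
        rw [Nat.sub_zero]
        apply hccomm j
        rw [Subgroup.commutator_comm]
        exact Subgroup.commutator_mem_commutator (Q.inv_mem hxQ) hgc
      | (i + 2) =>
        intro x hx
        have hxc : (x : Ω) ∈ c (j - i) := Subgroup.mem_subgroupOf.mp hx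
        apply Subgroup.mem_subgroupOf.mpr
        rw [hcoe]
        show ⁅(x : Ω)⁻¹, g⁆ ∈ c (j - (i + 1))
        have hij : i < j := by omega
        have e : j - i = (j - (i + 1)) + 1 := by omega
        apply hccomm (j - (i + 1))
        rw [← e]
        exact Subgroup.commutator_mem_commutator ((c (j - i)).inv_mem hxc) hgQ
    have hk : chainOn R Q c j (j + 2) = ⊥ := by
      show (c (j - j)).subgroupOf R = ⊥
      rw [Nat.sub_self, hc0]
      exact Subgroup.bot_subgroupOf R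
    have hinn := stabilizer_le_inn hS F hRS hrad (j + 2) (chainOn R Q c j) rfl hk hinv hα hαC
    obtain ⟨r, hr⟩ := hinn
    have hcen' : (r : Ω)⁻¹ * g ∈ centralizerIn S R := by
      refine ⟨S.mul_mem (S.inv_mem (hRS r.2)) hgS, ?_⟩
      intro x hx
      have h1 : ((MulAut.conj r ⟨x, hx⟩ : R) : Ω) = ((conjAut R g hgN ⟨x, hx⟩ : R) : Ω) := by
        rw [hr]
      have h2 : (r : Ω) * x * (r : Ω)⁻¹ = g * x * g⁻¹ := h1
      calc x * ((r : Ω)⁻¹ * g) = (r : Ω)⁻¹ * ((r : Ω) * x * (r : Ω)⁻¹) * g := by group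
        _ = (r : Ω)⁻¹ * (g * x * g⁻¹) * g := by rw [h2]
        _ = (r : Ω)⁻¹ * g * x := by group
    have hcenR := hcen hcen'
    have : g = (r : Ω) * ((r : Ω)⁻¹ * g) := by group
    rw [this]
    exact R.mul_mem r.2 hcenR

/-- The upper central series of a subgroup `Q ≤ S`, pushed to the ambient group. -/
def ucs (Q : Subgroup Ω) (j : ℕ) : Subgroup Ω := (Subgroup.upperCentralSeries Q j).map Q.subtype

theorem ucs_zero (Q : Subgroup Ω) : ucs Q 0 = ⊥ := by simp [ucs]

theorem ucs_mono (Q : Subgroup Ω) : Monotone (ucs Q) := fun _ _ hab =>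
  Subgroup.map_mono (Subgroup.upperCentralSeries_mono Q hab)

theorem ucs_le (Q : Subgroup Ω) (j : ℕ) : ucs Q j ≤ Q := by
  rintro _ ⟨z, -, rfl⟩
  exact z.2

theorem ucs_comm (Q : Subgroup Ω) (j : ℕ) : ⁅ucs Q (j + 1), Q⁆ ≤ ucs Q j := by
  rw [Subgroup.commutator_le]
  rintro _ ⟨z, hz, rfl⟩ b hb
  have := Subgroup.mem_upperCentralSeries_succ_iff.mp hz ⟨b, hb⟩
  refine ⟨⁅z, ⟨b, hb⟩⁆, this, ?_⟩
  simp [commutatorElement_def]

theorem ucs_eq_top [Finite S] {p : ℕ} [Fact p.Prime] (hS : IsPGroup p S) {Q : Subgroup Ω}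
    (hQS : Q ≤ S) : ∃ n, ucs Q n = Q := by
  have hfinQ : Finite Q := finite_of_le hQS
  have hQp : IsPGroup p Q := hS.to_le hQS
  have hnil : Group.IsNilpotent Q := hQp.isNilpotent
  obtain ⟨n, hn⟩ := hnil.nilpotent
  refine ⟨n, ?_⟩
  show (Subgroup.upperCentralSeries Q n).map Q.subtype = Q
  rw [hn, ← MonoidHom.range_eq_map, Subgroup.range_subtype]

theorem ucs_stronglyClosed (F : FusionSystem S) {Q : Subgroup Ω} (hN : F.IsNormal Q) (j : ℕ) :
    F.StronglyClosed (ucs Q j) :=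
  stronglyClosed_of_char F hN (Subgroup.upperCentralSeries Q j)

/-- A subgroup normal in `F` is contained in every centric radical subgroup. -/
theorem isNormal_le_centric_radical [Finite S] {p : ℕ} [Fact p.Prime] (hS : IsPGroup p S)
    (F : FusionSystem S) {Q : Subgroup Ω} (hN : F.IsNormal Q) {R : Subgroup Ω}
    (hcen : F.IsCentric R) (hrad : F.IsRadical p R) : Q ≤ R := by
  obtain ⟨n, hn⟩ := ucs_eq_top hS hN.1
  have := le_of_centric_radical hS F (stronglyClosed_of_isNormal F hN) (ucs Q) (ucs_zero Q)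
    (ucs_mono Q) (ucs_le Q) (ucs_comm Q)
    (fun j => weaklyClosed_of_stronglyClosed F (ucs_stronglyClosed F hN j)) hcen.1
    (hcen.2 R (isConj_refl F hcen.1)) hrad n
  rwa [hn] at this

end Cfsg.Agent.Lib.Helper87
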