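import Mathlib
import Cfsg.Agent.Lib.Helper40.OpBNDefs
import Cfsg.Agent.Lib.Helper87.OpBN_BOREL

/-!
# OpBN hive (S2548, owner helper40): leaves OPBN-LOWER `Bo_lower` and OPBN-LAST `Bo_last` (helper87)

Self-contained: own copy `lower_gram` of the Gram relation (columns `inl j`, `inr j'`) and
`lower_sing` (columns are singular vectors), so that the file does not wait for the POLAR leaf.
-/

set_option autoImplicit false
set_option linter.unusedSectionVars false
set_option linter.unusedVariables false
set_option linter.unusedSimpArgs false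
set_option linter.style.haveILetI false

namespace Cfsg.Agent.Lib.Helper40.OpBN

open Matrix Cfsg Cfsg.Agent.Lib.Helper13 Cfsg.Agent.Lib.Helper41.SpBN

variable {F : Type*} [Field F] {m : ℕ}

theorem lower_polar (u v : Idx m → F) :
    Cfsg.quadFormPlus m F (u + v) = Cfsg.quadFormPlus m F u + Cfsg.quadFormPlus m F v +
      ∑ i : Fin m, (u (Sum.inl i) * v (Sum.inr i) + v (Sum.inl i) * u (Sum.inr i)) := by
  unfold Cfsg.quadFormPlus
  simp only [Pi.add_apply]
  rw [← Finset.sum_add_distrib, ← Finset.sum_add_distrib]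
  apply Finset.sum_congr rfl
  intro i _
  ring

theorem lower_Q_single (a : Idx m) : Cfsg.quadFormPlus m F (Pi.single a 1) = 0 := by
  unfold Cfsg.quadFormPlus
  apply Finset.sum_eq_zero
  intro i _
  rcases a with j | j
  · rw [Pi.single_apply (Sum.inl j) (1 : F) (Sum.inr i), if_neg (by simp), mul_zero]
  · rw [Pi.single_apply (Sum.inr j) (1 : F) (Sum.inl i), if_neg (by simp), zero_mul]

/-- every column of an isometry is a singular vector -/
theorem lower_sing (g : OG F m) (a : Idx m) :
    ∑ i : Fin m, mt g (Sum.inl i) a * mt g (Sum.inr i) a = 0 := by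
  have h := mt_preserves g (Pi.single a 1)
  rw [lower_Q_single, Matrix.mulVec_single_one] at h
  exact h

/-- the Gram relation between a column `inl j` and a column `inr j'` -/
theorem lower_gram (g : OG F m) (j j' : Fin m) :
    ∑ i : Fin m, (mt g (Sum.inl i) (Sum.inl j) * mt g (Sum.inr i) (Sum.inr j') +
      mt g (Sum.inl i) (Sum.inr j') * mt g (Sum.inr i) (Sum.inl j)) =
      if j = j' then 1 else 0 := by
  classical
  have h := mt_preserves g (Pi.single (Sum.inl j) 1 + Pi.single (Sum.inr j') 1)
  rw [Matrix.mulVec_add, lower_polar, lower_polar, mt_preserves, mt_preserves,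
    Matrix.mulVec_single_one, Matrix.mulVec_single_one] at h
  have h' := add_left_cancel h
  simp only [Matrix.col_apply] at h'
  rw [h']
  have : ∀ i : Fin m, ((Pi.single (Sum.inl j) (1 : F) : Idx m → F) (Sum.inl i) *
      (Pi.single (Sum.inr j') (1 : F) : Idx m → F) (Sum.inr i) +
      (Pi.single (Sum.inr j') (1 : F) : Idx m → F) (Sum.inl i) *
      (Pi.single (Sum.inl j) (1 : F) : Idx m → F) (Sum.inr i)) =
      if i = j then (if j = j' then 1 else 0) else 0 := by
    intro i
    simp only [Pi.single_apply, Sum.inl.injEq, Sum.inr.injEq, reduceCtorEq, if_false, mul_zero,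
      add_zero, zero_mul]
    by_cases hij : i = j
    · subst hij
      by_cases hjj : i = j'
      · simp [hjj]
      · simp [hjj]
    · simp [hij]
  rw [Finset.sum_congr rfl (fun i _ => this i)]
  simp

/-- LEAF LOWER. -/
theorem Bo_lower {g : OG F m} (hg : g ∈ Bo F m) :
    ∀ i j : Fin m, (i : ℕ) < (j : ℕ) → mt g (Sum.inr i) (Sum.inr j) = 0 := by
  obtain ⟨h1, h2⟩ := (mem_Bo_iff g).mp hg
  have hAD : ((mt g).toBlocks₁₁)ᵀ * (mt g).toBlocks₂₂ = 1 := by
    ext j j'
    rw [Matrix.mul_apply, Matrix.one_apply]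
    have := lower_gram g j j'
    rw [← this]
    apply Finset.sum_congr rfl
    intro i _
    rw [Matrix.transpose_apply, Matrix.toBlocks₁₁, Matrix.toBlocks₂₂, Matrix.of_apply,
      Matrix.of_apply, h2 i j, mul_zero, add_zero]
  have hA : ((mt g).toBlocks₁₁).BlockTriangular id := by
    intro i j hij
    exact h1 i j hij
  have hAt := hA.transpose
  letI : Invertible ((mt g).toBlocks₁₁)ᵀ := invertibleOfRightInverse _ _ hAD
  have hinv := Matrix.blockTriangular_inv_of_blockTriangular hAt
  have hD : (mt g).toBlocks₂₂ = (((mt g).toBlocks₁₁)ᵀ)⁻¹ := (Matrix.inv_eq_right_inv hAD).symm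
  intro i j hij
  have := hinv (i := i) (j := j) (by
    change OrderDual.toDual j < OrderDual.toDual i
    rw [OrderDual.toDual_lt_toDual]
    exact hij)
  rw [← hD] at this
  exact this

/-- the diagonal entries of the `(inr,inr)` block of an element of `B` do not vanish -/
theorem last_diag_ne_zero {g : OG F m} (hg : g ∈ Bo F m) (k : Fin m) :
    mt g (Sum.inr k) (Sum.inr k) ≠ 0 := by
  obtain ⟨h1, h2⟩ := (mem_Bo_iff g).mp hg
  have hlow := Bo_lower hg
  have hgr := lower_gram g k k
  rw [if_pos rfl, Finset.sum_eq_single k] at hgr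
  · intro h0
    rw [h0, mul_zero, h2 k k, mul_zero, add_zero] at hgr
    exact zero_ne_one hgr
  · intro i _ hik
    rw [h2 i k, mul_zero, add_zero]
    rcases lt_or_gt_of_ne (fun h => hik (Fin.ext h) : (i : ℕ) ≠ (k : ℕ)) with hlt | hgt
    · rw [hlow i k hlt, mul_zero]
    · rw [h1 i k hgt, zero_mul]
  · intro h; exact absurd (Finset.mem_univ k) h

/-- LEAF LAST. -/
theorem Bo_last {g : OG F m} (hg : g ∈ Bo F m) {k : Fin m} (hk : (k : ℕ) + 1 = m) :
    mt g (Sum.inl k) (Sum.inr k) = 0 := by
  have hlow := Bo_lower hg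
  have hs := lower_sing g (Sum.inr k)
  rw [Finset.sum_eq_single k] at hs
  · rcases mul_eq_zero.mp hs with h | h
    · exact h
    · exact absurd h (last_diag_ne_zero hg k)
  · intro i _ hik
    have hlt : (i : ℕ) < (k : ℕ) := by
      have hi := i.2
      have : (i : ℕ) ≠ (k : ℕ) := fun h => hik (Fin.ext h)
      omega
    rw [hlow i k hlt, mul_zero]
  · intro h; exact absurd (Finset.mem_univ k) h

end Cfsg.Agent.Lib.Helper40.OpBN
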