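import Mathlib

set_option autoImplicit false

namespace Cfsg.Agent.Lib.Helper87

theorem aut_pow_apply_fixed {G : Type*} [Group G] (φ : MulAut G) {v : G} (h2 : φ v = v) (m : ℕ) :
    (φ ^ m) v = v := by
  induction m with
  | zero => simp
  | succ m ih => rw [pow_succ, MulAut.mul_apply, h2, ih]

theorem aut_pow_apply_mul {G : Type*} [Group G] (φ : MulAut G) {y v : G} (h1 : φ y = y * v)
    (h2 : φ v = v) (m : ℕ) : (φ ^ m) y = y * v ^ m := by
  induction m with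
  | zero => simp
  | succ m ih =>
    rw [pow_succ, MulAut.mul_apply, h1, map_mul, ih, aut_pow_apply_fixed φ h2, pow_succ, mul_assoc]

/-- In a subgroup of prime order every element is a power of any nontrivial element. -/
theorem exists_pow_eq_of_prime_card {G : Type*} [Group G] {p : ℕ} [Fact p.Prime] (E : Subgroup G)
    (hE : Nat.card E = p) {u e : G} (hu : u ∈ E) (hu1 : u ≠ 1) (he : e ∈ E) :
    ∃ m : ℕ, u ^ m = e := by
  have hne : (⟨u, hu⟩ : E) ≠ 1 := by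
    intro h
    exact hu1 (congrArg Subtype.val h)
  obtain ⟨m, hm⟩ := mem_powers_of_prime_card hE hne (g' := (⟨e, he⟩ : E))
  refine ⟨m, ?_⟩
  have := congrArg Subtype.val hm
  simpa using this

/-- The `SL₂(p)` trick: two "transvections" `t, t'` of an abelian group with centres of order `p`
in general position generate an automorphism `τ` inverting both centres and fixing the common
fixed points. -/
theorem sl2_trick {G : Type*} [Group G] (hc : ∀ a b : G, a * b = b * a) {p : ℕ} [Fact p.Prime]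
    {Z₀ E : Subgroup G} (hZ₀ : Nat.card Z₀ = p) (hE : Nat.card E = p) {t t' : MulAut G}
    (h1 : ∀ y, t y * y⁻¹ ∈ Z₀) (h2 : ∀ y, t' y * y⁻¹ ∈ E)
    (h3 : ∀ y ∈ Z₀, t y = y) (h4 : ∀ y ∈ E, t' y = y)
    (h5 : ∃ e ∈ E, t e ≠ e) (h6 : ∃ f ∈ Z₀, t' f ≠ f) :
    ∃ τ ∈ Subgroup.closure ({t, t'} : Set (MulAut G)),
      (∀ w, t w = w → t' w = w → τ w = w) ∧ (∀ f ∈ Z₀, τ f = f⁻¹) ∧
      (∀ z, t z = z → ∃ w f, t w = w ∧ t' w = w ∧ f ∈ Z₀ ∧ z = w * f) ∧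
      (∀ c : MulAut G, (∀ y, c y * y⁻¹ ∈ Z₀) → (∀ z, t z = z → c z = z) → τ * c = c * τ) := by
  obtain ⟨e, heE, hte⟩ := h5
  obtain ⟨f₀, hf₀, ht'f₀⟩ := h6
  -- f₁
  obtain ⟨f₁, hf₁def⟩ : ∃ f₁, f₁ = t e * e⁻¹ := ⟨_, rfl⟩
  have hf₁Z : f₁ ∈ Z₀ := hf₁def ▸ h1 e
  have hf₁ne : f₁ ≠ 1 := by
    intro h
    apply hte
    rw [hf₁def] at h
    exact mul_inv_eq_one.mp h
  have htf₁ : t f₁ = f₁ := h3 f₁ hf₁Z
  have hte' : t e = e * f₁ := by
    rw [hf₁def, hc e]; group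
  have hZ₀gen : ∀ f ∈ Z₀, ∃ m : ℕ, f₁ ^ m = f := fun f hf =>
    exists_pow_eq_of_prime_card Z₀ hZ₀ hf₁Z hf₁ne hf
  have ht'f₁ : t' f₁ ≠ f₁ := by
    intro h
    apply ht'f₀
    obtain ⟨m, rfl⟩ := hZ₀gen f₀ hf₀
    rw [map_pow, h]
  obtain ⟨u, hudef⟩ : ∃ u, u = t' f₁ * f₁⁻¹ := ⟨_, rfl⟩
  have huE : u ∈ E := hudef ▸ h2 f₁
  have hune : u ≠ 1 := by
    intro h
    apply ht'f₁
    rw [hudef] at h
    exact mul_inv_eq_one.mp h
  have ht'u : t' u = u := h4 u huE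
  have ht'f₁' : t' f₁ = f₁ * u := by
    rw [hudef, hc f₁]; group
  have hEgen : ∀ d ∈ E, ∃ m : ℕ, u ^ m = d := fun d hd =>
    exists_pow_eq_of_prime_card E hE huE hune hd
  obtain ⟨m, hm⟩ := hEgen e⁻¹ (E.inv_mem heE)
  obtain ⟨s, hsdef⟩ : ∃ s : MulAut G, s = t' ^ m := ⟨_, rfl⟩
  have hsf₁ : s f₁ = f₁ * e⁻¹ := by
    rw [hsdef, aut_pow_apply_mul t' ht'f₁' ht'u, hm]
  have hse : s e = e := by
    rw [hsdef]; exact aut_pow_apply_fixed t' (h4 e heE) m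
  have hcl : ∀ φ ∈ ({t, t'} : Set (MulAut G)), φ ∈ Subgroup.closure ({t, t'} : Set (MulAut G)) :=
    fun φ hφ => Subgroup.subset_closure hφ
  have htcl : t ∈ Subgroup.closure ({t, t'} : Set (MulAut G)) := hcl t (by simp)
  have ht'cl : t' ∈ Subgroup.closure ({t, t'} : Set (MulAut G)) := hcl t' (by simp)
  have hscl : s ∈ Subgroup.closure ({t, t'} : Set (MulAut G)) := by
    rw [hsdef]; exact Subgroup.pow_mem _ ht'cl m
  obtain ⟨n, hndef⟩ : ∃ n : MulAut G, n = t * s * t := ⟨_, rfl⟩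
  have hncl : n ∈ Subgroup.closure ({t, t'} : Set (MulAut G)) := by
    rw [hndef]
    exact Subgroup.mul_mem _ (Subgroup.mul_mem _ htcl hscl) htcl
  have hn_apply : ∀ y, n y = t (s (t y)) := fun y => by rw [hndef]; rfl
  have hnf₁ : n f₁ = e⁻¹ := by
    rw [hn_apply, htf₁, hsf₁, map_mul, map_inv, htf₁, hte', mul_inv_rev]
    group
  have hne : n e = f₁ := by
    rw [hn_apply, hte', map_mul, hse, hsf₁]
    have : e * (f₁ * e⁻¹) = f₁ := by rw [hc f₁]; group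
    rw [this, htf₁]
  have hA : ∀ w, t w = w → t' w = w → n (n w) = w := by
    intro w hw hw'
    have hsw : s w = w := by rw [hsdef]; exact aut_pow_apply_fixed t' hw' m
    have hnw : n w = w := by rw [hn_apply, hw, hsw, hw]
    rw [hnw, hnw]
  have hB : ∀ f ∈ Z₀, n (n f) = f⁻¹ := by
    intro f hf
    obtain ⟨k, rfl⟩ := hZ₀gen f hf
    rw [map_pow, hnf₁, map_pow, map_inv, hne, inv_pow]
  have hC : ∀ z, t z = z → ∃ w f, t w = w ∧ t' w = w ∧ f ∈ Z₀ ∧ z = w * f := by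
    intro z hz
    obtain ⟨i, hi⟩ := hEgen (t' z * z⁻¹) (h2 z)
    have h7 : t' (f₁ ^ i) = f₁ ^ i * u ^ i := by
      rw [map_pow, ht'f₁', (show Commute f₁ u from hc f₁ u).mul_pow]
    refine ⟨z * (f₁ ^ i)⁻¹, f₁ ^ i, ?_, ?_, Z₀.pow_mem hf₁Z i, by group⟩
    · rw [map_mul, map_inv, map_pow, htf₁, hz]
    · have e1 : t' z = z * u ^ i := by rw [hi, hc z]; group
      rw [map_mul, map_inv, h7, e1, mul_inv_rev]
      group
  have hD : ∀ y, ∃ z, ∃ i : ℕ, t z = z ∧ y = z * e ^ i := by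
    intro y
    obtain ⟨i, hi⟩ := hZ₀gen (t y * y⁻¹) (h1 y)
    have h7 : t (e ^ i) = e ^ i * f₁ ^ i := by
      rw [map_pow, hte', (show Commute e f₁ from hc e f₁).mul_pow]
    refine ⟨y * (e ^ i)⁻¹, i, ?_, by group⟩
    have e1 : t y = y * f₁ ^ i := by rw [hi, hc y]; group
    rw [map_mul, map_inv, h7, e1, mul_inv_rev]
    group
  refine ⟨n * n, Subgroup.mul_mem _ hncl hncl, fun w hw hw' => hA w hw hw', fun f hf => hB f hf,
    hC, ?_⟩
  intro c hc1 hc2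
  ext y
  show n (n (c y)) = c (n (n y))
  obtain ⟨z, i, hz, hy⟩ := hD y
  obtain ⟨w, f, hw, hw', hf, hzw⟩ := hC z hz
  have hτe : n (n (e ^ i)) = (e ^ i)⁻¹ := by
    rw [map_pow, hne, map_pow, hnf₁, inv_pow]
  have hτy : n (n y) = w * f⁻¹ * (e ^ i)⁻¹ := by
    rw [hy, hzw, map_mul, map_mul, map_mul, map_mul, hτe, hB f hf, hA w hw hw']
  have hprod : n (n y) * y = w * w := by
    rw [hτy, hy, hzw]
    calc w * f⁻¹ * (e ^ i)⁻¹ * (w * f * e ^ i) = w * f⁻¹ * ((e ^ i)⁻¹ * w) * f * e ^ i := by group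
      _ = w * f⁻¹ * (w * (e ^ i)⁻¹) * f * e ^ i := by rw [hc (e ^ i)⁻¹ w]
      _ = w * (f⁻¹ * w) * ((e ^ i)⁻¹ * f) * e ^ i := by group
      _ = w * (w * f⁻¹) * (f * (e ^ i)⁻¹) * e ^ i := by rw [hc f⁻¹ w, hc (e ^ i)⁻¹ f]
      _ = w * w := by group
  have hcw : c w = w := hc2 w hw
  have h8 : c (n (n y)) * c y = n (n y) * y := by
    rw [← map_mul, hprod, map_mul, hcw]
  have h9 : n (n (c y)) = (c y * y⁻¹)⁻¹ * n (n y) := by
    have : c y = (c y * y⁻¹) * y := by group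
    conv_lhs => rw [this]
    rw [map_mul, map_mul, hB _ (hc1 y)]
  rw [h9]
  have h10 : c (n (n y)) = n (n y) * y * (c y)⁻¹ := by
    rw [← h8]; group
  rw [h10, mul_inv_rev, inv_inv, hc (y * (c y)⁻¹), mul_assoc]

end Cfsg.Agent.Lib.Helper87
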