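import Cfsg.Agent.Lib.Helper87.Lemma26
import Cfsg.Agent.Lib.Helper87.Chain

set_option autoImplicit false

namespace Cfsg.Agent.Lib.Helper87

open Cfsg Cfsg.FusionSystem

variable {Ω : Type*} [Group Ω] {S : Subgroup Ω}

/-- The automorphisms of `R` that extend to maps of the system on strictly larger subgroups. -/
def extSet (F : FusionSystem S) (R : Subgroup Ω) : Set (MulAut R) :=
  {α : MulAut R | ∃ (Q : Subgroup Ω) (hRQ : R < Q) (φ : Q →* Ω), φ ∈ F.Hom Q ∧
    ∀ x : R, φ (Subgroup.inclusion hRQ.le x) = α x}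

theorem pRankLE_zero_bot (p : ℕ) {X : Type*} [Group X] : PRankLE p 0 (⊥ : Subgroup X) := by
  intro A _ _
  rw [pow_zero]
  have : Subsingleton (⊥ : Subgroup X) := inferInstance
  have h2 : Subsingleton A := inferInstance
  exact le_of_eq (Nat.card_unique)

/-- If `g ∈ N_S(R) \ R` and `α c_g α⁻¹` is induced by an element of `S`, then `α` extends to a
strictly larger subgroup (for `R` receptive). -/
theorem mem_extSet_of_conj (F : FusionSystem S) {R : Subgroup Ω} (hrec : F.IsReceptive R)
    {α : MulAut R} (hα : α ∈ F.autGroup R) {g : Ω} (hgS : g ∈ S)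
    (hgN : g ∈ Subgroup.normalizer (R : Set Ω)) (hgR : g ∉ R) {h : Ω} (hh : h ∈ S)
    (hconj : ∀ x : R, ((α (conjAut R g hgN x) : R) : Ω) = h * (α x : R) * h⁻¹) :
    α ∈ extSet F R := by
  have hR : R ≤ S := hrec.1
  have hφ := (mem_autGroup_iff F hR α).mp hα
  have hr : (R.subtype.comp α.toMonoidHom).range = R := by
    apply le_antisymm
    · rintro _ ⟨x, rfl⟩
      exact (α x).2
    · intro y hy
      exact ⟨α.symm ⟨y, hy⟩, by simp⟩
  have hgT : g ∈ extender S R (R.subtype.comp α.toMonoidHom) := by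
    refine Subgroup.subset_closure ⟨hgS, hgN, h, hh, fun x hx => ?_⟩
    exact hconj x
  obtain ⟨ψ, hψ, hψe⟩ := hrec.2 R _ hφ hr
  have hRT : R ≤ extender S R (R.subtype.comp α.toMonoidHom) := self_le_extender F hφ
  have hlt : R < extender S R (R.subtype.comp α.toMonoidHom) :=
    lt_of_le_of_ne hRT (fun h => hgR (h ▸ hgT))
  exact ⟨_, hlt, ψ, hψ, fun x => hψe x x.2 (hRT x.2)⟩

/-- For `C_S(R) ≤ R`, conjugation by an element of `S` outside `R` is not inner. -/
theorem not_mem_inn_of_conj {R : Subgroup Ω} (hR : R ≤ S) (hcen : centralizerIn S R ≤ R)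
    {β : MulAut R} {g : Ω} (hgS : g ∈ S) (hgR : g ∉ R)
    (hβ : ∀ x : R, ((β x : R) : Ω) = g * x * g⁻¹) : β ∉ Inn R := by
  rintro ⟨r, hr⟩
  apply hgR
  have h1 : ∀ x : R, (r : Ω) * x * (r : Ω)⁻¹ = g * x * g⁻¹ := by
    intro x
    rw [← hβ x, ← hr]
    rfl
  have h2 : (r : Ω)⁻¹ * g ∈ centralizerIn S R := by
    refine ⟨S.mul_mem (S.inv_mem (hR r.2)) hgS, ?_⟩
    intro x hx
    have := h1 ⟨x, hx⟩
    calc x * ((r : Ω)⁻¹ * g) = (r : Ω)⁻¹ * ((r : Ω) * x * (r : Ω)⁻¹) * g := by group
      _ = (r : Ω)⁻¹ * (g * x * g⁻¹) * g := by rw [this]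
      _ = (r : Ω)⁻¹ * g * x := by group
  have h3 := hcen h2
  have : g = (r : Ω) * ((r : Ω)⁻¹ * g) := by group
  rw [this]
  exact R.mul_mem r.2 h3

theorem inn_le_closure_extSet (F : FusionSystem S) {R : Subgroup Ω} (hR : R ≤ S) (hRS : R ≠ S) :
    Inn R ≤ Subgroup.closure (extSet F R) := by
  rintro _ ⟨r, rfl⟩
  apply Subgroup.subset_closure
  exact ⟨S, lt_of_le_of_ne hR hRS, conjHom S r, F.conj_mem le_rfl (hR r.2), fun x => rfl⟩

/-- Key lemma for Alperin–Goldschmidt: if `R < S` is fully automized, receptive, contains its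
centralizer, and `Out_F(R)` has no strongly `p`-embedded subgroup, then `Aut_F(R)` is generated
by automorphisms extending to strictly larger subgroups. -/
theorem autGroup_le_closure_extSet [Finite S] {p : ℕ} [Fact p.Prime] (hS : IsPGroup p S)
    (F : FusionSystem S) {R : Subgroup Ω} (hfa : F.IsFullyAutomized p R)
    (hrec : F.IsReceptive R) (hcen : centralizerIn S R ≤ R) (hRS : R ≠ S)
    (hne : ∀ (_ : ((Inn R).subgroupOf (F.autGroup R)).Normal)
      (E : Subgroup (F.autGroup R ⧸ (Inn R).subgroupOf (F.autGroup R))),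
      ¬ IsStronglyPEmbedded p E) :
    F.autGroup R ≤ Subgroup.closure (extSet F R) := by
  have hR : R ≤ S := hfa.1
  have hfinR : Finite R := finite_of_le hR
  have hInnA : Inn R ≤ F.autGroup R :=
    (inn_le_autInducedBy hR).trans (autInducedBy_le_autGroup F hR)
  have hn : ((Inn R).subgroupOf (F.autGroup R)).Normal :=
    Subgroup.Normal.subgroupOf inferInstance _
  have hInnH : Inn R ≤ Subgroup.closure (extSet F R) := inn_le_closure_extSet F hR hRS
  obtain ⟨-, Rsyl, hRsyl⟩ := hfa
  have hπsurj : Function.Surjective (QuotientGroup.mk' ((Inn R).subgroupOf (F.autGroup R))) :=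
    QuotientGroup.mk'_surjective _
  -- membership in the Sylow subgroup
  have hmemSyl : ∀ a : F.autGroup R, a ∈ (Rsyl : Subgroup (F.autGroup R)) ↔
      ∃ g ∈ S, ∀ x : R, (((a : MulAut R) x : R) : Ω) = g * x * g⁻¹ := by
    intro a
    rw [hRsyl, Subgroup.mem_subgroupOf, mem_autInducedBy_iff]
  -- the Sylow subgroup of the quotient
  obtain ⟨P', hP'⟩ : ∃ P' : Sylow p (F.autGroup R ⧸ (Inn R).subgroupOf (F.autGroup R)),
      ∀ y, y ∈ (P' : Subgroup _) ↔ ∃ a ∈ (Rsyl : Subgroup (F.autGroup R)),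
        QuotientGroup.mk' ((Inn R).subgroupOf (F.autGroup R)) a = y :=
    ⟨Rsyl.mapSurjective hπsurj, fun y => Iff.rfl⟩
  -- the strongly embedded candidate
  by_contra hcon
  apply hne hn (((Subgroup.closure (extSet F R)).subgroupOf (F.autGroup R)).map
    (QuotientGroup.mk' ((Inn R).subgroupOf (F.autGroup R))))
  refine ⟨?_, ?_, P', ?_⟩
  · -- `p` divides the order of `Out_F(R)`
    obtain ⟨g, hgN, hgR⟩ := exists_mem_normalizerIn_not_mem hS hR hRS
    have hcA : conjAut R g hgN.2 ∈ F.autGroup R :=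
      autInducedBy_le_autGroup F hR (conjAut_mem_autInducedBy hgN.1 hgN.2)
    have hmem : QuotientGroup.mk' ((Inn R).subgroupOf (F.autGroup R)) ⟨_, hcA⟩ ∈
        (P' : Subgroup _) := by
      rw [hP']
      refine ⟨⟨_, hcA⟩, ?_, rfl⟩
      exact (hmemSyl _).mpr ⟨g, hgN.1, fun x => rfl⟩
    have hne1 : QuotientGroup.mk' ((Inn R).subgroupOf (F.autGroup R)) ⟨_, hcA⟩ ≠ 1 := by
      intro h1
      have h2 : (⟨_, hcA⟩ : F.autGroup R) ∈ (Inn R).subgroupOf (F.autGroup R) :=
        (QuotientGroup.eq_one_iff _).mp h1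
      exact not_mem_inn_of_conj hR hcen hgN.1 hgR (fun x => rfl) (Subgroup.mem_subgroupOf.mp h2)
    have hP'p := P'.isPGroup'
    rcases hP'p.card_eq_or_dvd with h1 | h1
    · exfalso
      have hbot := Subgroup.eq_bot_of_card_eq _ h1
      rw [hbot, Subgroup.mem_bot] at hmem
      exact hne1 hmem
    · exact h1.trans (Subgroup.card_subgroup_dvd_card _)
  · -- properness
    intro htop
    apply hcon
    intro α hα
    have h1 : QuotientGroup.mk' ((Inn R).subgroupOf (F.autGroup R)) ⟨α, hα⟩ ∈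
        ((Subgroup.closure (extSet F R)).subgroupOf (F.autGroup R)).map
          (QuotientGroup.mk' ((Inn R).subgroupOf (F.autGroup R))) := by
      rw [htop]; exact Subgroup.mem_top _
    obtain ⟨b, hb, hbe⟩ := h1
    have h2 : b⁻¹ * ⟨α, hα⟩ ∈ (Inn R).subgroupOf (F.autGroup R) :=
      QuotientGroup.eq.mp hbe
    have h3 : (b : MulAut R)⁻¹ * α ∈ Inn R := Subgroup.mem_subgroupOf.mp h2
    have h4 : (b : MulAut R) ∈ Subgroup.closure (extSet F R) := Subgroup.mem_subgroupOf.mp hb
    have : α = (b : MulAut R) * ((b : MulAut R)⁻¹ * α) := by group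
    rw [this]
    exact Subgroup.mul_mem _ h4 (hInnH h3)
  · -- the 1-generated core is contained in the candidate
    unfold kGeneratedCore
    apply iSup_le
    rintro ⟨Qb, hQbP, hrk⟩
    intro x hx
    obtain ⟨⟨α, hα⟩, rfl⟩ := hπsurj x
    suffices hαH : α ∈ Subgroup.closure (extSet F R) from
      ⟨⟨α, hα⟩, Subgroup.mem_subgroupOf.mpr hαH, rfl⟩
    apply Subgroup.subset_closure
    -- a nontrivial element of `Qb`
    have hQbne : Qb ≠ ⊥ := by
      intro h
      apply hrk
      rw [h]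
      exact pRankLE_zero_bot p
    obtain ⟨⟨y, hyQ⟩, hy1⟩ := (Subgroup.ne_bot_iff_exists_ne_one.mp hQbne)
    have hy1' : y ≠ 1 := fun h => hy1 (Subtype.ext h)
    -- `y` is the class of a conjugation by `g ∈ N_S(R) \ R`
    obtain ⟨ay, hay, hayy⟩ := (hP' y).mp (hQbP hyQ)
    obtain ⟨g, hgS, hg⟩ := (hmemSyl ay).mp hay
    have hgN : g ∈ Subgroup.normalizer (R : Set Ω) := mem_normalizer_of_aut R _ g hg
    have hgR : g ∉ R := by
      intro hgR
      apply hy1'
      rw [← hayy]
      apply (QuotientGroup.eq_one_iff _).mpr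
      apply Subgroup.mem_subgroupOf.mpr
      refine ⟨⟨g, hgR⟩, ?_⟩
      ext z
      rw [hg]
      rfl
    -- `x y x⁻¹` lies in `Qb`, hence in the Sylow subgroup
    have hxy : QuotientGroup.mk' ((Inn R).subgroupOf (F.autGroup R)) ⟨α, hα⟩ * y *
        (QuotientGroup.mk' ((Inn R).subgroupOf (F.autGroup R)) ⟨α, hα⟩)⁻¹ ∈ Qb :=
      (Subgroup.mem_normalizer_iff.mp hx y).mp hyQ
    obtain ⟨b, hb, hbe⟩ := (hP' _).mp (hQbP hxy)
    obtain ⟨h₀, hh₀S, hh₀⟩ := (hmemSyl b).mp hb
    rw [← hayy, ← map_inv, ← map_mul, ← map_mul] at hbe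
    have h2 : b⁻¹ * (⟨α, hα⟩ * ay * ⟨α, hα⟩⁻¹) ∈ (Inn R).subgroupOf (F.autGroup R) :=
      QuotientGroup.eq.mp hbe
    obtain ⟨r, hr⟩ := Subgroup.mem_subgroupOf.mp h2
    have hr' : ∀ z : R, α ((ay : MulAut R) (α⁻¹ z)) = (b : MulAut R) (MulAut.conj r z) := by
      intro z
      have h3 : (b : MulAut R) * MulAut.conj r = α * (ay : MulAut R) * α⁻¹ := by
        rw [hr]
        show (b : MulAut R) * ((b : MulAut R)⁻¹ * (α * (ay : MulAut R) * α⁻¹)) = _
        group
      have h4 := congrArg (fun γ : MulAut R => γ z) h3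
      exact h4.symm
    refine mem_extSet_of_conj F hrec hα hgS hgN hgR (h := h₀ * r) (S.mul_mem hh₀S (hR r.2)) ?_
    intro x'
    have h5 := hr' (α x')
    have h6 : α⁻¹ (α x') = x' := by simp
    rw [h6] at h5
    have h7 : (ay : MulAut R) x' = conjAut R g hgN x' := Subtype.ext (hg x')
    rw [← h7, h5, hh₀]
    show h₀ * ((r : Ω) * (α x' : R) * (r : Ω)⁻¹) * h₀⁻¹ = _
    group


/-! ### Generation by a class of subgroups -/

/-- Maps generated by restrictions of automorphisms of subgroups in a class `C`. -/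
inductive GenBy (F : FusionSystem S) (C : Subgroup Ω → Prop) : (P : Subgroup Ω) → (P →* Ω) → Prop
  | aut {P R : Subgroup Ω} (hR : C R) (hRS : R ≤ S) (α : MulAut R) (hα : α ∈ F.autGroup R)
      (hPR : P ≤ R) :
      GenBy F C P ((R.subtype.comp α.toMonoidHom).comp (Subgroup.inclusion hPR))
  | comp {P Q : Subgroup Ω} {φ : P →* Ω} {ψ : Q →* Ω} (hφ : GenBy F C P φ)
      (hψ : GenBy F C Q ψ) (h : ∀ x : P, φ x ∈ Q) :
      GenBy F C P (ψ.comp (φ.codRestrict Q h))

theorem GenBy.mem_hom {F : FusionSystem S} {C : Subgroup Ω → Prop} {P : Subgroup Ω} {φ : P →* Ω}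
    (h : GenBy F C P φ) : φ ∈ F.Hom P := by
  induction h with
  | aut hR hRS α hα hPR =>
    exact restrict_mem F ((mem_autGroup_iff F hRS α).mp hα) hPR
  | comp _ _ h ih1 ih2 => exact F.comp_mem ih1 ih2 h

theorem GenBy.restrict {F : FusionSystem S} {C : Subgroup Ω → Prop} {P : Subgroup Ω}
    {φ : P →* Ω} (h : GenBy F C P φ) : ∀ {P' : Subgroup Ω} (hP' : P' ≤ P),
    GenBy F C P' (φ.comp (Subgroup.inclusion hP')) := by
  induction h with
  | aut hR hRS α hα hPR =>
    intro P' hP'
    exact GenBy.aut hR hRS α hα (hP'.trans hPR)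
  | @comp P Q φ ψ _ hψ h ih1 _ =>
    intro P' hP'
    have := GenBy.comp (ih1 hP') hψ (fun x => h _)
    exact this

/-- Variant of `comp` with an explicit target equation. -/
theorem GenBy.comp' {F : FusionSystem S} {C : Subgroup Ω → Prop} {P Q : Subgroup Ω}
    {φ : P →* Ω} {ψ : Q →* Ω} (hφ : GenBy F C P φ) (hψ : GenBy F C Q ψ)
    (h : ∀ x : P, φ x ∈ Q) {χ : P →* Ω} (hχ : ∀ x : P, χ x = ψ ⟨φ x, h x⟩) :
    GenBy F C P χ := by
  have : χ = ψ.comp (φ.codRestrict Q h) := by
    ext x; exact hχ x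
  rw [this]
  exact GenBy.comp hφ hψ h

/-- A fusion system whose automorphism groups on the class `C` contain those of `F` contains
every map generated by `C`. -/
theorem GenBy.mem_of_le {F E : FusionSystem S} {C : Subgroup Ω → Prop}
    (hE : ∀ R : Subgroup Ω, C R → F.autGroup R ≤ E.autGroup R) {P : Subgroup Ω} {φ : P →* Ω}
    (h : GenBy F C P φ) : φ ∈ E.Hom P := by
  induction h with
  | aut hR hRS α hα hPR =>
    exact restrict_mem E ((mem_autGroup_iff E hRS α).mp (hE _ hR hα)) hPR
  | comp _ _ h ih1 ih2 => exact E.comp_mem ih1 ih2 h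

/-- The restriction of an automorphism of `R` to a subgroup, as a map into `Ω`. -/
def resAut {R : Subgroup Ω} (α : MulAut R) {P : Subgroup Ω} (hPR : P ≤ R) : P →* Ω :=
  (R.subtype.comp α.toMonoidHom).comp (Subgroup.inclusion hPR)

/-- Conversion from generation by Alperin subgroups, given generation of the automorphisms
of the large Alperin subgroups. -/
theorem genBy_of_alpGen [Finite S] {F : FusionSystem S} {p : ℕ} {C : Subgroup Ω → Prop}
    {Q : Subgroup Ω} {φ : Q →* Ω} (h : AlpGen F p Q φ) :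
    (∀ R' : Subgroup Ω, IsAlperin F p R' → Nat.card Q ≤ Nat.card R' → ∀ α ∈ F.autGroup R',
      ∀ (P' : Subgroup Ω) (hP' : P' ≤ R'), GenBy F C P' (resAut α hP')) → GenBy F C Q φ := by
  induction h with
  | @aut P R hR α hα hPR =>
    intro hC
    have hfin : Finite R := finite_of_le hR.1.1
    exact hC R hR (Subgroup.card_le_of_le hPR) α hα P hPR
  | @comp P Q' φ ψ hφ hψ h ih1 ih2 =>
    intro hC
    have hQ'S : Q' ≤ S := hom_le F hψ.mem_hom
    have hfin : Finite Q' := finite_of_le hQ'S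
    have hcard : Nat.card P ≤ Nat.card Q' := by
      let f : P → Q' := fun x => ⟨φ x, h x⟩
      have hf : Function.Injective f := by
        intro a b hab
        exact F.injective_of_mem hφ.mem_hom (congrArg Subtype.val hab)
      exact Nat.card_le_card_of_injective f hf
    exact GenBy.comp (ih1 hC) (ih2 (fun R' hR' hle => hC R' hR' (hcard.trans hle))) h

/-- The class of Alperin–Goldschmidt: `S` and the essential subgroups. -/
def IsAG (F : FusionSystem S) (p : ℕ) (R : Subgroup Ω) : Prop := R = S ∨ F.IsEssential p R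

theorem IsAG.le {F : FusionSystem S} {p : ℕ} {R : Subgroup Ω} (h : IsAG F p R) : R ≤ S := by
  rcases h with h | h
  · exact h.le
  · exact h.1.1

/-- Restrictions of automorphisms generated by `C` are closed under products and contain `1`. -/
theorem genBy_resAut_mul {F : FusionSystem S} {C : Subgroup Ω → Prop} {R : Subgroup Ω}
    {α β : MulAut R}
    (hα : ∀ (P : Subgroup Ω) (hP : P ≤ R), GenBy F C P (resAut α hP))
    (hβ : ∀ (P : Subgroup Ω) (hP : P ≤ R), GenBy F C P (resAut β hP)) :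
    ∀ (P : Subgroup Ω) (hP : P ≤ R), GenBy F C P (resAut (α * β) hP) := by
  intro P hP
  exact GenBy.comp' (hβ P hP) (hα R le_rfl) (fun x => (β _).2) (fun x => rfl)

theorem genBy_resAut_pow {F : FusionSystem S} {C : Subgroup Ω → Prop} {R : Subgroup Ω}
    {α : MulAut R}
    (h1 : ∀ (P : Subgroup Ω) (hP : P ≤ R), GenBy F C P (resAut (1 : MulAut R) hP))
    (hα : ∀ (P : Subgroup Ω) (hP : P ≤ R), GenBy F C P (resAut α hP)) (n : ℕ) :
    ∀ (P : Subgroup Ω) (hP : P ≤ R), GenBy F C P (resAut (α ^ n) hP) := by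
  induction n with
  | zero => rw [pow_zero]; exact h1
  | succ n ih => rw [pow_succ]; exact genBy_resAut_mul ih hα

theorem card_lt_card_of_lt' [Finite S] {R Q : Subgroup Ω} (hQS : Q ≤ S) (h : R < Q) :
    Nat.card R < Nat.card Q := by
  have hfin : Finite Q := finite_of_le hQS
  by_contra hcon
  have := Subgroup.eq_of_le_of_card_ge h.le (not_lt.mp hcon)
  exact h.ne this

theorem genBy_resAut_one (F : FusionSystem S) (p : ℕ) {R : Subgroup Ω} (hR : R ≤ S) :
    ∀ (P : Subgroup Ω) (hP : P ≤ R), GenBy F (IsAG F p) P (resAut (1 : MulAut R) hP) := by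
  intro P hP
  have h := GenBy.aut (F := F) (C := IsAG F p) (Or.inl rfl) le_rfl (1 : MulAut S)
    (Subgroup.one_mem _) (hP.trans hR)
  have e : resAut (1 : MulAut R) hP =
      (S.subtype.comp (1 : MulAut S).toMonoidHom).comp (Subgroup.inclusion (hP.trans hR)) := by
    ext x; rfl
  rw [e]; exact h

/-- Alperin–Goldschmidt, automorphism form: restrictions of automorphisms of Alperin subgroups
are generated by automorphisms of `S` and of essential subgroups. -/
theorem ag_aut [Finite S] {p : ℕ} [Fact p.Prime] (hS : IsPGroup p S) (F : FusionSystem S)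
    (hF : F.IsSaturated p) :
    ∀ n : ℕ, ∀ R : Subgroup Ω, IsAlperin F p R → Nat.card S - Nat.card R = n →
      ∀ α ∈ F.autGroup R, ∀ (P : Subgroup Ω) (hP : P ≤ R), GenBy F (IsAG F p) P (resAut α hP) := by
  intro n
  induction n using Nat.strong_induction_on with
  | _ n ih =>
    intro R hR hn α hα
    have hRS : R ≤ S := hR.1.1
    have hfinR : Finite R := finite_of_le hRS
    by_cases hAG : IsAG F p R
    · intro P hP; exact GenBy.aut hAG hRS α hα hP
    · have hneS : R ≠ S := fun h => hAG (Or.inl h)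
      have hness : ¬ F.IsEssential p R := fun h => hAG (Or.inr h)
      have hfn := fullyNormalized_of_fa_receptive hS F hR.1 hR.2.1
      have hne : ∀ (_ : ((Inn R).subgroupOf (F.autGroup R)).Normal)
          (E : Subgroup (F.autGroup R ⧸ (Inn R).subgroupOf (F.autGroup R))),
          ¬ IsStronglyPEmbedded p E := fun hn E hE => hness ⟨hR.2.2.1, hfn, hn, E, hE⟩
      have hcen : centralizerIn S R ≤ R := hR.2.2.1.2 R (isConj_refl F hRS)
      have hle := autGroup_le_closure_extSet hS F hR.1 hR.2.1 hcen hneS hne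
      have h1 := genBy_resAut_one F p hRS
      refine Subgroup.closure_induction
        (p := fun α _ => ∀ (P : Subgroup Ω) (hP : P ≤ R), GenBy F (IsAG F p) P (resAut α hP))
        ?_ h1 ?_ ?_ (hle hα)
      · rintro α' ⟨Q, hRQ, φ, hφ, hφe⟩ P hP
        have hQS : Q ≤ S := hom_le F hφ
        have hA := alperin hS F hF Q φ hφ
        have hlt : Nat.card R < Nat.card Q := card_lt_card_of_lt' hQS hRQ
        have hG : GenBy F (IsAG F p) Q φ := by
          refine genBy_of_alpGen hA (fun R' hR' hcard α'' hα'' P' hP' => ?_)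
          have hR'S : Nat.card R' ≤ Nat.card S := Subgroup.card_le_of_le hR'.1.1
          have : Nat.card S - Nat.card R' < n := by omega
          exact ih _ this R' hR' rfl α'' hα'' P' hP'
        have hres := hG.restrict (hP.trans hRQ.le)
        have e : resAut α' hP = φ.comp (Subgroup.inclusion (hP.trans hRQ.le)) := by
          ext x
          exact (hφe ⟨x, hP x.2⟩).symm
        rw [e]; exact hres
      · intro a b _ _ iha ihb
        exact genBy_resAut_mul iha ihb
      · intro a _ iha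
        have hpos : 0 < orderOf a := orderOf_pos a
        have : a⁻¹ = a ^ (orderOf a - 1) := by
          apply inv_eq_of_mul_eq_one_right
          rw [← pow_succ', Nat.sub_add_cancel hpos, pow_orderOf_eq_one]
        rw [this]
        exact genBy_resAut_pow h1 iha _

/-- Alperin–Goldschmidt fusion theorem: every map of a saturated fusion system is a composite
of restrictions of automorphisms of `S` and of essential subgroups. -/
theorem alperin_goldschmidt [Finite S] {p : ℕ} [Fact p.Prime] (hS : IsPGroup p S)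
    (F : FusionSystem S) (hF : F.IsSaturated p) (P : Subgroup Ω) (φ : P →* Ω) (hφ : φ ∈ F.Hom P) :
    GenBy F (IsAG F p) P φ := by
  have hA := alperin hS F hF P φ hφ
  exact genBy_of_alpGen hA (fun R' hR' _ α hα P' hP' => ag_aut hS F hF _ R' hR' rfl α hα P' hP')

end Cfsg.Agent.Lib.Helper87
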