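import Mathlib
import Cfsg.Agent.Lib.Helper85.InducedAut

/-!
# Automorphisms acting on a cyclic factor `K / N`
-/

set_option autoImplicit false

namespace Cfsg.Agent.Lib.Helper87

open Cfsg.Agent.Lib.Helper85 (inducedAutHom inducedAutHom_apply)
open scoped commutatorElement

/-- The automorphism group of a cyclic group is commutative. -/
theorem mulAut_comm_of_isCyclic {B : Type*} [Group B] [IsCyclic B] (α β : MulAut B) :
    α * β = β * α := by
  apply (IsCyclic.mulAutMulEquiv B).injective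
  rw [map_mul, map_mul, mul_comm]

/-- A `p'`-automorphism of a finite cyclic `p`-group has order dividing `p - 1`. -/
theorem mulAut_pow_pred_eq_one {B : Type*} [Group B] [Finite B] [IsCyclic B] {p : ℕ}
    [hp : Fact p.Prime] (hB : IsPGroup p B) (α : MulAut B) {r : ℕ} (hr : r.Coprime p)
    (hα : α ^ r = 1) : α ^ (p - 1) = 1 := by
  obtain ⟨e, he⟩ := hB.exists_card_eq
  have hcard : Nat.card (MulAut B) ∣ p ^ e * (p - 1) := by
    rw [IsCyclic.card_mulAut B, he]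
    rcases eq_zero_or_pos e with h0 | h0
    · rw [h0, pow_zero, Nat.totient_one]; exact one_dvd _
    · rw [Nat.totient_prime_pow hp.out h0]
      exact Nat.mul_dvd_mul_right (Nat.pow_dvd_pow p (Nat.sub_le e 1)) _
  have hfin : Finite (MulAut B) := by
    have : Finite (ZMod (Nat.card B))ˣ := by
      have : NeZero (Nat.card B) := ⟨Nat.card_pos.ne'⟩
      infer_instance
    exact Finite.of_equiv _ (IsCyclic.mulAutMulEquiv B).symm.toEquiv
  have h1 : orderOf α ∣ p ^ e * (p - 1) := (orderOf_dvd_natCard α).trans hcard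
  have h2 : orderOf α ∣ r := orderOf_dvd_of_pow_eq_one hα
  have h3 : (orderOf α).Coprime (p ^ e) :=
    Nat.Coprime.coprime_dvd_left h2 (Nat.Coprime.pow_right e hr)
  have h4 : orderOf α ∣ p - 1 := h3.dvd_of_dvd_mul_left h1
  exact orderOf_dvd_iff_pow_eq_one.mp h4

variable {G : Type*} [Group G]

/-- The subgroup of automorphisms of `G` preserving `N` and `K`, restricted to `K`. -/
noncomputable def resAutK (K : Subgroup G) (𝒜 : Subgroup (MulAut G))
    (hK : ∀ a ∈ 𝒜, ∀ y ∈ K, a y ∈ K) : 𝒜 →* MulAut K :=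
  MonoidHom.mk'
    (fun a =>
      { toFun := fun y => ⟨(a : MulAut G) y, hK a a.2 y y.2⟩
        invFun := fun y => ⟨(a : MulAut G)⁻¹ y, hK _ (𝒜.inv_mem a.2) y y.2⟩
        left_inv := fun y => Subtype.ext (by simp)
        right_inv := fun y => Subtype.ext (by simp)
        map_mul' := fun y z => Subtype.ext (by simp) })
    (by
      intro a b
      ext y
      rfl)

theorem resAutK_apply (K : Subgroup G) (𝒜 : Subgroup (MulAut G))
    (hK : ∀ a ∈ 𝒜, ∀ y ∈ K, a y ∈ K) (a : 𝒜) (y : K) :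
    ((resAutK K 𝒜 hK a y : K) : G) = (a : MulAut G) y := rfl

/-- Main lemma: the action of `𝒜` on a cyclic factor `K / N`, presented by a homomorphism
`g : K → C` into a cyclic group with kernel `N`. -/
theorem exists_factor_action (N K : Subgroup G) {C : Type*} [Group C] [IsCyclic C]
    (g : K →* C) (hg : ∀ y : K, g y = 1 ↔ (y : G) ∈ N) (𝒜 : Subgroup (MulAut G))
    (hN : ∀ a ∈ 𝒜, ∀ y ∈ N, a y ∈ N) (hK : ∀ a ∈ 𝒜, ∀ y ∈ K, a y ∈ K) :
    ∃ Φ : 𝒜 →* MulAut g.range, ∀ a : 𝒜, Φ a = 1 → ∀ y ∈ K, y⁻¹ * (a : MulAut G) y ∈ N := by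
  have hsurj : Function.Surjective g.rangeRestrict := g.rangeRestrict_surjective
  have hker : ∀ y : K, g.rangeRestrict y = 1 ↔ (y : G) ∈ N := by
    intro y
    rw [← hg y]
    constructor
    · intro h; exact congrArg Subtype.val h
    · intro h; exact Subtype.ext h
  have h𝒜 : ∀ β ∈ (⊤ : Subgroup 𝒜).map (resAutK K 𝒜 hK), ∀ x, g.rangeRestrict x = 1 →
      g.rangeRestrict (β x) = 1 := by
    rintro _ ⟨a, -, rfl⟩ x hx
    rw [hker] at hx ⊢
    rw [resAutK_apply]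
    exact hN a a.2 _ hx
  let Ψ := inducedAutHom g.rangeRestrict hsurj _ h𝒜
  let ρ : 𝒜 →* ((⊤ : Subgroup 𝒜).map (resAutK K 𝒜 hK)) :=
    (resAutK K 𝒜 hK).codRestrict _ (fun a => ⟨a, Subgroup.mem_top _, rfl⟩)
  refine ⟨Ψ.comp ρ, fun a ha y hy => ?_⟩
  have h1 : Ψ (ρ a) (g.rangeRestrict ⟨y, hy⟩) = g.rangeRestrict ⟨y, hy⟩ := by
    have : Ψ (ρ a) = 1 := ha
    rw [this]; rfl
  rw [inducedAutHom_apply] at h1
  have h2 : g.rangeRestrict (⟨y, hy⟩⁻¹ * ((ρ a : MulAut K) ⟨y, hy⟩)) = 1 := by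
    rw [map_mul, map_inv, h1, inv_mul_cancel]
  rw [hker] at h2
  exact h2

/-- Commutators of automorphisms preserving `N ≤ K` act trivially on a cyclic factor `K / N`. -/
theorem comm_stabilizes_factor (N K : Subgroup G) {C : Type*} [Group C] [IsCyclic C]
    (g : K →* C) (hg : ∀ y : K, g y = 1 ↔ (y : G) ∈ N) (𝒜 : Subgroup (MulAut G))
    (hN : ∀ a ∈ 𝒜, ∀ y ∈ N, a y ∈ N) (hK : ∀ a ∈ 𝒜, ∀ y ∈ K, a y ∈ K) (a b : 𝒜) :
    ∀ y ∈ K, y⁻¹ * ((⁅a, b⁆ : 𝒜) : MulAut G) y ∈ N := by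
  obtain ⟨Φ, hΦ⟩ := exists_factor_action N K g hg 𝒜 hN hK
  apply hΦ
  rw [map_commutatorElement, commutatorElement_eq_one_iff_mul_comm]
  exact mulAut_comm_of_isCyclic _ _

/-- `(p-1)`-th powers of `p'`-automorphisms preserving `N ≤ K` act trivially on a cyclic
factor `K / N` of a finite `p`-group. -/
theorem pow_pred_stabilizes_factor (N K : Subgroup G) [Finite K] {p : ℕ} [Fact p.Prime]
    (hKp : IsPGroup p K) {C : Type*} [Group C] [IsCyclic C]
    (g : K →* C) (hg : ∀ y : K, g y = 1 ↔ (y : G) ∈ N) (𝒜 : Subgroup (MulAut G))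
    (hN : ∀ a ∈ 𝒜, ∀ y ∈ N, a y ∈ N) (hK : ∀ a ∈ 𝒜, ∀ y ∈ K, a y ∈ K) (a : 𝒜) {r : ℕ}
    (hr : r.Coprime p) (har : a ^ r = 1) :
    ∀ y ∈ K, y⁻¹ * ((a ^ (p - 1) : 𝒜) : MulAut G) y ∈ N := by
  obtain ⟨Φ, hΦ⟩ := exists_factor_action N K g hg 𝒜 hN hK
  apply hΦ
  have hfin : Finite g.range := Finite.of_surjective _ g.rangeRestrict_surjective
  have hp : IsPGroup p g.range := hKp.of_surjective _ g.rangeRestrict_surjective
  rw [map_pow]
  apply mulAut_pow_pred_eq_one hp (Φ a) hr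
  rw [← map_pow, har, map_one]

end Cfsg.Agent.Lib.Helper87
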