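import Cfsg.Agent.Lib.Helper87.Lemma26
import Cfsg.Agent.Lib.Helper87.Inner

set_option autoImplicit false

namespace Cfsg.Agent.Lib.Helper87

open Cfsg Cfsg.FusionSystem

/-- Frattini argument in factorised form: if `K` is a normal subgroup containing the Sylow
`p`-subgroup `P`, every `α` can be corrected by an element of `K` so as to normalise `P`. -/
theorem frattini_factor {G : Type*} [Group G] [Finite G] {p : ℕ} [Fact p.Prime] (P : Sylow p G)
    (K : Subgroup G) [hK : K.Normal] (hPK : (P : Subgroup G) ≤ K) (α : G) :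
    ∃ k ∈ K, ∀ c ∈ (P : Subgroup G), (α * k) * c * (α * k)⁻¹ ∈ (P : Subgroup G) := by
  have hQK : ((α⁻¹ • P : Sylow p G) : Subgroup G) ≤ K := by
    intro x hx
    rw [Sylow.coe_subgroup_smul, Subgroup.mem_pointwise_smul_iff_inv_smul_mem] at hx
    have h1 := hPK hx
    rw [MulAut.smul_def, MulAut.conj_inv_apply, inv_inv] at h1
    have h2 := hK.conj_mem _ h1 α⁻¹
    have e : α⁻¹ * (α * x * α⁻¹) * α⁻¹⁻¹ = x := by group
    rwa [e] at h2
  obtain ⟨k, hk⟩ := MulAction.exists_smul_eq K (P.subtype hPK) ((α⁻¹ • P : Sylow p G).subtype hQK)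
  refine ⟨k, k.2, fun c hc => ?_⟩
  have h1 : (⟨c, hPK hc⟩ : K) ∈ ((P.subtype hPK : Sylow p K) : Subgroup K) := by
    rw [Sylow.coe_subtype]
    exact Subgroup.mem_subgroupOf.mpr hc
  have h2 : k * ⟨c, hPK hc⟩ * k⁻¹ ∈ ((k • P.subtype hPK : Sylow p K) : Subgroup K) := by
    rw [Sylow.coe_subgroup_smul, Subgroup.mem_pointwise_smul_iff_inv_smul_mem, MulAut.smul_def,
      MulAut.conj_inv_apply]
    have e : k⁻¹ * (k * ⟨c, hPK hc⟩ * k⁻¹) * k = ⟨c, hPK hc⟩ := by group
    rw [e]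
    exact h1
  rw [hk, Sylow.coe_subtype, Subgroup.mem_subgroupOf, Sylow.coe_subgroup_smul,
    Subgroup.mem_pointwise_smul_iff_inv_smul_mem, MulAut.smul_def, MulAut.conj_inv_apply, inv_inv] at h2
  have e : α * k * c * (α * k)⁻¹ = α * ((k * ⟨c, hPK hc⟩ * k⁻¹ : K) : G) * α⁻¹ := by
    simp only [Subgroup.coe_mul, Subgroup.coe_inv]
    group
  rw [e]
  exact h2

variable {Ω : Type*} [Group Ω] {S : Subgroup Ω}

/-- An automorphism in `Aut_F(R)` normalising `Aut_S(R)` extends to `N_S(R)`, for `R` fully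
normalised in a saturated system. -/
theorem extend_of_normalizes [Finite S] {p : ℕ} [Fact p.Prime] (hS : IsPGroup p S)
    (F : FusionSystem S) (hF : F.IsSaturated p) {R : Subgroup Ω} (hfn : F.IsFullyNormalized R)
    {ν : MulAut R} (hν : ν ∈ F.autGroup R)
    (hN : ∀ c ∈ autInducedBy S R, ν * c * ν⁻¹ ∈ autInducedBy S R) :
    ∃ ψ ∈ F.Hom (normalizerIn S R), ∀ (y : R) (hy : (y : Ω) ∈ normalizerIn S R),
      ψ ⟨y, hy⟩ = ν y := by
  have hRS : R ≤ S := hfn.1
  have hφ := (mem_autGroup_iff F hRS ν).mp hν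
  have hr : (R.subtype.comp ν.toMonoidHom).range = R := by
    apply le_antisymm
    · rintro _ ⟨x, rfl⟩
      exact (ν x).2
    · intro y hy
      exact ⟨ν.symm ⟨y, hy⟩, by simp⟩
  have hrec := receptive_of_fullyNormalized hS F hF hfn
  obtain ⟨ψ, hψ, hψe⟩ := extend_to_normalizer F hφ hr hrec (by
    intro s hs
    have hc : conjAut R s hs.2 ∈ autInducedBy S R := conjAut_mem_autInducedBy hs.1 hs.2
    obtain ⟨h, hh, hconj⟩ := (mem_autInducedBy_iff S R _).mp (hN _ hc)
    refine ⟨h, hh, fun x hx => ?_⟩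
    have h1 := hconj (ν x)
    have e : (ν * conjAut R s hs.2 * ν⁻¹) (ν x) = ν (conjAut R s hs.2 x) := by
      show ν (conjAut R s hs.2 (ν⁻¹ (ν x))) = _
      have : ν⁻¹ (ν x) = x := by
        show ν.symm (ν x) = x
        simp
      rw [this]
    rw [e] at h1
    have e2 : conjAut R s hs.2 x = ⟨s * x * s⁻¹, hx⟩ := Subtype.ext (conjAut_coe R s hs.2 x)
    rw [e2] at h1
    exact h1)
  exact ⟨ψ, hψ, fun y hy => hψe y hy⟩

/-- Frattini argument for fusion systems: `Aut_F(R)` is generated by the `Aut_F(R)`-conjugates of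
`Aut_S(R)` together with the automorphisms that extend to `N_S(R)`. -/
theorem autGroup_le_of_frattini [Finite S] {p : ℕ} [Fact p.Prime] (hS : IsPGroup p S)
    (F : FusionSystem S) (hF : F.IsSaturated p) {R : Subgroup Ω} (hfn : F.IsFullyNormalized R)
    (PP : Subgroup (MulAut R))
    (h1 : ∀ g ∈ F.autGroup R, ∀ c ∈ autInducedBy S R, g * c * g⁻¹ ∈ PP)
    (h2 : ∀ ν ∈ F.autGroup R, (∃ ψ ∈ F.Hom (normalizerIn S R),
      ∀ (y : R) (hy : (y : Ω) ∈ normalizerIn S R), ψ ⟨y, hy⟩ = ν y) → ν ∈ PP) :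
    F.autGroup R ≤ PP := by
  have hRS : R ≤ S := hfn.1
  have hfinR : Finite R := finite_of_le hRS
  obtain ⟨-, Sy, hSy⟩ := (fc_fa_of_fullyNormalized hS F hF hfn).2
  have hTle : autInducedBy S R ≤ F.autGroup R := autInducedBy_le_autGroup F hRS
  have hmemSy : ∀ c : F.autGroup R, c ∈ (Sy : Subgroup (F.autGroup R)) ↔
      (c : MulAut R) ∈ autInducedBy S R := by
    intro c
    rw [hSy, Subgroup.mem_subgroupOf]
  have hK : ∀ k ∈ Subgroup.normalClosure ((Sy : Subgroup (F.autGroup R)) : Set (F.autGroup R)),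
      (k : MulAut R) ∈ PP := by
    intro k hk
    have hk' : k ∈ Subgroup.closure (Group.conjugatesOfSet
        ((Sy : Subgroup (F.autGroup R)) : Set (F.autGroup R))) := hk
    refine Subgroup.closure_induction (p := fun (k : F.autGroup R) _ => (k : MulAut R) ∈ PP)
      ?_ ?_ ?_ ?_ hk'
    · intro k hk
      obtain ⟨a, ha, hak⟩ := Group.mem_conjugatesOfSet_iff.mp hk
      obtain ⟨c, hc⟩ := isConj_iff.mp hak
      rw [← hc]
      exact h1 c c.2 a ((hmemSy a).mp ha)
    · exact PP.one_mem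
    · intro a b _ _ ha hb
      exact PP.mul_mem ha hb
    · intro a _ ha
      exact PP.inv_mem ha
  intro α hα
  obtain ⟨k, hk, hnorm⟩ := frattini_factor Sy
    (Subgroup.normalClosure ((Sy : Subgroup (F.autGroup R)) : Set (F.autGroup R)))
    Subgroup.le_normalClosure ⟨α, hα⟩
  have hν : ((⟨α, hα⟩ * k : F.autGroup R) : MulAut R) ∈ PP := by
    apply h2 _ (⟨α, hα⟩ * k : F.autGroup R).2
    apply extend_of_normalizes hS F hF hfn (⟨α, hα⟩ * k : F.autGroup R).2
    intro c hc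
    have h3 := hnorm ⟨c, hTle hc⟩ ((hmemSy _).mpr hc)
    exact (hmemSy _).mp h3
  have e : α = ((⟨α, hα⟩ * k : F.autGroup R) : MulAut R) * ((k⁻¹ : F.autGroup R) : MulAut R) := by
    simp
  rw [e]
  exact PP.mul_mem hν (hK _ (Subgroup.inv_mem _ hk))

end Cfsg.Agent.Lib.Helper87
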