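import Mathlib

set_option autoImplicit false

/-!
# A coprime commutator lemma

If an automorphism `α` of a group `P` with `α ^ n = 1` moves every element inside its coset of a
subgroup `N`, then the `n`-th power of every `x⁻¹ α(x)` lies in the subgroup generated by the
`y⁻¹ α(y)`, `y ∈ N`.
-/

namespace Cfsg.Agent.Lib.Helper87

variable {P : Type*} [Group P]

/-- the subgroup `[N, α]` generated by the `y⁻¹ α(y)`, `y ∈ N` -/
def commSub (α : MulAut P) (N : Subgroup P) : Subgroup P :=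
  Subgroup.closure {w | ∃ y ∈ N, w = y⁻¹ * α y}

theorem commSub_le (α : MulAut P) (N : Subgroup P) (hN : ∀ x : P, x⁻¹ * α x ∈ N) :
    commSub α N ≤ N := by
  unfold commSub
  rw [Subgroup.closure_le]
  rintro _ ⟨y, _, rfl⟩
  exact hN y

theorem commSub_conj (α : MulAut P) (N : Subgroup P) {z w : P} (hz : z ∈ N)
    (hw : w ∈ commSub α N) : z * w * z⁻¹ ∈ commSub α N := by
  unfold commSub at hw ⊢
  refine Subgroup.closure_induction
    (p := fun w _ => z * w * z⁻¹ ∈ Subgroup.closure {w | ∃ y ∈ N, w = y⁻¹ * α y}) ?_ ?_ ?_ ?_ hw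
  · rintro _ ⟨y, hy, rfl⟩
    have h1 : (y * z⁻¹)⁻¹ * α (y * z⁻¹) ∈ Subgroup.closure {w | ∃ y ∈ N, w = y⁻¹ * α y} :=
      Subgroup.subset_closure ⟨y * z⁻¹, N.mul_mem hy (N.inv_mem hz), rfl⟩
    have h2 : (z⁻¹)⁻¹ * α (z⁻¹) ∈ Subgroup.closure {w | ∃ y ∈ N, w = y⁻¹ * α y} :=
      Subgroup.subset_closure ⟨z⁻¹, N.inv_mem hz, rfl⟩
    have e : z * (y⁻¹ * α y) * z⁻¹ = ((y * z⁻¹)⁻¹ * α (y * z⁻¹)) * ((z⁻¹)⁻¹ * α (z⁻¹))⁻¹ := by
      simp only [map_mul, map_inv]
      group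
    rw [e]
    exact Subgroup.mul_mem _ h1 (Subgroup.inv_mem _ h2)
  · simp
  · intro a b _ _ ha hb
    have e : z * (a * b) * z⁻¹ = (z * a * z⁻¹) * (z * b * z⁻¹) := by group
    rw [e]; exact Subgroup.mul_mem _ ha hb
  · intro a _ ha
    have e : z * a⁻¹ * z⁻¹ = (z * a * z⁻¹)⁻¹ := by group
    rw [e]; exact Subgroup.inv_mem _ ha

theorem exists_pow_apply_eq (α : MulAut P) (N : Subgroup P) (hN : ∀ x : P, x⁻¹ * α x ∈ N)
    (k : ℕ) : ∀ c ∈ N, ∃ w ∈ commSub α N, (α ^ k) c = c * w := by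
  induction k with
  | zero => intro c _; exact ⟨1, Subgroup.one_mem _, by simp⟩
  | succ k ih =>
    intro c hc
    obtain ⟨w, hw, he⟩ := ih c hc
    have hwN : w ∈ N := commSub_le α N hN hw
    obtain ⟨w', hw', he'⟩ := ih w hwN
    -- α^(k+1) c = α (α^k c) = α (c w)
    refine ⟨(c⁻¹ * α c) * (w⁻¹ * α w) ⁻¹⁻¹ * 1 * (w⁻¹ * α w)⁻¹ * (w * (w⁻¹ * α w)), ?_, ?_⟩
    · have h1 : c⁻¹ * α c ∈ commSub α N := Subgroup.subset_closure ⟨c, hc, rfl⟩
      have h2 : w⁻¹ * α w ∈ commSub α N := Subgroup.subset_closure ⟨w, hwN, rfl⟩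
      refine Subgroup.mul_mem _ (Subgroup.mul_mem _ (Subgroup.mul_mem _ (Subgroup.mul_mem _ h1 ?_)
        (Subgroup.one_mem _)) (Subgroup.inv_mem _ h2)) (Subgroup.mul_mem _ hw h2)
      simpa using h2
    · rw [pow_succ', MulAut.mul_apply, he, map_mul]
      group

theorem pow_comm_mem (α : MulAut P) (N : Subgroup P) (hN : ∀ x : P, x⁻¹ * α x ∈ N)
    (x : P) (k : ℕ) : ∃ w ∈ commSub α N, (α ^ k) x = x * (x⁻¹ * α x) ^ k * w := by
  induction k with
  | zero => exact ⟨1, Subgroup.one_mem _, by simp⟩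
  | succ k ih =>
    obtain ⟨w, hw, he⟩ := ih
    set c := x⁻¹ * α x with hc
    have hcN : c ∈ N := hN x
    obtain ⟨w', hw', he'⟩ := exists_pow_apply_eq α N hN k c hcN
    -- α^(k+1) x = α^k (α x) = α^k (x c) = α^k x * α^k c
    refine ⟨(c⁻¹ * w * c) * w', Subgroup.mul_mem _ ?_ hw', ?_⟩
    · have := commSub_conj α N (N.inv_mem hcN) hw
      simpa using this
    · have e1 : α x = x * c := by rw [hc]; group
      rw [pow_succ, MulAut.mul_apply, e1, map_mul, he, he']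
      rw [pow_succ]
      group

/-- the coprime commutator lemma -/
theorem comm_pow_mem_commSub (α : MulAut P) (N : Subgroup P) (hN : ∀ x : P, x⁻¹ * α x ∈ N)
    (n : ℕ) (hn : α ^ n = 1) (x : P) : (x⁻¹ * α x) ^ n ∈ commSub α N := by
  obtain ⟨w, hw, he⟩ := pow_comm_mem α N hN x n
  rw [hn] at he
  have h1 : (x⁻¹ * α x) ^ n = w⁻¹ := by
    have h2 : x = x * ((x⁻¹ * α x) ^ n * w) := by
      rw [← mul_assoc]; exact he
    have h3 : (x⁻¹ * α x) ^ n * w = 1 := by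
      have := mul_left_cancel (a := x) (b := 1) (c := (x⁻¹ * α x) ^ n * w) (by rw [mul_one]; exact h2)
      exact this.symm
    exact eq_inv_of_mul_eq_one_left h3
  rw [h1]
  exact Subgroup.inv_mem _ hw

/-- for a finite `p`-group and `n` prime to `p` the commutator itself lies in `[N, α]` -/
theorem comm_mem_commSub {p : ℕ} [Fact p.Prime] [Finite P] (hP : IsPGroup p P) (α : MulAut P)
    (N : Subgroup P) (hN : ∀ x : P, x⁻¹ * α x ∈ N) (n : ℕ) (hn : α ^ n = 1)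
    (hnp : n.Coprime p) (x : P) : x⁻¹ * α x ∈ commSub α N := by
  have h1 := comm_pow_mem_commSub α N hN n hn x
  set c := x⁻¹ * α x
  obtain ⟨j, hj⟩ := (IsPGroup.iff_orderOf.mp hP) c
  have hco : n.Coprime (orderOf c) := by
    rw [hj]; exact Nat.Coprime.pow_right j hnp
  obtain ⟨m, hm⟩ := exists_pow_eq_self_of_coprime hco
  rw [← hm]
  exact Subgroup.pow_mem _ h1 m

end Cfsg.Agent.Lib.Helper87
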