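import Cfsg.Agent.Lib.Helper87.HypAct
import Cfsg.Prelude.Def_FusionComponents

set_option autoImplicit false
open Cfsg Cfsg.FusionSystem

namespace Cfsg.Agent.Lib.Helper87

variable {Ω : Type*} [Group Ω] {S : Subgroup Ω}

/-- To bound the hyperfocal subgroup it suffices to treat automorphisms of order prime to `p`. -/
theorem hyperfocal_le_of_coprime (F : FusionSystem S) (p : ℕ) (K : Subgroup Ω)
    (h : ∀ P : Subgroup Ω, P ≤ S → ∀ α ∈ F.autGroup P, (orderOf α).Coprime p →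
      ∀ x : P, (x : Ω)⁻¹ * ((α x : P) : Ω) ∈ K) : F.hyperfocalSubgroup p ≤ K := by
  unfold hyperfocalSubgroup
  rw [Subgroup.closure_le]
  rintro _ ⟨P, α, x, hP, hα, rfl⟩
  revert x
  refine Subgroup.closure_induction
    (p := fun (β : F.autGroup P) _ => ∀ x : P, (x : Ω)⁻¹ * (((β : MulAut P) x : P) : Ω) ∈ K)
    ?_ ?_ ?_ ?_ hα
  · intro β hβ x
    have hβ' : Nat.Coprime (orderOf β) p := hβ
    rw [← Subgroup.orderOf_coe] at hβ'
    exact h P hP β β.2 hβ' x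
  · intro x
    have : (x : Ω)⁻¹ * ((((1 : F.autGroup P) : MulAut P) x : P) : Ω) = 1 := by
      show (x : Ω)⁻¹ * (x : Ω) = 1
      group
    rw [this]; exact Subgroup.one_mem _
  · intro β γ _ _ hβ hγ x
    have e : (x : Ω)⁻¹ * ((((β * γ : F.autGroup P) : MulAut P) x : P) : Ω) =
        ((x : Ω)⁻¹ * ((((γ : MulAut P) x : P)) : Ω)) *
        (((((γ : MulAut P) x : P)) : Ω)⁻¹ * (((β : MulAut P) ((γ : MulAut P) x) : P) : Ω)) := by
      rw [mul_assoc, mul_inv_cancel_left]; rfl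
    rw [e]
    exact Subgroup.mul_mem _ (hγ x) (hβ _)
  · intro β _ hβ x
    have h1 := hβ (((β⁻¹ : F.autGroup P) : MulAut P) x)
    have e1 : (β : MulAut P) (((β⁻¹ : F.autGroup P) : MulAut P) x) = x := by
      show (β : MulAut P) ((β : MulAut P).symm x) = x
      simp
    rw [e1] at h1
    have e : (x : Ω)⁻¹ * ((((β⁻¹ : F.autGroup P) : MulAut P) x : P) : Ω) =
        (((((β⁻¹ : F.autGroup P) : MulAut P) x : P) : Ω)⁻¹ * (x : Ω))⁻¹ := by
      group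
    rw [e]
    exact Subgroup.inv_mem _ h1


variable {Ω' : Type*} [Group Ω'] {S' : Subgroup Ω'}

theorem mem_preimageAlong {θ : S →* Ω'} {P' : Subgroup Ω'} {x : Ω} :
    x ∈ preimageAlong θ P' ↔ ∃ h : x ∈ S, θ ⟨x, h⟩ ∈ P' := by
  constructor
  · rintro ⟨s, hs, rfl⟩
    exact ⟨s.2, hs⟩
  · rintro ⟨h, hx⟩
    exact ⟨⟨x, h⟩, hx, rfl⟩

/-- The image of the hyperfocal subgroup under a morphism lies in the hyperfocal subgroup. -/
theorem map_hyperfocal_le [Finite S] {p : ℕ} (F : FusionSystem S) (E : FusionSystem S')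
    (θ : S →* Ω') (hmor : F.IsMorphism E θ) :
    ((F.hyperfocalSubgroup p).subgroupOf S).map θ ≤ E.hyperfocalSubgroup p := by
  have hfinS' : ∀ P' : Subgroup Ω', P' ≤ θ.range → Finite P' := by
    intro P' hP'
    have : Finite θ.range := Finite.of_surjective (fun s : S => (⟨θ s, ⟨s, rfl⟩⟩ : θ.range))
      (by rintro ⟨_, s, rfl⟩; exact ⟨s, rfl⟩)
    exact Finite.of_injective (Subgroup.inclusion hP') (Subgroup.inclusion_injective hP')
  have key : F.hyperfocalSubgroup p ≤ ((E.hyperfocalSubgroup p).comap θ).map S.subtype := by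
    apply hyperfocal_le_of_coprime
    intro P hP α hα hcop x
    obtain ⟨φ', hφ', hP₂, hφS, hθP', hind⟩ := hmor.2 P (P.subtype.comp α.toMonoidHom)
      ((mem_autGroup_iff F hP α).mp hα)
    have hP'S' : imageAlong θ P ≤ S' := hom_le E hφ'
    have hP'range : imageAlong θ P ≤ θ.range := by
      rintro _ ⟨s, -, rfl⟩
      exact ⟨s, rfl⟩
    have hfin : Finite ↥(imageAlong θ P) := hfinS' _ hP'range
    have hrep : ∀ z : ↥(imageAlong θ P), ∃ x : P, z = ⟨θ ⟨x, hP₂ x.2⟩, hθP' x⟩ := by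
      rintro ⟨_, s, hs, rfl⟩
      exact ⟨⟨s, Subgroup.mem_subgroupOf.mp hs⟩, rfl⟩
    have hmaps : ∀ z : ↥(imageAlong θ P), φ' z ∈ imageAlong θ P := by
      intro z
      obtain ⟨x, rfl⟩ := hrep z
      rw [hind x]
      exact hθP' (α x)
    obtain ⟨γ, hγ, hγe⟩ := exists_aut_of_hom E hφ' hmaps
    have hpow : ∀ n : ℕ, ∀ x : P, (((γ ^ n) ⟨θ ⟨x, hP₂ x.2⟩, hθP' x⟩ : ↥(imageAlong θ P)) : Ω') =
        θ ⟨(((α ^ n) x : P) : Ω), hP₂ ((α ^ n) x).2⟩ := by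
      intro n
      induction n with
      | zero => intro x; rfl
      | succ n ih =>
        intro x
        rw [pow_succ', pow_succ']
        show ((γ ((γ ^ n) ⟨θ ⟨x, hP₂ x.2⟩, hθP' x⟩) : ↥(imageAlong θ P)) : Ω') = _
        have e : (γ ^ n) ⟨θ ⟨x, hP₂ x.2⟩, hθP' x⟩ =
            ⟨θ ⟨(((α ^ n) x : P) : Ω), hP₂ ((α ^ n) x).2⟩, hθP' ((α ^ n) x)⟩ :=
          Subtype.ext (ih x)
        rw [e, hγe, hind]
        rfl
    have hγord : orderOf γ ∣ orderOf α := by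
      apply orderOf_dvd_of_pow_eq_one
      ext z
      obtain ⟨x, rfl⟩ := hrep z
      rw [hpow, pow_orderOf_eq_one]
      rfl
    have hγcop : (orderOf γ).Coprime p := Nat.Coprime.coprime_dvd_left hγord hcop
    refine ⟨(⟨x, hP₂ x.2⟩ : S)⁻¹ * ⟨((α x : P) : Ω), hP₂ (α x).2⟩, ?_, rfl⟩
    show θ ((⟨x, hP₂ x.2⟩ : S)⁻¹ * ⟨((α x : P) : Ω), hP₂ (α x).2⟩) ∈ E.hyperfocalSubgroup p
    rw [map_mul, map_inv]
    refine Subgroup.subset_closure ⟨imageAlong θ P, ⟨γ, hγ⟩, ⟨θ ⟨x, hP₂ x.2⟩, hθP' x⟩, hP'S', ?_, ?_⟩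
    · refine Subgroup.subset_closure ?_
      show Nat.Coprime (orderOf (⟨γ, hγ⟩ : E.autGroup (imageAlong θ P))) p
      rw [Subgroup.orderOf_mk]; exact hγcop
    · show _ = (θ ⟨x, hP₂ x.2⟩)⁻¹ * ((γ ⟨θ ⟨x, hP₂ x.2⟩, hθP' x⟩ : ↥(imageAlong θ P)) : Ω')
      have := hpow 1 x
      rw [pow_one, pow_one] at this
      rw [this]
  rw [Subgroup.map_le_iff_le_comap]
  intro s hs
  obtain ⟨s', hs', e⟩ := key (Subgroup.mem_subgroupOf.mp hs)
  have : s' = s := Subtype.ext e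
  rw [← this]
  exact hs'

/-- The hyperfocal subgroup of the target of a surjective morphism lies in the image of the
hyperfocal subgroup. -/
theorem hyperfocal_le_map [Finite S] {p : ℕ} [Fact p.Prime] (F : FusionSystem S)
    (E : FusionSystem S') (θ : S →* Ω') (hmor : F.IsSurjectiveMorphism E θ) :
    E.hyperfocalSubgroup p ≤ ((F.hyperfocalSubgroup p).subgroupOf S).map θ := by
  obtain ⟨-, hrange, hsurj⟩ := hmor
  apply hyperfocal_le_of_coprime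
  intro P' hP' α' hα' hcop y
  obtain ⟨φ, hφ, hPS, hφS, hθP, hind⟩ := hsurj P' hP' (P'.subtype.comp α'.toMonoidHom)
    ((mem_autGroup_iff E hP' α').mp hα')
  have hfin : Finite ↥(preimageAlong θ P') := finite_of_le hPS
  have hmaps : ∀ x : ↥(preimageAlong θ P'), φ x ∈ preimageAlong θ P' := by
    intro x
    rw [mem_preimageAlong]
    refine ⟨hφS x, ?_⟩
    rw [← hind x]
    exact (α' _).2
  obtain ⟨Φ, hΦ, hΦe⟩ := exists_aut_of_hom F hφ hmaps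
  obtain ⟨k, hk1, hk2⟩ := exists_pow_coprime α' hcop Φ
  have hpow : ∀ n : ℕ, ∀ x : ↥(preimageAlong θ P'),
      θ ⟨(((Φ ^ n) x : ↥(preimageAlong θ P')) : Ω), hPS ((Φ ^ n) x).2⟩ =
        (((α' ^ n) ⟨θ ⟨x, hPS x.2⟩, hθP x⟩ : P') : Ω') := by
    intro n
    induction n with
    | zero => intro x; rfl
    | succ n ih =>
      intro x
      rw [pow_succ', pow_succ']
      show θ ⟨((Φ ((Φ ^ n) x) : ↥(preimageAlong θ P')) : Ω), _⟩ =
        ((α' ((α' ^ n) ⟨θ ⟨x, hPS x.2⟩, hθP x⟩) : P') : Ω')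
      have e : (α' ^ n) ⟨θ ⟨x, hPS x.2⟩, hθP x⟩ =
          ⟨θ ⟨(((Φ ^ n) x : ↥(preimageAlong θ P')) : Ω), hPS ((Φ ^ n) x).2⟩, hθP ((Φ ^ n) x)⟩ :=
        Subtype.ext (ih x).symm
      rw [e]
      have h1 := hind ((Φ ^ n) x)
      have h2 : (P'.subtype.comp α'.toMonoidHom)
          ⟨θ ⟨(((Φ ^ n) x : ↥(preimageAlong θ P')) : Ω), hPS ((Φ ^ n) x).2⟩, hθP ((Φ ^ n) x)⟩ =
          ((α' ⟨θ ⟨(((Φ ^ n) x : ↥(preimageAlong θ P')) : Ω), hPS ((Φ ^ n) x).2⟩,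
            hθP ((Φ ^ n) x)⟩ : P') : Ω') := rfl
      rw [← h2, h1]
      congr 1
      exact Subtype.ext (hΦe _)
  -- a preimage of y
  have hyS' : (y : Ω') ∈ θ.range := hrange ▸ hP' y.2
  obtain ⟨s, hs⟩ := hyS'
  have hsP : (s : Ω) ∈ preimageAlong θ P' := mem_preimageAlong.mpr ⟨s.2, by
    have : (⟨(s : Ω), s.2⟩ : S) = s := rfl
    rw [this, hs]; exact y.2⟩
  have hy : y = ⟨θ ⟨((⟨s, hsP⟩ : ↥(preimageAlong θ P')) : Ω), hPS hsP⟩, hθP ⟨s, hsP⟩⟩ :=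
    Subtype.ext hs.symm
  have h3 := hpow k ⟨s, hsP⟩
  rw [hk1, ← hy] at h3
  refine ⟨(s : S)⁻¹ * ⟨(((Φ ^ k) ⟨s, hsP⟩ : ↥(preimageAlong θ P')) : Ω),
    hPS ((Φ ^ k) ⟨s, hsP⟩).2⟩, ?_, ?_⟩
  · rw [SetLike.mem_coe, Subgroup.mem_subgroupOf]
    show (s : Ω)⁻¹ * (((Φ ^ k) ⟨s, hsP⟩ : ↥(preimageAlong θ P')) : Ω) ∈ F.hyperfocalSubgroup p
    refine Subgroup.subset_closure ⟨preimageAlong θ P', ⟨Φ ^ k, Subgroup.pow_mem _ hΦ k⟩,
      ⟨s, hsP⟩, hPS, ?_, rfl⟩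
    refine Subgroup.subset_closure ?_
    show Nat.Coprime (orderOf (⟨Φ ^ k, Subgroup.pow_mem _ hΦ k⟩ :
      F.autGroup (preimageAlong θ P'))) p
    rw [Subgroup.orderOf_mk]; exact hk2
  · rw [map_mul, map_inv, hs, h3]

end Cfsg.Agent.Lib.Helper87
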