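import Cfsg.Agent.Lib.Helper34.TateDefs
import Cfsg.Agent.Lib.Helper87.CoprimeComm
import Cfsg.Agent.Lib.Helper87.HypQuot

set_option autoImplicit false
set_option linter.unusedVariables false

/-!
# [T6] of the Tate project: the hyperfocal subgroup of a subsystem of `p`-power index
-/

namespace Cfsg.Agent.Lib.Helper34.Tate

open Cfsg Cfsg.FusionSystem
open Cfsg.Agent.Lib.Helper87

variable {Ω : Type*} [Group Ω] {S : Subgroup Ω}

/-- the commutators of an `F`-automorphism lie in the focal subgroup -/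
theorem comm_mem_focal (F : FusionSystem S) {P : Subgroup Ω} (hP : P ≤ S) {α : MulAut P}
    (hα : α ∈ F.autGroup P) (x : P) : (x : Ω)⁻¹ * ((α x : P) : Ω) ∈ F.focalSubgroup := by
  have h := (mem_autGroup_iff F hP α).mp hα
  exact Subgroup.subset_closure ⟨P, P.subtype.comp α.toMonoidHom, x, h, rfl⟩

/-- elements of order prime to `p` of `Aut_E(P)` give generators of the hyperfocal subgroup -/
theorem comm_mem_hyperfocal {T : Subgroup Ω} (E : FusionSystem T) (p : ℕ) {P : Subgroup Ω}
    (hP : P ≤ T) {α : MulAut P} (hα : α ∈ E.autGroup P) (hco : (orderOf α).Coprime p) (x : P) :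
    (x : Ω)⁻¹ * ((α x : P) : Ω) ∈ E.hyperfocalSubgroup p := by
  refine Subgroup.subset_closure ⟨P, ⟨α, hα⟩, x, hP, ?_, rfl⟩
  refine Subgroup.subset_closure ?_
  show Nat.Coprime (orderOf (⟨α, hα⟩ : E.autGroup P)) p
  rw [Subgroup.orderOf_mk]; exact hco

theorem hyperfocal_eq_of_ppower [Finite S] {p : ℕ} [Fact p.Prime] (hS : IsPGroup p S)
    (F : FusionSystem S) (hF : F.IsSaturated p) {T : Subgroup Ω} (hTS : T ≤ S)
    (hfoc : F.focalSubgroup ≤ T) (E : FusionSystem T) (hE : E.IsSaturated p)
    (hEi : E.HasPPowerIndexIn F p) : E.hyperfocalSubgroup p = F.hyperfocalSubgroup p := by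
  obtain ⟨hEF, -, hres⟩ := hEi
  apply le_antisymm
  · -- `hyp(E) ≤ hyp(F)`
    refine hyperfocal_le_of_coprime E p _ ?_
    intro P hP α hα hco x
    have hPS : P ≤ S := hP.trans hTS
    have hαF : α ∈ F.autGroup P := by
      rw [mem_autGroup_iff F hPS]
      exact hEF P ((mem_autGroup_iff E hP α).mp hα)
    exact comm_mem_hyperfocal F p hPS hαF hco x
  · -- `hyp(F) ≤ hyp(E)`
    refine hyperfocal_le_of_coprime F p _ ?_
    intro P hP α hα hco x
    have hfinP : Finite P := Finite.of_injective (Subgroup.inclusion hP)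
      (Subgroup.inclusion_injective hP)
    have hPp : IsPGroup p P := hS.of_injective (Subgroup.inclusion hP)
      (Subgroup.inclusion_injective hP)
    -- `N = P ∩ T` inside `P`
    let N : Subgroup P := T.subgroupOf P
    have hN : ∀ y : P, y⁻¹ * α y ∈ N := by
      intro y
      show ((y⁻¹ * α y : P) : Ω) ∈ T
      exact hfoc (comm_mem_focal F hP hα y)
    have h1 : x⁻¹ * α x ∈ commSub α N :=
      comm_mem_commSub hPp α N hN (orderOf α) (pow_orderOf_eq_one α) hco x
    -- `[N, α]` lies in `hyp(E)`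
    have h2 : commSub α N ≤ (E.hyperfocalSubgroup p).comap P.subtype := by
      unfold commSub
      rw [Subgroup.closure_le]
      rintro _ ⟨y, hy, rfl⟩
      show ((y⁻¹ * α y : P) : Ω) ∈ E.hyperfocalSubgroup p
      -- the restriction of `α` to `P₀ = P ⊓ T`
      have hyT : (y : Ω) ∈ T := hy
      have hinv : ∀ z : P, (z : Ω) ∈ T → ((α z : P) : Ω) ∈ T := by
        intro z hz
        have h3 : ((z⁻¹ * α z : P) : Ω) ∈ T := hN z
        have e : ((α z : P) : Ω) = (z : Ω) * ((z⁻¹ * α z : P) : Ω) := by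
          show _ = (z : Ω) * ((z : Ω)⁻¹ * ((α z : P) : Ω))
          group
        rw [e]; exact T.mul_mem hz h3
      have hinv' : ∀ z : P, (z : Ω) ∈ T → ((α⁻¹ z : P) : Ω) ∈ T := by
        intro z hz
        by_contra hcon
        -- `α` permutes the finite set `N`
        have hinj : Function.Injective (fun u : N => (⟨α u, hinv u u.2⟩ : N)) := by
          intro a b hab
          have := congrArg (fun u : N => (u : P)) hab
          exact Subtype.ext (α.injective this)
        have hsurj := Finite.injective_iff_surjective.mp hinj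
        obtain ⟨u, hu⟩ := hsurj ⟨z, hz⟩
        have hu' : α u = z := congrArg (fun u : N => (u : P)) hu
        have : α⁻¹ z = u := by
          rw [← hu']
          show α.symm (α u) = u
          simp
        rw [this] at hcon
        exact hcon u.2
      let P₀ : Subgroup Ω := P ⊓ T
      have hP₀T : P₀ ≤ T := inf_le_right
      have hP₀P : P₀ ≤ P := inf_le_left
      let α₀ : MulAut P₀ :=
        { toFun := fun z => ⟨((α ⟨z, hP₀P z.2⟩ : P) : Ω), ⟨(α ⟨z, hP₀P z.2⟩ : P).2, hinv _ z.2.2⟩⟩
          invFun := fun z => ⟨((α⁻¹ ⟨z, hP₀P z.2⟩ : P) : Ω),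
            ⟨(α⁻¹ ⟨z, hP₀P z.2⟩ : P).2, hinv' _ z.2.2⟩⟩
          left_inv := by
            intro z
            apply Subtype.ext
            show ((α⁻¹ (α ⟨z, hP₀P z.2⟩) : P) : Ω) = z
            have : α⁻¹ (α ⟨z, hP₀P z.2⟩) = ⟨z, hP₀P z.2⟩ := by
              show α.symm (α _) = _
              simp
            rw [this]
          right_inv := by
            intro z
            apply Subtype.ext
            show ((α (α⁻¹ ⟨z, hP₀P z.2⟩) : P) : Ω) = z
            have : α (α⁻¹ ⟨z, hP₀P z.2⟩) = ⟨z, hP₀P z.2⟩ := by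
              show α (α.symm _) = _
              simp
            rw [this]
          map_mul' := by
            intro a b
            apply Subtype.ext
            show ((α ⟨(a * b : P₀), _⟩ : P) : Ω) = ((α ⟨a, _⟩ : P) : Ω) * ((α ⟨b, _⟩ : P) : Ω)
            have : (⟨((a * b : P₀) : Ω), hP₀P (a * b).2⟩ : P) =
                ⟨a, hP₀P a.2⟩ * ⟨b, hP₀P b.2⟩ := rfl
            rw [this, map_mul]; rfl }
      have hα₀app : ∀ z : P₀, ((α₀ z : P₀) : Ω) = ((α ⟨z, hP₀P z.2⟩ : P) : Ω) := fun _ => rfl
      have hpow : ∀ (k : ℕ) (z : P₀),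
          (((α₀ ^ k) z : P₀) : Ω) = (((α ^ k) ⟨z, hP₀P z.2⟩ : P) : Ω) := by
        intro k
        induction k with
        | zero => intro z; rfl
        | succ k ih =>
          intro z
          rw [pow_succ', pow_succ', MulAut.mul_apply, MulAut.mul_apply, hα₀app]
          have : (⟨(((α₀ ^ k) z : P₀) : Ω), hP₀P ((α₀ ^ k) z).2⟩ : P) =
              (α ^ k) ⟨z, hP₀P z.2⟩ := Subtype.ext (ih z)
          rw [this]
      have hord : orderOf α₀ ∣ orderOf α := by
        apply orderOf_dvd_of_pow_eq_one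
        ext z
        rw [hpow, pow_orderOf_eq_one]
        rfl
      have hco₀ : (orderOf α₀).Coprime p := Nat.Coprime.coprime_dvd_left hord hco
      have hP₀S : P₀ ≤ S := hP₀T.trans hTS
      have hα₀F : α₀ ∈ F.autGroup P₀ := by
        rw [mem_autGroup_iff F hP₀S]
        have h4 := restrict_mem F ((mem_autGroup_iff F hP α).mp hα) hP₀P
        have e : P₀.subtype.comp α₀.toMonoidHom =
            (P.subtype.comp α.toMonoidHom).comp (Subgroup.inclusion hP₀P) := by
          ext z; rfl
        rw [e]; exact h4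
      have hα₀E : α₀ ∈ E.autGroup P₀ := hres P₀ hP₀T (mem_map_pResidual hα₀F hco₀)
      have h5 := comm_mem_hyperfocal E p hP₀T hα₀E hco₀ ⟨y, ⟨y.2, hyT⟩⟩
      exact h5
    exact h2 h1

end Cfsg.Agent.Lib.Helper34.Tate
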