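import Mathlib
import Cfsg.Agent.Lib.Helper39.OoDefs
import Cfsg.Agent.Lib.Helper37.OmegaCenter2
import Cfsg.Agent.Lib.Helper37.OrthOdd1
import Cfsg.Agent.Lib.Helper43.OrthCardForms

/-!
# OO hive (S2547, owner helper39): leaf OO-CENTER `center_omega` (helper87)

The centre of `Ω_{2m+1}(F)` (`2 ≠ 0`, `m ≥ 1`) consists of `±1`.  Route B of the skeleton:
helper37's `eq_one_or_neg_one` for `oddForm m F`, with its hypotheses `h3` (no norm class lies
in a plane) and `hspan` (the vectors of norm one span) proved directly for `m ≥ 1`.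
-/

set_option autoImplicit false
set_option linter.unusedSectionVars false
set_option linter.unusedVariables false
set_option linter.unusedSimpArgs false

namespace Cfsg.Agent.Lib.Helper39.OoBN

open Matrix Cfsg QuadraticMap
open Cfsg.Agent.Lib.Helper43 Cfsg.Agent.Lib.Helper37 Cfsg.Agent.Lib.Helper8

variable {F : Type*} [Field F] {m : ℕ}

/-- the value of the odd form on `s e₀ + a x_i + b y_i` -/
theorem center_Q_comb (i : Fin m) (s a b : F) :
    oddForm m F (s • Pi.single (e0 : Idx m) 1 + a • Pi.single (xi i) 1 + b • Pi.single (yi i) 1)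
      = s ^ 2 + a * b := by
  rw [← oddForm_coe]
  unfold Cfsg.quadFormOdd
  set w : Idx m → F :=
    s • Pi.single (e0 : Idx m) 1 + a • Pi.single (xi i) 1 + b • Pi.single (yi i) 1 with hw
  have h0 : w (Sum.inl ()) = s := by
    simp [hw, e0, xi, yi, Pi.single_apply]
  have h1 : ∀ j : Fin m, w (Sum.inr (Sum.inl j)) = if j = i then a else 0 := by
    intro j
    simp [hw, e0, xi, yi, Pi.single_apply]
  have h2 : ∀ j : Fin m, w (Sum.inr (Sum.inr j)) = if j = i then b else 0 := by
    intro j
    simp [hw, e0, xi, yi, Pi.single_apply]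
  rw [h0]
  simp only [h1, h2]
  rw [Finset.sum_eq_single i]
  · simp
  · intro j _ hj; simp [hj]
  · intro h; exact absurd (Finset.mem_univ i) h

/-- no norm class of the odd form lies in a plane (`m ≥ 1`, `2 ≠ 0`) -/
theorem center_h3 (h2 : (2 : F) ≠ 0) (hm : 1 ≤ m) (c : F) (u v : Idx m → F) :
    ∃ b, oddForm m F b = c ∧ b ∉ Submodule.span F {u, v} := by
  classical
  by_contra hcon
  push Not at hcon
  set i : Fin m := ⟨0, by omega⟩ with hi
  set b : Fin 3 → Idx m → F := ![
    (0 : F) • Pi.single (e0 : Idx m) 1 + (1 : F) • Pi.single (xi i) 1 + c • Pi.single (yi i) 1,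
    (1 : F) • Pi.single (e0 : Idx m) 1 + (1 : F) • Pi.single (xi i) 1 + (c - 1) • Pi.single (yi i) 1,
    (-1 : F) • Pi.single (e0 : Idx m) 1 + (1 : F) • Pi.single (xi i) 1 + (c - 1) • Pi.single (yi i) 1]
    with hb
  have hQb : ∀ j, oddForm m F (b j) = c := by
    intro j
    fin_cases j
    · show oddForm m F ((0 : F) • Pi.single (e0 : Idx m) 1 + (1 : F) • Pi.single (xi i) 1 +
        c • Pi.single (yi i) 1) = c
      rw [center_Q_comb]; ring
    · show oddForm m F ((1 : F) • Pi.single (e0 : Idx m) 1 + (1 : F) • Pi.single (xi i) 1 +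
        (c - 1) • Pi.single (yi i) 1) = c
      rw [center_Q_comb]; ring
    · show oddForm m F ((-1 : F) • Pi.single (e0 : Idx m) 1 + (1 : F) • Pi.single (xi i) 1 +
        (c - 1) • Pi.single (yi i) 1) = c
      rw [center_Q_comb]; ring
  have hmem : ∀ j, b j ∈ Submodule.span F {u, v} := fun j => hcon (b j) (hQb j)
  have hli : LinearIndependent F b := by
    rw [Fintype.linearIndependent_iff]
    intro g hg
    rw [Fin.sum_univ_three] at hg
    have e0' := congrFun hg (e0 : Idx m)
    have ex := congrFun hg (xi i)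
    have ey := congrFun hg (yi i)
    simp [hb, e0, xi, yi, Pi.single_apply] at e0' ex ey
    have hg12 : g 1 = g 2 := by linear_combination e0'
    have hs : g 1 + g 2 = 0 := by linear_combination c * ex - ey
    have hg1 : g 1 = 0 := by
      have : (2 : F) * g 1 = 0 := by linear_combination hs + hg12
      rcases mul_eq_zero.mp this with h | h
      · exact absurd h h2
      · exact h
    have hg2 : g 2 = 0 := by rw [← hg12]; exact hg1
    have hg0 : g 0 = 0 := by rw [hg1, hg2] at ex; linear_combination ex
    intro j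
    fin_cases j
    · exact hg0
    · exact hg1
    · exact hg2
  have hle : Submodule.span F (Set.range b) ≤ Submodule.span F {u, v} := by
    rw [Submodule.span_le]
    rintro _ ⟨j, rfl⟩
    exact hmem j
  have h3 : Module.finrank F (Submodule.span F (Set.range b)) = 3 := by
    rw [finrank_span_eq_card hli]; simp
  have h4 : Module.finrank F (Submodule.span F ({u, v} : Set (Idx m → F))) ≤ 2 := by
    have := finrank_span_le_card (R := F) ({u, v} : Set (Idx m → F))
    have h5 : ({u, v} : Set (Idx m → F)).toFinset.card ≤ 2 := by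
      rw [Set.toFinset_insert, Set.toFinset_singleton]
      exact Finset.card_le_two
    omega
  have := Submodule.finrank_mono hle
  omega

/-- the vectors of norm one span (`m` arbitrary) -/
theorem center_hspan : Submodule.span F {a : Idx m → F | oddForm m F a = 1} = ⊤ := by
  classical
  rw [eq_top_iff]
  have he0 : (Pi.single (e0 : Idx m) (1 : F)) ∈ Submodule.span F {a : Idx m → F | oddForm m F a = 1} := by
    apply Submodule.subset_span
    show oddForm m F _ = 1
    rcases Nat.eq_zero_or_pos m with hm | hm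
    · subst hm
      rw [← oddForm_coe]
      simp [Cfsg.quadFormOdd, e0]
    · have := center_Q_comb (F := F) (⟨0, hm⟩ : Fin m) 1 0 0
      simpa using this
  have hx : ∀ i : Fin m, (Pi.single (xi i) (1 : F)) ∈
      Submodule.span F {a : Idx m → F | oddForm m F a = 1} := by
    intro i
    have h1 : (Pi.single (e0 : Idx m) (1 : F) + Pi.single (xi i) 1) ∈
        Submodule.span F {a : Idx m → F | oddForm m F a = 1} := by
      apply Submodule.subset_span
      show oddForm m F _ = 1
      have := center_Q_comb (F := F) i 1 1 0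
      simpa using this
    have : (Pi.single (xi i) (1 : F) : Idx m → F) =
        ((Pi.single (e0 : Idx m) (1 : F) : Idx m → F) + (Pi.single (xi i) (1 : F) : Idx m → F)) -
        (Pi.single (e0 : Idx m) (1 : F) : Idx m → F) := by abel
    rw [this]
    exact Submodule.sub_mem _ h1 he0
  have hy : ∀ i : Fin m, (Pi.single (yi i) (1 : F)) ∈
      Submodule.span F {a : Idx m → F | oddForm m F a = 1} := by
    intro i
    have h1 : (Pi.single (e0 : Idx m) (1 : F) + Pi.single (yi i) 1) ∈
        Submodule.span F {a : Idx m → F | oddForm m F a = 1} := by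
      apply Submodule.subset_span
      show oddForm m F _ = 1
      have := center_Q_comb (F := F) i 1 0 1
      simpa using this
    have : (Pi.single (yi i) (1 : F) : Idx m → F) =
        ((Pi.single (e0 : Idx m) (1 : F) : Idx m → F) + (Pi.single (yi i) (1 : F) : Idx m → F)) -
        (Pi.single (e0 : Idx m) (1 : F) : Idx m → F) := by abel
    rw [this]
    exact Submodule.sub_mem _ h1 he0
  have hall : ∀ a : Idx m, (Pi.single a (1 : F)) ∈
      Submodule.span F {a : Idx m → F | oddForm m F a = 1} := by
    rintro (u | i | i)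
    · exact he0
    · exact hx i
    · exact hy i
  intro x _
  have hx' : x = ∑ a : Idx m, x a • Pi.single a (1 : F) := by
    funext c
    simp [Finset.sum_apply, Pi.single_apply]
  rw [hx']
  exact Submodule.sum_mem _ (fun a _ => Submodule.smul_mem _ _ (hall a))

/-- the general statement, for a function `Q'` propositionally equal to the odd form -/
theorem center_aux (h2 : (2 : F) ≠ 0) (hm : 1 ≤ m) (Q' : (Idx m → F) → F)
    (hQ' : Q' = ⇑(oddForm m F)) (z : ↥(Cfsg.Omega F Q'))
    (hz : z ∈ Subgroup.center ↥(Cfsg.Omega F Q')) :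
    (((z : ↥(Cfsg.isometryGroup F Q')) : GL (Idx m) F) : Matrix (Idx m) (Idx m) F) = 1 ∨
      (((z : ↥(Cfsg.isometryGroup F Q')) : GL (Idx m) F) : Matrix (Idx m) (Idx m) F) = -1 := by
  subst hQ'
  have hnd := Cfsg.Agent.Lib.Helper37.OrthField.odd_nondeg (F := F) m h2
  apply eq_one_or_neg_one (oddForm m F) hnd (z : ↥(Cfsg.isometryGroup F ⇑(oddForm m F)))
  · intro a b ha hb hab
    have hw := refl_mul_refl_mem_omega (oddForm m F) hnd a b ha hb hab
    have hc := Subgroup.mem_center_iff.mp hz ⟨_, hw⟩
    have := congrArg (fun w : ↥(Cfsg.Omega F ⇑(oddForm m F)) =>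
      (w : ↥(Cfsg.isometryGroup F ⇑(oddForm m F)))) hc
    simp only [Subgroup.coe_mul] at this
    exact this.symm
  · intro c _ u v
    exact center_h3 h2 hm c u v
  · exact center_hspan

/-- LEAF CENTER. -/
theorem center_omega (h2 : (2 : F) ≠ 0) (hm : 1 ≤ m)
    (z : ↥(Cfsg.Omega F (Cfsg.quadFormOdd m F)))
    (hz : z ∈ Subgroup.center ↥(Cfsg.Omega F (Cfsg.quadFormOdd m F))) :
    mat (z : OG F m) = 1 ∨ mat (z : OG F m) = -1 :=
  center_aux h2 hm (Cfsg.quadFormOdd m F) (oddForm_coe m F) z hz

end Cfsg.Agent.Lib.Helper39.OoBN
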