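import Mathlib
import Cfsg.Agent.Lib.Helper22.CgDefs
import Cfsg.Agent.Lib.Helper12.PsDefs

/-! Ps hive (S4321): leaf PSH2. -/

set_option autoImplicit false

namespace Cfsg.Agent.Lib.Helper12.Ps

open Subgroup Cfsg.Agent.Lib.Helper22.Cg

universe u

/-- PSH2. with `P` normal, an element with `p ∤ cs g` centralizes `P`. -/
theorem psH2 {G : Type u} [Group G] [Finite G] (p : ℕ) [Fact p.Prime] (P : Sylow p G)
    (hPn : ∀ h : G, ∀ y ∈ P, h * y * h⁻¹ ∈ P) (g : G) (hpg : ¬ p ∣ cs g) :
    ∀ y ∈ P, g * y = y * g := by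
  classical
  have hCdef : ∀ y : G, y ∈ centralizer ({g} : Set G) → g * y = y * g := by
    intro y hy
    rw [Subgroup.mem_centralizer_iff] at hy
    exact hy g rfl
  obtain ⟨Q⟩ : Nonempty (Sylow p (centralizer ({g} : Set G))) := inferInstance
  have hQ' : IsPGroup p ((Q : Subgroup (centralizer ({g} : Set G))).map
      (centralizer ({g} : Set G)).subtype) := Q.2.map _
  obtain ⟨R, hR⟩ := hQ'.exists_le_sylow
  have hRP : (R : Subgroup G) = (P : Subgroup G) := by
    obtain ⟨k, hk⟩ := MulAction.exists_smul_eq G P R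
    rw [← hk, Sylow.coe_subgroup_smul]
    ext x
    rw [Subgroup.mem_pointwise_smul_iff_inv_smul_mem]
    have hmem : ∀ z : G, z ∈ (P : Subgroup G) ↔ z ∈ P := fun z => Iff.rfl
    constructor
    · intro hx
      have hx' : k⁻¹ * x * k⁻¹⁻¹ ∈ (P : Subgroup G) := by simpa [MulAut.smul_def] using hx
      have h3 := hPn k _ ((hmem _).1 hx')
      have h4 : k * (k⁻¹ * x * k⁻¹⁻¹) * k⁻¹ = x := by group
      rw [h4] at h3
      exact (hmem _).2 h3
    · intro hx
      have h3 := hPn k⁻¹ x ((hmem _).1 hx)
      have h4 : (MulAut.conj k)⁻¹ • x = k⁻¹ * x * k⁻¹⁻¹ := by simp [MulAut.smul_def]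
      rw [h4]
      exact (hmem _).2 h3
  have hcardQ : Nat.card ((Q : Subgroup (centralizer ({g} : Set G))).map
      (centralizer ({g} : Set G)).subtype) =
      p ^ (Nat.card (centralizer ({g} : Set G))).factorization p := by
    rw [Subgroup.card_subtype]
    exact Q.card_eq_multiplicity
  have hcardP : Nat.card (P : Subgroup G) = p ^ (Nat.card G).factorization p :=
    P.card_eq_multiplicity
  have hfac : (Nat.card G).factorization p =
      (Nat.card (centralizer ({g} : Set G))).factorization p := by
    have h1 := (centralizer ({g} : Set G)).card_mul_index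
    rw [← h1, Nat.factorization_mul (Nat.card_pos.ne') Subgroup.index_ne_zero_of_finite]
    have : (centralizer ({g} : Set G)).index.factorization p = 0 :=
      Nat.factorization_eq_zero_of_not_dvd hpg
    simp [this]
  have heq : (Q : Subgroup (centralizer ({g} : Set G))).map
      (centralizer ({g} : Set G)).subtype = (P : Subgroup G) := by
    apply Subgroup.eq_of_le_of_card_ge (hR.trans hRP.le)
    rw [hcardQ, hcardP, hfac]
  intro y hy
  apply hCdef
  have : y ∈ (Q : Subgroup (centralizer ({g} : Set G))).map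
      (centralizer ({g} : Set G)).subtype := by rw [heq]; exact hy
  exact Subgroup.map_subtype_le _ this

end Cfsg.Agent.Lib.Helper12.Ps
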