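import Cfsg.Agent.Lib.Helper87.FusionBasic

set_option autoImplicit false

namespace Cfsg.Agent.Lib.Helper87

open Cfsg Cfsg.FusionSystem

variable {Ω : Type*} [Group Ω] {S : Subgroup Ω}

/-- The isomorphism of `P` onto `Q` induced by an injective map with range `Q`. -/
noncomputable def isoOfHom {P Q : Subgroup Ω} (φ : P →* Ω) (hinj : Function.Injective φ)
    (hr : φ.range = Q) : P ≃* Q :=
  (MonoidHom.ofInjective hinj).trans (MulEquiv.subgroupCongr hr)

theorem isoOfHom_apply {P Q : Subgroup Ω} (φ : P →* Ω) (hinj : Function.Injective φ)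
    (hr : φ.range = Q) (x : P) : ((isoOfHom φ hinj hr x : Q) : Ω) = φ x := rfl

theorem autGroup_congr_mem (F : FusionSystem S) {P Q : Subgroup Ω} {φ : P →* Ω}
    (hφ : φ ∈ F.Hom P) (hr : φ.range = Q) (e : P ≃* Q) (he : ∀ x : P, ((e x : Q) : Ω) = φ x)
    {α : MulAut P} (hα : α ∈ F.autGroup P) : MulAut.congr e α ∈ F.autGroup Q := by
  have hP : P ≤ S := hom_le F hφ
  have hQ : Q ≤ S := hr ▸ range_le F hφ
  rw [mem_autGroup_iff F hP] at hα
  rw [mem_autGroup_iff F hQ]
  obtain ⟨ψ, hψ, hinv, hψr⟩ := inv_exists F hφ hr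
  have hψe : ∀ y : Q, ψ y = ((e.symm y : P) : Ω) := by
    intro y
    have h1 : φ (e.symm y) ∈ Q := by rw [← he]; exact (e (e.symm y)).2
    have h2 := hinv (e.symm y) h1
    have h3 : (⟨φ (e.symm y), h1⟩ : Q) = y := by
      apply Subtype.ext
      show φ (e.symm y) = y
      rw [← he]
      simp
    rw [h3] at h2
    exact h2
  have hm1 : ∀ y : Q, ψ y ∈ P := fun y => by rw [hψe]; exact (e.symm y).2
  have c1 := F.comp_mem hψ hα hm1
  have hm2 : ∀ y : Q, ((P.subtype.comp α.toMonoidHom).comp (ψ.codRestrict P hm1)) y ∈ P :=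
    fun y => (α _).2
  have c2 := F.comp_mem c1 hφ hm2
  have e2 : φ.comp (((P.subtype.comp α.toMonoidHom).comp (ψ.codRestrict P hm1)).codRestrict P hm2) =
      Q.subtype.comp (MulAut.congr e α).toMonoidHom := by
    ext y
    show φ ⟨((α ⟨ψ y, hm1 y⟩ : P) : Ω), _⟩ = ((e (α (e.symm y)) : Q) : Ω)
    rw [he]
    congr 1
    apply Subtype.ext
    show ((α ⟨ψ y, hm1 y⟩ : P) : Ω) = ((α (e.symm y) : P) : Ω)
    congr 2
    exact Subtype.ext (hψe y)
  rwa [e2] at c2

theorem autGroup_map_congr (F : FusionSystem S) {P Q : Subgroup Ω} {φ : P →* Ω}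
    (hφ : φ ∈ F.Hom P) (hr : φ.range = Q) (e : P ≃* Q) (he : ∀ x : P, ((e x : Q) : Ω) = φ x) :
    (F.autGroup P).map (MulAut.congr e).toMonoidHom = F.autGroup Q := by
  apply le_antisymm
  · rintro _ ⟨α, hα, rfl⟩
    exact autGroup_congr_mem F hφ hr e he hα
  · intro β hβ
    obtain ⟨ψ, hψ, hinv, hψr⟩ := inv_exists F hφ hr
    have hψe : ∀ y : Q, ((e.symm y : P) : Ω) = ψ y := by
      intro y
      have h1 : φ (e.symm y) ∈ Q := by rw [← he]; exact (e (e.symm y)).2
      have h2 := hinv (e.symm y) h1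
      have h3 : (⟨φ (e.symm y), h1⟩ : Q) = y := by
        apply Subtype.ext
        show φ (e.symm y) = y
        rw [← he]
        simp
      rw [h3] at h2
      exact h2.symm
    have := autGroup_congr_mem F hψ hψr e.symm hψe hβ
    refine ⟨_, this, ?_⟩
    ext y
    simp [MulAut.congr]

end Cfsg.Agent.Lib.Helper87
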