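import Cfsg.Agent.Lib.Helper87.FusionBasic
import Cfsg.Agent.Lib.Helper87.AutTransport
import Cfsg.Agent.Lib.Helper87.PCore

set_option autoImplicit false

namespace Cfsg.Agent.Lib.Helper87

open Cfsg Cfsg.FusionSystem
open scoped Pointwise

variable {Ω : Type*} [Group Ω] {S : Subgroup Ω}

theorem le_normalizerIn {P : Subgroup Ω} (hP : P ≤ S) : P ≤ normalizerIn S P :=
  le_inf hP Subgroup.le_normalizer

/-- The automorphism of `P` induced by conjugation with an element of the normalizer. -/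
def conjAut (P : Subgroup Ω) (g : Ω) (hg : g ∈ Subgroup.normalizer (P : Set Ω)) : MulAut P :=
  P.normalizerMonoidHom ⟨g, hg⟩

theorem conjAut_coe (P : Subgroup Ω) (g : Ω) (hg : g ∈ Subgroup.normalizer (P : Set Ω)) (x : P) :
    ((conjAut P g hg x : P) : Ω) = g * x * g⁻¹ := rfl

theorem conjAut_mem_autInducedBy {K P : Subgroup Ω} {g : Ω} (hgK : g ∈ K)
    (hg : g ∈ Subgroup.normalizer (P : Set Ω)) : conjAut P g hg ∈ autInducedBy K P :=
  (mem_autInducedBy_iff K P _).mpr ⟨g, hgK, fun _ => rfl⟩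

theorem autInducedBy_le_autGroup (F : FusionSystem S) {P : Subgroup Ω} (hP : P ≤ S) :
    autInducedBy S P ≤ F.autGroup P := by
  intro α hα
  obtain ⟨g, hg, hα⟩ := (mem_autInducedBy_iff S P α).mp hα
  rw [mem_autGroup_iff F hP]
  have e : P.subtype.comp α.toMonoidHom = conjHom P g := by
    ext x
    exact hα x
  rw [e]
  exact F.conj_mem hP hg

theorem autInducedBy_isPGroup {p : ℕ} (hS : IsPGroup p S) (P : Subgroup Ω) :
    IsPGroup p (autInducedBy S P) := by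
  rintro ⟨α, hα⟩
  obtain ⟨g, hg, hα⟩ := (mem_autInducedBy_iff S P α).mp hα
  obtain ⟨k, hk⟩ := hS ⟨g, hg⟩
  have hk' : g ^ (p ^ k) = 1 := by
    have := congrArg Subtype.val hk
    simpa using this
  refine ⟨k, Subtype.ext ?_⟩
  have hpow : ∀ (n : ℕ) (x : P), (((α ^ n) x : P) : Ω) = g ^ n * x * (g ^ n)⁻¹ := by
    intro n
    induction n with
    | zero => intro x; simp
    | succ n ih =>
      intro x
      rw [pow_succ', MulAut.mul_apply, hα, ih, pow_succ']
      group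
  show α ^ (p ^ k) = 1
  ext x
  rw [hpow, hk']
  simp

/-- In a fully automized subgroup, every `p`-subgroup of `Aut_F(Q)` is conjugate into `Aut_S(Q)`. -/
theorem exists_conj_into_autS [Finite S] {p : ℕ} [Fact p.Prime] (F : FusionSystem S)
    {Q : Subgroup Ω} (hfa : F.IsFullyAutomized p Q) (T : Subgroup (MulAut Q))
    (hT : T ≤ F.autGroup Q) (hTp : IsPGroup p T) :
    ∃ β ∈ F.autGroup Q, ∀ t ∈ T, β * t * β⁻¹ ∈ autInducedBy S Q := by
  obtain ⟨hQ, R, hR⟩ := hfa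
  have : Finite Q := Finite.of_injective _ (Subgroup.inclusion_injective hQ)
  have hT'p : IsPGroup p (T.subgroupOf (F.autGroup Q)) :=
    hTp.comap_of_injective _ (Subgroup.subtype_injective _)
  obtain ⟨R', hR'⟩ := hT'p.exists_le_sylow
  obtain ⟨β, hβ⟩ := MulAction.exists_smul_eq (F.autGroup Q) R' R
  refine ⟨β.1, β.2, fun t ht => ?_⟩
  have h1 : (⟨t, hT ht⟩ : F.autGroup Q) ∈ (R' : Subgroup (F.autGroup Q)) :=
    hR' (Subgroup.mem_subgroupOf.mpr ht)
  have h2 : (MulAut.conj β) • (⟨t, hT ht⟩ : F.autGroup Q) ∈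
      (MulAut.conj β) • (R' : Subgroup (F.autGroup Q)) :=
    Subgroup.smul_mem_pointwise_smul _ _ _ h1
  have h3 : (MulAut.conj β) • (R' : Subgroup (F.autGroup Q)) = (R : Subgroup (F.autGroup Q)) := by
    rw [← hβ]
    exact (Sylow.coe_subgroup_smul (g := β) (P := R')).symm
  rw [h3, hR] at h2
  exact Subgroup.mem_subgroupOf.mp h2

/-- If `Aut_F(Q)` is a `p`-group and `Q` is fully automized then `Aut_F(Q) = Aut_S(Q)`. -/
theorem autGroup_le_autS_of_isPGroup [Finite S] {p : ℕ} [Fact p.Prime] (F : FusionSystem S)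
    {Q : Subgroup Ω} (hfa : F.IsFullyAutomized p Q) (hp : IsPGroup p (F.autGroup Q)) :
    F.autGroup Q ≤ autInducedBy S Q := by
  obtain ⟨β, hβ, h⟩ := exists_conj_into_autS F hfa (F.autGroup Q) le_rfl hp
  intro t ht
  have h1 := h (β⁻¹ * t * β) ((F.autGroup Q).mul_mem ((F.autGroup Q).mul_mem
    ((F.autGroup Q).inv_mem hβ) ht) hβ)
  have e : β * (β⁻¹ * t * β) * β⁻¹ = t := by group
  rwa [e] at h1

/-- Core extension lemma: a map onto a receptive subgroup all of whose normalizer-conjugations are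
transported to `S`-conjugations extends to the normalizer. -/
theorem extend_to_normalizer (F : FusionSystem S) {P Q : Subgroup Ω} {φ : P →* Ω}
    (hφ : φ ∈ F.Hom P) (hr : φ.range = Q) (hrec : F.IsReceptive Q)
    (H : ∀ g ∈ normalizerIn S P, ∃ h ∈ S, ∀ (x : P) (hx : g * (x : Ω) * g⁻¹ ∈ P),
      φ ⟨g * x * g⁻¹, hx⟩ = h * φ x * h⁻¹) :
    ∃ ψ ∈ F.Hom (normalizerIn S P), ∀ (x : P) (hx : (x : Ω) ∈ normalizerIn S P),
      ψ ⟨x, hx⟩ = φ x := by
  have hP : P ≤ S := hom_le F hφ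
  have hle : normalizerIn S P ≤ extender S P φ := by
    intro g hg
    exact Subgroup.subset_closure ⟨hg.1, hg.2, H g hg⟩
  obtain ⟨ψ, hψ, hψe⟩ := hrec.2 P φ hφ hr
  refine ⟨ψ.comp (Subgroup.inclusion hle), restrict_mem F hψ hle, fun x hx => ?_⟩
  exact hψe x x.2 (hle hx)

/-- Transport of a normalizer conjugation along an isomorphism, elementwise. -/
theorem transport_conj {P Q : Subgroup Ω} {φ : P →* Ω} (e : P ≃* Q)
    (he : ∀ x : P, ((e x : Q) : Ω) = φ x) {g : Ω} (hg : g ∈ Subgroup.normalizer (P : Set Ω))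
    {h : Ω} (hh : ∀ y : Q, ((MulAut.congr e (conjAut P g hg) y : Q) : Ω) = h * y * h⁻¹)
    (x : P) (hx : g * (x : Ω) * g⁻¹ ∈ P) : φ ⟨g * x * g⁻¹, hx⟩ = h * φ x * h⁻¹ := by
  have h1 := hh (e x)
  rw [he] at h1
  rw [← h1]
  have h2 : MulAut.congr e (conjAut P g hg) (e x) = e (conjAut P g hg x) := by
    simp [MulAut.congr]
  rw [h2, he]
  rfl

/-- Lemma A: maps onto a fully automized receptive subgroup extend to the normalizer,
after adjusting by an automorphism of the target. -/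
theorem exists_extension_normalizer [Finite S] {p : ℕ} [Fact p.Prime] (hS : IsPGroup p S)
    (F : FusionSystem S) {P Q : Subgroup Ω} {φ : P →* Ω} (hφ : φ ∈ F.Hom P) (hr : φ.range = Q)
    (hfa : F.IsFullyAutomized p Q) (hrec : F.IsReceptive Q) :
    ∃ β ∈ F.autGroup Q, ∃ ψ ∈ F.Hom (normalizerIn S P),
      ∀ (x : P) (hx : (x : Ω) ∈ normalizerIn S P) (hQ : φ x ∈ Q),
        ψ ⟨x, hx⟩ = ((β ⟨φ x, hQ⟩ : Q) : Ω) := by
  have hP : P ≤ S := hom_le F hφ
  have hQ : Q ≤ S := hfa.1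
  let e := isoOfHom φ (F.injective_of_mem hφ) hr
  have he : ∀ x : P, ((e x : Q) : Ω) = φ x := fun x => rfl
  -- the transported copy of Aut_S(P)
  let T : Subgroup (MulAut Q) := (autInducedBy S P).map (MulAut.congr e).toMonoidHom
  have hT : T ≤ F.autGroup Q := by
    rintro _ ⟨α, hα, rfl⟩
    exact autGroup_congr_mem F hφ hr e he (autInducedBy_le_autGroup F hP hα)
  have hTp : IsPGroup p T := (autInducedBy_isPGroup hS P).map _
  obtain ⟨β, hβ, hβT⟩ := exists_conj_into_autS F hfa T hT hTp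
  -- the adjusted map
  have hβ' := (mem_autGroup_iff F hQ β).mp hβ
  have hmaps : ∀ x : P, φ x ∈ Q := fun x => hr ▸ ⟨x, rfl⟩
  have hφ' := F.comp_mem hφ hβ' hmaps
  set φ' := (Q.subtype.comp β.toMonoidHom).comp (φ.codRestrict Q hmaps) with hφ'def
  have hφ'x : ∀ x : P, φ' x = ((β ⟨φ x, hmaps x⟩ : Q) : Ω) := fun x => rfl
  have hr' : φ'.range = Q := by
    apply le_antisymm
    · rintro _ ⟨x, rfl⟩
      exact (β _).2
    · intro q hq
      obtain ⟨x, hx⟩ : ∃ x : P, e x = β.symm ⟨q, hq⟩ := e.surjective _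
      refine ⟨x, ?_⟩
      rw [hφ'x]
      have : (⟨φ x, hmaps x⟩ : Q) = β.symm ⟨q, hq⟩ := by
        rw [← hx]; exact Subtype.ext (he x).symm
      rw [this]
      simp
  have H : ∀ g ∈ normalizerIn S P, ∃ h ∈ S, ∀ (x : P) (hx : g * (x : Ω) * g⁻¹ ∈ P),
      φ' ⟨g * x * g⁻¹, hx⟩ = h * φ' x * h⁻¹ := by
    intro g hg
    have ht : MulAut.congr e (conjAut P g hg.2) ∈ T :=
      ⟨_, conjAut_mem_autInducedBy hg.1 hg.2, rfl⟩
    obtain ⟨h, hh, hconj⟩ := (mem_autInducedBy_iff S Q _).mp (hβT _ ht)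
    refine ⟨h, hh, fun x hx => ?_⟩
    rw [hφ'x, hφ'x]
    have h1 := hconj (β ⟨φ x, hmaps x⟩)
    rw [← h1]
    have h2 : (β * MulAut.congr e (conjAut P g hg.2) * β⁻¹) (β ⟨φ x, hmaps x⟩) =
        β (MulAut.congr e (conjAut P g hg.2) ⟨φ x, hmaps x⟩) := by
      simp [MulAut.mul_apply]
    rw [h2]
    congr 2
    have h3 : (⟨φ x, hmaps x⟩ : Q) = e x := Subtype.ext (he x).symm
    rw [h3]
    have h4 : MulAut.congr e (conjAut P g hg.2) (e x) = e (conjAut P g hg.2 x) := by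
      simp [MulAut.congr]
    rw [h4]
    apply Subtype.ext
    rw [he]
    rfl
  obtain ⟨ψ, hψ, hψe⟩ := extend_to_normalizer F hφ' hr' hrec H
  refine ⟨β, hβ, ψ, hψ, fun x hx hQx => ?_⟩
  rw [hψe x hx, hφ'x]

end Cfsg.Agent.Lib.Helper87
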