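import Cfsg.Agent.Lib.Helper84.PCore
import Cfsg.Agent.Lib.Helper88.RealizedNormal
import Cfsg.Agent.Lib.Helper87.NormalChain
import Cfsg.Agent.Lib.Helper87.Saturation

/-!
# Normal subgroups of a system and of a model
-/

set_option autoImplicit false

namespace Cfsg.Agent.Lib.Helper87

open Cfsg Cfsg.FusionSystem
open Cfsg.Agent.Lib.Helper88 (preN mem_preN preN_le preN_mem liftConj liftConj_mem ι_liftConj ι_eq)

variable {Ω : Type*} [Group Ω] {S : Subgroup Ω}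

/-- In a model `G` of `F`, the image of a subgroup normal in `F` is a normal subgroup of `G`. -/
theorem model_map_normal [Finite S] {p : ℕ} [Fact p.Prime] {F : FusionSystem S} {G : Type*}
    [Group G] {ι : S →* G} (hM : F.IsModel p G ι) {Q : Subgroup Ω} (hQ : F.IsNormal Q) :
    ((Q.subgroupOf S).map ι).Normal := by
  obtain ⟨hfin, ⟨hinj, hiff⟩, ⟨T, hT⟩, hcent⟩ := hM
  have hsc := stronglyClosed_of_isNormal F hQ
  have hQS := hQ.1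
  have hU'le : Cfsg.pCore p G ≤ ι.range := hT ▸ Cfsg.Agent.Lib.Helper84.pCore_le_sylow T
  have hU'n : (Cfsg.pCore p G).Normal := Cfsg.Agent.Lib.Helper84.pCore_normal p G
  constructor
  rintro _ ⟨⟨q, hqS⟩, hq, rfl⟩ g
  have hqQ : q ∈ Q := Subgroup.mem_subgroupOf.mp hq
  have hUS : preN ι (Cfsg.pCore p G) ≤ S := preN_le ι _
  have hg : ∀ x : preN ι (Cfsg.pCore p G), g * ι ⟨x, hUS x.2⟩ * g⁻¹ ∈ ι.range :=
    fun x => hU'le (hU'n.conj_mem _ (preN_mem ι _ x.2) g)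
  have hφS : ∀ x : preN ι (Cfsg.pCore p G), liftConj ι hinj hUS g hg x ∈ S :=
    liftConj_mem ι hinj hUS g hg
  have hφ : liftConj ι hinj hUS g hg ∈ F.Hom (preN ι (Cfsg.pCore p G)) :=
    (hiff _ hUS _ hφS).mpr ⟨g, fun x => ι_liftConj ι hinj hUS g hg x _⟩
  obtain ⟨ψ, hψ, hψe, hψQ⟩ := hQ.2 _ _ hφ
  obtain ⟨h1, h2⟩ := (map_subgroupOf_eq_iff ψ).mp hψQ
  have hUQS : preN ι (Cfsg.pCore p G) ⊔ Q ≤ S := hom_le F hψ
  obtain ⟨h, hh⟩ := (hiff _ hUQS ψ (hom_mem_S F hψ)).mp hψ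
  have hc : h⁻¹ * g ∈ Subgroup.centralizer ((Cfsg.pCore p G : Subgroup G) : Set G) := by
    rw [Subgroup.mem_centralizer_iff]
    intro y hy
    obtain ⟨s, rfl⟩ := hU'le hy
    have hsU : (s : Ω) ∈ preN ι (Cfsg.pCore p G) := mem_preN.mpr ⟨s.2, hy⟩
    have e1 := hh ⟨s, (le_sup_left : _ ≤ preN ι (Cfsg.pCore p G) ⊔ Q) hsU⟩
    have e2 := hψe ⟨s, hsU⟩
    have e3 := ι_liftConj ι hinj hUS g hg ⟨s, hsU⟩ (hφS _)
    have e4 : h * ι s * h⁻¹ = g * ι s * g⁻¹ := by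
      have e5 : (⟨(s : Ω), hUS hsU⟩ : S) = s := Subtype.ext rfl
      rw [e5] at e3
      have e6 : (⟨((⟨(s : Ω), (le_sup_left : _ ≤ preN ι (Cfsg.pCore p G) ⊔ Q) hsU⟩ :
          ↥(preN ι (Cfsg.pCore p G) ⊔ Q)) : Ω), hUQS ((le_sup_left : _ ≤ preN ι (Cfsg.pCore p G) ⊔ Q) hsU)⟩ : S) = s := Subtype.ext rfl
      rw [e6] at e1
      rw [← e1, ← e3]
      congr 1
      exact Subtype.ext e2
    calc ι s * (h⁻¹ * g) = h⁻¹ * (h * ι s * h⁻¹) * g := by group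
      _ = h⁻¹ * (g * ι s * g⁻¹) * g := by rw [e4]
      _ = h⁻¹ * g * ι s := by group
  obtain ⟨c, hc'⟩ := hU'le (hcent hc)
  have hgc : g = h * ι c := by rw [hc']; group
  have hcq : (c : Ω) * q * (c : Ω)⁻¹ ∈ Q :=
    hsc.2 Q le_rfl (conjHom Q c) (F.conj_mem hQS c.2) ⟨q, hqQ⟩
  have hψq := h1 ⟨(c : Ω) * q * (c : Ω)⁻¹, (le_sup_right : Q ≤ preN ι (Cfsg.pCore p G) ⊔ Q) hcq⟩ hcq
  refine ⟨⟨ψ ⟨(c : Ω) * q * (c : Ω)⁻¹, (le_sup_right : Q ≤ preN ι (Cfsg.pCore p G) ⊔ Q) hcq⟩,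
    hQS hψq⟩, Subgroup.mem_subgroupOf.mpr hψq, ?_⟩
  rw [hh ⟨_, _⟩, hgc]
  have e7 : (⟨((⟨(c : Ω) * q * (c : Ω)⁻¹, (le_sup_right : Q ≤ preN ι (Cfsg.pCore p G) ⊔ Q) hcq⟩ :
      ↥(preN ι (Cfsg.pCore p G) ⊔ Q)) : Ω), hUQS ((le_sup_right : Q ≤ preN ι (Cfsg.pCore p G) ⊔ Q) hcq)⟩ : S) = c * ⟨q, hqS⟩ * c⁻¹ :=
    Subtype.ext rfl
  rw [e7, map_mul, map_mul, map_inv]
  group

end Cfsg.Agent.Lib.Helper87

namespace Cfsg.Agent.Lib.Helper87

open Cfsg Cfsg.FusionSystem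

variable {Ω : Type*} [Group Ω]

/-- A normal `p`-subgroup of `G` inside the image of `N` lies in the image of a "radical centric"
normal subgroup `R` of `N` whose automizer `A` is realized by `G`. -/
theorem pCore_le_map_of_radical {p : ℕ} [Fact p.Prime] {G : Type*} [Group G]
    {N R : Subgroup Ω} (hRN : R ≤ N)
    (hNR : N ≤ Subgroup.normalizer (R : Set Ω)) (ι : N →* G) (hinj : Function.Injective ι)
    (hNp : IsPGroup p N) (hle : Cfsg.pCore p G ≤ ι.range) (A : Subgroup (MulAut R))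
    (hA : ∀ α ∈ A, ∃ g : G, ∀ x : R, ι ⟨(α x : R), hRN (α x).2⟩ = g * ι ⟨x, hRN x.2⟩ * g⁻¹)
    (hNA : ∀ (u : Ω) (hu : u ∈ N), conjAut R u (hNR hu) ∈ A)
    (hrad : (Cfsg.pCore p A).map A.subtype = Inn R)
    (hcen : ∀ x ∈ N, x ∈ Subgroup.centralizer (R : Set Ω) → x ∈ R) :
    Cfsg.pCore p G ≤ (R.subgroupOf N).map ι := by
  have hU'n : (Cfsg.pCore p G).Normal := Cfsg.Agent.Lib.Helper84.pCore_normal p G
  -- the action of `N` on `R`
  let θ : N →* MulAut R := R.normalizerMonoidHom.comp (Subgroup.inclusion hNR)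
  have hθ : ∀ (u : N) (x : R), ((θ u x : R) : Ω) = (u : Ω) * x * (u : Ω)⁻¹ := fun u x => rfl
  have hK₀A : ((Cfsg.pCore p G).comap ι).map θ ≤ A := by
    rintro _ ⟨u, -, rfl⟩
    exact hNA u u.2
  have hK₀p : IsPGroup p (((Cfsg.pCore p G).comap ι).map θ) :=
    (hNp.to_subgroup ((Cfsg.pCore p G).comap ι)).map θ
  have hKp : IsPGroup p ((((Cfsg.pCore p G).comap ι).map θ).subgroupOf A) := hK₀p.comap_subtype
  have hKn : ((((Cfsg.pCore p G).comap ι).map θ).subgroupOf A).Normal := by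
    constructor
    intro β hβ α
    rw [Subgroup.mem_subgroupOf] at hβ ⊢
    obtain ⟨u, hu, huβ⟩ := hβ
    obtain ⟨g, hg⟩ := hA α α.2
    have hy : g * ι u * g⁻¹ ∈ Cfsg.pCore p G := hU'n.conj_mem _ hu g
    obtain ⟨u', hu'⟩ := hle hy
    refine ⟨u', by show ι u' ∈ Cfsg.pCore p G; rw [hu']; exact hy, ?_⟩
    apply MulEquiv.ext
    intro x
    apply Subtype.ext
    rw [hθ]
    show _ = ((((α : MulAut R) * (β : MulAut R) * (α : MulAut R)⁻¹) x : R) : Ω)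
    rw [MulAut.mul_apply, MulAut.mul_apply]
    set z : R := (α : MulAut R)⁻¹ x with hz
    have hxz : x = (α : MulAut R) z := by rw [hz]; simp
    have hβz : (((β : MulAut R) z : R) : Ω) = (u : Ω) * z * (u : Ω)⁻¹ := by
      rw [← huβ]; rfl
    -- compare through `ι`
    have e1 := hg ((β : MulAut R) z)
    have e2 := hg z
    have e3 : (⟨(((β : MulAut R) z : R) : Ω), hRN ((β : MulAut R) z).2⟩ : N) =
        u * ⟨z, hRN z.2⟩ * u⁻¹ := Subtype.ext hβz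
    rw [e3, map_mul, map_mul, map_inv] at e1
    have e4 : ι ⟨(((α : MulAut R) ((β : MulAut R) z) : R) : Ω),
        hRN ((α : MulAut R) ((β : MulAut R) z)).2⟩ =
        ι (u' * ⟨x, hRN x.2⟩ * u'⁻¹) := by
      rw [e1, map_mul, map_mul, map_inv, hu']
      have e5 : ι ⟨x, hRN x.2⟩ = g * ι ⟨z, hRN z.2⟩ * g⁻¹ := by
        rw [← e2]
        congr 2
        rw [hxz]
      rw [e5]
      group
    have e6 := hinj e4
    have e7 := congrArg (fun s : N => (s : Ω)) e6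
    exact e7.symm
  have hKle : (((Cfsg.pCore p G).comap ι).map θ).subgroupOf A ≤ Cfsg.pCore p A :=
    Cfsg.Agent.Lib.Helper84.le_pCore hKn hKp
  have hK₀Inn : ((Cfsg.pCore p G).comap ι).map θ ≤ Inn R := by
    rw [← hrad]
    intro β hβ
    exact ⟨⟨β, hK₀A hβ⟩, hKle (Subgroup.mem_subgroupOf.mpr hβ), rfl⟩
  intro y hy
  obtain ⟨u, rfl⟩ := hle hy
  have h1 : θ u ∈ Inn R := hK₀Inn ⟨u, hy, rfl⟩
  obtain ⟨r, hr⟩ := h1
  have hru : (r : Ω)⁻¹ * u ∈ R := by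
    apply hcen _ (N.mul_mem (N.inv_mem (hRN r.2)) u.2)
    rw [Subgroup.mem_centralizer_iff]
    intro x hx
    have h2 : ((MulAut.conj r ⟨x, hx⟩ : R) : Ω) = ((θ u ⟨x, hx⟩ : R) : Ω) := by rw [hr]
    rw [hθ] at h2
    have h3 : (r : Ω) * x * (r : Ω)⁻¹ = (u : Ω) * x * (u : Ω)⁻¹ := h2
    calc x * ((r : Ω)⁻¹ * u) = (r : Ω)⁻¹ * ((r : Ω) * x * (r : Ω)⁻¹) * u := by group
      _ = (r : Ω)⁻¹ * ((u : Ω) * x * (u : Ω)⁻¹) * u := by rw [h3]
      _ = (r : Ω)⁻¹ * u * x := by group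
  have huR : (u : Ω) ∈ R := by
    have : (u : Ω) = (r : Ω) * ((r : Ω)⁻¹ * u) := by group
    rw [this]
    exact R.mul_mem r.2 hru
  exact ⟨u, Subgroup.mem_subgroupOf.mpr huR, rfl⟩

end Cfsg.Agent.Lib.Helper87
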