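import Cfsg.Agent.Lib.Helper84.KSatMain
import Cfsg.Agent.Lib.Helper84.PCore
import Cfsg.Agent.Lib.Helper88.RealizedNormal
import Cfsg.Agent.Lib.Helper87.NormalizerSystem
import Cfsg.Agent.Lib.Helper87.Saturation

/-!
# The normalizer system of a centric subgroup is constrained; `O_p` of a model
-/

set_option autoImplicit false

namespace Cfsg.Agent.Lib.Helper87

open Cfsg Cfsg.FusionSystem

variable {Ω : Type*} [Group Ω] {S : Subgroup Ω}

theorem le_normalizerIn_self {R : Subgroup Ω} (hR : R ≤ S) : R ≤ normalizerIn S R :=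
  fun _ hx => ⟨hR hx, Subgroup.le_normalizer hx⟩

/-- `R` is normal in its normalizer system. -/
theorem normalizerSystem_isNormal (F : FusionSystem S) {R : Subgroup Ω} (hR : R ≤ S)
    {E : FusionSystem (normalizerIn S R)} (hE : F.IsNormalizerSystem R E) : E.IsNormal R := by
  have hRN : R ≤ normalizerIn S R := le_normalizerIn_self hR
  refine ⟨hRN, fun P φ hφ => ?_⟩
  rw [hE P] at hφ
  obtain ⟨hφF, hPN, hval, ψ, hψ, hψP, hψR⟩ := hφ
  refine ⟨ψ, ?_, hψP, hψR⟩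
  rw [hE (P ⊔ R)]
  have hsup : P ⊔ R ≤ normalizerIn S R := sup_le hPN hRN
  obtain ⟨h1, h2⟩ := (map_subgroupOf_eq_iff ψ).mp hψR
  refine ⟨hψ, hsup, ?_, ?_⟩
  · apply forall_sup_of_subgroup ((normalizerIn S R).comap ψ)
    · intro x hx
      show ψ ⟨x, _⟩ ∈ normalizerIn S R
      have := hψP ⟨x, hx⟩
      have e : (⟨x, (le_sup_left : P ≤ P ⊔ R) hx⟩ : ↥(P ⊔ R)) =
          Subgroup.inclusion le_sup_left ⟨x, hx⟩ := rfl
      rw [e, this]
      exact hval _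
    · intro x hx
      show ψ ⟨x, _⟩ ∈ normalizerIn S R
      exact hRN (h1 _ hx)
  · have e : P ⊔ R = (P ⊔ R) ⊔ R := by rw [sup_assoc, sup_idem]
    refine ⟨ψ.comp (Subgroup.inclusion e.ge), cast_mem F e hψ, fun x => rfl, ?_⟩
    rw [map_subgroupOf_eq_iff]
    refine ⟨fun y hy => h1 _ hy, fun q hq => ?_⟩
    obtain ⟨y, hy, hyq⟩ := h2 q hq
    exact ⟨⟨y, (le_sup_left : P ⊔ R ≤ (P ⊔ R) ⊔ R) y.2⟩, hy, hyq⟩

/-- An `F`-centric `R` is centric in its normalizer system. -/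
theorem normalizerSystem_isCentric (F : FusionSystem S) {R : Subgroup Ω} (hRc : F.IsCentric R)
    {E : FusionSystem (normalizerIn S R)} (hE : F.IsNormalizerSystem R E) : E.IsCentric R := by
  have hR : R ≤ S := hRc.1
  have hRN : R ≤ normalizerIn S R := le_normalizerIn_self hR
  refine ⟨hRN, fun Q hQ => ?_⟩
  obtain ⟨φ, hφ, rfl⟩ := hQ
  rw [hE R] at hφ
  obtain ⟨hφF, -, -, ψ, hψ, hψP, hψR⟩ := hφ
  obtain ⟨h1, h2⟩ := (map_subgroupOf_eq_iff ψ).mp hψR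
  have hrange : φ.range = R := by
    apply le_antisymm
    · rintro _ ⟨x, rfl⟩
      rw [← hψP x]
      exact h1 _ x.2
    · intro q hq
      obtain ⟨y, hy, hyq⟩ := h2 q hq
      refine ⟨⟨y, hy⟩, ?_⟩
      rw [← hψP ⟨y, hy⟩, ← hyq]
      rfl
  rw [hrange]
  intro x hx
  exact hRc.2 R (isConj_refl F hR) ⟨hx.1.1, hx.2⟩

/-- `Aut_F(R)` consists of maps of the normalizer system of `R`. -/
theorem mem_normalizerSystem_of_mem_autGroup (F : FusionSystem S) {R : Subgroup Ω} (hR : R ≤ S)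
    {E : FusionSystem (normalizerIn S R)} (hE : F.IsNormalizerSystem R E) {α : MulAut R}
    (hα : α ∈ F.autGroup R) : R.subtype.comp α.toMonoidHom ∈ E.Hom R := by
  have hRN : R ≤ normalizerIn S R := le_normalizerIn_self hR
  have hαF := (mem_autGroup_iff F hR α).mp hα
  rw [hE R]
  have e : R = R ⊔ R := (sup_idem R).symm
  refine ⟨hαF, hRN, fun x => hRN (α x).2, (R.subtype.comp α.toMonoidHom).comp
    (Subgroup.inclusion e.ge), cast_mem F e hαF, fun x => rfl, ?_⟩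
  rw [map_subgroupOf_eq_iff]
  refine ⟨fun y _ => (α _).2, fun q hq => ?_⟩
  refine ⟨⟨(α.symm ⟨q, hq⟩ : R), (le_sup_left : R ≤ R ⊔ R) (α.symm ⟨q, hq⟩).2⟩,
    (α.symm ⟨q, hq⟩).2, ?_⟩
  show ((α (Subgroup.inclusion e.ge ⟨(α.symm ⟨q, hq⟩ : R), _⟩) : R) : Ω) = q
  have : (Subgroup.inclusion e.ge ⟨((α.symm ⟨q, hq⟩ : R) : Ω),
      (le_sup_left : R ≤ R ⊔ R) (α.symm ⟨q, hq⟩).2⟩ : R) = α.symm ⟨q, hq⟩ := Subtype.ext rfl
  rw [this, MulEquiv.apply_symm_apply]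

end Cfsg.Agent.Lib.Helper87
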