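import Cfsg.Agent.S5086
import Cfsg.Agent.S5145
import Cfsg.Agent.S5128
import Cfsg.Agent.Lib.Helper87.NormalChain
import Cfsg.Agent.Lib.Helper87.Chain
import Cfsg.Agent.Lib.Helper87.Saturation

/-!
# Saturated subsystems over strongly closed subgroups of constrained systems are constrained
-/

set_option autoImplicit false

namespace Cfsg.Agent.Lib.Helper87

open Cfsg Cfsg.FusionSystem
open scoped commutatorElement

variable {Ω : Type*} [Group Ω] {S : Subgroup Ω}

/-- Elements of `Aut_F(P)` preserve the intersection of `P` with a strongly closed subgroup. -/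
theorem autGroup_apply_mem_of_stronglyClosed (F : FusionSystem S) {P T : Subgroup Ω} (hP : P ≤ S)
    (hT : F.StronglyClosed T) {γ : MulAut P} (hγ : γ ∈ F.autGroup P) (x : P) (hx : (x : Ω) ∈ T) :
    ((γ x : P) : Ω) ∈ T := by
  have hγ' := (mem_autGroup_iff F hP γ).mp hγ
  have hφ := restrict_mem F hγ' (inf_le_left : P ⊓ T ≤ P)
  exact hT.2 (P ⊓ T) inf_le_right _ hφ ⟨x, x.2, hx⟩

theorem stronglyClosed_inf (F : FusionSystem S) {T₁ T₂ : Subgroup Ω} (h₁ : F.StronglyClosed T₁)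
    (h₂ : F.StronglyClosed T₂) : F.StronglyClosed (T₁ ⊓ T₂) :=
  ⟨inf_le_left.trans h₁.1, fun R hR φ hφ x =>
    ⟨h₁.2 R (hR.trans inf_le_left) φ hφ x, h₂.2 R (hR.trans inf_le_right) φ hφ x⟩⟩

theorem stronglyClosed_of_subsystem (F : FusionSystem S) {U : Subgroup Ω} (D : FusionSystem U)
    (hDF : D.IsSubsystemOf F) {T : Subgroup Ω} (hT : F.StronglyClosed T) (hTU : T ≤ U) :
    D.StronglyClosed T :=
  ⟨hTU, fun R hR φ hφ x => hT.2 R hR φ (hDF R hφ) x⟩

theorem stronglyClosed_le_normalizer [Finite S] (F : FusionSystem S) {T : Subgroup Ω}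
    (hT : F.StronglyClosed T) : S ≤ Subgroup.normalizer (T : Set Ω) :=
  weaklyClosed_le_normalizer F (weaklyClosed_of_stronglyClosed F hT)

/-- A strongly closed subgroup containing its centralizer is centric. -/
theorem isCentric_of_stronglyClosed [Finite S] (F : FusionSystem S) {Q : Subgroup Ω}
    (hQ : F.StronglyClosed Q) (hcen : centralizerIn S Q ≤ Q) : F.IsCentric Q := by
  refine ⟨hQ.1, fun Q' hQ' => ?_⟩
  obtain ⟨φ, hφ, rfl⟩ := hQ'
  rw [(weaklyClosed_of_stronglyClosed F hQ).2 φ hφ]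
  exact hcen

/-- Conjugation by an element of `S` preserves a strongly closed subgroup. -/
theorem conj_mem_of_stronglyClosed [Finite S] (F : FusionSystem S) {T : Subgroup Ω}
    (hT : F.StronglyClosed T) {s t : Ω} (hs : s ∈ S) (ht : t ∈ T) : s * t * s⁻¹ ∈ T :=
  hT.2 T le_rfl (conjHom T s) (F.conj_mem hT.1 hs) ⟨t, ht⟩

/-- `C_U(Q ∩ U)` is strongly closed when `Q` is normal and `U` is strongly closed. -/
theorem centralizerIn_inf_stronglyClosed [Finite S] (F : FusionSystem S) {Q U : Subgroup Ω}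
    (hQ : F.IsNormal Q) (hU : F.StronglyClosed U) :
    F.StronglyClosed (centralizerIn U (Q ⊓ U)) := by
  have hQsc := stronglyClosed_of_isNormal F hQ
  refine ⟨inf_le_left.trans hU.1, fun P hP φ hφ x => ?_⟩
  obtain ⟨ψ, hψ, hψe, hψQ⟩ := hQ.2 P φ hφ
  obtain ⟨h1, h2⟩ := (map_subgroupOf_eq_iff ψ).mp hψQ
  refine ⟨hU.2 P (hP.trans inf_le_left) φ hφ x, ?_⟩
  have hle : Q ⊓ U ≤ P ⊔ Q := inf_le_left.trans le_sup_right
  have hres := restrict_mem F hψ hle
  have hfin : Finite ↥(Q ⊓ U) := finite_of_le (inf_le_left.trans hQ.1)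
  -- `ψ` permutes `Q ∩ U`
  let f : ↥(Q ⊓ U) → ↥(Q ⊓ U) := fun y =>
    ⟨ψ (Subgroup.inclusion hle y), h1 _ y.2.1, hU.2 (Q ⊓ U) inf_le_right _ hres y⟩
  have hf : Function.Injective f := by
    intro a b hab
    have h3 : ψ (Subgroup.inclusion hle a) = ψ (Subgroup.inclusion hle b) :=
      congrArg Subtype.val hab
    exact Subgroup.inclusion_injective hle (F.injective_of_mem hψ h3)
  have hfs : Function.Surjective f := Finite.injective_iff_surjective.mp hf
  show φ x ∈ Subgroup.centralizer ((Q ⊓ U : Subgroup Ω) : Set Ω)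
  rw [Subgroup.mem_centralizer_iff]
  intro y hy
  obtain ⟨y', hy'⟩ := hfs ⟨y, hy⟩
  have hy'' : ψ (Subgroup.inclusion hle y') = y := congrArg Subtype.val hy'
  have hxc : ∀ h ∈ ((Q ⊓ U : Subgroup Ω) : Set Ω), h * (x : Ω) = (x : Ω) * h :=
    Subgroup.mem_centralizer_iff.mp (hP x.2).2
  have hcomm : Subgroup.inclusion hle y' * Subgroup.inclusion le_sup_left x =
      Subgroup.inclusion le_sup_left x * Subgroup.inclusion hle y' :=
    Subtype.ext (hxc y' y'.2)
  rw [← hψe x, ← hy'', ← map_mul, ← map_mul, hcomm]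

/-- Main step: for the largest normal centric `Q` of a saturated `F` and a strongly closed `U`,
`C_U(Q ∩ U) ≤ Q`. -/
theorem centralizerIn_inf_le [Finite S] {p : ℕ} [Fact p.Prime] (hS : IsPGroup p S)
    (F : FusionSystem S) (hF : F.IsSaturated p) {Q U : Subgroup Ω} (hQ : F.IsNormal Q)
    (hQc : F.IsCentric Q) (hmax : ∀ Q' : Subgroup Ω, F.IsNormal Q' → Q' ≤ Q)
    (hU : F.StronglyClosed U) : centralizerIn U (Q ⊓ U) ≤ Q := by
  have hQsc := stronglyClosed_of_isNormal F hQ
  have hQS : Q ≤ S := hQ.1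
  have hUS : U ≤ S := hU.1
  have hCsc := centralizerIn_inf_stronglyClosed F hQ hU
  have hCS : centralizerIn U (Q ⊓ U) ≤ S := hCsc.1
  have hQCsc : F.StronglyClosed (Q ⊔ centralizerIn U (Q ⊓ U)) :=
    Cfsg.Agent.S5128.result p hS F hF _ _ hQsc hCsc
  -- `[Q, C] ≤ Q ∩ U`
  have hQC : ∀ q ∈ Q, ∀ c ∈ centralizerIn U (Q ⊓ U), ⁅q, c⁆ ∈ Q ⊓ U := by
    intro q hq c hc
    rw [commutatorElement_def]
    refine ⟨?_, ?_⟩
    · have h1 : c * q⁻¹ * c⁻¹ ∈ Q :=
        conj_mem_of_stronglyClosed F hQsc (hCS hc) (Q.inv_mem hq)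
      have e : q * c * q⁻¹ * c⁻¹ = q * (c * q⁻¹ * c⁻¹) := by group
      rw [e]
      exact Q.mul_mem hq h1
    · have h1 : q * c * q⁻¹ ∈ U := conj_mem_of_stronglyClosed F hU (hQS hq) hc.1
      exact U.mul_mem h1 (U.inv_mem hc.1)
  have hQC' : ⁅Q, centralizerIn U (Q ⊓ U)⁆ ≤ Q ⊓ U := Subgroup.commutator_le.mpr hQC
  have hbot : ⁅Q ⊓ U, centralizerIn U (Q ⊓ U)⁆ = ⊥ := by
    rw [Subgroup.commutator_eq_bot_iff_le_centralizer]
    intro y hy
    rw [Subgroup.mem_centralizer_iff]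
    intro c hc
    exact (Subgroup.mem_centralizer_iff.mp hc.2 y hy).symm
  -- `[C, C] ≤ Q` by the three subgroups lemma
  have hCC : ⁅centralizerIn U (Q ⊓ U), centralizerIn U (Q ⊓ U)⁆ ≤ Q := by
    have h1 : ⁅⁅centralizerIn U (Q ⊓ U), Q⁆, centralizerIn U (Q ⊓ U)⁆ = ⊥ := by
      rw [eq_bot_iff, ← hbot]
      apply Subgroup.commutator_mono _ le_rfl
      rw [Subgroup.commutator_comm]
      exact hQC'
    have h2 : ⁅⁅Q, centralizerIn U (Q ⊓ U)⁆, centralizerIn U (Q ⊓ U)⁆ = ⊥ := by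
      rw [eq_bot_iff, ← hbot]
      exact Subgroup.commutator_mono hQC' le_rfl
    have h3 := Subgroup.commutator_commutator_eq_bot_of_rotate h1 h2
    rw [Subgroup.commutator_eq_bot_iff_le_centralizer] at h3
    intro z hz
    apply hQc.2 Q (isConj_refl F hQS)
    refine ⟨?_, h3 hz⟩
    have : ⁅centralizerIn U (Q ⊓ U), centralizerIn U (Q ⊓ U)⁆ ≤ S :=
      Subgroup.commutator_le.mpr fun a ha b hb => by
        rw [commutatorElement_def]
        exact S.mul_mem (S.mul_mem (S.mul_mem (hCS ha) (hCS hb)) (S.inv_mem (hCS ha)))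
          (S.inv_mem (hCS hb))
    exact this hz
  -- `Q C` lies in every centric radical subgroup
  have hle : ∀ P : Subgroup Ω, F.IsCentric P → F.IsRadical p P →
      Q ⊔ centralizerIn U (Q ⊓ U) ≤ P := by
    intro P hPc hPr
    have hPS : P ≤ S := hPc.1
    have hQP : Q ≤ P := isNormal_le_centric_radical hS F hQ hPc hPr
    refine sup_le hQP ?_
    apply le_of_normalizer_inf_le hS hPS hCS (stronglyClosed_le_normalizer F hCsc)
    rintro g ⟨hgC, hgN⟩
    have hgS : g ∈ S := hCS hgC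
    have hα : conjAut P g hgN ∈ F.autGroup P :=
      autInducedBy_le_autGroup F hPS (conjAut_mem_autInducedBy hgS hgN)
    -- the chain
    let C : ℕ → Subgroup P := fun i =>
      match i with
      | 0 => ⊤
      | 1 => (Q ⊔ centralizerIn U (Q ⊓ U)).subgroupOf P
      | 2 => Q.subgroupOf P
      | 3 => (Q ⊓ U).subgroupOf P
      | _ => ⊥
    have hinv : ∀ γ ∈ F.autGroup P, ∀ i, ∀ x ∈ C i, γ x ∈ C i := by
      intro γ hγ i
      match i with
      | 0 => intro x _; exact Subgroup.mem_top _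
      | 1 =>
        intro x hx
        exact Subgroup.mem_subgroupOf.mpr
          (autGroup_apply_mem_of_stronglyClosed F hPS hQCsc hγ x (Subgroup.mem_subgroupOf.mp hx))
      | 2 =>
        intro x hx
        exact Subgroup.mem_subgroupOf.mpr
          (autGroup_apply_mem_of_stronglyClosed F hPS hQsc hγ x (Subgroup.mem_subgroupOf.mp hx))
      | 3 =>
        intro x hx
        exact Subgroup.mem_subgroupOf.mpr
          (autGroup_apply_mem_of_stronglyClosed F hPS (stronglyClosed_inf F hQsc hU) hγ x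
            (Subgroup.mem_subgroupOf.mp hx))
      | (i + 4) =>
        intro x hx
        have hx1 : x = 1 := Subgroup.mem_bot.mp hx
        rw [hx1, map_one]
        exact Subgroup.one_mem _
    have hαC : ∀ i < 4, ∀ x ∈ C i, x⁻¹ * conjAut P g hgN x ∈ C (i + 1) := by
      intro i hi
      have hcoe : ∀ x : P, ((x⁻¹ * conjAut P g hgN x : P) : Ω) = (x : Ω)⁻¹ * (g * x * g⁻¹) :=
        fun x => rfl
      match i with
      | 0 =>
        intro x _
        apply Subgroup.mem_subgroupOf.mpr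
        rw [hcoe]
        apply (le_sup_right : centralizerIn U (Q ⊓ U) ≤ Q ⊔ centralizerIn U (Q ⊓ U))
        have h1 : (x : Ω)⁻¹ * g * ((x : Ω)⁻¹)⁻¹ ∈ centralizerIn U (Q ⊓ U) :=
          conj_mem_of_stronglyClosed F hCsc (S.inv_mem (hPS x.2)) hgC
        have e : (x : Ω)⁻¹ * (g * x * g⁻¹) = ((x : Ω)⁻¹ * g * ((x : Ω)⁻¹)⁻¹) * g⁻¹ := by group
        rw [e]
        exact Subgroup.mul_mem _ h1 (Subgroup.inv_mem _ hgC)
      | 1 =>
        intro x hx
        have hx' : (x : Ω) ∈ Q ⊔ centralizerIn U (Q ⊓ U) := Subgroup.mem_subgroupOf.mp hx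
        apply Subgroup.mem_subgroupOf.mpr
        rw [hcoe]
        rw [sup_comm] at hx'
        obtain ⟨c, hc, q, hq, hxcq⟩ := exists_mul_of_mem_sup
          (hCS.trans (stronglyClosed_le_normalizer F hQsc)) hx'
        rw [hxcq]
        have h1 : ⁅c⁻¹, g⁆ ∈ Q :=
          hCC (Subgroup.commutator_mem_commutator (Subgroup.inv_mem _ hc) hgC)
        have h2 : g * q * g⁻¹ ∈ Q := conj_mem_of_stronglyClosed F hQsc hgS hq
        have e : (c * q)⁻¹ * (g * (c * q) * g⁻¹) = q⁻¹ * ⁅c⁻¹, g⁆ * (g * q * g⁻¹) := by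
          rw [commutatorElement_def]; group
        rw [e]
        exact Q.mul_mem (Q.mul_mem (Q.inv_mem hq) h1) h2
      | 2 =>
        intro x hx
        have hx' : (x : Ω) ∈ Q := Subgroup.mem_subgroupOf.mp hx
        apply Subgroup.mem_subgroupOf.mpr
        rw [hcoe]
        have h1 := hQC _ (Q.inv_mem hx') g hgC
        rw [commutatorElement_def] at h1
        have e : (x : Ω)⁻¹ * (g * x * g⁻¹) = (x : Ω)⁻¹ * g * ((x : Ω)⁻¹)⁻¹ * g⁻¹ := by group
        rw [e]
        exact h1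
      | 3 =>
        intro x hx
        have hx' : (x : Ω) ∈ Q ⊓ U := Subgroup.mem_subgroupOf.mp hx
        apply Subgroup.mem_bot.mpr
        apply Subtype.ext
        rw [hcoe]
        have h1 : (x : Ω) * g = g * x := Subgroup.mem_centralizer_iff.mp hgC.2 x hx'
        have e : g * (x : Ω) * g⁻¹ = x := by rw [← h1]; group
        rw [e]
        simp
    have hinn := stabilizer_le_inn hS F hPS hPr 4 C rfl rfl hinv hα hαC
    obtain ⟨r, hr⟩ := hinn
    have hcen' : (r : Ω)⁻¹ * g ∈ centralizerIn S P := by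
      refine ⟨S.mul_mem (S.inv_mem (hPS r.2)) hgS, ?_⟩
      intro x hx
      have h1 : ((MulAut.conj r ⟨x, hx⟩ : P) : Ω) = ((conjAut P g hgN ⟨x, hx⟩ : P) : Ω) := by
        rw [hr]
      have h2 : (r : Ω) * x * (r : Ω)⁻¹ = g * x * g⁻¹ := h1
      calc x * ((r : Ω)⁻¹ * g) = (r : Ω)⁻¹ * ((r : Ω) * x * (r : Ω)⁻¹) * g := by group
        _ = (r : Ω)⁻¹ * (g * x * g⁻¹) * g := by rw [h2]
        _ = (r : Ω)⁻¹ * g * x := by group
    have hcenR := hPc.2 P (isConj_refl F hPS) hcen'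
    have : g = (r : Ω) * ((r : Ω)⁻¹ * g) := by group
    rw [this]
    exact P.mul_mem r.2 hcenR
  have hnorm : F.IsNormal (Q ⊔ centralizerIn U (Q ⊓ U)) :=
    (Cfsg.Agent.S5086.result p hS F hF _).mpr ⟨hQCsc, hle⟩
  exact le_sup_right.trans (hmax _ hnorm)

/-- `Q ∩ U` is normal in every saturated subsystem `D` of `F` over a strongly closed `U`. -/
theorem inf_isNormal_of_subsystem [Finite S] {p : ℕ} [Fact p.Prime] (hS : IsPGroup p S)
    (F : FusionSystem S) {Q U : Subgroup Ω} (hQ : F.IsNormal Q) (hU : F.StronglyClosed U)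
    (D : FusionSystem U) (hD : D.IsSaturated p) (hDF : D.IsSubsystemOf F) :
    D.IsNormal (Q ⊓ U) := by
  have hUS : U ≤ S := hU.1
  have hfinU : Finite U := finite_of_le hUS
  have hUp : IsPGroup p U := hS.to_le hUS
  have hQsc := stronglyClosed_of_isNormal F hQ
  have hQ₀sc : D.StronglyClosed (Q ⊓ U) :=
    stronglyClosed_of_subsystem F D hDF (stronglyClosed_inf F hQsc hU) inf_le_right
  rw [Cfsg.Agent.S5086.result p hUp D hD]
  refine ⟨hQ₀sc, fun P hPc hPr => ?_⟩
  obtain ⟨n, hn⟩ := ucs_eq_top hS hQ.1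
  have key := le_of_centric_radical hUp D hQ₀sc (fun j => ucs Q j ⊓ U)
    (by show ucs Q 0 ⊓ U = ⊥; rw [ucs_zero, bot_inf_eq])
    (fun a b hab => inf_le_inf_right U (ucs_mono Q hab))
    (fun j => inf_le_inf_right U (ucs_le Q j))
    (fun j => by
      show ⁅ucs Q (j + 1) ⊓ U, Q ⊓ U⁆ ≤ ucs Q j ⊓ U
      refine le_inf ((Subgroup.commutator_mono inf_le_left inf_le_left).trans (ucs_comm Q j)) ?_
      rw [Subgroup.commutator_le]
      intro a ha b hb
      rw [commutatorElement_def]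
      exact U.mul_mem (U.mul_mem (U.mul_mem ha.2 hb.2) (U.inv_mem ha.2)) (U.inv_mem hb.2))
    (fun j => weaklyClosed_of_stronglyClosed D
      (stronglyClosed_of_subsystem F D hDF (stronglyClosed_inf F (ucs_stronglyClosed F hQ j) hU)
        inf_le_right))
    hPc.1 (hPc.2 P (isConj_refl D hPc.1)) hPr n
  have key' : ucs Q n ⊓ U ≤ P := key
  rwa [hn] at key'

/-- A saturated subsystem over a strongly closed subgroup of a constrained system is
constrained. -/
theorem isConstrained_of_subsystem [Finite S] {p : ℕ} [Fact p.Prime] (hS : IsPGroup p S)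
    (F : FusionSystem S) (hF : F.IsConstrained p) {U : Subgroup Ω} (hU : F.StronglyClosed U)
    (D : FusionSystem U) (hD : D.IsSaturated p) (hDF : D.IsSubsystemOf F) :
    D.IsConstrained p := by
  obtain ⟨hFsat, Q₁, hQ₁n, hQ₁c⟩ := hF
  have hUS : U ≤ S := hU.1
  have hfinU : Finite U := finite_of_le hUS
  have hcore : F.IsNormal F.core := Cfsg.Agent.S5145.result F
  have hQ₁le : Q₁ ≤ F.core := le_sSup hQ₁n
  have hcoresc := stronglyClosed_of_isNormal F hcore
  have hcorec : F.IsCentric F.core := by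
    apply isCentric_of_stronglyClosed F hcoresc
    intro x hx
    apply hQ₁le
    apply hQ₁c.2 Q₁ (isConj_refl F hQ₁n.1)
    refine ⟨hx.1, ?_⟩
    exact Subgroup.centralizer_le (by exact_mod_cast hQ₁le) hx.2
  have hmax : ∀ Q' : Subgroup Ω, F.IsNormal Q' → Q' ≤ F.core := fun Q' hQ' => le_sSup hQ'
  have hCle := centralizerIn_inf_le hS F hFsat hcore hcorec hmax hU
  refine ⟨hD, F.core ⊓ U, inf_isNormal_of_subsystem hS F hcore hU D hD hDF, ?_⟩
  have hsc : D.StronglyClosed (F.core ⊓ U) :=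
    stronglyClosed_of_subsystem F D hDF (stronglyClosed_inf F hcoresc hU) inf_le_right
  apply isCentric_of_stronglyClosed D hsc
  intro x hx
  exact ⟨hCle hx, hx.1⟩

end Cfsg.Agent.Lib.Helper87
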