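import Cfsg.Agent.Lib.Helper87.Lemma26
import Cfsg.Agent.Lib.Helper87.NormalChain
import Cfsg.Agent.Lib.Helper87.Essential
import Cfsg.Agent.Lib.Helper85.Sylow

set_option autoImplicit false

namespace Cfsg.Agent.Lib.Helper87

open Cfsg Cfsg.FusionSystem

variable {Ω : Type*} [Group Ω] {S : Subgroup Ω}

/-! ### Extending maps modulo a strongly closed subgroup (Puig) -/

/-- `φ` extends to `P ⊔ T` modulo `T`. -/
def ModExt (F : FusionSystem S) (T P : Subgroup Ω) (φ : P →* Ω) : Prop :=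
  ∃ ψ ∈ F.Hom (P ⊔ T), ∀ x : P, (φ x)⁻¹ * ψ (Subgroup.inclusion le_sup_left x) ∈ T

theorem ModExt.restrict {F : FusionSystem S} {T P : Subgroup Ω} {φ : P →* Ω}
    (h : ModExt F T P φ) {P' : Subgroup Ω} (hP' : P' ≤ P) :
    ModExt F T P' (φ.comp (Subgroup.inclusion hP')) := by
  obtain ⟨ψ, hψ, hψe⟩ := h
  have hle : P' ⊔ T ≤ P ⊔ T := sup_le_sup_right hP' T
  exact ⟨ψ.comp (Subgroup.inclusion hle), restrict_mem F hψ hle,
    fun x => hψe (Subgroup.inclusion hP' x)⟩

/-- Maps of the system send `T` into `T`, for `T` strongly closed. -/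
theorem stronglyClosed_map_mem (F : FusionSystem S) {T : Subgroup Ω} (hT : F.StronglyClosed T)
    {M : Subgroup Ω} {ψ : M →* Ω} (hψ : ψ ∈ F.Hom M) (y : M) (hy : (y : Ω) ∈ T) : ψ y ∈ T := by
  have := hT.2 (M ⊓ T) inf_le_right _ (restrict_mem F hψ (inf_le_left : M ⊓ T ≤ M)) ⟨y, y.2, hy⟩
  exact this

theorem ModExt.comp {F : FusionSystem S} {T : Subgroup Ω} (hT : F.StronglyClosed T)
    {P Q : Subgroup Ω} {φ : P →* Ω} {χ : Q →* Ω} (h1 : ModExt F T P φ) (h2 : ModExt F T Q χ)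
    (h : ∀ x : P, φ x ∈ Q) : ModExt F T P (χ.comp (φ.codRestrict Q h)) := by
  obtain ⟨ψ₁, hψ₁, hψ₁e⟩ := h1
  obtain ⟨ψ₂, hψ₂, hψ₂e⟩ := h2
  have hmaps : ∀ z : ↥(P ⊔ T), ψ₁ z ∈ Q ⊔ T := by
    have := forall_sup_of_subgroup (P := P) (Q := T) ((Q ⊔ T).comap ψ₁) ?_ ?_
    · intro z; exact this z
    · intro x hx
      show ψ₁ _ ∈ Q ⊔ T
      have h3 := hψ₁e ⟨x, hx⟩
      have e : ψ₁ ⟨x, (le_sup_left : P ≤ P ⊔ T) hx⟩ =
          φ ⟨x, hx⟩ * ((φ ⟨x, hx⟩)⁻¹ * ψ₁ (Subgroup.inclusion le_sup_left ⟨x, hx⟩)) := by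
        rw [mul_inv_cancel_left]; rfl
      rw [e]
      exact Subgroup.mul_mem _ ((le_sup_left : Q ≤ Q ⊔ T) (h _)) ((le_sup_right : T ≤ Q ⊔ T) h3)
    · intro x hx
      show ψ₁ _ ∈ Q ⊔ T
      exact (le_sup_right : T ≤ Q ⊔ T) (stronglyClosed_map_mem F hT hψ₁ _ hx)
  refine ⟨_, F.comp_mem hψ₁ hψ₂ hmaps, fun x => ?_⟩
  show (χ ⟨φ x, h x⟩)⁻¹ * ψ₂ ⟨ψ₁ (Subgroup.inclusion le_sup_left x), hmaps _⟩ ∈ T
  have ht : (φ x)⁻¹ * ψ₁ (Subgroup.inclusion le_sup_left x) ∈ T := hψ₁e x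
  have e : (⟨ψ₁ (Subgroup.inclusion le_sup_left x), hmaps _⟩ : ↥(Q ⊔ T)) =
      Subgroup.inclusion le_sup_left (⟨φ x, h x⟩ : Q) *
        Subgroup.inclusion le_sup_right (⟨_, ht⟩ : T) := by
    apply Subtype.ext
    show ψ₁ (Subgroup.inclusion le_sup_left x) =
      φ x * ((φ x)⁻¹ * ψ₁ (Subgroup.inclusion le_sup_left x))
    rw [mul_inv_cancel_left]
  rw [e, map_mul, ← mul_assoc]
  refine T.mul_mem (hψ₂e ⟨φ x, h x⟩) ?_
  exact stronglyClosed_map_mem F hT hψ₂ _ ht

theorem modExt_of_alpGen [Finite S] {F : FusionSystem S} {p : ℕ} {T : Subgroup Ω}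
    (hT : F.StronglyClosed T) {Q : Subgroup Ω} {φ : Q →* Ω} (h : AlpGen F p Q φ) :
    (∀ R' : Subgroup Ω, IsAlperin F p R' → Nat.card Q ≤ Nat.card R' → ∀ α ∈ F.autGroup R',
      ModExt F T R' (R'.subtype.comp α.toMonoidHom)) → ModExt F T Q φ := by
  induction h with
  | @aut P R hR α hα hPR =>
    intro hC
    have hfin : Finite R := finite_of_le hR.1.1
    exact (hC R hR (Subgroup.card_le_of_le hPR) α hα).restrict hPR
  | @comp P Q' φ ψ hφ hψ h ih1 ih2 =>
    intro hC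
    have hQ'S : Q' ≤ S := hom_le F hψ.mem_hom
    have hfin : Finite Q' := finite_of_le hQ'S
    have hcard : Nat.card P ≤ Nat.card Q' := by
      let f : P → Q' := fun x => ⟨φ x, h x⟩
      have hf : Function.Injective f := by
        intro a b hab
        exact F.injective_of_mem hφ.mem_hom (congrArg Subtype.val hab)
      exact Nat.card_le_card_of_injective f hf
    exact ModExt.comp hT (ih1 hC) (ih2 (fun R' hR' hle => hC R' hR' (hcard.trans hle))) h

/-- Automorphisms in `Aut_F(R)` acting trivially modulo `T`. -/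
def modKer (F : FusionSystem S) (T R : Subgroup Ω) : Subgroup (MulAut R) where
  carrier := {β | β ∈ F.autGroup R ∧ ∀ x : R, (x : Ω)⁻¹ * (β x : R) ∈ T}
  mul_mem' := by
    rintro a b ⟨ha, ha'⟩ ⟨hb, hb'⟩
    refine ⟨(F.autGroup R).mul_mem ha hb, fun x => ?_⟩
    have e : (x : Ω)⁻¹ * ((a * b) x : R) =
        ((x : Ω)⁻¹ * (b x : R)) * (((b x : R) : Ω)⁻¹ * (a (b x) : R)) := by
      rw [mul_assoc, mul_inv_cancel_left]; rfl
    rw [e]
    exact T.mul_mem (hb' x) (ha' (b x))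
  one_mem' := ⟨(F.autGroup R).one_mem, fun x => by simp⟩
  inv_mem' := by
    rintro a ⟨ha, ha'⟩
    refine ⟨(F.autGroup R).inv_mem ha, fun x => ?_⟩
    have h1 := ha' (a⁻¹ x)
    have h2 : a (a⁻¹ x) = x := by simp
    rw [h2] at h1
    have := T.inv_mem h1
    rwa [mul_inv_rev, inv_inv] at this

theorem modKer_le (F : FusionSystem S) (T R : Subgroup Ω) : modKer F T R ≤ F.autGroup R :=
  fun _ h => h.1

theorem conj_mem_modKer (F : FusionSystem S) {T R : Subgroup Ω} (hT : F.StronglyClosed T)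
    (hR : R ≤ S) {γ β : MulAut R} (hγ : γ ∈ F.autGroup R) (hβ : β ∈ modKer F T R) :
    γ * β * γ⁻¹ ∈ modKer F T R := by
  refine ⟨(F.autGroup R).mul_mem ((F.autGroup R).mul_mem hγ hβ.1) ((F.autGroup R).inv_mem hγ),
    fun x => ?_⟩
  have hγ' := (mem_autGroup_iff F hR γ).mp hγ
  -- y = γ⁻¹ x, t = y⁻¹ β y
  have ht : (((γ⁻¹ x)⁻¹ * β (γ⁻¹ x) : R) : Ω) ∈ T := hβ.2 (γ⁻¹ x)
  have h1 := stronglyClosed_map_mem F hT hγ' ((γ⁻¹ x)⁻¹ * β (γ⁻¹ x)) ht
  have e : (x : Ω)⁻¹ * ((γ * β * γ⁻¹) x : R) = (γ ((γ⁻¹ x)⁻¹ * β (γ⁻¹ x)) : R) := by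
    rw [map_mul, map_inv]
    have h2 : γ (γ⁻¹ x) = x := by simp
    rw [h2]
    rfl
  rw [e]
  exact h1

theorem autGroup_le_normalizer_modKer (F : FusionSystem S) {T R : Subgroup Ω}
    (hT : F.StronglyClosed T) (hR : R ≤ S) :
    F.autGroup R ≤ Subgroup.normalizer (modKer F T R : Set (MulAut R)) := by
  intro γ hγ
  rw [Subgroup.mem_normalizer_iff]
  intro β
  constructor
  · exact conj_mem_modKer F hT hR hγ
  · intro h
    have := conj_mem_modKer F hT hR ((F.autGroup R).inv_mem hγ) h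
    have e : γ⁻¹ * (γ * β * γ⁻¹) * γ⁻¹⁻¹ = β := by group
    rwa [e] at this

open Cfsg.Agent.Lib.Helper85 in
theorem exists_frattini_decomp [Finite S] {p : ℕ} [Fact p.Prime] (hS : IsPGroup p S)
    (F : FusionSystem S) {T R : Subgroup Ω} (hT : F.StronglyClosed T)
    (hfa : F.IsFullyAutomized p R) {α : MulAut R} (hα : α ∈ F.autGroup R) :
    ∃ κ ∈ modKer F T R, ∃ ν ∈ F.autGroup R, α = κ * ν ∧
      ∀ β ∈ autInducedBy S R ⊓ modKer F T R, ν * β * ν⁻¹ ∈ autInducedBy S R ⊓ modKer F T R := by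
  have hR : R ≤ S := hfa.1
  have hfinR : Finite R := finite_of_le hR
  have hK : SylIn p (autInducedBy S R) (F.autGroup R) := hfa.2
  have hKH : autInducedBy S R ≤ F.autGroup R := autInducedBy_le_autGroup F hR
  have hNH := modKer_le F T R
  have hN := autGroup_le_normalizer_modKer F hT hR
  have hP' : SylIn p (autInducedBy S R ⊓ modKer F T R) (modKer F T R) :=
    hK.inf_normal hKH hNH hN
  have hLN : (autInducedBy S R ⊓ modKer F T R).map (cj α) ≤ modKer F T R := by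
    rintro _ ⟨β, hβ, rfl⟩
    exact conj_mem_modKer F hT hR hα hβ.2
  have hLp : IsPGroup p ((autInducedBy S R ⊓ modKer F T R).map (cj α)) :=
    ((autInducedBy_isPGroup hS R).to_le inf_le_left).map _
  obtain ⟨h, hhN, hle⟩ := hP'.exists_conj_le hLN hLp
  refine ⟨h⁻¹, (modKer F T R).inv_mem hhN, h * α,
    (F.autGroup R).mul_mem (hNH hhN) hα, by group, fun β hβ => ?_⟩
  have h1 : cj h (cj α β) ∈ ((autInducedBy S R ⊓ modKer F T R).map (cj α)).map (cj h) :=
    ⟨_, ⟨β, hβ, rfl⟩, rfl⟩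
  have h2 := hle h1
  have e : cj h (cj α β) = h * α * β * (h * α)⁻¹ := by
    simp only [cj_apply]; group
  rwa [e] at h2

theorem modExt_aut [Finite S] {p : ℕ} [Fact p.Prime] (hS : IsPGroup p S) (F : FusionSystem S)
    (hF : F.IsSaturated p) {T : Subgroup Ω} (hT : F.StronglyClosed T) :
    ∀ n : ℕ, ∀ R : Subgroup Ω, IsAlperin F p R → Nat.card S - Nat.card R = n →
      ∀ α ∈ F.autGroup R, ModExt F T R (R.subtype.comp α.toMonoidHom) := by
  have hTS : T ≤ S := hT.1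
  have hSN : S ≤ Subgroup.normalizer (T : Set Ω) :=
    weaklyClosed_le_normalizer F (weaklyClosed_of_stronglyClosed F hT)
  intro n
  induction n using Nat.strong_induction_on with
  | _ n ih =>
    intro R hR hn α hα
    have hRS : R ≤ S := hR.1.1
    have hfinR : Finite R := finite_of_le hRS
    have hα' := (mem_autGroup_iff F hRS α).mp hα
    by_cases hTR : T ≤ R
    · refine ⟨_, restrict_mem F hα' (sup_le le_rfl hTR), fun x => ?_⟩
      show ((α x : R) : Ω)⁻¹ * ((α x : R) : Ω) ∈ T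
      rw [inv_mul_cancel]
      exact T.one_mem
    · have hMS : R ⊔ T ≤ S := sup_le hRS hTS
      have hfinM : Finite ↥(R ⊔ T) := finite_of_le hMS
      have hMp : IsPGroup p ↥(R ⊔ T) := hS.to_le hMS
      have hne : R ≠ R ⊔ T := by
        intro h
        apply hTR
        rw [h]
        exact le_sup_right
      obtain ⟨g, hgN, hgR⟩ := exists_mem_normalizerIn_not_mem (S := R ⊔ T) hMp le_sup_left hne
      obtain ⟨r, hr, t, ht, hgrt⟩ := exists_mul_of_mem_sup (hRS.trans hSN) hgN.1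
      have htN : t ∈ Subgroup.normalizer (R : Set Ω) := by
        have : t = r⁻¹ * g := by rw [hgrt]; group
        rw [this]
        exact Subgroup.mul_mem _ (Subgroup.inv_mem _ (Subgroup.le_normalizer hr)) hgN.2
      have htR : t ∉ R := by
        intro h
        apply hgR
        rw [hgrt]
        exact R.mul_mem hr h
      obtain ⟨κ, hκ, ν, hν, hακν, hνnorm⟩ := exists_frattini_decomp hS F hT hR.1 hα
      have hν' := (mem_autGroup_iff F hRS ν).mp hν
      have hrν : (R.subtype.comp ν.toMonoidHom).range = R := by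
        apply le_antisymm
        · rintro _ ⟨x, rfl⟩
          exact (ν x).2
        · intro y hy
          exact ⟨ν.symm ⟨y, hy⟩, by simp⟩
      have hR₁le : R ⊔ normalizerIn T R ≤ extender S R (R.subtype.comp ν.toMonoidHom) := by
        apply sup_le (self_le_extender F hν')
        intro g' hg'
        have hg'S : g' ∈ S := hTS hg'.1
        have hcK : conjAut R g' hg'.2 ∈ autInducedBy S R ⊓ modKer F T R := by
          refine ⟨conjAut_mem_autInducedBy hg'S hg'.2, ?_, fun x => ?_⟩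
          · exact autInducedBy_le_autGroup F hRS (conjAut_mem_autInducedBy hg'S hg'.2)
          · show (x : Ω)⁻¹ * (g' * x * g'⁻¹) ∈ T
            have h1 : (x : Ω)⁻¹ * g' * ((x : Ω)⁻¹)⁻¹ ∈ T :=
              (Subgroup.mem_normalizer_iff.mp (hSN (S.inv_mem (hRS x.2))) g').mp hg'.1
            have e : (x : Ω)⁻¹ * (g' * x * g'⁻¹) = ((x : Ω)⁻¹ * g' * ((x : Ω)⁻¹)⁻¹) * g'⁻¹ := by
              group
            rw [e]
            exact T.mul_mem h1 (T.inv_mem hg'.1)
        obtain ⟨h, hhS, hh⟩ := (mem_autInducedBy_iff S R _).mp (hνnorm _ hcK).1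
        refine Subgroup.subset_closure ⟨hg'S, hg'.2, h, hhS, fun x hx => ?_⟩
        have h2 := hh (ν x)
        have h3 : (ν * conjAut R g' hg'.2 * ν⁻¹) (ν x) = ν (conjAut R g' hg'.2 x) := by
          simp
        rw [h3] at h2
        exact h2
      obtain ⟨ν', hν'mem, hν'e⟩ := extend_to_sub F hν' hrν hR.2.1 hR₁le
      have hlt : R < R ⊔ normalizerIn T R := by
        refine lt_of_le_of_ne le_sup_left (fun h => htR ?_)
        rw [h]
        exact (le_sup_right : normalizerIn T R ≤ _) ⟨ht, htN⟩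
      have hR₁S : R ⊔ normalizerIn T R ≤ S := hom_le F hν'mem
      have hcardlt : Nat.card R < Nat.card ↥(R ⊔ normalizerIn T R) :=
        card_lt_card_of_lt' hR₁S hlt
      have hA := alperin hS F hF _ ν' hν'mem
      have hME : ModExt F T (R ⊔ normalizerIn T R) ν' := by
        refine modExt_of_alpGen hT hA (fun R' hR' hcard α' hα' => ?_)
        have hR'S : Nat.card R' ≤ Nat.card S := Subgroup.card_le_of_le hR'.1.1
        have : Nat.card S - Nat.card R' < n := by omega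
        exact ih _ this R' hR' rfl α' hα'
      obtain ⟨ψ, hψ, hψe⟩ := hME
      have hle : R ⊔ T ≤ (R ⊔ normalizerIn T R) ⊔ T := sup_le_sup_right le_sup_left T
      refine ⟨ψ.comp (Subgroup.inclusion hle), restrict_mem F hψ hle, fun x => ?_⟩
      have hxR₁ : (x : Ω) ∈ R ⊔ normalizerIn T R := (le_sup_left : R ≤ _) x.2
      have h1 := hψe ⟨x, hxR₁⟩
      rw [hν'e x x.2 hxR₁] at h1
      have h2 : ((ν x : R) : Ω)⁻¹ * (κ (ν x) : R) ∈ T := hκ.2 (ν x)
      have h3 : ((α x : R) : Ω) = (κ (ν x) : R) := by rw [hακν]; rfl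
      show ((α x : R) : Ω)⁻¹ * ψ (Subgroup.inclusion hle (Subgroup.inclusion le_sup_left x)) ∈ T
      have e : ((α x : R) : Ω)⁻¹ * ψ (Subgroup.inclusion hle (Subgroup.inclusion le_sup_left x)) =
          (((ν x : R) : Ω)⁻¹ * (κ (ν x) : R))⁻¹ *
            (((ν x : R) : Ω)⁻¹ * ψ (Subgroup.inclusion le_sup_left ⟨x, hxR₁⟩)) := by
        rw [h3]
        have : Subgroup.inclusion hle (Subgroup.inclusion le_sup_left x) =
            Subgroup.inclusion le_sup_left (⟨x, hxR₁⟩ : ↥(R ⊔ normalizerIn T R)) := rfl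
        rw [this]
        group
      rw [e]
      exact T.mul_mem (T.inv_mem h2) h1

/-- Puig's extension lemma: in a saturated fusion system every map extends, modulo a strongly
closed subgroup `T`, to the product of its source with `T`. -/
theorem exists_extension_mod [Finite S] {p : ℕ} [Fact p.Prime] (hS : IsPGroup p S)
    (F : FusionSystem S) (hF : F.IsSaturated p) {T : Subgroup Ω} (hT : F.StronglyClosed T)
    (P : Subgroup Ω) (φ : P →* Ω) (hφ : φ ∈ F.Hom P) : ModExt F T P φ :=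
  modExt_of_alpGen hT (alperin hS F hF P φ hφ)
    (fun R' hR' _ α hα => modExt_aut hS F hF hT _ R' hR' rfl α hα)

end Cfsg.Agent.Lib.Helper87
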