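import Cfsg.Agent.Lib.Helper87.NRTwist
import Cfsg.Agent.Lib.Helper87.AutTransport
import Cfsg.Agent.Lib.Helper87.Saturation

/-!
# Invariant subsystems over a strongly closed subgroup

For subsystems `E`, `D'` over `T` invariant in a system `F` over `S`:
* subgroups centric in `E` are carried by `Aut_F(T)` to subgroups centric in `D'`;
* `Aut_{D'}(P)` is normalized by the isomorphisms of `F`;
* if `E` and `D'` are saturated, `Aut_{D'}(P)` contains the `p`-elements of `Aut_E(P)`.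
-/

set_option autoImplicit false

namespace Cfsg.Agent.Lib.Helper87.NR

open Cfsg Cfsg.FusionSystem Cfsg.Agent.Lib.Helper87

variable {Ω : Type*} [Group Ω] {S T : Subgroup Ω}

/-- the automorphism groups of a subsystem are contained in those of the system -/
theorem autGroup_le_of_isSubsystemOf {E : FusionSystem T} {F : FusionSystem S}
    (h : E.IsSubsystemOf F) (P : Subgroup Ω) : E.autGroup P ≤ F.autGroup P := by
  unfold autGroup
  exact Subgroup.closure_mono (fun α hα => h P hα)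

/-- restriction of an element of `Aut_F(T)` to `P ≤ T` is a map of `F` -/
theorem resAut_mem (F : FusionSystem S) (hTS : T ≤ S) {α : MulAut T} (hα : α ∈ F.autGroup T)
    {P : Subgroup Ω} (hPT : P ≤ T) :
    (T.subtype.comp α.toMonoidHom).comp (Subgroup.inclusion hPT) ∈ F.Hom P :=
  restrict_mem F ((mem_autGroup_iff F hTS α).mp hα) hPT

/-- subgroups of `T` conjugate in `F` to a subgroup centric in the invariant subsystem `E` contain
their centralizer in `T` -/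
theorem centralizerIn_le_of_isConj (F : FusionSystem S) (E : FusionSystem T)
    (hE : E.IsInvariantIn F) {P R : Subgroup Ω} (hP : E.IsCentric P) (hPR : F.IsConj P R) :
    centralizerIn T R ≤ R := by
  obtain ⟨φ, hφ, hr⟩ := hPR
  obtain ⟨a, -, φ₀, hφ₀, he⟩ := hE.2.2.2 P hP.1 φ hφ
  have hφ₀T : ∀ x : P, φ₀ x ∈ T := fun x => hom_mem_S E hφ₀ x
  have hQc : centralizerIn T φ₀.range ≤ φ₀.range := hP.2 _ ⟨φ₀, hφ₀, rfl⟩
  intro c hc
  -- `a⁻¹ c` centralizes `φ₀(P)`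
  have h1 : ((a⁻¹ ⟨c, hc.1⟩ : T) : Ω) ∈ centralizerIn T φ₀.range := by
    refine ⟨(a⁻¹ ⟨c, hc.1⟩).2, Subgroup.mem_centralizer_iff.mpr ?_⟩
    rintro _ ⟨x, rfl⟩
    have h2 : φ x ∈ R := hr ▸ ⟨x, rfl⟩
    have h3 := Subgroup.mem_centralizer_iff.mp hc.2 _ h2
    rw [he x (hφ₀T x)] at h3
    have h4 : a ⟨φ₀ x, hφ₀T x⟩ * ⟨c, hc.1⟩ = ⟨c, hc.1⟩ * a ⟨φ₀ x, hφ₀T x⟩ := Subtype.ext h3
    have h5 := congrArg (fun u : T => a⁻¹ u) h4
    simp only [map_mul] at h5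
    have h6 : a⁻¹ (a ⟨φ₀ x, hφ₀T x⟩) = ⟨φ₀ x, hφ₀T x⟩ := by
      show a.symm (a _) = _
      simp
    rw [h6] at h5
    exact congrArg (fun u : T => (u : Ω)) h5
  obtain ⟨x₀, hx₀⟩ := hQc h1
  have h7 : φ x₀ = c := by
    rw [he x₀ (hφ₀T x₀)]
    have h8 : (⟨φ₀ x₀, hφ₀T x₀⟩ : T) = a⁻¹ ⟨c, hc.1⟩ := Subtype.ext hx₀
    rw [h8]
    show ((a (a.symm ⟨c, hc.1⟩) : T) : Ω) = c
    simp
  rw [← hr]
  exact ⟨x₀, h7⟩

/-- `Aut_F(T)` carries subgroups centric in `E` to subgroups centric in `D'` -/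
theorem isCentric_imgAut (F : FusionSystem S) (E D' : FusionSystem T)
    (hE : E.IsInvariantIn F) (hD' : D'.IsSubsystemOf F) {P : Subgroup Ω} (hP : E.IsCentric P)
    {α : MulAut T} (hα : α ∈ F.autGroup T) :
    D'.IsCentric ((P.subgroupOf T).map (T.subtype.comp α.toMonoidHom)) := by
  have hTS : T ≤ S := hE.2.1.1
  refine ⟨imgAut_le α P, fun R hR => ?_⟩
  apply centralizerIn_le_of_isConj F E hE hP
  have h1 : F.IsConj P ((P.subgroupOf T).map (T.subtype.comp α.toMonoidHom)) :=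
    ⟨_, resAut_mem F hTS hα hP.1, range_resAut α hP.1⟩
  obtain ⟨ρ, hρ, hρr⟩ := hR
  exact isConj_trans F h1 ⟨ρ, hD' _ hρ, hρr⟩

/-- `Aut_{D'}` is normalized by the isomorphisms of `F`: if `χ : P → P'` is an isomorphism of `F`
between subgroups of `T` and `δ'` is an automorphism of `P'` in `D'`, then `χ⁻¹ δ' χ` is an
automorphism of `P` in `D'`. -/
theorem aut_mem_of_conj (F : FusionSystem S) (D' : FusionSystem T) (hD' : D'.IsInvariantIn F)
    {P P' : Subgroup Ω} (hPT : P ≤ T) (hP'T : P' ≤ T) {χ : P →* Ω} (hχ : χ ∈ F.Hom P)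
    (hχP' : ∀ x : P, χ x ∈ P') {δ : MulAut P} {δ' : MulAut P'} (hδ' : δ' ∈ D'.autGroup P')
    (h : ∀ x : P, χ (δ x) = ((δ' ⟨χ x, hχP' x⟩ : P') : Ω)) : δ ∈ D'.autGroup P := by
  obtain ⟨a, ha, d₀, hd₀, he⟩ := hD'.2.2.2 P hPT χ hχ
  have hd₀T : ∀ x : P, d₀ x ∈ T := fun x => hom_mem_S D' hd₀ x
  have ha' : a⁻¹ ∈ F.autGroup T := (F.autGroup T).inv_mem ha
  have hδ'hom : P'.subtype.comp δ'.toMonoidHom ∈ D'.Hom P' := (mem_autGroup_iff D' hP'T δ').mp hδ'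
  obtain ⟨χ', hχ', hχ'e⟩ := hD'.2.2.1 P' hP'T _ hδ'hom a⁻¹ ha'
  -- `d₀ x = a⁻¹ (χ x)`
  have hd₀a : ∀ x : P, (⟨d₀ x, hd₀T x⟩ : T) = a⁻¹ ⟨χ x, hP'T (hχP' x)⟩ := by
    intro x
    have h1 : (⟨χ x, hP'T (hχP' x)⟩ : T) = a ⟨d₀ x, hd₀T x⟩ := Subtype.ext (he x (hd₀T x))
    rw [h1]
    show _ = a.symm (a _)
    simp
  have hm : ∀ x : P, d₀ x ∈ (P'.subgroupOf T).map (T.subtype.comp (a⁻¹).toMonoidHom) := by
    intro x
    refine mem_imgAut.mpr ⟨⟨χ x, hP'T (hχP' x)⟩, hχP' x, ?_⟩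
    rw [← hd₀a x]
  have hκ := D'.comp_mem hd₀ hχ' hm
  -- `κ x = d₀ (δ x)`
  have hκe : ∀ x : P, (χ'.comp (d₀.codRestrict _ hm)) x = d₀ (δ x) := by
    intro x
    show χ' ⟨d₀ x, hm x⟩ = d₀ (δ x)
    have hT1 : (P'.subtype.comp δ'.toMonoidHom) ⟨χ x, hχP' x⟩ ∈ T := hP'T (δ' _).2
    have hm' : ((a⁻¹ ⟨(⟨χ x, hχP' x⟩ : P'), hP'T (hχP' x)⟩ : T) : Ω) ∈
        (P'.subgroupOf T).map (T.subtype.comp (a⁻¹).toMonoidHom) := by
      have := hm x
      rw [show d₀ x = ((⟨d₀ x, hd₀T x⟩ : T) : Ω) from rfl, hd₀a x] at this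
      exact this
    have h1 := hχ'e ⟨χ x, hχP' x⟩ hT1 hm'
    have e1 : (⟨d₀ x, hm x⟩ : ↥((P'.subgroupOf T).map (T.subtype.comp (a⁻¹).toMonoidHom))) =
        ⟨((a⁻¹ ⟨(⟨χ x, hχP' x⟩ : P'), hP'T (hχP' x)⟩ : T) : Ω), hm'⟩ := by
      apply Subtype.ext
      show d₀ x = _
      rw [show d₀ x = ((⟨d₀ x, hd₀T x⟩ : T) : Ω) from rfl, hd₀a x]
    rw [e1, h1]
    have e2 : (⟨(P'.subtype.comp δ'.toMonoidHom) ⟨χ x, hχP' x⟩, hT1⟩ : T) =
        ⟨χ (δ x), hP'T (hχP' (δ x))⟩ := Subtype.ext (h x).symm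
    rw [e2, ← hd₀a (δ x)]
  -- invert `d₀`
  obtain ⟨ψ, hψ, hψe, -⟩ := inv_exists D' hd₀ rfl
  have hm2 : ∀ x : P, (χ'.comp (d₀.codRestrict _ hm)) x ∈ d₀.range := by
    intro x
    rw [hκe]
    exact ⟨_, rfl⟩
  have hfin := D'.comp_mem hκ hψ hm2
  rw [mem_autGroup_iff D' hPT]
  have e : ψ.comp ((χ'.comp (d₀.codRestrict _ hm)).codRestrict _ hm2) =
      P.subtype.comp δ.toMonoidHom := by
    ext x
    show ψ ⟨(χ'.comp (d₀.codRestrict _ hm)) x, hm2 x⟩ = ((δ x : P) : Ω)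
    have e3 : (⟨(χ'.comp (d₀.codRestrict _ hm)) x, hm2 x⟩ : d₀.range) =
        ⟨d₀ (δ x), ⟨_, rfl⟩⟩ := Subtype.ext (hκe x)
    rw [e3]
    exact hψe (δ x) ⟨_, rfl⟩
  rw [← e]
  exact hfin

/-- `Aut_{D'}(P)` contains the `p`-elements of `Aut_E(P)`, for `E` saturated over `T` contained in
`F` and `D'` invariant in `F`. -/
theorem pElts_le [Finite T] {p : ℕ} [Fact p.Prime] (hT : IsPGroup p T) (F : FusionSystem S)
    (E D' : FusionSystem T) (hEsat : E.IsSaturated p) (hEF : E.IsSubsystemOf F)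
    (hD' : D'.IsInvariantIn F) {P : Subgroup Ω} (hPT : P ≤ T) :
    (Subgroup.closure {α : ↥(E.autGroup P) | ∃ k : ℕ, orderOf α = p ^ k}).map
      (E.autGroup P).subtype ≤ D'.autGroup P := by
  rw [Subgroup.map_le_iff_le_comap, Subgroup.closure_le]
  rintro ⟨α, hαE⟩ ⟨k, hk⟩
  show α ∈ D'.autGroup P
  obtain ⟨P', hPP', hfn⟩ := exists_fullyNormalized_conj E hPT
  obtain ⟨χ, hχ, hχr⟩ := hPP'
  have hP'T : P' ≤ T := hfn.1
  have hfa : E.IsFullyAutomized p P' := (fc_fa_of_fullyNormalized hT E hEsat hfn).2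
  let e := isoOfHom χ (E.injective_of_mem hχ) hχr
  have he : ∀ x : P, ((e x : P') : Ω) = χ x := fun x => rfl
  have hα' : MulAut.congr e α ∈ E.autGroup P' := autGroup_congr_mem E hχ hχr e he hαE
  have hord : orderOf (MulAut.congr e α) = p ^ k := by
    rw [MulEquiv.orderOf_eq, ← hk]
    exact (Subgroup.orderOf_coe (⟨α, hαE⟩ : E.autGroup P))
  have hp : IsPGroup p (Subgroup.zpowers (MulAut.congr e α)) := by
    apply IsPGroup.of_card (n := k)
    rw [Nat.card_zpowers, hord]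
  obtain ⟨β, hβ, hβc⟩ := exists_conj_into_autS E hfa (Subgroup.zpowers (MulAut.congr e α))
    (Subgroup.zpowers_le.mpr hα') hp
  have h1 := hβc _ (Subgroup.mem_zpowers _)
  have hδ' : β * MulAut.congr e α * β⁻¹ ∈ D'.autGroup P' :=
    autInducedBy_le_autGroup D' hP'T h1
  have hβhom : P'.subtype.comp β.toMonoidHom ∈ E.Hom P' := (mem_autGroup_iff E hP'T β).mp hβ
  have hχP' : ∀ x : P, χ x ∈ P' := fun x => (e x).2
  have hχ₂ := E.comp_mem hχ hβhom hχP'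
  have hχ₂P' : ∀ x : P, ((P'.subtype.comp β.toMonoidHom).comp (χ.codRestrict P' hχP')) x ∈ P' :=
    fun x => (β _).2
  refine aut_mem_of_conj F D' hD' hPT hP'T (hEF P hχ₂) hχ₂P' hδ' (fun x => ?_)
  show ((β ⟨χ (α x), hχP' (α x)⟩ : P') : Ω) =
    (((β * MulAut.congr e α * β⁻¹) (β ⟨χ x, hχP' x⟩) : P') : Ω)
  congr 1
  show β (e (α x)) = β ((MulAut.congr e α) (β⁻¹ (β (e x))))
  have h2 : β⁻¹ (β (e x)) = e x := by
    show β.symm (β (e x)) = e x
    simp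
  rw [h2]
  simp [MulAut.congr]

/-- in a saturated system over `T`, some power of exponent prime to `p` of every element of
`Aut_E(T)` is inner -/
theorem exists_pow_inner [Finite T] {p : ℕ} [Fact p.Prime] (hT : IsPGroup p T)
    (E : FusionSystem T) (hE : E.IsSaturated p) {α : MulAut T} (hα : α ∈ E.autGroup T) :
    ∃ (n : ℕ) (t : T), Nat.Coprime n p ∧ α ^ n = MulAut.conj t := by
  have hfn : E.IsFullyNormalized T := by
    refine ⟨le_rfl, fun Q hQ => ?_⟩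
    have hQT : Q ≤ T := isConj_le_right E hQ
    have hc := card_eq_of_isConj E hQ
    have : Q = T := Subgroup.eq_of_le_of_card_ge hQT (by rw [hc])
    rw [this]
  obtain ⟨-, R, hR⟩ := (fc_fa_of_fullyNormalized hT E hE hfn).2
  have hnorm : (R : Subgroup (E.autGroup T)).Normal := by
    rw [hR]
    constructor
    intro a ha g
    rw [Subgroup.mem_subgroupOf] at ha ⊢
    obtain ⟨h, hh, hae⟩ := (mem_autInducedBy_iff T T _).mp ha
    refine (mem_autInducedBy_iff T T _).mpr ⟨(((g : MulAut T) ⟨h, hh⟩ : T) : Ω),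
      ((g : MulAut T) ⟨h, hh⟩).2, fun x => ?_⟩
    show (((g : MulAut T) ((a : MulAut T) ((g : MulAut T)⁻¹ x)) : T) : Ω) = _
    have h1 : (a : MulAut T) ((g : MulAut T)⁻¹ x) =
        ⟨h, hh⟩ * ((g : MulAut T)⁻¹ x) * (⟨h, hh⟩ : T)⁻¹ := Subtype.ext (hae _)
    rw [h1, map_mul, map_mul, map_inv]
    have h2 : (g : MulAut T) ((g : MulAut T)⁻¹ x) = x := by
      show (g : MulAut T) ((g : MulAut T).symm x) = x
      simp
    rw [h2]
    rfl
  have hfinA : Finite (E.autGroup T) := inferInstance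
  obtain ⟨n, hn⟩ : ∃ n : ℕ, n = (R : Subgroup (E.autGroup T)).index := ⟨_, rfl⟩
  have hnd : ¬ p ∣ n := by
    rw [hn]
    exact R.not_dvd_index
  have hmem : (⟨α, hα⟩ : E.autGroup T) ^ n ∈ (R : Subgroup (E.autGroup T)) := by
    rw [hn]
    exact (R : Subgroup (E.autGroup T)).pow_index_mem (⟨α, hα⟩ : E.autGroup T)
  rw [hR, Subgroup.mem_subgroupOf] at hmem
  obtain ⟨h, hh, hae⟩ := (mem_autInducedBy_iff T T _).mp hmem
  refine ⟨n, ⟨h, hh⟩, ((Nat.Prime.coprime_iff_not_dvd Fact.out).mpr hnd).symm, ?_⟩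
  ext x
  have := hae x
  simpa using this

end Cfsg.Agent.Lib.Helper87.NR
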