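import Mathlib

set_option autoImplicit false

/-!
Upper central series counting for `p`-groups of maximal class:
`|G| = p^n`, class at least `n-1`, `n ≥ 4`  ⟹  `|Z(G)| = p`, `|Z₂(G)| = p²`,
and the centralizer of `Z₂(G)` has index `p`.
-/

namespace Cfsg.Agent.Lib.Helper87

open scoped commutatorElement

variable {G : Type*} [Group G]

theorem card_mul_le_of_lt' [Finite G] {p : ℕ} [hp : Fact p.Prime] (hG : IsPGroup p G)
    {H K : Subgroup G} (h : H < K) : p * Nat.card H ≤ Nat.card K := by
  obtain ⟨a, ha⟩ := IsPGroup.iff_card.mp (hG.to_subgroup H)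
  obtain ⟨b, hb⟩ := IsPGroup.iff_card.mp (hG.to_subgroup K)
  have hle : Nat.card H ≤ Nat.card K := Subgroup.card_le_of_le h.le
  have hne : Nat.card H ≠ Nat.card K := by
    intro he
    exact absurd (Subgroup.eq_of_le_of_card_ge h.le he.ge) h.ne
  rw [ha, hb] at hle hne ⊢
  have hab : a < b := by
    rcases lt_trichotomy a b with h1 | h1 | h1
    · exact h1
    · exact absurd (by rw [h1]) hne
    · exact absurd hle (not_le_of_gt (Nat.pow_lt_pow_right hp.out.one_lt h1))
  rw [← pow_succ']
  exact Nat.pow_le_pow_right hp.out.pos hab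

/-- The last proper term of the upper central series never has prime index. -/
theorem index_upperCentralSeries_ne_prime {p : ℕ} [hp : Fact p.Prime] (k : ℕ) :
    (Subgroup.upperCentralSeries G (k + 1)).index ≠ p := by
  intro hidx
  have hne : Subgroup.upperCentralSeries G (k + 1) ≠ ⊤ := by
    intro h
    rw [h, Subgroup.index_top] at hidx
    exact hp.out.one_lt.ne hidx
  obtain ⟨g, hg⟩ : ∃ g : G, g ∉ Subgroup.upperCentralSeries G (k + 1) := by
    by_contra hcon
    push Not at hcon
    exact hne (eq_top_iff.mpr fun x _ => hcon x)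
  apply hg
  rw [Subgroup.mem_upperCentralSeries_succ_iff]
  intro y
  have hcard : Nat.card (G ⧸ Subgroup.upperCentralSeries G (k + 1)) = p := by
    rw [← Subgroup.index_eq_card]; exact hidx
  have hmk : (QuotientGroup.mk g : G ⧸ Subgroup.upperCentralSeries G (k + 1)) ≠ 1 := by
    intro h
    exact hg ((QuotientGroup.eq_one_iff g).mp h)
  have hz := zpowers_eq_top_of_prime_card hcard hmk
  have hy : (QuotientGroup.mk y : G ⧸ Subgroup.upperCentralSeries G (k + 1)) ∈
      Subgroup.zpowers (QuotientGroup.mk g : G ⧸ Subgroup.upperCentralSeries G (k + 1)) := by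
    rw [hz]; exact Subgroup.mem_top _
  obtain ⟨j, hj⟩ := Subgroup.mem_zpowers_iff.mp hy
  have hz' : (g ^ j)⁻¹ * y ∈ Subgroup.upperCentralSeries G (k + 1) := by
    rw [← QuotientGroup.eq]
    rw [← hj]; rfl
  set z' := (g ^ j)⁻¹ * y with hz'def
  have hy' : y = g ^ j * z' := by rw [hz'def]; group
  have h1 : ⁅z', g⁆ ∈ Subgroup.upperCentralSeries G k := Subgroup.mem_upperCentralSeries_succ_iff.mp hz' g
  have h2 : ⁅g, y⁆ = g ^ j * (⁅z', g⁆)⁻¹ * (g ^ j)⁻¹ := by
    rw [hy', commutatorElement_def, commutatorElement_def]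
    have hc : g * g ^ j = g ^ j * g := by
      rw [← zpow_one_add, ← zpow_add_one]; ring_nf
    calc g * (g ^ j * z') * g⁻¹ * (g ^ j * z')⁻¹
        = (g * g ^ j) * z' * g⁻¹ * z'⁻¹ * (g ^ j)⁻¹ := by group
      _ = (g ^ j * g) * z' * g⁻¹ * z'⁻¹ * (g ^ j)⁻¹ := by rw [hc]
      _ = g ^ j * (z' * g * z'⁻¹ * g⁻¹)⁻¹ * (g ^ j)⁻¹ := by group
  rw [h2]
  have hn : (Subgroup.upperCentralSeries G k).Normal := inferInstance
  exact hn.conj_mem _ (Subgroup.inv_mem _ h1) _

/-- In a group of order `p^n` and class at least `n-1` (`n ≥ 4`), the centre has order `p` and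
the second centre has order `p²`. -/
theorem card_center_of_maxClass [Finite G] {p : ℕ} [hp : Fact p.Prime] (n : ℕ) (hn : 4 ≤ n)
    (hG : Nat.card G = p ^ n)
    (hmax : (⊤ : Subgroup G).lowerCentralSeries (n - 2) ≠ ⊥) :
    Nat.card (Subgroup.upperCentralSeries G 1) = p ∧ Nat.card (Subgroup.upperCentralSeries G 2) = p ^ 2 := by
  have hpp : p.Prime := hp.out
  have hPG : IsPGroup p G := IsPGroup.of_card hG
  have hnil : Group.IsNilpotent G := hPG.isNilpotent
  set c := Group.nilpotencyClass G with hc
  have hcn : n - 1 ≤ c := by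
    by_contra hcon
    push Not at hcon
    have : c ≤ n - 2 := by omega
    exact hmax (Subgroup.lowerCentralSeries_eq_bot_iff_nilpotencyClass_le.mpr this)
  obtain ⟨k, hk⟩ : ∃ k, c = k + 2 := ⟨c - 2, by omega⟩
  have htop : Subgroup.upperCentralSeries G (k + 2) = ⊤ := by
    rw [← hk, hc]; exact Subgroup.upperCentralSeries_nilpotencyClass
  have hstrict : ∀ i, i < c → Subgroup.upperCentralSeries G i < Subgroup.upperCentralSeries G (i + 1) := by
    intro i hi
    exact Subgroup.upperCentralSeries.StrictMonoOn G (Set.mem_Iic.mpr hi.le) (Set.mem_Iic.mpr hi)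
      (Nat.lt_succ_self i)
  -- lower bounds
  have hlow : ∀ i, i ≤ c → p ^ i ≤ Nat.card (Subgroup.upperCentralSeries G i) := by
    intro i
    induction i with
    | zero => intro _; simp
    | succ i ih =>
      intro hi
      have h1 := ih (by omega)
      have h2 := card_mul_le_of_lt' hPG (hstrict i (by omega))
      calc p ^ (i + 1) = p * p ^ i := pow_succ' p i
        _ ≤ p * Nat.card (Subgroup.upperCentralSeries G i) := Nat.mul_le_mul_left p h1
        _ ≤ _ := h2
  -- the top step
  have hidx_ne : (Subgroup.upperCentralSeries G (k + 1)).index ≠ p :=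
    index_upperCentralSeries_ne_prime k
  have hlt_top : Subgroup.upperCentralSeries G (k + 1) < ⊤ := by
    rw [← htop]; exact hstrict (k + 1) (by omega)
  have hcard_top : Nat.card (Subgroup.upperCentralSeries G (k + 1)) * p ^ 2 ≤ p ^ n := by
    have hmul := Subgroup.card_mul_index (Subgroup.upperCentralSeries G (k + 1))
    rw [hG] at hmul
    obtain ⟨j, hj⟩ : ∃ j, (Subgroup.upperCentralSeries G (k + 1)).index = p ^ j := by
      have hdvd : (Subgroup.upperCentralSeries G (k + 1)).index ∣ p ^ n := ⟨_, by rw [mul_comm]; exact hmul.symm⟩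
      obtain ⟨j, -, hj⟩ := (Nat.dvd_prime_pow hpp).mp hdvd
      exact ⟨j, hj⟩
    have hj0 : j ≠ 0 := by
      intro h0
      rw [h0, pow_zero, Subgroup.index_eq_one] at hj
      exact hlt_top.ne hj
    have hj1 : j ≠ 1 := by
      intro h1
      rw [h1, pow_one] at hj
      exact hidx_ne hj
    have hj2 : 2 ≤ j := by omega
    rw [← hmul, hj]
    exact Nat.mul_le_mul_left _ (Nat.pow_le_pow_right hpp.pos hj2)
  -- upper bounds going down
  have hup : ∀ d, d ≤ k + 1 →
      Nat.card (Subgroup.upperCentralSeries G (k + 1 - d)) * p ^ d ≤ Nat.card (Subgroup.upperCentralSeries G (k + 1)) := by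
    intro d
    induction d with
    | zero => intro _; simp
    | succ d ih =>
      intro hd
      have h1 := ih (by omega)
      have h2 := card_mul_le_of_lt' hPG (hstrict (k + 1 - (d + 1)) (by omega))
      have e : k + 1 - (d + 1) + 1 = k + 1 - d := by omega
      rw [e] at h2
      calc Nat.card (Subgroup.upperCentralSeries G (k + 1 - (d + 1))) * p ^ (d + 1)
          = (p * Nat.card (Subgroup.upperCentralSeries G (k + 1 - (d + 1)))) * p ^ d := by
            rw [pow_succ]; ring
        _ ≤ Nat.card (Subgroup.upperCentralSeries G (k + 1 - d)) * p ^ d := Nat.mul_le_mul_right _ h2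
        _ ≤ _ := h1
  have hkn : n ≤ k + 3 := by omega
  have hk1 : 1 ≤ k := by omega
  constructor
  · apply le_antisymm
    · have h1 := hup k (by omega)
      have e : k + 1 - k = 1 := by omega
      rw [e] at h1
      have h2 : Nat.card (Subgroup.upperCentralSeries G 1) * p ^ k * p ^ 2 ≤ p ^ (k + 3) :=
        (Nat.mul_le_mul_right _ h1).trans (hcard_top.trans (Nat.pow_le_pow_right hpp.pos hkn))
      have h3 : Nat.card (Subgroup.upperCentralSeries G 1) * p ^ (k + 2) ≤ p * p ^ (k + 2) := by
        calc Nat.card (Subgroup.upperCentralSeries G 1) * p ^ (k + 2)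
            = Nat.card (Subgroup.upperCentralSeries G 1) * p ^ k * p ^ 2 := by rw [pow_add]; ring
          _ ≤ p ^ (k + 3) := h2
          _ = p * p ^ (k + 2) := by rw [← pow_succ']
      exact Nat.le_of_mul_le_mul_right h3 (pow_pos hpp.pos _)
    · have := hlow 1 (by omega)
      simpa using this
  · apply le_antisymm
    · have h1 := hup (k - 1) (by omega)
      have e : k + 1 - (k - 1) = 2 := by omega
      rw [e] at h1
      have h2 : Nat.card (Subgroup.upperCentralSeries G 2) * p ^ (k - 1) * p ^ 2 ≤ p ^ (k + 3) :=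
        (Nat.mul_le_mul_right _ h1).trans (hcard_top.trans (Nat.pow_le_pow_right hpp.pos hkn))
      have h3 : Nat.card (Subgroup.upperCentralSeries G 2) * p ^ (k + 1) ≤ p ^ 2 * p ^ (k + 1) := by
        calc Nat.card (Subgroup.upperCentralSeries G 2) * p ^ (k + 1)
            = Nat.card (Subgroup.upperCentralSeries G 2) * p ^ (k - 1) * p ^ 2 := by
              have : k + 1 = (k - 1) + 2 := by omega
              rw [this, pow_add]; ring
          _ ≤ p ^ (k + 3) := h2
          _ = p ^ 2 * p ^ (k + 1) := by rw [← pow_add]; congr 1; omega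
      exact Nat.le_of_mul_le_mul_right h3 (pow_pos hpp.pos _)
    · exact hlow 2 (by omega)


/-- If `|Z(G)| = p` and `|Z₂(G)| = p²` then the centralizer of `Z₂(G)` has index `p`. -/
theorem index_centralizer_second_center [Finite G] {p : ℕ} [hp : Fact p.Prime]
    (h1 : Nat.card (Subgroup.upperCentralSeries G 1) = p)
    (h2 : Nat.card (Subgroup.upperCentralSeries G 2) = p ^ 2) :
    (Subgroup.centralizer (Subgroup.upperCentralSeries G 2 : Set G)).index = p := by
  have hpp : p.Prime := hp.out
  have hle : Subgroup.upperCentralSeries G 1 ≤ Subgroup.upperCentralSeries G 2 :=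
    Subgroup.upperCentralSeries_mono G (by omega)
  have hne : Subgroup.upperCentralSeries G 1 ≠ Subgroup.upperCentralSeries G 2 := by
    intro h
    rw [h, h2] at h1
    have : p ^ 2 = p ^ 1 := by rw [pow_one]; exact h1
    exact absurd (Nat.pow_right_injective hpp.two_le this) (by omega)
  obtain ⟨t, ht2, ht1⟩ : ∃ t, t ∈ Subgroup.upperCentralSeries G 2 ∧
      t ∉ Subgroup.upperCentralSeries G 1 := by
    by_contra hcon
    push Not at hcon
    exact hne (le_antisymm hle hcon)
  have hZ1 : Subgroup.upperCentralSeries G 1 = Subgroup.center G := Subgroup.upperCentralSeries_one G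
  have hcomm : ∀ s : G, ⁅t, s⁆ ∈ Subgroup.center G := by
    intro s
    rw [← hZ1]
    exact Subgroup.mem_upperCentralSeries_succ_iff.mp ht2 s
  -- the commutator homomorphism
  let f : G →* Subgroup.center G := MonoidHom.mk' (fun s => ⟨⁅t, s⁆, hcomm s⟩) (by
    intro a b
    apply Subtype.ext
    show ⁅t, a * b⁆ = ⁅t, a⁆ * ⁅t, b⁆
    have hb := Subgroup.mem_center_iff.mp (hcomm b) a
    rw [commutatorElement_def, commutatorElement_def, commutatorElement_def] at *
    calc t * (a * b) * t⁻¹ * (a * b)⁻¹
        = t * a * t⁻¹ * a⁻¹ * (a * (t * b * t⁻¹ * b⁻¹)) * a⁻¹ := by group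
      _ = t * a * t⁻¹ * a⁻¹ * ((t * b * t⁻¹ * b⁻¹) * a) * a⁻¹ := by rw [hb]
      _ = t * a * t⁻¹ * a⁻¹ * (t * b * t⁻¹ * b⁻¹) := by group)
  have hfker : ∀ s : G, s ∈ f.ker ↔ t * s = s * t := by
    intro s
    rw [MonoidHom.mem_ker]
    constructor
    · intro h
      have h' : ⁅t, s⁆ = 1 := congrArg (fun z : Subgroup.center G => (z : G)) h
      rw [commutatorElement_def] at h'
      calc t * s = t * s * t⁻¹ * s⁻¹ * (s * t) := by group
        _ = s * t := by rw [h', one_mul]
    · intro h
      apply Subtype.ext
      show ⁅t, s⁆ = 1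
      rw [commutatorElement_def, h]; group
  -- the range has order p
  have hrange : Nat.card f.range = p := by
    have hdvd : Nat.card f.range ∣ p := by
      have h3 := Subgroup.card_subgroup_dvd_card f.range
      have h4 : Nat.card (Subgroup.center G) = p := by rw [← hZ1]; exact h1
      rwa [h4] at h3
    rcases (Nat.dvd_prime hpp).mp hdvd with h | h
    · exfalso
      have hbot : f.range = ⊥ := Subgroup.card_eq_one.mp h
      apply ht1
      rw [hZ1, Subgroup.mem_center_iff]
      intro s
      have hs : f s ∈ f.range := ⟨s, rfl⟩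
      rw [hbot, Subgroup.mem_bot] at hs
      have := (hfker s).mp (MonoidHom.mem_ker.mpr hs)
      exact this.symm
    · exact h
  have hidx : f.ker.index = p := by rw [Subgroup.index_ker]; exact hrange
  -- the centralizer of Z₂ is the kernel
  have heq : Subgroup.centralizer (Subgroup.upperCentralSeries G 2 : Set G) = f.ker := by
    ext x
    rw [hfker, Subgroup.mem_centralizer_iff]
    constructor
    · intro h
      exact h t ht2
    · intro hx
      have hsup : Subgroup.upperCentralSeries G 2 ≤
          Subgroup.upperCentralSeries G 1 ⊔ Subgroup.zpowers t := by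
        have hlt : Subgroup.upperCentralSeries G 1 <
            Subgroup.upperCentralSeries G 1 ⊔ Subgroup.zpowers t := by
          refine lt_of_le_of_ne le_sup_left ?_
          intro h
          apply ht1
          rw [h]
          exact Subgroup.mem_sup_right (Subgroup.mem_zpowers t)
        have hle2 : Subgroup.upperCentralSeries G 1 ⊔ Subgroup.zpowers t ≤
            Subgroup.upperCentralSeries G 2 :=
          sup_le hle ((Subgroup.zpowers_le).mpr ht2)
        -- cardinality of the join
        have hd2 : Nat.card ↥(Subgroup.upperCentralSeries G 1 ⊔ Subgroup.zpowers t) ∣ p ^ 2 := by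
          rw [← h2]; exact Subgroup.card_dvd_of_le hle2
        obtain ⟨j, hj2, hj⟩ := (Nat.dvd_prime_pow hpp).mp hd2
        have hd1 : p ∣ Nat.card ↥(Subgroup.upperCentralSeries G 1 ⊔ Subgroup.zpowers t) := by
          have := Subgroup.card_dvd_of_le hlt.le
          rwa [h1] at this
        have hjne1 : j ≠ 1 := by
          intro hj1
          rw [hj1, pow_one] at hj
          have : Subgroup.upperCentralSeries G 1 =
              Subgroup.upperCentralSeries G 1 ⊔ Subgroup.zpowers t :=
            Subgroup.eq_of_le_of_card_ge hlt.le (by rw [hj, h1])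
          exact hlt.ne this
        have hjne0 : j ≠ 0 := by
          intro hj0
          rw [hj0, pow_zero] at hj
          rw [hj] at hd1
          exact hpp.one_lt.ne' (Nat.dvd_one.mp hd1)
        have hj2' : j = 2 := by omega
        rw [hj2'] at hj
        exact (Subgroup.eq_of_le_of_card_ge hle2 (by rw [hj, h2])).ge
      intro h hh
      have hmem : h ∈ Subgroup.centralizer ({x} : Set G) := by
        have hle3 : Subgroup.upperCentralSeries G 1 ⊔ Subgroup.zpowers t ≤
            Subgroup.centralizer ({x} : Set G) := by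
          refine sup_le ?_ ?_
          · intro z hz
            rw [hZ1, Subgroup.mem_center_iff] at hz
            rw [Subgroup.mem_centralizer_iff]
            intro y hy
            rw [Set.mem_singleton_iff] at hy
            rw [hy]; exact hz x
          · rw [Subgroup.zpowers_le, Subgroup.mem_centralizer_iff]
            intro y hy
            rw [Set.mem_singleton_iff] at hy
            rw [hy]; exact hx.symm
        exact hle3 (hsup hh)
      rw [Subgroup.mem_centralizer_iff] at hmem
      exact (hmem x rfl).symm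
  rw [heq]; exact hidx

end Cfsg.Agent.Lib.Helper87
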