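import Mathlib
import Cfsg.Agent.Lib.Helper41.FusionFam

set_option autoImplicit false

/-! A simplicity criterion for the fusion system of a finite group `G` on a Sylow `p`-subgroup `S`
which needs no normality of the auxiliary subgroups: no proper non-trivial strongly closed subgroup,
a self-centralising "base" subgroup `B ≤ S`, and a set `X` of "good" elements of `N_G(B)` generating
a subgroup containing `N_G(S)`.  An element `x` is good when, for some `P ≤ Q ≤ S` with `B ≤ Q`,
`C_G(P) ≤ P`, `x ∈ N_G(Q)`, `x` lies in the subgroup generated by the `p`-elements of `N_G(P)`. -/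

namespace Cfsg.Agent.Lib.Helper87.AltCrit

open Cfsg Cfsg.FusionSystem Cfsg.Agent.Lib.Helper95.Fusion Cfsg.Agent.Lib.Helper87
  Cfsg.Agent.Lib.Helper85 Cfsg.Agent.Lib.Helper41.FusionFam

open scoped Pointwise

variable {G : Type*} [Group G]

/-- Under strong invariance of `E` in the fusion system of `G` on a Sylow `p`-subgroup `S`, every
`p`-element of `N_G(R)` (`R ≤ S` arbitrary) acts on `R` through `Aut_E(R)`. -/
theorem pElement_conjAut_mem [Finite G] {p : ℕ} [Fact p.Prime] (S : Sylow p G)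
    (E : FusionSystem (S : Subgroup G))
    (hinv : StrongInv E (groupFusionSystem (S : Subgroup G)))
    {R : Subgroup G} (hRS : R ≤ (S : Subgroup G)) {x : G}
    (hxN : x ∈ Subgroup.normalizer (R : Set G)) {k : ℕ} (hk : orderOf x = p ^ k) :
    conjAut R x hxN ∈ E.autGroup R := by
  classical
  -- the `p`-group `R⟨x⟩`
  have hRp : IsPGroup p R := S.isPGroup'.to_le hRS
  have hxp : IsPGroup p (Subgroup.zpowers x) := by
    rw [IsPGroup.iff_card]
    exact ⟨k, by rw [Nat.card_zpowers, hk]⟩
  have hzN : Subgroup.zpowers x ≤ Subgroup.normalizer (R : Set G) := by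
    rw [Subgroup.zpowers_le]
    exact hxN
  have hQp : IsPGroup p (R ⊔ Subgroup.zpowers x : Subgroup G) :=
    hRp.to_sup_of_normal_left' hxp hzN
  obtain ⟨Q, hQ⟩ := hQp.exists_le_sylow
  obtain ⟨g, hg⟩ := MulAction.exists_smul_eq G Q S
  have hconj : ∀ y ∈ (R ⊔ Subgroup.zpowers x : Subgroup G), g * y * g⁻¹ ∈ (S : Subgroup G) := by
    intro y hy
    have h1 : y ∈ (Q : Subgroup G) := hQ hy
    have h2 : g * y * g⁻¹ ∈ ((g • Q : Sylow p G) : Subgroup G) := by
      show g * y * g⁻¹ ∈ MulAut.conj g • (Q : Subgroup G)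
      rw [mem_conj_smul_iff]
      have e : g⁻¹ * (g * y * g⁻¹) * g = y := by group
      rw [e]
      exact h1
    rw [hg] at h2
    exact h2
  set R' : Subgroup G := R.map (cj g) with hR'
  have hR'S : R' ≤ (S : Subgroup G) := by
    rintro _ ⟨y, hy, rfl⟩
    exact hconj y (Subgroup.mem_sup_left hy)
  set x' : G := g * x * g⁻¹ with hx'
  have hx'S : x' ∈ (S : Subgroup G) :=
    hconj x (Subgroup.mem_sup_right (Subgroup.mem_zpowers x))
  have hx'N : x' ∈ Subgroup.normalizer (R' : Set G) := by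
    have := normalizer_map_cj R g
    rw [this]
    exact ⟨x, hxN, rfl⟩
  -- the `E`-automorphism of `R'`
  have hδ : conjAut R' x' hx'N ∈ E.autGroup R' :=
    autInducedBy_le_autGroup E hR'S (conjAut_mem_autInducedBy hx'S hx'N)
  have hφ := (mem_autGroup_iff E hR'S _).mp hδ
  -- conjugation back
  have hψ : conjHom R' g⁻¹ ∈ (groupFusionSystem (S : Subgroup G)).Hom R' := by
    apply conjHom_mem_groupFusionSystem hR'S
    rintro _ ⟨_, ⟨y, hy, rfl⟩, rfl⟩
    have : cj g⁻¹ (cj g y) = y := by
      show g⁻¹ * (g * y * g⁻¹) * g⁻¹⁻¹ = y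
      group
    rw [this]
    exact hRS hy
  obtain ⟨χ, hχ, hχx⟩ := hinv R' R' le_rfl hR'S _ hφ (fun y => (conjAut R' x' hx'N y).2) _ hψ
  have heq : (R'.subgroupOf R').map (conjHom R' g⁻¹) = R := by
    ext y
    constructor
    · rintro ⟨⟨_, ⟨z, hz, rfl⟩⟩, -, rfl⟩
      have : conjHom (R.map (cj g)) g⁻¹ ⟨cj g z, ⟨z, hz, rfl⟩⟩ = z := by
        show g⁻¹ * (g * z * g⁻¹) * g⁻¹⁻¹ = z
        group
      rw [this]
      exact hz
    · intro hy
      refine ⟨⟨cj g y, ⟨y, hy, rfl⟩⟩, Subgroup.mem_subgroupOf.mpr ⟨y, hy, rfl⟩, ?_⟩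
      show g⁻¹ * (g * y * g⁻¹) * g⁻¹⁻¹ = y
      group
  have h1 := cast_mem E heq hχ
  rw [mem_autGroup_iff E hRS]
  have h2 : R.subtype.comp (conjAut R x hxN).toMonoidHom = χ.comp (Subgroup.inclusion heq.ge) := by
    ext y
    have hy' : cj g (y : G) ∈ R' := ⟨y, y.2, rfl⟩
    have hmem : conjHom R' g⁻¹ (Subgroup.inclusion (le_refl R') ⟨cj g (y : G), hy'⟩) ∈
        (R'.subgroupOf R').map (conjHom R' g⁻¹) := by
      rw [heq]
      show g⁻¹ * (g * (y : G) * g⁻¹) * g⁻¹⁻¹ ∈ R
      have : g⁻¹ * (g * (y : G) * g⁻¹) * g⁻¹⁻¹ = y := by group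
      rw [this]
      exact y.2
    have h3 := hχx ⟨cj g (y : G), hy'⟩ hmem
    have h4 : (⟨conjHom R' g⁻¹ (Subgroup.inclusion (le_refl R') ⟨cj g (y : G), hy'⟩), hmem⟩ :
        ↥((R'.subgroupOf R').map (conjHom R' g⁻¹))) = Subgroup.inclusion heq.ge y := by
      apply Subtype.ext
      show g⁻¹ * (g * (y : G) * g⁻¹) * g⁻¹⁻¹ = y
      group
    rw [h4] at h3
    show x * (y : G) * x⁻¹ = χ (Subgroup.inclusion heq.ge y)
    rw [h3]
    show x * (y : G) * x⁻¹ = g⁻¹ * (x' * (g * (y : G) * g⁻¹) * x'⁻¹) * g⁻¹⁻¹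
    rw [hx']
    group
  rw [h2]
  exact h1

/-- The subgroup generated by the `p`-elements of `N_G(R)` acts on `R` through `Aut_E(R)`. -/
theorem conjAut_mem_of_closure [Finite G] {p : ℕ} [Fact p.Prime] (S : Sylow p G)
    (E : FusionSystem (S : Subgroup G))
    (hinv : StrongInv E (groupFusionSystem (S : Subgroup G)))
    {R : Subgroup G} (hRS : R ≤ (S : Subgroup G)) {g : G}
    (hg : g ∈ Subgroup.closure {g : G | g ∈ Subgroup.normalizer (R : Set G) ∧
      ∃ k : ℕ, orderOf g = p ^ k}) :
    ∃ hgN : g ∈ Subgroup.normalizer (R : Set G), conjAut R g hgN ∈ E.autGroup R := by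
  have hle : Subgroup.closure {g : G | g ∈ Subgroup.normalizer (R : Set G) ∧
      ∃ k : ℕ, orderOf g = p ^ k} ≤
      ((E.autGroup R).comap R.normalizerMonoidHom).map (Subgroup.normalizer (R : Set G)).subtype := by
    rw [Subgroup.closure_le]
    rintro g ⟨hgN, k, hk⟩
    refine ⟨⟨g, hgN⟩, ?_, rfl⟩
    exact pElement_conjAut_mem S E hinv hRS hgN hk
  obtain ⟨⟨g', hg'N⟩, hmem, rfl⟩ := hle hg
  exact ⟨hg'N, hmem⟩

/-- The criterion, for one Sylow subgroup. -/
theorem isSimple_of_base [Finite G] {p : ℕ} [Fact p.Prime] (S : Sylow p G)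
    (hS : (S : Subgroup G) ≠ ⊥) (hA : PropA (S : Subgroup G))
    (B : Subgroup G) (hBS : B ≤ (S : Subgroup G))
    (hBc : ∀ g : G, (∀ x ∈ B, g * x = x * g) → g ∈ B)
    (X : Set G)
    (hX : ∀ x ∈ X, x ∈ Subgroup.normalizer (B : Set G) ∧ ∃ P Q : Subgroup G, P ≤ Q ∧ B ≤ Q ∧
      Q ≤ (S : Subgroup G) ∧ (∀ g : G, (∀ y ∈ P, g * y = y * g) → g ∈ P) ∧
      x ∈ Subgroup.normalizer (Q : Set G) ∧
      x ∈ Subgroup.closure {g : G | g ∈ Subgroup.normalizer (P : Set G) ∧
        ∃ k : ℕ, orderOf g = p ^ k})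
    (hgen : ∀ n : G, (∀ x ∈ (S : Subgroup G), n * x * n⁻¹ ∈ (S : Subgroup G)) →
      n ∈ Subgroup.closure X) :
    (groupFusionSystem (S : Subgroup G)).IsSimple p := by
  classical
  have hSp : IsPGroup p (S : Subgroup G) := S.isPGroup'
  have hF : (groupFusionSystem (S : Subgroup G)).IsSaturated p := groupFusionSystem_isSaturated S
  refine ⟨hF, hS, fun T E hE => ?_⟩
  obtain ⟨⟨hEsat, -, hEinv⟩, -⟩ := hE
  have hsub : E.IsSubsystemOf (groupFusionSystem (S : Subgroup G)) := hEinv.1
  have hsc := hEinv.2.1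
  by_cases hT : T = ⊥
  · exact Or.inl hT
  right
  have hTS : T = (S : Subgroup G) := by
    apply hA T hsc.1 hT
    intro x hx g hg
    have hR : Subgroup.zpowers x ≤ T := by
      rw [Subgroup.zpowers_le]
      exact hx
    have hφ : conjHom (Subgroup.zpowers x) g ∈
        (groupFusionSystem (S : Subgroup G)).Hom (Subgroup.zpowers x) := by
      refine ⟨hR.trans hsc.1, ?_, g, fun y => rfl⟩
      rintro ⟨y, k, rfl⟩
      have : g * x ^ k * g⁻¹ = (g * x * g⁻¹) ^ k := by
        rw [conj_zpow]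
      show g * x ^ k * g⁻¹ ∈ (S : Subgroup G)
      rw [this]
      exact Subgroup.zpow_mem _ hg k
    exact hsc.2 _ hR _ hφ ⟨x, Subgroup.mem_zpowers x⟩
  subst hTS
  refine ⟨rfl, ?_⟩
  have hstrong : StrongInv E (groupFusionSystem (S : Subgroup G)) :=
    (Cfsg.Agent.S5119.result p hSp _ hF E hsub hsc).mp hEinv
  have hle : E ≤ groupFusionSystem (S : Subgroup G) := hsub
  apply Cfsg.Agent.S5338.result p hSp _ hF E hEsat hle
  · intro Q φ hφ R hRQ ψ hψ hψQ
    exact hstrong R Q hRQ (hom_le _ hφ) ψ hψ hψQ φ hφ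
  · apply le_antisymm
    · intro α hα
      rw [mem_autGroup_iff _ le_rfl] at hα ⊢
      exact hsub _ hα
    · rw [autGroup_groupFusionSystem le_rfl]
      intro α hα
      obtain ⟨n, -, hnα⟩ := (mem_autInducedBy_iff _ _ α).mp hα
      have hnS : ∀ x ∈ (S : Subgroup G), n * x * n⁻¹ ∈ (S : Subgroup G) := by
        intro x hx
        have := hnα ⟨x, hx⟩
        rw [← this]
        exact (α ⟨x, hx⟩).2
      have hBcen := isCentric_of_self_centralizing hBS hBc
      -- every element of `closure X` acts on `B` through `Aut_E(B)`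
      have hcl : Subgroup.closure X ≤
          ((E.autGroup B).comap B.normalizerMonoidHom).map
            (Subgroup.normalizer (B : Set G)).subtype := by
        rw [Subgroup.closure_le]
        intro x hx
        obtain ⟨hxB, P, Q, hPQ, hBQ, hQS, hPc, hxQ, hxP⟩ := hX x hx
        refine ⟨⟨x, hxB⟩, ?_, rfl⟩
        show B.normalizerMonoidHom ⟨x, hxB⟩ ∈ E.autGroup B
        obtain ⟨hxPN, hmemP⟩ := conjAut_mem_of_closure S E hstrong (hPQ.trans hQS) hxP
        have hQF : Q.subtype.comp (conjAut Q x hxQ).toMonoidHom ∈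
            (groupFusionSystem (S : Subgroup G)).Hom Q := by
          apply (mem_autGroup_iff _ hQS _).mp
          rw [autGroup_groupFusionSystem hQS]
          exact conjAut_mem_autInducedBy (Subgroup.mem_top x) hxQ
        have hPcen := isCentric_of_self_centralizing (hPQ.trans hQS) hPc
        have hres : (Q.subtype.comp (conjAut Q x hxQ).toMonoidHom).comp (Subgroup.inclusion hPQ) ∈
            E.Hom P := by
          have h1 := (mem_autGroup_iff E (hPQ.trans hQS) _).mp hmemP
          have h2 : (Q.subtype.comp (conjAut Q x hxQ).toMonoidHom).comp (Subgroup.inclusion hPQ) =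
              P.subtype.comp (conjAut P x hxPN).toMonoidHom := by
            ext y
            rfl
          rw [h2]
          exact h1
        have hQE := Cfsg.Agent.Lib.Helper88.mem_of_restrict_mem hSp _ E hF hEsat hle _ hPQ rfl
          hPcen hQF hres
        have hBE := restrict_mem E hQE hBQ
        rw [mem_autGroup_iff E hBS]
        have h3 : B.subtype.comp (B.normalizerMonoidHom ⟨x, hxB⟩).toMonoidHom =
            (Q.subtype.comp (conjAut Q x hxQ).toMonoidHom).comp (Subgroup.inclusion hBQ) := by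
          ext y
          rfl
        rw [h3]
        exact hBE
      obtain ⟨⟨n', hn'B⟩, hmem, hnn'⟩ := hcl (hgen n hnS)
      have hn' : n' = n := hnn'
      subst hn'
      -- `n'` normalizes `S`
      have hnN : n' ∈ Subgroup.normalizer ((S : Subgroup G) : Set G) := by
        rw [Subgroup.mem_normalizer_iff]
        intro x
        constructor
        · exact hnS x
        · intro hx
          let f : ↥(S : Subgroup G) → ↥(S : Subgroup G) := fun y => ⟨n' * (y : G) * n'⁻¹, hnS y y.2⟩
          have hinj : Function.Injective f := by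
            intro a b hab
            have h1 : n' * (a : G) * n'⁻¹ = n' * (b : G) * n'⁻¹ := congrArg Subtype.val hab
            exact Subtype.ext (mul_left_cancel (mul_right_cancel h1))
          obtain ⟨y, hy⟩ := Finite.surjective_of_injective hinj ⟨n' * x * n'⁻¹, hx⟩
          have h1 : n' * (y : G) * n'⁻¹ = n' * x * n'⁻¹ := congrArg Subtype.val hy
          have h2 : (y : G) = x := mul_left_cancel (mul_right_cancel h1)
          rw [← h2]
          exact y.2
      set β := (S : Subgroup G).normalizerMonoidHom ⟨n', hnN⟩ with hβ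
      have hβx : ∀ x : (S : Subgroup G), ((β x : (S : Subgroup G)) : G) = n' * (x : G) * n'⁻¹ :=
        fun x => rfl
      have hβF : β ∈ (groupFusionSystem (S : Subgroup G)).autGroup (S : Subgroup G) := by
        rw [autGroup_groupFusionSystem le_rfl]
        exact (mem_autInducedBy_iff _ _ β).mpr ⟨n', Subgroup.mem_top n', hβx⟩
      have hψ := (mem_autGroup_iff _ le_rfl β).mp hβF
      have hres : ((S : Subgroup G).subtype.comp β.toMonoidHom).comp
          (Subgroup.inclusion hBS) ∈ E.Hom B := by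
        have h1 := (mem_autGroup_iff E hBS _).mp hmem
        have h2 : ((S : Subgroup G).subtype.comp β.toMonoidHom).comp
            (Subgroup.inclusion hBS) =
            B.subtype.comp (B.normalizerMonoidHom ⟨n', hn'B⟩).toMonoidHom := by
          ext x
          rfl
        rw [h2]
        exact h1
      have := Cfsg.Agent.Lib.Helper88.mem_of_restrict_mem hSp _ E hF hEsat hle _ hBS rfl
        hBcen hψ hres
      have hαeq : α = β := by
        ext x
        rw [hnα x]
        rfl
      rw [hαeq]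
      exact (mem_autGroup_iff E le_rfl β).mpr this

end Cfsg.Agent.Lib.Helper87.AltCrit
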