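import Mathlib
import Cfsg.Agent.Lib.Helper87.AltCrit
import Cfsg.Agent.Lib.Helper85.SimpleGroupCrit2

set_option autoImplicit false

/-! Bundled hypotheses of `AltCrit.isSimple_of_base`, their transport along group isomorphisms, and
the resulting "check it once, in an isomorphic copy" versions. -/

namespace Cfsg.Agent.Lib.Helper87.AltCrit

open Cfsg Cfsg.FusionSystem Subgroup Cfsg.Agent.Lib.Helper85.SGC
open scoped Pointwise

variable {G H : Type*} [Group G] [Group H]

/-- The hypotheses of `isSimple_of_base` for a subgroup `S` of `G`. -/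
def BaseHyp (p : ℕ) (S : Subgroup G) : Prop :=
  S ≠ ⊥ ∧
  (∀ T : Subgroup G, T ≤ S → T ≠ ⊥ →
      (∀ x ∈ T, ∀ g : G, g * x * g⁻¹ ∈ S → g * x * g⁻¹ ∈ T) → T = S) ∧
  ∃ (B : Subgroup G) (X : Set G), B ≤ S ∧ (∀ g : G, (∀ x ∈ B, g * x = x * g) → g ∈ B) ∧
    (∀ x ∈ X, x ∈ normalizer (B : Set G) ∧ ∃ P Q : Subgroup G, P ≤ Q ∧ B ≤ Q ∧ Q ≤ S ∧
      (∀ g : G, (∀ y ∈ P, g * y = y * g) → g ∈ P) ∧ x ∈ normalizer (Q : Set G) ∧
      x ∈ Subgroup.closure {g : G | g ∈ normalizer (P : Set G) ∧ ∃ k : ℕ, orderOf g = p ^ k}) ∧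
    ∀ n : G, (∀ x ∈ S, n * x * n⁻¹ ∈ S) → n ∈ Subgroup.closure X

theorem self_centralizing_map (e : G ≃* H) {P : Subgroup G}
    (hP : ∀ g : G, (∀ y ∈ P, g * y = y * g) → g ∈ P) :
    ∀ g : H, (∀ y ∈ P.map e.toMonoidHom, g * y = y * g) → g ∈ P.map e.toMonoidHom := by
  intro g' hg'
  obtain ⟨g, rfl⟩ := e.surjective g'
  refine (apply_mem_map_iff e P g).mpr (hP g ?_)
  intro y hy
  apply e.injective
  rw [map_mul, map_mul]
  exact hg' (e y) ⟨y, hy, rfl⟩

/-- `BaseHyp` is transported along group isomorphisms. -/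
theorem BaseHyp.map {p : ℕ} {S : Subgroup G} (h : BaseHyp p S) (e : G ≃* H) :
    BaseHyp p (S.map e.toMonoidHom) := by
  obtain ⟨h1, hA, B, X, hBS, hBc, hX, hgen⟩ := h
  refine ⟨?_, ?_, B.map e.toMonoidHom, e '' X, Subgroup.map_mono hBS,
    self_centralizing_map e hBc, ?_, ?_⟩
  · intro hbot
    exact h1 ((map_eq_bot_iff_of_injective S e.injective).mp hbot)
  · intro T' hT' hT'ne hcl
    have hTS : T'.comap e.toMonoidHom ≤ S := by
      intro x hx
      have : e x ∈ S.map e.toMonoidHom := hT' hx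
      exact (apply_mem_map_iff e S x).mp this
    have hTne : T'.comap e.toMonoidHom ≠ ⊥ := by
      intro hbot
      apply hT'ne
      rw [← map_comap_equiv e T', hbot, Subgroup.map_bot]
    have key := hA (T'.comap e.toMonoidHom) hTS hTne (by
      intro x hx g hg
      have h2 : e g * e x * (e g)⁻¹ ∈ T' := by
        apply hcl (e x) hx (e g)
        have : e (g * x * g⁻¹) ∈ S.map e.toMonoidHom := (apply_mem_map_iff e S _).mpr hg
        simpa using this
      show e (g * x * g⁻¹) ∈ T'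
      simpa using h2)
    rw [← map_comap_equiv e T', key]
  · rintro _ ⟨x, hx, rfl⟩
    obtain ⟨hxB, P, Q, hPQ, hBQ, hQS, hPc, hxQ, hxP⟩ := hX x hx
    refine ⟨(apply_mem_normalizer_map_iff e B x).mpr hxB, P.map e.toMonoidHom,
      Q.map e.toMonoidHom, Subgroup.map_mono hPQ, Subgroup.map_mono hBQ, Subgroup.map_mono hQS,
      self_centralizing_map e hPc, (apply_mem_normalizer_map_iff e Q x).mpr hxQ, ?_⟩
    have hmem2 : e x ∈ (Subgroup.closure {h : G | h ∈ normalizer (P : Set G) ∧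
        ∃ k : ℕ, orderOf h = p ^ k}).map e.toMonoidHom := ⟨x, hxP, rfl⟩
    rw [MonoidHom.map_closure] at hmem2
    refine Subgroup.closure_mono ?_ hmem2
    rintro _ ⟨h, ⟨hhN, k, hk⟩, rfl⟩
    refine ⟨(apply_mem_normalizer_map_iff e P h).mpr hhN, k, ?_⟩
    show orderOf (e h) = p ^ k
    rw [MulEquiv.orderOf_eq, hk]
  · intro n' hn'
    obtain ⟨n, rfl⟩ := e.surjective n'
    have hn : ∀ x ∈ S, n * x * n⁻¹ ∈ S := by
      intro x hx
      have h2 := hn' (e x) ⟨x, hx, rfl⟩
      have h3 : e (n * x * n⁻¹) ∈ S.map e.toMonoidHom := by simpa using h2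
      exact (apply_mem_map_iff e S _).mp h3
    have hmem : e n ∈ (Subgroup.closure X).map e.toMonoidHom := ⟨n, hgen n hn, rfl⟩
    rw [MonoidHom.map_closure] at hmem
    exact hmem

variable [Finite G]

/-- `isSimple_of_base`, with bundled hypotheses. -/
theorem isSimple_of_baseHyp {p : ℕ} [Fact p.Prime] (S : Sylow p G)
    (h : BaseHyp p (S : Subgroup G)) : (groupFusionSystem (S : Subgroup G)).IsSimple p := by
  obtain ⟨h1, hA, B, X, hBS, hBc, hX, hgen⟩ := h
  exact isSimple_of_base S h1 hA B hBS hBc X hX hgen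

/-- It is enough to check the hypotheses for ONE Sylow `p`-subgroup. -/
theorem isSimple_of_baseHyp_one {p : ℕ} [Fact p.Prime] (S0 : Sylow p G)
    (h : BaseHyp p (S0 : Subgroup G)) (S : Sylow p G) :
    (groupFusionSystem (S : Subgroup G)).IsSimple p := by
  obtain ⟨k, rfl⟩ := MulAction.exists_smul_eq G S0 S
  apply isSimple_of_baseHyp
  have hcoe : ((k • S0 : Sylow p G) : Subgroup G) =
      (S0 : Subgroup G).map (MulAut.conj k).toMonoidHom := rfl
  rw [hcoe]
  exact h.map (MulAut.conj k)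

/-- The same, with the hypotheses checked in an isomorphic copy `G` of the group `H`, for a
maximal `p`-subgroup `S0` of `G`. -/
theorem isSimple_of_baseHyp_equiv [Finite H] {p : ℕ} [Fact p.Prime] (e : G ≃* H)
    (S0 : Subgroup G) (hS0p : IsPGroup p S0)
    (hS0max : ∀ Q : Subgroup G, IsPGroup p Q → S0 ≤ Q → Q = S0)
    (h : BaseHyp p S0) (S : Sylow p H) :
    (groupFusionSystem (S : Subgroup H)).IsSimple p := by
  let S0' : Sylow p G := ⟨S0, hS0p, fun {Q} hQ hle => hS0max Q hQ hle⟩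
  have h0 : BaseHyp p (S0' : Subgroup G) := h
  -- the image Sylow subgroup
  have hmaxH : ∀ Q : Subgroup H, IsPGroup p Q → S0.map e.toMonoidHom ≤ Q →
      Q = S0.map e.toMonoidHom := by
    intro Q hQ hle
    have h2 : Q.comap e.toMonoidHom = S0 := by
      apply hS0max
      · exact hQ.comap_of_injective e.toMonoidHom e.injective
      · intro x hx
        exact hle ⟨x, hx, rfl⟩
    rw [← map_comap_equiv e Q, h2]
  let S1 : Sylow p H := ⟨S0.map e.toMonoidHom, hS0p.map _, fun {Q} hQ hle => hmaxH Q hQ hle⟩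
  exact isSimple_of_baseHyp_one S1 (h.map e) S

end Cfsg.Agent.Lib.Helper87.AltCrit
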