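import Cfsg.Agent.Lib.Helper87.Alperin

set_option autoImplicit false
open Cfsg Cfsg.FusionSystem

namespace Cfsg.Agent.Lib.Helper87

variable {Ω : Type*} [Group Ω]

/-- The fusion system over `P` whose maps are the restrictions of the elements of a group
`A` of automorphisms of `P` containing the inner automorphisms. -/
def autSystem (P : Subgroup Ω) (A : Subgroup (MulAut P)) (hA : Inn P ≤ A) : FusionSystem P where
  Hom R := {φ | ∃ hR : R ≤ P, ∃ α ∈ A, ∀ x : R, φ x = ((α ⟨x, hR x.2⟩ : P) : Ω)}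
  le_of_mem := by
    rintro R φ ⟨hR, α, -, h⟩
    exact ⟨hR, fun x => (h x).symm ▸ (α _).2⟩
  injective_of_mem := by
    rintro R φ ⟨hR, α, -, h⟩ a b hab
    rw [h a, h b] at hab
    have h1 : (⟨(a : Ω), hR a.2⟩ : P) = ⟨(b : Ω), hR b.2⟩ := α.injective (Subtype.ext hab)
    exact Subtype.ext (congrArg (fun z : P => (z : Ω)) h1)
  conj_mem := by
    intro R g hR hg
    exact ⟨hR, MulAut.conj ⟨g, hg⟩, hA ⟨_, rfl⟩, fun x => rfl⟩
  comp_mem := by
    rintro R Q φ ψ ⟨hR, α, hα, h1⟩ ⟨hQ, β, hβ, h2⟩ h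
    refine ⟨hR, β * α, A.mul_mem hβ hα, fun x => ?_⟩
    show ψ (φ.codRestrict Q h x) = _
    rw [h2]
    have e : (⟨((φ.codRestrict Q h x : Q) : Ω), hQ (φ.codRestrict Q h x).2⟩ : P) =
        α ⟨x, hR x.2⟩ := Subtype.ext (h1 x)
    rw [e]
    rfl
  inv_mem := by
    rintro R φ ⟨hR, α, hα, h⟩
    have hr : φ.range ≤ P := by
      rintro _ ⟨x, rfl⟩
      rw [h]; exact (α _).2
    refine ⟨(P.subtype.comp (α⁻¹).toMonoidHom).comp (Subgroup.inclusion hr),
      ⟨hr, α⁻¹, A.inv_mem hα, fun x => rfl⟩, fun x => ?_⟩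
    show ((α⁻¹ (Subgroup.inclusion hr ⟨φ x, ⟨x, rfl⟩⟩) : P) : Ω) = x
    have e : (Subgroup.inclusion hr ⟨φ x, ⟨x, rfl⟩⟩ : P) = α ⟨x, hR x.2⟩ := Subtype.ext (h x)
    rw [e]
    show ((α.symm (α ⟨x, hR x.2⟩) : P) : Ω) = x
    simp

theorem mem_autSystem_hom {P : Subgroup Ω} {A : Subgroup (MulAut P)} {hA : Inn P ≤ A}
    {R : Subgroup Ω} {φ : R →* Ω} :
    φ ∈ (autSystem P A hA).Hom R ↔
      ∃ hR : R ≤ P, ∃ α ∈ A, ∀ x : R, φ x = ((α ⟨x, hR x.2⟩ : P) : Ω) := Iff.rfl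

/-- Powers of a restriction are restrictions of powers. -/
theorem res_pow {P R : Subgroup Ω} (hR : R ≤ P) {γ : MulAut R} {α : MulAut P}
    (h : ∀ x : R, ((γ x : R) : Ω) = ((α ⟨x, hR x.2⟩ : P) : Ω)) (n : ℕ) :
    ∀ x : R, (((γ ^ n) x : R) : Ω) = (((α ^ n) ⟨x, hR x.2⟩ : P) : Ω) := by
  induction n with
  | zero => intro x; simp
  | succ n ih =>
    intro x
    rw [pow_succ, pow_succ]
    show (((γ ^ n) (γ x) : R) : Ω) = (((α ^ n) (α ⟨x, hR x.2⟩) : P) : Ω)
    rw [ih (γ x)]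
    have e : (⟨((γ x : R) : Ω), hR (γ x).2⟩ : P) = α ⟨x, hR x.2⟩ := Subtype.ext (h x)
    rw [e]

theorem autSystem_autGroup_iff {P : Subgroup Ω} {A : Subgroup (MulAut P)} {hA : Inn P ≤ A}
    {R : Subgroup Ω} (hR : R ≤ P) (γ : MulAut R) :
    γ ∈ (autSystem P A hA).autGroup R ↔
      ∃ α ∈ A, ∀ x : R, ((γ x : R) : Ω) = ((α ⟨x, hR x.2⟩ : P) : Ω) := by
  rw [mem_autGroup_iff _ hR]
  constructor
  · rintro ⟨_, α, hα, h⟩
    exact ⟨α, hα, fun x => h x⟩
  · rintro ⟨α, hα, h⟩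
    exact ⟨hR, α, hα, fun x => h x⟩

/-- The restriction system of `A` is saturated as soon as some power prime to `p` sends `A`
into `Inn(P)`: every subgroup is fully automized and receptive. -/
theorem autSystem_isSaturated {P : Subgroup Ω} [Finite P] {p : ℕ} [Fact p.Prime]
    (hP : IsPGroup p P) (A : Subgroup (MulAut P)) (hA : Inn P ≤ A) (q : ℕ) (hq : q.Coprime p)
    (hAq : ∀ α ∈ A, α ^ q ∈ Inn P) : (autSystem P A hA).IsSaturated p := by
  intro R hR
  refine ⟨R, isConj_refl _ hR, ⟨hR, ?_⟩, hR, ?_⟩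
  · -- fully automized
    refine ⟨⟨(autInducedBy P R).subgroupOf ((autSystem P A hA).autGroup R), ?_, ?_⟩, rfl⟩
    · exact (autInducedBy_isPGroup hP R).comap_of_injective _ (Subgroup.subtype_injective _)
    · intro Q hQ hle
      refine le_antisymm ?_ hle
      intro γ hγ
      rw [Subgroup.mem_subgroupOf]
      obtain ⟨k, hk⟩ := hQ ⟨γ, hγ⟩
      have hk' : (γ : MulAut R) ^ (p ^ k) = 1 := by
        have := congrArg (fun z : Q => ((z : (autSystem P A hA).autGroup R) : MulAut R)) hk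
        simpa using this
      have hord : orderOf (γ : MulAut R) ∣ p ^ k := orderOf_dvd_of_pow_eq_one hk'
      have hcop : q.Coprime (orderOf (γ : MulAut R)) :=
        Nat.Coprime.coprime_dvd_right hord (Nat.Coprime.pow_right k hq)
      obtain ⟨m, hm⟩ := exists_pow_eq_self_of_coprime hcop
      obtain ⟨α, hα, h⟩ := (autSystem_autGroup_iff hR (γ : MulAut R)).mp γ.2
      obtain ⟨g, hg⟩ := hAq α hα
      have hγq : (γ : MulAut R) ^ q ∈ autInducedBy P R := by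
        rw [mem_autInducedBy_iff]
        refine ⟨g, g.2, fun x => ?_⟩
        rw [res_pow hR h q x, ← hg]
        rfl
      rw [← hm]
      exact Subgroup.pow_mem _ hγq m
  · -- receptive
    rintro R' φ ⟨hR', α, hα, h⟩ hr
    have hle : extender P R' φ ≤ P := by
      unfold extender
      rw [Subgroup.closure_le]
      rintro g ⟨h1, -⟩
      exact h1
    refine ⟨(P.subtype.comp α.toMonoidHom).comp (Subgroup.inclusion hle),
      ⟨hle, α, hα, fun x => rfl⟩, fun x hx hN => ?_⟩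
    rw [h]
    rfl

end Cfsg.Agent.Lib.Helper87
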