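import Cfsg.Agent.Lib.Helper87.Essential
import Cfsg.Agent.Lib.Helper87.NormalCriterion
import Cfsg.Agent.Lib.Helper88.EssOut

set_option autoImplicit false

namespace Cfsg.Agent.Lib.Helper87

open Cfsg Cfsg.FusionSystem

variable {Ω : Type*} [Group Ω] {S : Subgroup Ω}

/-- Normal subgroup criterion via the Alperin–Goldschmidt theorem: a subgroup contained in `S` and
in every essential subgroup, and invariant under `Aut_F(S)` and `Aut_F(R)` for `R` essential, is
normal in the saturated fusion system. -/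
theorem isNormal_of_AG_invariant [Finite S] {p : ℕ} [Fact p.Prime]
    (hS : IsPGroup p S) (F : FusionSystem S) (hF : F.IsSaturated p) {Q : Subgroup Ω}
    (hle : ∀ R : Subgroup Ω, IsAG F p R → Q ≤ R)
    (hinv : ∀ R : Subgroup Ω, IsAG F p R → ∀ α ∈ F.autGroup R, ∀ y : R, (y : Ω) ∈ Q →
      ((α y : R) : Ω) ∈ Q) : F.IsNormal Q := by
  have hQS : Q ≤ S := hle S (Or.inl rfl)
  have hfinQ : Finite Q := finite_of_le hQS
  have hSNQ : S ≤ Subgroup.normalizer (Q : Set Ω) := by
    intro s hs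
    apply Cfsg.Agent.Lib.Helper88.mem_normalizer_of_conj_mem_finite
    intro q hq
    have hsN : s ∈ Subgroup.normalizer (S : Set Ω) := Subgroup.le_normalizer hs
    have h1 : conjAut S s hsN ∈ F.autGroup S :=
      autInducedBy_le_autGroup F le_rfl (conjAut_mem_autInducedBy hs hsN)
    have h2 := hinv S (Or.inl rfl) _ h1 ⟨q, hQS hq⟩ hq
    rwa [conjAut_coe] at h2
  have hSN : S ≤ normalizerIn S Q := le_inf le_rfl hSNQ
  have key : ∀ (P : Subgroup Ω) (φ : P →* Ω), GenBy F (IsAG F p) P φ → φ ∈ F.normalizerHom Q P := by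
    intro P φ h
    induction h with
    | @aut P R hR hRS α hα hPR =>
      have hQR : Q ≤ R := hle R hR
      have hα' := (mem_autGroup_iff F hRS α).mp hα
      have hsup : P ⊔ Q ≤ R := sup_le hPR hQR
      refine ⟨restrict_mem F hα' hPR, (hPR.trans hRS).trans hSN,
        fun x => hSN (hRS (α _).2), _, restrict_mem F hα' hsup, fun x => rfl, ?_⟩
      rw [map_subgroupOf_eq_iff]
      refine ⟨fun y hy => ?_, fun q hq => ?_⟩
      · exact hinv R hR α hα ⟨y, hsup y.2⟩ hy
      · have h1 := hinv R hR α⁻¹ ((F.autGroup R).inv_mem hα) ⟨q, hQR hq⟩ hq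
        refine ⟨⟨((α⁻¹ ⟨q, hQR hq⟩ : R) : Ω), (le_sup_right : Q ≤ P ⊔ Q) h1⟩, h1, ?_⟩
        show ((α (α⁻¹ ⟨q, hQR hq⟩) : R) : Ω) = q
        have e : α (α⁻¹ ⟨q, hQR hq⟩) = ⟨q, hQR hq⟩ := by
          show α (α.symm _) = _
          simp
        rw [e]
    | @comp P P' φ ψ _ _ h ih1 ih2 =>
      exact (normalizerSystem F Q hQS).comp_mem ih1 ih2 h
  refine ⟨hQS, fun P φ hφ => ?_⟩
  exact (key P φ (alperin_goldschmidt hS F hF P φ hφ)).2.2.2

end Cfsg.Agent.Lib.Helper87
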