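import Mathlib

set_option autoImplicit false

namespace Cfsg.Agent.Lib.Helper87

variable {Ω : Type*} [Group Ω] {S A : Subgroup Ω}

/-- A subgroup of prime index `p` in a finite `p`-group is normal. -/
theorem aip_normal [Finite S] {p : ℕ} [hp : Fact p.Prime] (hS : IsPGroup p S)
    (hAi : (A.subgroupOf S).index = p) : (A.subgroupOf S).Normal := by
  apply Subgroup.normal_of_index_eq_minFac_card
  obtain ⟨n, hn⟩ := (IsPGroup.iff_card).mp hS
  have hn0 : n ≠ 0 := by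
    rintro rfl
    have h1 : (A.subgroupOf S).index ∣ Nat.card S := Subgroup.index_dvd_card _
    rw [hn, hAi, pow_zero] at h1
    exact hp.out.one_lt.ne' (Nat.dvd_one.mp h1)
  rw [hAi, hn, Nat.Prime.pow_minFac hp.out hn0]

theorem aip_conj_mem [Finite S] {p : ℕ} [Fact p.Prime] (hS : IsPGroup p S) (hAS : A ≤ S)
    (hAi : (A.subgroupOf S).index = p) {s a : Ω} (hs : s ∈ S) (ha : a ∈ A) :
    s * a * s⁻¹ ∈ A := by
  have hn := aip_normal hS hAi
  have h := hn.conj_mem ⟨a, hAS ha⟩ (Subgroup.mem_subgroupOf.mpr ha) ⟨s, hs⟩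
  exact Subgroup.mem_subgroupOf.mp h

/-- `S = ⟨x⟩ A` for any `x ∈ S` outside `A`. -/
theorem aip_exists_zpow [Finite S] {p : ℕ} [Fact p.Prime] (hS : IsPGroup p S) (hAS : A ≤ S)
    (hAi : (A.subgroupOf S).index = p) {x : Ω} (hx : x ∈ S) (hxA : x ∉ A) {s : Ω} (hs : s ∈ S) :
    ∃ (k : ℤ) (a : Ω), a ∈ A ∧ s = x ^ k * a := by
  haveI hn := aip_normal hS hAi
  have hcard : Nat.card (S ⧸ A.subgroupOf S) = p := by
    rw [← Subgroup.index_eq_card, hAi]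
  have hne : (QuotientGroup.mk (⟨x, hx⟩ : S) : S ⧸ A.subgroupOf S) ≠ 1 := by
    intro h
    exact hxA (Subgroup.mem_subgroupOf.mp ((QuotientGroup.eq_one_iff _).mp h))
  have htop := zpowers_eq_top_of_prime_card hcard hne
  have hmem : (QuotientGroup.mk (⟨s, hs⟩ : S) : S ⧸ A.subgroupOf S) ∈
      Subgroup.zpowers (QuotientGroup.mk (⟨x, hx⟩ : S) : S ⧸ A.subgroupOf S) := by
    rw [htop]; trivial
  obtain ⟨k, hk⟩ := Subgroup.mem_zpowers_iff.mp hmem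
  rw [← QuotientGroup.mk_zpow, QuotientGroup.eq] at hk
  refine ⟨k, (x ^ k)⁻¹ * s, ?_, by group⟩
  have := Subgroup.mem_subgroupOf.mp hk
  simpa using this

/-- In a nonabelian group, central elements lie in the abelian subgroup of index `p`. -/
theorem aip_center_le [Finite S] {p : ℕ} [Fact p.Prime] (hS : IsPGroup p S) (hAS : A ≤ S)
    (hAc : ∀ a ∈ A, ∀ b ∈ A, a * b = b * a) (hAi : (A.subgroupOf S).index = p)
    (hna : ∃ s ∈ S, ∃ t ∈ S, s * t ≠ t * s) {z : Ω} (hz : z ∈ S)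
    (hzc : ∀ s ∈ S, z * s = s * z) : z ∈ A := by
  by_contra hzA
  obtain ⟨s, hs, t, ht, hst⟩ := hna
  obtain ⟨k, a, ha, rfl⟩ := aip_exists_zpow hS hAS hAi hz hzA hs
  obtain ⟨l, b, hb, rfl⟩ := aip_exists_zpow hS hAS hAi hz hzA ht
  apply hst
  have hza : ∀ n : ℤ, ∀ c ∈ A, z ^ n * c = c * z ^ n := by
    intro n c hc
    have : Commute z c := hzc c (hAS hc)
    exact (this.zpow_left n).eq
  have hab := hAc a ha b hb
  calc z ^ k * a * (z ^ l * b) = z ^ k * (a * z ^ l) * b := by group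
    _ = z ^ k * (z ^ l * a) * b := by rw [hza l a ha]
    _ = z ^ l * (z ^ k * (a * b)) := by
        have : z ^ k * z ^ l = z ^ l * z ^ k := by rw [← zpow_add, ← zpow_add, add_comm]
        calc z ^ k * (z ^ l * a) * b = (z ^ k * z ^ l) * a * b := by group
          _ = (z ^ l * z ^ k) * a * b := by rw [this]
          _ = _ := by group
    _ = z ^ l * (z ^ k * (b * a)) := by rw [hab]
    _ = z ^ l * ((z ^ k * b) * a) := by group
    _ = z ^ l * ((b * z ^ k) * a) := by rw [hza k b hb]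
    _ = z ^ l * b * (z ^ k * a) := by group

/-- An element of `A` commuting with some `x ∈ S ∖ A` is central in `S`. -/
theorem aip_central_of_commute [Finite S] {p : ℕ} [Fact p.Prime] (hS : IsPGroup p S) (hAS : A ≤ S)
    (hAc : ∀ a ∈ A, ∀ b ∈ A, a * b = b * a) (hAi : (A.subgroupOf S).index = p)
    {x : Ω} (hx : x ∈ S) (hxA : x ∉ A) {a : Ω} (ha : a ∈ A) (hax : a * x = x * a) :
    ∀ s ∈ S, a * s = s * a := by
  intro s hs
  obtain ⟨k, b, hb, rfl⟩ := aip_exists_zpow hS hAS hAi hx hxA hs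
  have h1 : Commute a x := hax
  have h2 : a * x ^ k = x ^ k * a := (h1.zpow_right k).eq
  calc a * (x ^ k * b) = (a * x ^ k) * b := by group
    _ = x ^ k * (a * b) := by rw [h2]; group
    _ = x ^ k * (b * a) := by rw [hAc a ha b hb]
    _ = x ^ k * b * a := by group

/-- The commutator map `a ↦ [a, x]` is multiplicative on `A`. -/
theorem aip_comm_mul [Finite S] {p : ℕ} [Fact p.Prime] (hS : IsPGroup p S) (hAS : A ≤ S)
    (hAc : ∀ a ∈ A, ∀ b ∈ A, a * b = b * a) (hAi : (A.subgroupOf S).index = p)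
    {x : Ω} (hx : x ∈ S) {a b : Ω} (ha : a ∈ A) (hb : b ∈ A) :
    (a * b) * x * (a * b)⁻¹ * x⁻¹ = (a * x * a⁻¹ * x⁻¹) * (b * x * b⁻¹ * x⁻¹) := by
  have hbx : b * x * b⁻¹ * x⁻¹ ∈ A := by
    have h1 : x * b⁻¹ * x⁻¹ ∈ A := aip_conj_mem hS hAS hAi hx (A.inv_mem hb)
    have e : b * x * b⁻¹ * x⁻¹ = b * (x * b⁻¹ * x⁻¹) := by group
    rw [e]
    exact A.mul_mem hb h1
  have hax : a * x * a⁻¹ * x⁻¹ ∈ A := by
    have h1 : x * a⁻¹ * x⁻¹ ∈ A := aip_conj_mem hS hAS hAi hx (A.inv_mem ha)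
    have e : a * x * a⁻¹ * x⁻¹ = a * (x * a⁻¹ * x⁻¹) := by group
    rw [e]
    exact A.mul_mem ha h1
  have h1 : (a * b) * x * (a * b)⁻¹ * x⁻¹ = a * (b * x * b⁻¹ * x⁻¹) * a⁻¹ * (a * x * a⁻¹ * x⁻¹) := by
    group
  rw [h1, ← hAc _ hbx a ha]
  have h2 : b * x * b⁻¹ * x⁻¹ * a * a⁻¹ * (a * x * a⁻¹ * x⁻¹) =
      (b * x * b⁻¹ * x⁻¹) * (a * x * a⁻¹ * x⁻¹) := by group
  rw [h2, hAc _ hbx _ hax]

theorem aip_comm_mem [Finite S] {p : ℕ} [Fact p.Prime] (hS : IsPGroup p S) (hAS : A ≤ S)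
    (hAi : (A.subgroupOf S).index = p)
    {x : Ω} (hx : x ∈ S) {a : Ω} (ha : a ∈ A) : a * x * a⁻¹ * x⁻¹ ∈ A := by
  have h1 : x * a⁻¹ * x⁻¹ ∈ A := aip_conj_mem hS hAS hAi hx (A.inv_mem ha)
  have e : a * x * a⁻¹ * x⁻¹ = a * (x * a⁻¹ * x⁻¹) := by group
  rw [e]
  exact A.mul_mem ha h1

/-- Commutators of elements of `S` lie in `A`. -/
theorem aip_commutator_mem [Finite S] {p : ℕ} [Fact p.Prime] (hS : IsPGroup p S) (hAS : A ≤ S)
    (hAi : (A.subgroupOf S).index = p) {s t : Ω} (hs : s ∈ S) (ht : t ∈ S) :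
    s * t * s⁻¹ * t⁻¹ ∈ A := by
  haveI hn := aip_normal hS hAi
  have hcard : Nat.card (S ⧸ A.subgroupOf S) = p := by
    rw [← Subgroup.index_eq_card, hAi]
  haveI : IsCyclic (S ⧸ A.subgroupOf S) := isCyclic_of_prime_card hcard
  have hcomm : ∀ u v : S ⧸ A.subgroupOf S, u * v = v * u := fun u v =>
    (IsCyclic.commGroup (α := S ⧸ A.subgroupOf S)).mul_comm u v
  have h1 : (QuotientGroup.mk ((⟨s, hs⟩ : S) * ⟨t, ht⟩ * (⟨s, hs⟩ : S)⁻¹ * (⟨t, ht⟩ : S)⁻¹) :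
      S ⧸ A.subgroupOf S) = 1 := by
    rw [QuotientGroup.mk_mul, QuotientGroup.mk_mul, QuotientGroup.mk_mul, QuotientGroup.mk_inv,
      QuotientGroup.mk_inv, hcomm (QuotientGroup.mk ⟨s, hs⟩)]
    group
  have h2 := (QuotientGroup.eq_one_iff _).mp h1
  exact Subgroup.mem_subgroupOf.mp h2

end Cfsg.Agent.Lib.Helper87
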