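import Cfsg.Agent.Lib.Helper88.EssOut
import Cfsg.Agent.Lib.Helper87.Lemma26

set_option autoImplicit false
open Cfsg Cfsg.FusionSystem

namespace Cfsg.Agent.Lib.Helper87

variable {Ω : Type*} [Group Ω] {S : Subgroup Ω}

/-- The stability group of the chain `1 ≤ R ≤ P`: automorphisms of `P` fixing `R ∩ P` pointwise and
inducing the identity on the cosets of `R`. -/
def chainStab (P R : Subgroup Ω) : Subgroup (MulAut P) where
  carrier := {φ | (∀ y : P, (y : Ω) ∈ R → φ y = y) ∧ ∀ y : P, ((φ y : P) : Ω) * (y : Ω)⁻¹ ∈ R}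
  one_mem' := ⟨fun y _ => rfl, fun y => by
    show (y : Ω) * (y : Ω)⁻¹ ∈ R
    rw [mul_inv_cancel]; exact R.one_mem⟩
  mul_mem' := by
    rintro a b ⟨ha1, ha2⟩ ⟨hb1, hb2⟩
    refine ⟨fun y hy => ?_, fun y => ?_⟩
    · show a (b y) = y
      rw [hb1 y hy, ha1 y hy]
    · show ((a (b y) : P) : Ω) * (y : Ω)⁻¹ ∈ R
      have e : ((a (b y) : P) : Ω) * (y : Ω)⁻¹ =
          (((a (b y) : P) : Ω) * ((b y : P) : Ω)⁻¹) * (((b y : P) : Ω) * (y : Ω)⁻¹) := by group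
      rw [e]
      exact R.mul_mem (ha2 (b y)) (hb2 y)
  inv_mem' := by
    rintro a ⟨ha1, ha2⟩
    have e : ∀ y : P, a (a⁻¹ y) = y := fun y => by
      show a (a.symm y) = y
      simp
    refine ⟨fun y hy => ?_, fun y => ?_⟩
    · have h := ha1 y hy
      calc a⁻¹ y = a⁻¹ (a y) := by rw [h]
        _ = y := by show a.symm (a y) = y; simp
    · have h := ha2 (a⁻¹ y)
      rw [e] at h
      have e2 : ((a⁻¹ y : P) : Ω) * (y : Ω)⁻¹ = ((y : Ω) * ((a⁻¹ y : P) : Ω)⁻¹)⁻¹ := by group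
      rw [e2]
      exact R.inv_mem h

theorem mem_chainStab_iff {P R : Subgroup Ω} (φ : MulAut P) :
    φ ∈ chainStab P R ↔
      (∀ y : P, (y : Ω) ∈ R → φ y = y) ∧ ∀ y : P, ((φ y : P) : Ω) * (y : Ω)⁻¹ ∈ R := Iff.rfl

theorem chainStab_isPGroup {p : ℕ} [Fact p.Prime] {P R : Subgroup Ω} [Finite P]
    (hP : IsPGroup p P) : IsPGroup p (chainStab P R) := by
  rintro ⟨φ, hφ1, hφ2⟩
  obtain ⟨k, hk⟩ := (IsPGroup.iff_card).mp hP
  refine ⟨k, Subtype.ext ?_⟩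
  show φ ^ (p ^ k) = 1
  have hpow : ∀ (n : ℕ) (y : P), (φ ^ n) y = (φ y * y⁻¹) ^ n * y := by
    intro n
    induction n with
    | zero => intro y; simp
    | succ n ih =>
      intro y
      have hr : φ (φ y * y⁻¹) = φ y * y⁻¹ := hφ1 _ (hφ2 y)
      have hfix : ∀ m : ℕ, (φ ^ m) (φ y * y⁻¹) = φ y * y⁻¹ := by
        intro m
        induction m with
        | zero => simp
        | succ m ihm =>
          rw [pow_succ, MulAut.mul_apply, hr, ihm]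
      have e1 : (φ ^ (n + 1)) y = (φ ^ n) (φ y) := by
        rw [pow_succ, MulAut.mul_apply]
      have e2 : φ y = (φ y * y⁻¹) * y := by group
      rw [e1]
      conv_lhs => rw [e2]
      rw [map_mul, hfix n, ih y, pow_succ']
      group
  ext y
  rw [hpow, ← hk, pow_card_eq_one']
  simp

/-- Conjugating the stability group by an automorphism that preserves `R`. -/
theorem conj_mem_chainStab {P R : Subgroup Ω} {c φ : MulAut P}
    (hc : ∀ y : P, ((c y : P) : Ω) ∈ R ↔ (y : Ω) ∈ R) (hφ : φ ∈ chainStab P R) :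
    c * φ * c⁻¹ ∈ chainStab P R := by
  obtain ⟨h1, h2⟩ := hφ
  have e : ∀ y : P, c (c⁻¹ y) = y := fun y => by
    show c (c.symm y) = y
    simp
  have hc' : ∀ y : P, ((c⁻¹ y : P) : Ω) ∈ R ↔ (y : Ω) ∈ R := by
    intro y
    have := hc (c⁻¹ y)
    rw [e] at this
    exact this.symm
  refine ⟨fun y hy => ?_, fun y => ?_⟩
  · show c (φ (c⁻¹ y)) = y
    rw [h1 _ ((hc' y).mpr hy), e]
  · show ((c (φ (c⁻¹ y)) : P) : Ω) * (y : Ω)⁻¹ ∈ R
    have h3 := h2 (c⁻¹ y)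
    have e3 : ((c (φ (c⁻¹ y)) : P) : Ω) * (y : Ω)⁻¹ = ((c (φ (c⁻¹ y) * (c⁻¹ y)⁻¹) : P) : Ω) := by
      rw [map_mul, map_inv, e]
      rfl
    rw [e3]
    exact (hc _).mpr h3

/-- A `p`-subgroup normalised by a Sylow `p`-subgroup is contained in it. -/
theorem le_of_normalizes_sylow {G : Type*} [Group G] {p : ℕ} [Fact p.Prime] {𝔄 T X : Subgroup G}
    (R : Sylow p 𝔄) (hR : (R : Subgroup 𝔄) = T.subgroupOf 𝔄) (hT : T ≤ 𝔄) (hX : X ≤ 𝔄)
    (hXp : IsPGroup p X) (hN : ∀ c ∈ T, ∀ φ ∈ X, c * φ * c⁻¹ ∈ X) [Finite X] : X ≤ T := by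
  have hTp : IsPGroup p T := by
    have h1 : IsPGroup p (T.subgroupOf 𝔄) := hR ▸ R.isPGroup'
    exact h1.of_equiv (Subgroup.subgroupOfEquivOfLe hT)
  have hTN : T ≤ Subgroup.normalizer (X : Set G) := by
    intro c hc
    refine Cfsg.Agent.Lib.Helper88.mem_normalizer_of_conj_mem_finite ?_
    intro φ hφ
    exact hN c hc φ hφ
  have hsup : IsPGroup p (X ⊔ T : Subgroup G) := hXp.to_sup_of_normal_left' hTp hTN
  have hsup' : IsPGroup p ((X ⊔ T).subgroupOf 𝔄) := hsup.comap_subtype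
  have hle : (R : Subgroup 𝔄) ≤ (X ⊔ T).subgroupOf 𝔄 := by
    rw [hR]
    intro a ha
    exact Subgroup.mem_subgroupOf.mpr (le_sup_right (a := X) (Subgroup.mem_subgroupOf.mp ha))
  have heq := R.is_maximal' hsup' hle
  intro φ hφ
  have h1 : (⟨φ, hX hφ⟩ : 𝔄) ∈ (X ⊔ T).subgroupOf 𝔄 :=
    Subgroup.mem_subgroupOf.mpr (le_sup_left (b := T) hφ)
  rw [heq, hR] at h1
  exact Subgroup.mem_subgroupOf.mp h1

end Cfsg.Agent.Lib.Helper87

namespace Cfsg.Agent.Lib.Helper87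

variable {Ω : Type*} [Group Ω] {S : Subgroup Ω}

/-- For an essential subgroup `P` there is `α ∈ Aut_F(P)` such that `Aut_S(P)` and its
`α`-conjugate meet in `Inn(P)`; consequently every `p`-subgroup of `Aut_F(P)` normalised by both
consists of inner automorphisms. -/
theorem essential_TI [Finite S] {p : ℕ} [Fact p.Prime] (hS : IsPGroup p S) (F : FusionSystem S)
    (hF : F.IsSaturated p) {P : Subgroup Ω} (hP : F.IsEssential p P) :
    ∃ α ∈ F.autGroup P, ∀ X : Subgroup (MulAut P), X ≤ F.autGroup P → IsPGroup p X →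
      (∀ c ∈ autInducedBy S P, ∀ φ ∈ X, c * φ * c⁻¹ ∈ X) →
      (∀ c ∈ autInducedBy S P, ∀ φ ∈ X, (α * c * α⁻¹) * φ * (α * c * α⁻¹)⁻¹ ∈ X) →
      ∀ φ ∈ X, ∃ g : P, ∀ y : P, φ y = g * y * g⁻¹ := by
  obtain ⟨H, -, ⟨α, hα, hαH⟩, hkey⟩ :=
    Cfsg.Agent.Lib.Helper88.exists_proper_aut_subgroup F P hS hF hP
  have hfn := hP.2.1
  have hPS : P ≤ S := hfn.1
  have hfinP : Finite P := finite_of_le hPS
  obtain ⟨-, R, hR⟩ := (fc_fa_of_fullyNormalized hS F hF hfn).2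
  have hTle : autInducedBy S P ≤ F.autGroup P := autInducedBy_le_autGroup F hPS
  refine ⟨α, hα, ?_⟩
  intro X hX hXp hN1 hN2 φ hφ
  have hfinX : Finite X := inferInstance
  -- φ ∈ Aut_S(P)
  have h1 : X ≤ autInducedBy S P := le_of_normalizes_sylow R hR hTle hX hXp hN1
  -- α⁻¹ φ α ∈ Aut_S(P)
  set X' : Subgroup (MulAut P) := X.map (MulAut.conj α⁻¹).toMonoidHom with hX'
  have hX'le : X' ≤ F.autGroup P := by
    rintro _ ⟨ψ, hψ, rfl⟩
    show α⁻¹ * ψ * α⁻¹⁻¹ ∈ F.autGroup P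
    exact (F.autGroup P).mul_mem ((F.autGroup P).mul_mem ((F.autGroup P).inv_mem hα) (hX hψ))
      ((F.autGroup P).inv_mem ((F.autGroup P).inv_mem hα))
  have hX'p : IsPGroup p X' := hXp.map _
  have hN' : ∀ c ∈ autInducedBy S P, ∀ ψ ∈ X', c * ψ * c⁻¹ ∈ X' := by
    rintro c hc _ ⟨ψ, hψ, rfl⟩
    refine ⟨(α * c * α⁻¹) * ψ * (α * c * α⁻¹)⁻¹, hN2 c hc ψ hψ, ?_⟩
    show α⁻¹ * ((α * c * α⁻¹) * ψ * (α * c * α⁻¹)⁻¹) * α⁻¹⁻¹ = c * (α⁻¹ * ψ * α⁻¹⁻¹) * c⁻¹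
    group
  have h2 : X' ≤ autInducedBy S P := le_of_normalizes_sylow R hR hTle hX'le hX'p hN'
  obtain ⟨s, hs, hφs⟩ := (mem_autInducedBy_iff S P φ).mp (h1 hφ)
  have hmem' : α⁻¹ * φ * α⁻¹⁻¹ ∈ X' := ⟨φ, hφ, rfl⟩
  obtain ⟨u, hu, hφu⟩ := (mem_autInducedBy_iff S P _).mp (h2 hmem')
  have e : ∀ y : P, α (α⁻¹ y) = y := fun y => by
    show α (α.symm y) = y
    simp
  have hφu' : ∀ y : P, ((α⁻¹ (φ (α y)) : P) : Ω) = u * (y : Ω) * u⁻¹ := by
    intro y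
    have := hφu y
    rw [inv_inv] at this
    exact this
  have huN : u ∈ Subgroup.normalizer (P : Set Ω) := by
    apply Cfsg.Agent.Lib.Helper88.mem_normalizer_of_conj_mem_finite
    intro y hy
    rw [← hφu' ⟨y, hy⟩]
    exact (α⁻¹ (φ (α ⟨y, hy⟩))).2
  by_cases huP : u ∈ P
  · refine ⟨α ⟨u, huP⟩, fun y => ?_⟩
    have h3 := hφu' (α⁻¹ y)
    rw [e] at h3
    have h4 : α⁻¹ (φ y) = ⟨u, huP⟩ * (α⁻¹ y) * ⟨u, huP⟩⁻¹ := Subtype.ext h3
    have h5 := congrArg α h4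
    rw [e, map_mul, map_mul, e, map_inv] at h5
    exact h5
  · exfalso
    apply hαH
    refine hkey α hα u ⟨hu, huN⟩ huP s hs ?_
    intro y hy
    have h3 : (⟨u * (y : Ω) * u⁻¹, hy⟩ : P) = α⁻¹ (φ (α y)) := Subtype.ext (hφu' y).symm
    rw [h3, e, hφs]

end Cfsg.Agent.Lib.Helper87
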