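import Mathlib
import Cfsg.Agent.Lib.Helper22.CgDefs
import Cfsg.Agent.Lib.Helper12.PsDefs

/-! Ps hive (S4321): leaf PSN. -/

set_option autoImplicit false

namespace Cfsg.Agent.Lib.Helper12.Ps

open Subgroup Cfsg.Agent.Lib.Helper22.Cg

universe u

/-- PSN. a normal subgroup inside one Sylow `p`-subgroup is inside all. -/
theorem psN {G : Type u} [Group G] [Finite G] (p : ℕ) [Fact p.Prime] (N : Subgroup G) [N.Normal]
    (P P' : Sylow p G) (h : N ≤ (P : Subgroup G)) : N ≤ (P' : Subgroup G) := by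
  classical
  obtain ⟨g, hg⟩ := MulAction.exists_smul_eq G P P'
  intro x hx
  have hx' : g⁻¹ * x * g⁻¹⁻¹ ∈ N := ‹N.Normal›.conj_mem x hx g⁻¹
  have hxP : g⁻¹ * x * g⁻¹⁻¹ ∈ (P : Subgroup G) := h hx'
  have hmem : x ∈ ((g • P : Sylow p G) : Subgroup G) := by
    rw [Sylow.coe_subgroup_smul, Subgroup.mem_pointwise_smul_iff_inv_smul_mem]
    simpa [MulAut.smul_def] using hxP
  rw [hg] at hmem
  exact hmem

end Cfsg.Agent.Lib.Helper12.Ps
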