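import Mathlib
import Cfsg.Agent.Lib.Helper22.CgDefs
import Cfsg.Agent.Lib.Helper12.PsDefs

/-! Ps hive (S4321): leaf PSU. -/

set_option autoImplicit false

namespace Cfsg.Agent.Lib.Helper12.Ps

open Subgroup Cfsg.Agent.Lib.Helper22.Cg

universe u

/-- PSU. a `p`-element normalizing a Sylow `p`-subgroup lies in it. -/
theorem psU {G : Type u} [Group G] [Finite G] (p : ℕ) [Fact p.Prime] (P : Sylow p G) (w : G)
    (hw : ∃ n : ℕ, orderOf w = p ^ n) (hn : ∀ y ∈ P, w * y * w⁻¹ ∈ P) : w ∈ P := by
  classical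
  -- `w` normalizes `P`
  have hnorm : w ∈ Subgroup.normalizer ((P : Subgroup G) : Set G) := by
    rw [Subgroup.mem_normalizer_iff]
    intro h
    refine ⟨fun hh => hn h hh, fun hh => ?_⟩
    -- injective self-map of the finite set `P`
    let f : ↥(P : Subgroup G) → ↥(P : Subgroup G) := fun y => ⟨w * (y : G) * w⁻¹, hn y y.2⟩
    have hinj : Function.Injective f := by
      intro a b hab
      have : w * (a : G) * w⁻¹ = w * (b : G) * w⁻¹ := congrArg Subtype.val hab
      apply Subtype.ext
      simpa using this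
    have hsurj : Function.Surjective f := Finite.surjective_of_injective hinj
    obtain ⟨y, hy⟩ := hsurj ⟨w * h * w⁻¹, hh⟩
    have : w * (y : G) * w⁻¹ = w * h * w⁻¹ := congrArg Subtype.val hy
    have hyh : (y : G) = h := by simpa using this
    rw [← hyh]; exact y.2
  -- `zpowers w` is a `p`-group
  have hpg : IsPGroup p (Subgroup.zpowers w) := by
    obtain ⟨n, hn'⟩ := hw
    apply IsPGroup.of_card (n := n)
    rw [Nat.card_zpowers, hn']
  have hmem : w ∈ (Subgroup.zpowers w) ⊓ Subgroup.normalizer ((P : Subgroup G) : Set G) :=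
    ⟨Subgroup.mem_zpowers w, hnorm⟩
  have hkey := hpg.inf_normalizer_sylow P
  have hmem' : w ∈ (Subgroup.zpowers w) ⊓ (P : Subgroup G) := by
    rw [← hkey]; exact hmem
  exact hmem'.2

end Cfsg.Agent.Lib.Helper12.Ps
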