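import Mathlib

set_option autoImplicit false

/-! # S5877 (Es hive) leaf ES-R1b: pure group theory (polarisation) -/

namespace Cfsg.Agent.Lib.Helper81.Es

/-- the commutator `x y x⁻¹ y⁻¹` -/
def r1b_B {G : Type*} [Group G] (x y : G) : G := x * y * x⁻¹ * y⁻¹

section
variable {G : Type*} [Group G] {N Z : Subgroup G}

theorem r1b_mulR (hZN : ∀ z ∈ Z, ∀ x ∈ N, z * x = x * z)
    (hBZ : ∀ x ∈ N, ∀ y ∈ N, r1b_B x y ∈ Z) {x y y' : G} (hx : x ∈ N) (hy : y ∈ N) (hy' : y' ∈ N) :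
    r1b_B x (y * y') = r1b_B x y * r1b_B x y' := by
  have hz := hZN _ (hBZ x hx y' hy') y⁻¹ (N.inv_mem hy)
  unfold r1b_B at *
  calc x * (y * y') * x⁻¹ * (y * y')⁻¹ = x * y * x⁻¹ * ((x * y' * x⁻¹ * y'⁻¹) * y⁻¹) := by group
    _ = x * y * x⁻¹ * (y⁻¹ * (x * y' * x⁻¹ * y'⁻¹)) := by rw [hz]
    _ = x * y * x⁻¹ * y⁻¹ * (x * y' * x⁻¹ * y'⁻¹) := by group

theorem r1b_mulL (hZN : ∀ z ∈ Z, ∀ x ∈ N, z * x = x * z)
    (hBZ : ∀ x ∈ N, ∀ y ∈ N, r1b_B x y ∈ Z) {x x' y : G} (hx : x ∈ N) (hx' : x' ∈ N) (hy : y ∈ N) :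
    r1b_B (x * x') y = r1b_B x' y * r1b_B x y := by
  have hz := hZN _ (hBZ x' hx' y hy) x hx
  unfold r1b_B at *
  calc x * x' * y * (x * x')⁻¹ * y⁻¹ = (x * (x' * y * x'⁻¹ * y⁻¹)) * (y * x⁻¹ * y⁻¹) := by group
    _ = ((x' * y * x'⁻¹ * y⁻¹) * x) * (y * x⁻¹ * y⁻¹) := by rw [hz]
    _ = x' * y * x'⁻¹ * y⁻¹ * (x * y * x⁻¹ * y⁻¹) := by group

theorem r1b_invL (hZN : ∀ z ∈ Z, ∀ x ∈ N, z * x = x * z)
    (hBZ : ∀ x ∈ N, ∀ y ∈ N, r1b_B x y ∈ Z) {x y : G} (hx : x ∈ N) (hy : y ∈ N) :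
    r1b_B x⁻¹ y = (r1b_B x y)⁻¹ := by
  have h := r1b_mulL hZN hBZ hx (N.inv_mem hx) hy
  have h1 : r1b_B (x * x⁻¹) y = 1 := by unfold r1b_B; group
  rw [h1] at h
  exact eq_inv_of_mul_eq_one_left h.symm

theorem r1b_invR (hZN : ∀ z ∈ Z, ∀ x ∈ N, z * x = x * z)
    (hBZ : ∀ x ∈ N, ∀ y ∈ N, r1b_B x y ∈ Z) {x y : G} (hx : x ∈ N) (hy : y ∈ N) :
    r1b_B x y⁻¹ = (r1b_B x y)⁻¹ := by
  have h := r1b_mulR hZN hBZ hx hy (N.inv_mem hy)
  have h1 : r1b_B x (y * y⁻¹) = 1 := by unfold r1b_B; group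
  rw [h1] at h
  exact eq_inv_of_mul_eq_one_right h.symm

theorem r1b_swap (x y : G) : r1b_B y x = (r1b_B x y)⁻¹ := by
  unfold r1b_B; group

theorem r1b_self (x : G) : r1b_B x x = 1 := by
  unfold r1b_B; group

theorem r1b_of_commute {u v : G} (h : Commute u v) : r1b_B u v = 1 := by
  unfold r1b_B
  rw [h.eq]; group

theorem r1b_commute_of {u v : G} (h : r1b_B u v = 1) : u * v = v * u := by
  unfold r1b_B at h
  have : u * v = (u * v * u⁻¹ * v⁻¹) * (v * u) := by group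
  rw [this, h, one_mul]

end

/-- ES-R1b : PURE GROUP THEORY (polarisation).  `N` plays `R Z`, `Z` the scalars. -/
theorem r1b {G : Type*} [Group G] (N Z : Subgroup G) (g : G) (r ϖ : ℕ) (hcop : Nat.Coprime r ϖ)
    (hodd : Odd ϖ) (hgϖ : g ^ ϖ = 1) (hgN : ∀ h, h ∈ N ↔ g * h * g⁻¹ ∈ N)
    (hZg : ∀ z ∈ Z, z * g = g * z) (hZN : ∀ z ∈ Z, ∀ x ∈ N, z * x = x * z)
    (hcomm : ∀ x ∈ N, ∀ y ∈ N, x * y * x⁻¹ * y⁻¹ ∈ Z ∧ (x * y * x⁻¹ * y⁻¹) ^ r = 1)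
    (hschur : ∀ c ∈ N, (∀ x ∈ N, c * x = x * c) → c ∈ Z)
    (hpair : ∀ a ∈ N, ∀ j : ℕ,
      Commute (g * a * g⁻¹ * a⁻¹) (g ^ j * a * (g ^ j)⁻¹ * a⁻¹)) :
    ∀ b ∈ N, g * b * g⁻¹ * b⁻¹ ∈ Z := by
  have hBZ : ∀ x ∈ N, ∀ y ∈ N, r1b_B x y ∈ Z := fun x hx y hy => (hcomm x hx y hy).1
  have hBr : ∀ x ∈ N, ∀ y ∈ N, r1b_B x y ^ r = 1 := fun x hx y hy => (hcomm x hx y hy).2
  have hNg : ∀ x ∈ N, g * x * g⁻¹ ∈ N := fun x hx => (hgN x).mp hx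
  have hNg' : ∀ x ∈ N, g⁻¹ * x * g ∈ N := by
    intro x hx
    rw [hgN]
    have : g * (g⁻¹ * x * g) * g⁻¹ = x := by group
    rwa [this]
  have hNpow : ∀ (k : ℕ) (x : G), x ∈ N → g ^ k * x * (g ^ k)⁻¹ ∈ N := by
    intro k
    induction k with
    | zero => intro x hx; simpa using hx
    | succ k ih =>
      intro x hx
      have h1 := hNg _ (ih x hx)
      have h2 : g ^ (k + 1) * x * (g ^ (k + 1))⁻¹ = g * (g ^ k * x * (g ^ k)⁻¹) * g⁻¹ := by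
        rw [pow_succ']; group
      rwa [h2]
  -- conjugation by `g` commutes with elements of `Z`
  have hZconj : ∀ z ∈ Z, g * z * g⁻¹ = z := by
    intro z hz
    rw [← hZg z hz]; group
  have hBg : ∀ x ∈ N, ∀ y ∈ N, r1b_B (g * x * g⁻¹) (g * y * g⁻¹) = r1b_B x y := by
    intro x hx y hy
    have h1 : r1b_B (g * x * g⁻¹) (g * y * g⁻¹) = g * r1b_B x y * g⁻¹ := by
      unfold r1b_B; group
    rw [h1, hZconj _ (hBZ x hx y hy)]
  -- Part A: `a` commutes with `g a g⁻¹`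
  have hA : ∀ a ∈ N, r1b_B a (g * a * g⁻¹) = 1 := by
    intro a ha
    have hai : a⁻¹ ∈ N := N.inv_mem ha
    set A : ℕ → G := fun k => g ^ k * a * (g ^ k)⁻¹ with hAdef
    have hAN : ∀ k, A k ∈ N := fun k => hNpow k a ha
    have hA0 : A 0 = a := by simp [hAdef]
    have hA1 : A 1 = g * a * g⁻¹ := by simp [hAdef]
    have hAsucc : ∀ k, A (k + 1) = g * A k * g⁻¹ := by
      intro k
      simp only [hAdef]
      rw [pow_succ']; group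
    set c : ℕ → G := fun k => r1b_B a (A k) with hcdef
    have hrel : ∀ j, c (j + 1) = c j * c 1 := by
      intro j
      have hp := hpair a ha (j + 1)
      have hp' : Commute (A 1 * a⁻¹) (A (j + 1) * a⁻¹) := by
        rw [hA1]; exact hp
      have h1 := r1b_of_commute hp'
      have hu : A 1 * a⁻¹ ∈ N := N.mul_mem (hAN 1) hai
      rw [r1b_mulR hZN hBZ hu (hAN (j + 1)) hai,
        r1b_mulL hZN hBZ (hAN 1) hai (hAN (j + 1)),
        r1b_mulL hZN hBZ (hAN 1) hai hai, r1b_self, one_mul,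
        r1b_invL hZN hBZ ha (hAN (j + 1)), r1b_invR hZN hBZ (hAN 1) ha, ← r1b_swap (A 1) a] at h1
      have h2 : r1b_B (A 1) (A (j + 1)) = r1b_B a (A j) := by
        rw [hA1, hAsucc j]
        exact hBg a ha (A j) (hAN j)
      rw [h2] at h1
      -- `(c (j+1))⁻¹ * c j * c 1 = 1`
      have h3 : (c (j + 1))⁻¹ * (c j * c 1) = 1 := by
        simp only [hcdef]
        rw [← mul_assoc]; exact h1
      exact (inv_mul_eq_one.mp h3)
    have hc0 : c 0 = 1 := by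
      simp only [hcdef, hA0]; exact r1b_self a
    have hcpow : ∀ j, c j = c 1 ^ j := by
      intro j
      induction j with
      | zero => rw [hc0, pow_zero]
      | succ j ih => rw [hrel, ih, pow_succ]
    have hcϖ : c 1 ^ ϖ = 1 := by
      rw [← hcpow ϖ]
      simp only [hcdef, hAdef, hgϖ]
      simp only [one_mul, inv_one, mul_one]
      exact r1b_self a
    have hcr : c 1 ^ r = 1 := hBr a ha _ (hAN 1)
    have h1 : c 1 ^ Nat.gcd r ϖ = 1 := pow_gcd_eq_one.mpr ⟨hcr, hcϖ⟩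
    rw [hcop.gcd_eq_one, pow_one] at h1
    have : c 1 = r1b_B a (g * a * g⁻¹) := by simp only [hcdef, hA1]
    rw [← this]; exact h1
  -- Part B: polarisation
  have hB : ∀ b ∈ N, g * b * g⁻¹ * (g⁻¹ * b * g)⁻¹ ∈ Z := by
    intro b hb
    have hb1 : g * b * g⁻¹ ∈ N := hNg b hb
    have hb2 : g⁻¹ * b * g ∈ N := hNg' b hb
    apply hschur _ (N.mul_mem hb1 (N.inv_mem hb2))
    intro a ha
    have ha1 : g * a * g⁻¹ ∈ N := hNg a ha
    -- `⟨a b, (a b)₁⟩ = 1`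
    have h1 := hA (a * b) (N.mul_mem ha hb)
    have h2 : g * (a * b) * g⁻¹ = (g * a * g⁻¹) * (g * b * g⁻¹) := by group
    rw [h2, r1b_mulR hZN hBZ (N.mul_mem ha hb) ha1 hb1, r1b_mulL hZN hBZ ha hb ha1,
      r1b_mulL hZN hBZ ha hb hb1, hA a ha, hA b hb, mul_one, one_mul] at h1
    -- `h1 : ⟨b, a₁⟩ * ⟨a, b₁⟩ = 1`
    have h3 : r1b_B a (g * b * g⁻¹) = r1b_B (g * a * g⁻¹) b := by
      rw [r1b_swap b (g * a * g⁻¹)]
      exact (eq_inv_of_mul_eq_one_right h1)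
    have h4 : r1b_B (g * a * g⁻¹) b = r1b_B a (g⁻¹ * b * g) := by
      have h5 := hBg a ha (g⁻¹ * b * g) hb2
      have h6 : g * (g⁻¹ * b * g) * g⁻¹ = b := by group
      rw [h6] at h5
      exact h5
    have h7 : r1b_B a (g * b * g⁻¹ * (g⁻¹ * b * g)⁻¹) = 1 := by
      rw [r1b_mulR hZN hBZ ha hb1 (N.inv_mem hb2), r1b_invR hZN hBZ ha hb2, h3, h4, mul_inv_cancel]
    exact (r1b_commute_of h7).symm
  -- Part C: `[g², b] ∈ Z`, then all even powers, then `g` itself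
  have hC : ∀ b ∈ N, g ^ 2 * b * (g ^ 2)⁻¹ * b⁻¹ ∈ Z := by
    intro b hb
    have h1 := hB b hb
    have h2 := hZconj _ h1
    have h3 : g * (g * b * g⁻¹ * (g⁻¹ * b * g)⁻¹) * g⁻¹ = g ^ 2 * b * (g ^ 2)⁻¹ * b⁻¹ := by
      rw [pow_two]; group
    rw [← h3, h2]; exact h1
  have hZpow : ∀ (k : ℕ), ∀ z ∈ Z, g ^ k * z * (g ^ k)⁻¹ = z := by
    intro k
    induction k with
    | zero => intro z _; simp
    | succ k ih =>
      intro z hz
      have h2 : g ^ (k + 1) * z * (g ^ (k + 1))⁻¹ = g * (g ^ k * z * (g ^ k)⁻¹) * g⁻¹ := by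
        rw [pow_succ']; group
      rw [h2, ih z hz, hZconj z hz]
  have hD : ∀ (m : ℕ), ∀ b ∈ N, g ^ (2 * m) * b * (g ^ (2 * m))⁻¹ * b⁻¹ ∈ Z := by
    intro m
    induction m with
    | zero => intro b _; simp
    | succ m ih =>
      intro b hb
      have h1 := hC b hb
      have h2 := ih b hb
      have h3 : g ^ (2 * (m + 1)) * b * (g ^ (2 * (m + 1)))⁻¹ * b⁻¹ =
          (g ^ (2 * m) * (g ^ 2 * b * (g ^ 2)⁻¹ * b⁻¹) * (g ^ (2 * m))⁻¹) *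
            (g ^ (2 * m) * b * (g ^ (2 * m))⁻¹ * b⁻¹) := by
        have : g ^ (2 * (m + 1)) = g ^ (2 * m) * g ^ 2 := by rw [← pow_add, Nat.mul_succ]
        rw [this]; group
      rw [h3, hZpow (2 * m) _ h1]
      exact Z.mul_mem h1 h2
  intro b hb
  obtain ⟨m, hm⟩ := hodd
  have h1 := hD (m + 1) b hb
  have h2 : g ^ (2 * (m + 1)) = g := by
    have : 2 * (m + 1) = ϖ + 1 := by omega
    rw [this, pow_succ, hgϖ, one_mul]
  rw [h2] at h1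
  exact h1

end Cfsg.Agent.Lib.Helper81.Es
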