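import Cfsg.Agent.Lib.Helper34.TateT1
import Cfsg.Agent.Lib.Helper87.Sparse
import Cfsg.Agent.Lib.Helper87.HypQuot
import Cfsg.Agent.Lib.Helper88.InnerSat

set_option autoImplicit false

/-!
# [T13], [T14] of the Tate project: the inner fusion system and trivial hyperfocal subgroups
-/

namespace Cfsg.Agent.Lib.Helper34.Tate

open Cfsg Cfsg.FusionSystem
open Cfsg.Agent.Lib.Helper87

variable {Ω : Type*} [Group Ω] {S : Subgroup Ω}

theorem fusionSystem_ext_h87 (F E : Cfsg.FusionSystem S)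
    (h : ∀ P : Subgroup Ω, F.Hom P = E.Hom P) : F = E := by
  cases F
  cases E
  congr
  funext P
  exact h P

/-! ## [T13] trivial hyperfocal subgroup means inner -/
theorem inner_of_hyperfocal_eq_bot [Finite S] {p : ℕ} [Fact p.Prime] (hS : IsPGroup p S)
    (F : FusionSystem S) (hF : F.IsSaturated p) (h : F.hyperfocalSubgroup p = ⊥) :
    F = Cfsg.innerFusionSystem S := by
  apply fusionSystem_ext_h87
  by_contra hne
  obtain ⟨P, q, β, hP, hq, hqp, hβ, hord⟩ := exists_prime_order_aut hS F hF hne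
  have hpp : p.Prime := Fact.out
  have hco : (orderOf β).Coprime p := by
    rw [hord]
    exact (Nat.coprime_primes hq hpp).mpr hqp
  have hβ1 : β = 1 := by
    ext x
    have h1 : (x : Ω)⁻¹ * ((β x : P) : Ω) ∈ F.hyperfocalSubgroup p := by
      refine Subgroup.subset_closure ⟨P, ⟨β, hβ⟩, x, hP, ?_, rfl⟩
      refine Subgroup.subset_closure ?_
      show Nat.Coprime (orderOf (⟨β, hβ⟩ : F.autGroup P)) p
      rw [Subgroup.orderOf_mk]; exact hco
    rw [h, Subgroup.mem_bot] at h1
    show ((β x : P) : Ω) = x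
    exact (inv_mul_eq_one.mp h1).symm
  rw [hβ1, orderOf_one] at hord
  exact hq.one_lt.ne hord

/-! ## [T14] the inner system -/
theorem inner_saturated [Finite S] {p : ℕ} [Fact p.Prime] (hS : IsPGroup p S) :
    (Cfsg.innerFusionSystem S).IsSaturated p :=
  Cfsg.Agent.Lib.Helper88.inner_saturated hS

theorem inner_hyperfocal [Finite S] {p : ℕ} [Fact p.Prime] (hS : IsPGroup p S) :
    (Cfsg.innerFusionSystem S).hyperfocalSubgroup p = ⊥ := by
  rw [eq_bot_iff]
  refine hyperfocal_le_of_coprime _ p ⊥ ?_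
  intro P hP α hα hco x
  have hα' : α ∈ autInducedBy S P := Cfsg.Agent.Lib.Helper88.inner_autGroup_le S P hα
  have hpg : IsPGroup p (autInducedBy S P) := autInducedBy_isPGroup hS P
  obtain ⟨k, hk⟩ := hpg ⟨α, hα'⟩
  have hk' : α ^ p ^ k = 1 := by
    have := congrArg (fun z : autInducedBy S P => (z : MulAut P)) hk
    simpa using this
  have hdvd : orderOf α ∣ p ^ k := orderOf_dvd_of_pow_eq_one hk'
  have h1 : orderOf α = 1 := by
    have hco' : (orderOf α).Coprime (p ^ k) := Nat.Coprime.pow_right k hco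
    exact Nat.eq_one_of_dvd_coprimes hco' dvd_rfl hdvd
  have hα1 : α = 1 := orderOf_eq_one_iff.mp h1
  rw [hα1, Subgroup.mem_bot]
  show (x : Ω)⁻¹ * (x : Ω) = 1
  group

theorem inner_isSubsystemOf (F : FusionSystem S) : (Cfsg.innerFusionSystem S).IsSubsystemOf F := by
  intro P φ hφ
  obtain ⟨hP, g, hg, h⟩ := hφ
  rw [Cfsg.Agent.Lib.Helper88.eq_conjHom h]
  exact F.conj_mem hP hg

end Cfsg.Agent.Lib.Helper34.Tate
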