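import Cfsg.Agent.Lib.Helper87.AbelianIndexP

set_option autoImplicit false

namespace Cfsg.Agent.Lib.Helper87

variable {Ω : Type*} [Group Ω] {S A : Subgroup Ω}

/-- The commutator endomorphism `a ↦ [a, x]` of `A`. -/
noncomputable def commHom [Finite S] {p : ℕ} [Fact p.Prime] (hS : IsPGroup p S) (hAS : A ≤ S)
    (hAc : ∀ a ∈ A, ∀ b ∈ A, a * b = b * a) (hAi : (A.subgroupOf S).index = p) {x : Ω}
    (hx : x ∈ S) : A →* A where
  toFun a := ⟨(a : Ω) * x * (a : Ω)⁻¹ * x⁻¹, aip_comm_mem hS hAS hAi hx a.2⟩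
  map_one' := by
    apply Subtype.ext
    show ((1 : A) : Ω) * x * ((1 : A) : Ω)⁻¹ * x⁻¹ = ((1 : A) : Ω)
    simp
  map_mul' a b := by
    apply Subtype.ext
    exact aip_comm_mul hS hAS hAc hAi hx a.2 b.2

theorem commHom_coe [Finite S] {p : ℕ} [Fact p.Prime] (hS : IsPGroup p S) (hAS : A ≤ S)
    (hAc : ∀ a ∈ A, ∀ b ∈ A, a * b = b * a) (hAi : (A.subgroupOf S).index = p) {x : Ω}
    (hx : x ∈ S) (a : A) :
    ((commHom hS hAS hAc hAi hx a : A) : Ω) = (a : Ω) * x * (a : Ω)⁻¹ * x⁻¹ := rfl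

theorem commHom_ker [Finite S] {p : ℕ} [Fact p.Prime] (hS : IsPGroup p S) (hAS : A ≤ S)
    (hAc : ∀ a ∈ A, ∀ b ∈ A, a * b = b * a) (hAi : (A.subgroupOf S).index = p) {x : Ω}
    (hx : x ∈ S) (hxA : x ∉ A) :
    (commHom hS hAS hAc hAi hx).ker = (S ⊓ Subgroup.centralizer (S : Set Ω)).subgroupOf A := by
  ext a
  rw [MonoidHom.mem_ker, Subgroup.mem_subgroupOf]
  constructor
  · intro h
    have h1 := congrArg Subtype.val h
    rw [commHom_coe] at h1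
    have h2 : (a : Ω) * x = x * a := by
      have e : (a : Ω) * x = ((a : Ω) * x * (a : Ω)⁻¹ * x⁻¹) * (x * a) := by group
      rw [e, h1]
      simp
    refine ⟨hAS a.2, Subgroup.mem_centralizer_iff.mpr fun s hs => ?_⟩
    exact (aip_central_of_commute hS hAS hAc hAi hx hxA a.2 h2 s hs).symm
  · intro h
    apply Subtype.ext
    rw [commHom_coe]
    have h2 : x * (a : Ω) = a * x := Subgroup.mem_centralizer_iff.mp h.2 x hx
    show (a : Ω) * x * (a : Ω)⁻¹ * x⁻¹ = 1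
    rw [← h2]; group

theorem mem_commRange [Finite S] {p : ℕ} [Fact p.Prime] (hS : IsPGroup p S) (hAS : A ≤ S)
    (hAc : ∀ a ∈ A, ∀ b ∈ A, a * b = b * a) (hAi : (A.subgroupOf S).index = p) {x : Ω}
    (hx : x ∈ S) (m : Ω) :
    m ∈ (commHom hS hAS hAc hAi hx).range.map A.subtype ↔ ∃ a ∈ A, a * x * a⁻¹ * x⁻¹ = m := by
  constructor
  · rintro ⟨_, ⟨a, rfl⟩, rfl⟩
    exact ⟨a, a.2, rfl⟩
  · rintro ⟨a, ha, rfl⟩
    exact ⟨commHom hS hAS hAc hAi hx ⟨a, ha⟩, ⟨⟨a, ha⟩, rfl⟩, rfl⟩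

/-- Subgroup-closure argument for commutators with a fixed element. -/
theorem comm_mem_of_gen [Finite S] {p : ℕ} [Fact p.Prime] (hS : IsPGroup p S) (hAS : A ≤ S)
    (hAi : (A.subgroupOf S).index = p) {x : Ω} (hx : x ∈ S) (hxA : x ∉ A)
    {M : Subgroup Ω} (hMn : ∀ s ∈ S, ∀ m ∈ M, s * m * s⁻¹ ∈ M) (t : Ω)
    (hA : ∀ a ∈ A, a * t * a⁻¹ * t⁻¹ ∈ M) (hxt : x * t * x⁻¹ * t⁻¹ ∈ M) :
    ∀ s ∈ S, s * t * s⁻¹ * t⁻¹ ∈ M := by
  let D : Subgroup Ω :=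
    { carrier := {s | s ∈ S ∧ s * t * s⁻¹ * t⁻¹ ∈ M}
      one_mem' := ⟨S.one_mem, by simp [M.one_mem]⟩
      mul_mem' := by
        rintro s s' ⟨hs, hsm⟩ ⟨hs', hsm'⟩
        refine ⟨S.mul_mem hs hs', ?_⟩
        have e : s * s' * t * (s * s')⁻¹ * t⁻¹ =
            (s * (s' * t * s'⁻¹ * t⁻¹) * s⁻¹) * (s * t * s⁻¹ * t⁻¹) := by group
        rw [e]
        exact M.mul_mem (hMn s hs _ hsm') hsm
      inv_mem' := by
        rintro s ⟨hs, hsm⟩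
        refine ⟨S.inv_mem hs, ?_⟩
        have e : s⁻¹ * t * s⁻¹⁻¹ * t⁻¹ = s⁻¹ * (s * t * s⁻¹ * t⁻¹)⁻¹ * s⁻¹⁻¹ := by group
        rw [e]
        exact hMn _ (S.inv_mem hs) _ (M.inv_mem hsm) }
  intro s hs
  obtain ⟨k, a, ha, rfl⟩ := aip_exists_zpow hS hAS hAi hx hxA hs
  have hxD : x ∈ D := ⟨hx, hxt⟩
  have haD : a ∈ D := ⟨hAS ha, hA a ha⟩
  exact (D.mul_mem (D.zpow_mem hxD k) haD).2

/-- The commutator subgroup of `S` is the image of the commutator endomorphism. -/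
theorem commutator_eq_commRange [Finite S] {p : ℕ} [Fact p.Prime] (hS : IsPGroup p S) (hAS : A ≤ S)
    (hAc : ∀ a ∈ A, ∀ b ∈ A, a * b = b * a) (hAi : (A.subgroupOf S).index = p) {x : Ω}
    (hx : x ∈ S) (hxA : x ∉ A) :
    ⁅S, S⁆ = (commHom hS hAS hAc hAi hx).range.map A.subtype := by
  have hMA : ∀ m ∈ (commHom hS hAS hAc hAi hx).range.map A.subtype, m ∈ A := by
    rintro _ ⟨a', -, rfl⟩
    exact a'.2
  have hMn : ∀ s ∈ S, ∀ m ∈ (commHom hS hAS hAc hAi hx).range.map A.subtype,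
      s * m * s⁻¹ ∈ (commHom hS hAS hAc hAi hx).range.map A.subtype := by
    intro s hs m hm
    obtain ⟨a, ha, rfl⟩ := (mem_commRange hS hAS hAc hAi hx m).mp hm
    obtain ⟨k, b, hb, rfl⟩ := aip_exists_zpow hS hAS hAi hx hxA hs
    rw [mem_commRange]
    have hmA : a * x * a⁻¹ * x⁻¹ ∈ A := aip_comm_mem hS hAS hAi hx ha
    have e1 : b * (a * x * a⁻¹ * x⁻¹) * b⁻¹ = a * x * a⁻¹ * x⁻¹ := by
      rw [hAc b hb _ hmA]; group
    refine ⟨x ^ k * a * (x ^ k)⁻¹, aip_conj_mem hS hAS hAi (S.zpow_mem hx k) ha, ?_⟩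
    have e2 : x ^ k * b * (a * x * a⁻¹ * x⁻¹) * (x ^ k * b)⁻¹ =
        x ^ k * (b * (a * x * a⁻¹ * x⁻¹) * b⁻¹) * (x ^ k)⁻¹ := by group
    rw [e2, e1]
    have hc : x ^ k * x = x * x ^ k := by
      rw [← zpow_add_one, ← zpow_one_add]
      congr 1; ring
    calc x ^ k * a * (x ^ k)⁻¹ * x * (x ^ k * a * (x ^ k)⁻¹)⁻¹ * x⁻¹
        = x ^ k * a * ((x ^ k)⁻¹ * x * x ^ k) * a⁻¹ * ((x ^ k)⁻¹ * x⁻¹) := by group
      _ = x ^ k * a * x * a⁻¹ * ((x ^ k)⁻¹ * x⁻¹) := by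
          have : (x ^ k)⁻¹ * x * x ^ k = x := by
            rw [mul_assoc, ← hc]; group
          rw [this]
      _ = x ^ k * (a * x * a⁻¹ * x⁻¹) * (x ^ k)⁻¹ := by
          have : (x ^ k)⁻¹ * x⁻¹ = x⁻¹ * (x ^ k)⁻¹ := by
            rw [← mul_inv_rev, ← mul_inv_rev, hc]
          rw [this]; group
  have hone : (1 : Ω) ∈ (commHom hS hAS hAc hAi hx).range.map A.subtype := Subgroup.one_mem _
  have step1 : ∀ s ∈ S, s * x * s⁻¹ * x⁻¹ ∈ (commHom hS hAS hAc hAi hx).range.map A.subtype := by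
    apply comm_mem_of_gen hS hAS hAi hx hxA hMn x
    · intro a ha
      exact (mem_commRange hS hAS hAc hAi hx _).mpr ⟨a, ha, rfl⟩
    · have : x * x * x⁻¹ * x⁻¹ = 1 := by group
      rw [this]; exact hone
  have step2 : ∀ b ∈ A, ∀ s ∈ S,
      s * b * s⁻¹ * b⁻¹ ∈ (commHom hS hAS hAc hAi hx).range.map A.subtype := by
    intro b hb
    apply comm_mem_of_gen hS hAS hAi hx hxA hMn b
    · intro a ha
      have : a * b * a⁻¹ * b⁻¹ = 1 := by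
        rw [hAc a ha b hb]; group
      rw [this]; exact hone
    · have e : x * b * x⁻¹ * b⁻¹ = (b * x * b⁻¹ * x⁻¹)⁻¹ := by group
      rw [e]
      exact Subgroup.inv_mem _ ((mem_commRange hS hAS hAc hAi hx _).mpr ⟨b, hb, rfl⟩)
  have step3 : ∀ t ∈ S, ∀ s ∈ S,
      s * t * s⁻¹ * t⁻¹ ∈ (commHom hS hAS hAc hAi hx).range.map A.subtype := by
    intro t ht
    apply comm_mem_of_gen hS hAS hAi hx hxA hMn t
    · intro a ha
      have e : a * t * a⁻¹ * t⁻¹ = (t * a * t⁻¹ * a⁻¹)⁻¹ := by group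
      rw [e]
      exact Subgroup.inv_mem _ (step2 a ha t ht)
    · have e : x * t * x⁻¹ * t⁻¹ = (t * x * t⁻¹ * x⁻¹)⁻¹ := by group
      rw [e]
      exact Subgroup.inv_mem _ (step1 t ht)
  apply le_antisymm
  · rw [Subgroup.commutator_le]
    intro s hs t ht
    rw [commutatorElement_def]
    exact step3 t ht s hs
  · intro m hm
    obtain ⟨a, ha, rfl⟩ := (mem_commRange hS hAS hAc hAi hx m).mp hm
    have := Subgroup.commutator_mem_commutator (hAS ha) hx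
    rwa [commutatorElement_def] at this

end Cfsg.Agent.Lib.Helper87
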