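import Cfsg.Agent.Lib.Helper87.EssentialIndexP2

set_option autoImplicit false
open Cfsg Cfsg.FusionSystem

namespace Cfsg.Agent.Lib.Helper87

variable {Ω : Type*} [Group Ω] {S : Subgroup Ω}

theorem mem_secondCenter_iff (w : Ω) :
    w ∈ (Subgroup.upperCentralSeries ↥S 2).map S.subtype ↔
      w ∈ S ∧ ∀ s ∈ S, ∀ t ∈ S, (w * s * w⁻¹ * s⁻¹) * t = t * (w * s * w⁻¹ * s⁻¹) := by
  constructor
  · rintro ⟨w', hw', rfl⟩
    refine ⟨w'.2, fun s hs t ht => ?_⟩
    have hw'' : w' ∈ Subgroup.upperCentralSeries ↥S (1 + 1) := hw'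
    have h1 := (Subgroup.mem_upperCentralSeries_succ_iff).mp hw'' ⟨s, hs⟩
    rw [Subgroup.upperCentralSeries_one, Subgroup.mem_center_iff] at h1
    have h2 := h1 ⟨t, ht⟩
    exact (congrArg Subtype.val h2).symm
  · rintro ⟨hw, h⟩
    refine ⟨⟨w, hw⟩, ?_, rfl⟩
    show (⟨w, hw⟩ : S) ∈ Subgroup.upperCentralSeries ↥S (1 + 1)
    rw [Subgroup.mem_upperCentralSeries_succ_iff]
    intro s
    rw [Subgroup.upperCentralSeries_one, Subgroup.mem_center_iff]
    intro t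
    apply Subtype.ext
    exact (h s s.2 t t.2).symm

theorem aip_index_transfer [Finite S] {p : ℕ} [Fact p.Prime] (hS : IsPGroup p S) {A P : Subgroup Ω}
    (hAS : A ≤ S) (hAi : (A.subgroupOf S).index = p) (hPS : P ≤ S)
    {x : Ω} (hxP : x ∈ P) (hxA : x ∉ A)
    (hidx : (P.subgroupOf (A ⊓ Subgroup.normalizer (P : Set Ω))).index = p) :
    (P.subgroupOf (S ⊓ Subgroup.normalizer (P : Set Ω))).index = p := by
  have hYN : A ⊓ Subgroup.normalizer (P : Set Ω) ≤ S ⊓ Subgroup.normalizer (P : Set Ω) :=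
    inf_le_inf_right _ hAS
  haveI hPn : (P.subgroupOf (S ⊓ Subgroup.normalizer (P : Set Ω))).Normal := by
    refine ⟨fun y hy g => ?_⟩
    apply Subgroup.mem_subgroupOf.mpr
    have h1 := (Subgroup.mem_normalizer_iff.mp g.2.2 (y : Ω)).mp (Subgroup.mem_subgroupOf.mp hy)
    simpa using h1
  have htop : (A ⊓ Subgroup.normalizer (P : Set Ω)).subgroupOf (S ⊓ Subgroup.normalizer (P : Set Ω)) ⊔
      P.subgroupOf (S ⊓ Subgroup.normalizer (P : Set Ω)) = ⊤ := by
    rw [eq_top_iff]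
    rintro ⟨n, hn⟩ -
    obtain ⟨k, a, ha, hna⟩ := aip_exists_zpow hS hAS hAi (hPS hxP) hxA hn.1
    have hxkP : x ^ k ∈ P := P.zpow_mem hxP k
    have hxkN : x ^ k ∈ S ⊓ Subgroup.normalizer (P : Set Ω) :=
      ⟨hPS hxkP, Subgroup.le_normalizer hxkP⟩
    have haN : a ∈ S ⊓ Subgroup.normalizer (P : Set Ω) := by
      have e : a = (x ^ k)⁻¹ * n := by rw [hna]; group
      rw [e]
      exact Subgroup.mul_mem _ (Subgroup.inv_mem _ hxkN) hn
    have h1 : (⟨x ^ k, hxkN⟩ : ↥(S ⊓ Subgroup.normalizer (P : Set Ω))) ∈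
        P.subgroupOf (S ⊓ Subgroup.normalizer (P : Set Ω)) := Subgroup.mem_subgroupOf.mpr hxkP
    have h2 : (⟨a, haN⟩ : ↥(S ⊓ Subgroup.normalizer (P : Set Ω))) ∈
        (A ⊓ Subgroup.normalizer (P : Set Ω)).subgroupOf (S ⊓ Subgroup.normalizer (P : Set Ω)) :=
      Subgroup.mem_subgroupOf.mpr ⟨ha, haN.2⟩
    have e : (⟨n, hn⟩ : ↥(S ⊓ Subgroup.normalizer (P : Set Ω))) = ⟨x ^ k, hxkN⟩ * ⟨a, haN⟩ :=
      Subtype.ext hna
    rw [e]
    exact Subgroup.mul_mem _ (Subgroup.mem_sup_right h1) (Subgroup.mem_sup_left h2)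
  have h1 := Subgroup.relIndex_sup_right
    (H := (A ⊓ Subgroup.normalizer (P : Set Ω)).subgroupOf (S ⊓ Subgroup.normalizer (P : Set Ω)))
    (K := P.subgroupOf (S ⊓ Subgroup.normalizer (P : Set Ω)))
  rw [htop, Subgroup.relIndex_top_right, Subgroup.relIndex_subgroupOf hYN] at h1
  rw [h1]
  exact hidx


/-- The centre of `S` is contained in every subgroup containing its centralizer in `S`. -/
theorem center_le_of_centric {P : Subgroup Ω} (hPS : P ≤ S) (hcen : centralizerIn S P ≤ P) :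
    S ⊓ Subgroup.centralizer (S : Set Ω) ≤ P := by
  intro z hz
  apply hcen
  refine ⟨hz.1, ?_⟩
  exact Subgroup.centralizer_le (show (P : Set Ω) ⊆ S from hPS) hz.2

theorem mem_center_iff' (z : Ω) : z ∈ S ⊓ Subgroup.centralizer (S : Set Ω) ↔
    z ∈ S ∧ ∀ s ∈ S, z * s = s * z := by
  constructor
  · rintro ⟨h1, h2⟩
    exact ⟨h1, fun s hs => (Subgroup.mem_centralizer_iff.mp h2 s hs).symm⟩
  · rintro ⟨h1, h2⟩
    exact ⟨h1, Subgroup.mem_centralizer_iff.mpr fun s hs => (h2 s hs).symm⟩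

/-- Oliver's lemma, structural part: for an essential subgroup `P` not contained in `A`,
`P ∩ A` is `Z(S)` or `Z₂(S)`. -/
theorem aip_structure [Finite S] {p : ℕ} [hp : Fact p.Prime] (hS : IsPGroup p S)
    (F : FusionSystem S) (hF : F.IsSaturated p) {A P : Subgroup Ω}
    (hAS : A ≤ S) (hAc : ∀ a ∈ A, ∀ b ∈ A, a * b = b * a) (hAi : (A.subgroupOf S).index = p)
    (hna : ∃ s ∈ S, ∃ t ∈ S, s * t ≠ t * s)
    (hP : F.IsEssential p P) {x : Ω} (hxP : x ∈ P) (hxA : x ∉ A) :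
    (P.subgroupOf (S ⊓ Subgroup.normalizer (P : Set Ω))).index = p ∧
    ((∀ y ∈ P, ∀ z ∈ P, y * z = z * y) → P ⊓ A = S ⊓ Subgroup.centralizer (S : Set Ω)) ∧
    ((∃ y ∈ P, ∃ z ∈ P, y * z ≠ z * y) →
      P ⊓ A = (Subgroup.upperCentralSeries ↥S 2).map S.subtype) := by
  have hPS : P ≤ S := hP.2.1.1
  have hxS : x ∈ S := hPS hxP
  have hcen : centralizerIn S P ≤ P := hP.1.2 P (isConj_refl F hPS)
  have hPne : P ≠ S := Cfsg.Agent.Lib.Helper88.essential_ne_top hS F hF hP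
  obtain ⟨hidx, R', hR'A, hR'c, hR'comm, -⟩ := aip_core hS F hF hAS hAc hAi hP hxP hxA
  refine ⟨aip_index_transfer hS hAS hAi hPS hxP hxA hidx, ?_, ?_⟩
  · intro hPab
    apply le_antisymm
    · intro y hy
      rw [mem_center_iff']
      exact ⟨hPS hy.1, aip_central_of_commute hS hAS hAc hAi hxS hxA hy.2 (hPab y hy.1 x hxP)⟩
    · intro z hz
      refine ⟨center_le_of_centric hPS hcen hz, ?_⟩
      have hz' := (mem_center_iff' z).mp hz
      exact aip_center_le hS hAS hAc hAi hna hz'.1 hz'.2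
  · intro hPna
    apply le_antisymm
    · intro y hy
      rw [mem_secondCenter_iff]
      refine ⟨hPS hy.1, ?_⟩
      -- z = [y, x] is central
      have hzc : ∀ t ∈ S, (y * x * y⁻¹ * x⁻¹) * t = t * (y * x * y⁻¹ * x⁻¹) := by
        intro t ht
        have h1 := hR'comm ⟨y, hy.1⟩ ⟨x, hxP⟩
        exact hR'c _ h1 t ht
      intro s hs t ht
      obtain ⟨k, a, ha, rfl⟩ := aip_exists_zpow hS hAS hAi hxS hxA hs
      have e1 : a * y⁻¹ * a⁻¹ = y⁻¹ := by
        rw [hAc a ha _ (A.inv_mem hy.2)]; group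
      have hcomm : Commute (y * x * y⁻¹ * x⁻¹) x := hzc x hxS
      have e2 : y * (x ^ k * a) * y⁻¹ * (x ^ k * a)⁻¹ = (y * x * y⁻¹ * x⁻¹) ^ k := by
        calc y * (x ^ k * a) * y⁻¹ * (x ^ k * a)⁻¹
            = y * x ^ k * (a * y⁻¹ * a⁻¹) * (x ^ k)⁻¹ := by group
          _ = (y * x * y⁻¹) ^ k * (x ^ k)⁻¹ := by rw [e1, conj_zpow]
          _ = ((y * x * y⁻¹ * x⁻¹) * x) ^ k * (x ^ k)⁻¹ := by
              congr 2; group
          _ = (y * x * y⁻¹ * x⁻¹) ^ k := by rw [hcomm.mul_zpow]; group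
      rw [e2]
      have hct : Commute (y * x * y⁻¹ * x⁻¹) t := hzc t ht
      exact (hct.zpow_left k).eq
    · intro w hw
      have hwZ := (mem_secondCenter_iff w).mp hw
      by_cases hwA : w ∈ A
      · refine ⟨?_, hwA⟩
        exact aip_mem_of_comm_central hS F hF hAS hAc hAi hP hxP hxA hPna hwA
          (fun s hs => hwZ.2 x hxS s hs)
      · exfalso
        apply hPne
        apply le_antisymm hPS
        have hAP : A ≤ P := by
          intro a ha
          refine aip_mem_of_comm_central hS F hF hAS hAc hAi hP hxP hxA hPna ha ?_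
          intro s hs
          obtain ⟨k, b, hb, hxb⟩ := aip_exists_zpow hS hAS hAi hwZ.1 hwA hxS
          have hwk : w ^ k ∈ (Subgroup.upperCentralSeries ↥S 2).map S.subtype :=
            Subgroup.zpow_mem _ hw k
          have hwkZ := (mem_secondCenter_iff _).mp hwk
          have e1 : b * a⁻¹ * b⁻¹ = a⁻¹ := by
            rw [hAc b hb _ (A.inv_mem ha)]; group
          have e2 : a * x * a⁻¹ * x⁻¹ = (w ^ k * a * (w ^ k)⁻¹ * a⁻¹)⁻¹ := by
            rw [hxb]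
            calc a * (w ^ k * b) * a⁻¹ * (w ^ k * b)⁻¹
                = a * w ^ k * (b * a⁻¹ * b⁻¹) * (w ^ k)⁻¹ := by group
              _ = (w ^ k * a * (w ^ k)⁻¹ * a⁻¹)⁻¹ := by rw [e1]; group
          rw [e2]
          have hc : Commute (w ^ k * a * (w ^ k)⁻¹ * a⁻¹) s := hwkZ.2 a (hAS ha) s hs
          exact hc.inv_left.eq
        intro s hs
        obtain ⟨k, a, ha, rfl⟩ := aip_exists_zpow hS hAS hAi hxS hxA hs
        exact P.mul_mem (P.zpow_mem hxP k) (hAP ha)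

end Cfsg.Agent.Lib.Helper87
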