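import Cfsg.Agent.Lib.Helper87.AbelianIndexP2
import Cfsg.Agent.Lib.Helper87.EssentialIndexP3

set_option autoImplicit false

namespace Cfsg.Agent.Lib.Helper87

variable {Ω : Type*} [Group Ω] {S A : Subgroup Ω}

/-- An element of `A` lies in `Z₂(S)` iff its commutator with `x` is central. -/
theorem aip_mem_secondCenter_iff [Finite S] {p : ℕ} [Fact p.Prime] (hS : IsPGroup p S) (hAS : A ≤ S)
    (hAc : ∀ a ∈ A, ∀ b ∈ A, a * b = b * a) (hAi : (A.subgroupOf S).index = p) {x : Ω}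
    (hx : x ∈ S) (hxA : x ∉ A) {y : Ω} (hy : y ∈ A) :
    y ∈ (Subgroup.upperCentralSeries ↥S 2).map S.subtype ↔
      ∀ t ∈ S, (y * x * y⁻¹ * x⁻¹) * t = t * (y * x * y⁻¹ * x⁻¹) := by
  constructor
  · intro h t ht
    exact ((mem_secondCenter_iff y).mp h).2 x hx t ht
  · intro hzc
    rw [mem_secondCenter_iff]
    refine ⟨hAS hy, ?_⟩
    intro s hs t ht
    obtain ⟨k, a, ha, rfl⟩ := aip_exists_zpow hS hAS hAi hx hxA hs
    have e1 : a * y⁻¹ * a⁻¹ = y⁻¹ := by
      rw [hAc a ha _ (A.inv_mem hy)]; group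
    have hcomm : Commute (y * x * y⁻¹ * x⁻¹) x := hzc x hx
    have e2 : y * (x ^ k * a) * y⁻¹ * (x ^ k * a)⁻¹ = (y * x * y⁻¹ * x⁻¹) ^ k := by
      calc y * (x ^ k * a) * y⁻¹ * (x ^ k * a)⁻¹
          = y * x ^ k * (a * y⁻¹ * a⁻¹) * (x ^ k)⁻¹ := by group
        _ = (y * x * y⁻¹) ^ k * (x ^ k)⁻¹ := by rw [e1, conj_zpow]
        _ = ((y * x * y⁻¹ * x⁻¹) * x) ^ k * (x ^ k)⁻¹ := by
            congr 2; group
        _ = (y * x * y⁻¹ * x⁻¹) ^ k := by rw [hcomm.mul_zpow]; group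
    rw [e2]
    have hct : Commute (y * x * y⁻¹ * x⁻¹) t := hzc t ht
    exact (hct.zpow_left k).eq

/-- The iterated kernels of an endomorphism. -/
def iterKer {G : Type*} [Group G] (ψ : G →* G) : ℕ → Subgroup G
  | 0 => ⊥
  | n + 1 => (iterKer ψ n).comap ψ

theorem iterKer_one {G : Type*} [Group G] (ψ : G →* G) : iterKer ψ 1 = ψ.ker := by
  show (⊥ : Subgroup G).comap ψ = ψ.ker
  exact MonoidHom.comap_bot ψ

theorem iterKer_mono {G : Type*} [Group G] (ψ : G →* G) (n : ℕ) :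
    iterKer ψ n ≤ iterKer ψ (n + 1) := by
  induction n with
  | zero => exact bot_le
  | succ n ih => exact Subgroup.comap_mono ih

theorem mem_iterKer_iff {G : Type*} [Group G] (ψ : G →* G) (n : ℕ) (a : G) :
    a ∈ iterKer ψ n ↔ ψ^[n] a = 1 := by
  induction n generalizing a with
  | zero => simp [iterKer]
  | succ n ih =>
    show ψ a ∈ iterKer ψ n ↔ _
    rw [ih, Function.iterate_succ_apply]

theorem iterKer_relIndex_le {G : Type*} [Group G] [Finite G] (ψ : G →* G) (n : ℕ) :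
    (iterKer ψ (n + 1)).relIndex (iterKer ψ (n + 2)) ≤ (iterKer ψ n).relIndex (iterKer ψ (n + 1)) := by
  have h1 : (iterKer ψ (n + 1)).relIndex (iterKer ψ (n + 2)) =
      (iterKer ψ n).relIndex ((iterKer ψ (n + 2)).map ψ) := by
    show ((iterKer ψ n).comap ψ).relIndex (iterKer ψ (n + 2)) = _
    rw [Subgroup.relIndex_comap]
  rw [h1]
  apply Subgroup.relIndex_le_of_le_right
  · rintro _ ⟨a, ha, rfl⟩
    exact ha
  · exact Subgroup.index_ne_zero_of_finite

theorem iterKer_relIndex_le_base {G : Type*} [Group G] [Finite G] (ψ : G →* G) (n : ℕ) :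
    (iterKer ψ (n + 1)).relIndex (iterKer ψ (n + 2)) ≤ (iterKer ψ 1).relIndex (iterKer ψ 2) := by
  induction n with
  | zero => exact le_rfl
  | succ n ih => exact le_trans (iterKer_relIndex_le ψ (n + 1)) ih

theorem iterKer_index_le {G : Type*} [Group G] [Finite G] (ψ : G →* G) {q : ℕ}
    (hq : (iterKer ψ 1).relIndex (iterKer ψ 2) ≤ q) (n : ℕ) :
    (iterKer ψ 1).index ≤ q ^ n * (iterKer ψ (n + 1)).index := by
  induction n with
  | zero => simp
  | succ n ih =>
    have h1 := Subgroup.relIndex_mul_index (iterKer_mono ψ (n + 1))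
    have h2 := le_trans (iterKer_relIndex_le_base ψ n) hq
    calc (iterKer ψ 1).index ≤ q ^ n * (iterKer ψ (n + 1)).index := ih
      _ = q ^ n * ((iterKer ψ (n + 1)).relIndex (iterKer ψ (n + 1 + 1)) *
            (iterKer ψ (n + 1 + 1)).index) := by rw [h1]
      _ ≤ q ^ n * (q * (iterKer ψ (n + 1 + 1)).index) := by
          apply Nat.mul_le_mul_left
          exact Nat.mul_le_mul_right _ h2
      _ = q ^ (n + 1) * (iterKer ψ (n + 1 + 1)).index := by ring


theorem commHom_iterate_mem_lcs [Finite S] {p : ℕ} [Fact p.Prime] (hS : IsPGroup p S) (hAS : A ≤ S)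
    (hAc : ∀ a ∈ A, ∀ b ∈ A, a * b = b * a) (hAi : (A.subgroupOf S).index = p) {x : Ω}
    (hx : x ∈ S) (j : ℕ) (a : A) :
    (((commHom hS hAS hAc hAi hx)^[j] a : A) : Ω) ∈ S.lowerCentralSeries j := by
  induction j with
  | zero => exact hAS a.2
  | succ j ih =>
    rw [Function.iterate_succ_apply', commHom_coe, Subgroup.lowerCentralSeries_succ]
    have := Subgroup.commutator_mem_commutator ih hx
    rwa [commutatorElement_def] at this

set_option maxHeartbeats 1000000 in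
/-- The pure group theory behind Oliver's Lemma 2.3(b). -/
theorem aip_maxclass [Finite S] {p : ℕ} [hp : Fact p.Prime] (hS : IsPGroup p S) (hAS : A ≤ S)
    (hAc : ∀ a ∈ A, ∀ b ∈ A, a * b = b * a) (hAi : (A.subgroupOf S).index = p)
    (hna : ∃ s ∈ S, ∃ t ∈ S, s * t ≠ t * s) {x : Ω}
    (hx : x ∈ S) (hxA : x ∉ A)
    (hZ2A : (Subgroup.upperCentralSeries ↥S 2).map S.subtype ≤ A)
    (hrel : (S ⊓ Subgroup.centralizer (S : Set Ω)).relIndex
      ((Subgroup.upperCentralSeries ↥S 2).map S.subtype) = p) :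
    Nat.card ↥((S ⊓ Subgroup.centralizer (S : Set Ω)) ⊓ ⁅S, S⁆) = p ∧
    (((S ⊓ Subgroup.centralizer (S : Set Ω)) ⊔ ⁅S, S⁆).subgroupOf A).index = p ∧
    ∀ m : ℕ, ((S ⊓ Subgroup.centralizer (S : Set Ω)).subgroupOf S).index = p ^ m → 3 ≤ m →
      ¬ S.lowerCentralSeries (m - 2) ≤ S ⊓ Subgroup.centralizer (S : Set Ω) := by
  have hfinA : Finite A := Finite.of_injective _ (Subgroup.inclusion_injective hAS)
  have hZA : S ⊓ Subgroup.centralizer (S : Set Ω) ≤ A := by
    intro z hz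
    have hz' := (mem_center_iff' z).mp hz
    exact aip_center_le hS hAS hAc hAi hna hz'.1 hz'.2
  obtain ⟨ψ, hψdef⟩ : ∃ ψ : A →* A, ψ = commHom hS hAS hAc hAi hx := ⟨_, rfl⟩
  have hψcoe : ∀ a : A, ((ψ a : A) : Ω) = (a : Ω) * x * (a : Ω)⁻¹ * x⁻¹ := by
    intro a; rw [hψdef]; rfl
  have hker : ψ.ker = (S ⊓ Subgroup.centralizer (S : Set Ω)).subgroupOf A := by
    rw [hψdef]; exact commHom_ker hS hAS hAc hAi hx hxA
  have hM : ⁅S, S⁆ = ψ.range.map A.subtype := by
    rw [hψdef]; exact commutator_eq_commRange hS hAS hAc hAi hx hxA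
  have hK2 : iterKer ψ 2 = ((Subgroup.upperCentralSeries ↥S 2).map S.subtype).subgroupOf A := by
    ext a
    show ψ a ∈ iterKer ψ 1 ↔ _
    rw [iterKer_one, hker, Subgroup.mem_subgroupOf, Subgroup.mem_subgroupOf, hψcoe,
      aip_mem_secondCenter_iff hS hAS hAc hAi hx hxA a.2, mem_center_iff']
    constructor
    · intro h; exact h.2
    · intro h
      exact ⟨hAS (aip_comm_mem hS hAS hAi hx a.2), h⟩
  have hK2' : iterKer ψ 2 = ψ.ker.comap ψ := by
    show (iterKer ψ 1).comap ψ = _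
    rw [iterKer_one]
  have hrelK : (iterKer ψ 1).relIndex (iterKer ψ 2) = p := by
    rw [iterKer_one, hker, hK2, Subgroup.relIndex_subgroupOf hZ2A]
    exact hrel
  -- kernel ∩ range has order p
  have hcardKR : Nat.card ↥(ψ.ker ⊓ ψ.range) = p := by
    have h1 : ψ.ker ⊓ ψ.range = (iterKer ψ 2).map ψ := by
      rw [hK2', Subgroup.map_comap_eq, inf_comm]
    rw [h1, ← Subgroup.relIndex_ker, ← iterKer_one]
    exact hrelK
  have hsub : Function.Injective A.subtype := Subgroup.subtype_injective A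
  refine ⟨?_, ?_, ?_⟩
  · have h1 : (S ⊓ Subgroup.centralizer (S : Set Ω)) ⊓ ⁅S, S⁆ = (ψ.ker ⊓ ψ.range).map A.subtype := by
      rw [Subgroup.map_inf _ _ _ hsub, hker, Subgroup.map_subgroupOf_eq_of_le hZA, hM]
    rw [h1, Subgroup.card_map_of_injective hsub]
    exact hcardKR
  · have hS'A : ⁅S, S⁆ ≤ A := by
      rw [hM]
      rintro _ ⟨a', -, rfl⟩
      exact a'.2
    have h1 : ((S ⊓ Subgroup.centralizer (S : Set Ω)) ⊔ ⁅S, S⁆).subgroupOf A = ψ.ker ⊔ ψ.range := by
      rw [Subgroup.subgroupOf_sup hZA hS'A, ← hker]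
      congr 1
      rw [hM]
      exact Subgroup.comap_map_eq_self_of_injective hsub _
    rw [h1]
    have e1 := Subgroup.relIndex_mul_index (le_sup_left : ψ.ker ≤ ψ.ker ⊔ ψ.range)
    rw [Subgroup.relIndex_sup_left, Subgroup.index_ker] at e1
    -- card range = card (ker ∩ range as subgroup of range) * relIndex
    have e2 := Subgroup.card_mul_index (ψ.ker.subgroupOf ψ.range)
    have e3 : Nat.card ↥(ψ.ker.subgroupOf ψ.range) = p := by
      rw [← Subgroup.inf_subgroupOf_right,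
        Nat.card_congr (Subgroup.subgroupOfEquivOfLe (inf_le_right : ψ.ker ⊓ ψ.range ≤ ψ.range)).toEquiv]
      exact hcardKR
    rw [e3] at e2
    have e4 : (ψ.ker.subgroupOf ψ.range).index = ψ.ker.relIndex ψ.range := rfl
    rw [e4] at e2
    have hr0 : ψ.ker.relIndex ψ.range ≠ 0 := Subgroup.index_ne_zero_of_finite
    have e5 : ψ.ker.relIndex ψ.range * (ψ.ker ⊔ ψ.range).index = ψ.ker.relIndex ψ.range * p := by
      rw [e1, ← e2, mul_comm]
    exact Nat.eq_of_mul_eq_mul_left (Nat.pos_of_ne_zero hr0) e5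
  · intro m hm h3 hle
    have hidxA : (iterKer ψ 1).index * p = p ^ m := by
      rw [iterKer_one, hker]
      have h1 := Subgroup.relIndex_mul_relIndex (S ⊓ Subgroup.centralizer (S : Set Ω)) A S hZA hAS
      have h2 : (S ⊓ Subgroup.centralizer (S : Set Ω)).relIndex A =
        ((S ⊓ Subgroup.centralizer (S : Set Ω)).subgroupOf A).index := rfl
      have h3 : A.relIndex S = p := hAi
      have h4 : (S ⊓ Subgroup.centralizer (S : Set Ω)).relIndex S = p ^ m := hm
      rw [← h2, ← h4, ← h1, h3]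
    have hidxA' : (iterKer ψ 1).index = p ^ (m - 1) := by
      have e : p ^ m = p ^ (m - 1) * p := by
        rw [← pow_succ]; congr 1; omega
      rw [e] at hidxA
      exact Nat.eq_of_mul_eq_mul_right hp.out.pos hidxA
    have hbound := iterKer_index_le ψ (le_of_eq hrelK) (m - 2)
    have hm1 : m - 2 + 1 = m - 1 := by omega
    rw [hm1, hidxA'] at hbound
    have htop : iterKer ψ (m - 1) = ⊤ := by
      rw [eq_top_iff]
      intro a _
      rw [mem_iterKer_iff, ← hm1, Function.iterate_succ_apply']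
      have h1 : (((ψ^[m - 2]) a : A) : Ω) ∈ S.lowerCentralSeries (m - 2) := by
        rw [hψdef]; exact commHom_iterate_mem_lcs hS hAS hAc hAi hx (m - 2) a
      have h2 : (ψ^[m - 2]) a ∈ ψ.ker := by
        rw [hker]; exact Subgroup.mem_subgroupOf.mpr (hle h1)
      exact h2
    rw [htop, Subgroup.index_top, mul_one] at hbound
    have e : p ^ (m - 1) = p ^ (m - 2) * p := by
      rw [← pow_succ]; congr 1; omega
    rw [e] at hbound
    have hpos : 0 < p ^ (m - 2) := pow_pos hp.out.pos _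
    have h1 : p ≤ 1 := by
      have h2 : p ^ (m - 2) * p ≤ p ^ (m - 2) * 1 := by rw [mul_one]; exact hbound
      exact Nat.le_of_mul_le_mul_left h2 hpos
    exact absurd hp.out.one_lt (not_lt.mpr h1)

end Cfsg.Agent.Lib.Helper87
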