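import Cfsg.Agent.Lib.Helper87.OmegaAut
import Cfsg.Agent.Lib.Helper87.CyclicFactor

/-!
# `p'`-automorphism groups of abelian `p`-groups with a characteristic flag in `Ω₁`
-/

set_option autoImplicit false

namespace Cfsg.Agent.Lib.Helper87

open scoped commutatorElement

universe u

/-- A `p'`-automorphism of an abelian `p`-group fixing all elements of order dividing `p` is
trivial. -/
theorem comm_aut_eq_one_of_fixes_omega {V : Type*} [CommGroup V] {p : ℕ} (hV : IsPGroup p V)
    (α : MulAut V) (m : ℕ) (hm : m.Coprime p) (hαm : α ^ m = 1)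
    (hΩ : ∀ x : V, x ^ p = 1 → α x = x) : α = 1 := by
  have claim : ∀ k : ℕ, ∀ x : V, x ^ (p ^ k) = 1 → α x = x := by
    intro k
    induction k with
    | zero =>
      intro x hx
      rw [pow_zero, pow_one] at hx
      rw [hx, map_one]
    | succ k ih =>
      intro x hx
      have hxp : α (x ^ p) = x ^ p := ih (x ^ p) (by rw [← pow_mul, ← pow_succ']; exact hx)
      set y := x⁻¹ * α x with hydef
      have hyp : y ^ p = 1 := by
        rw [hydef, mul_pow, inv_pow, ← map_pow, hxp, inv_mul_cancel]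
      have hfix : α y = y := hΩ y hyp
      have hpow : ∀ n : ℕ, (α ^ n) x = x * y ^ n := by
        intro n
        induction n with
        | zero => simp
        | succ n ihn =>
          rw [pow_succ', MulAut.mul_apply, ihn, map_mul, map_pow, hfix, pow_succ']
          have hbx : α x = x * y := by rw [hydef]; group
          rw [hbx, mul_assoc]
      have h1 := hpow m
      rw [hαm] at h1
      have hym : y ^ m = 1 := by
        have : x = x * y ^ m := h1
        exact mul_eq_left.mp this.symm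
      have hg : y ^ (Nat.gcd m p) = 1 := pow_gcd_eq_one.mpr ⟨hym, hyp⟩
      have hcop : Nat.gcd m p = 1 := hm
      rw [hcop, pow_one] at hg
      have : x⁻¹ * α x = 1 := hg
      exact (inv_mul_eq_one.mp this).symm
  ext x
  obtain ⟨k, hk⟩ := hV x
  exact claim k x hk

/-- A cyclic step `B = A ⟨x⟩` in a commutative group gives a homomorphism from `B` to a cyclic
group with kernel `A`. -/
theorem exists_cyclic_factor_hom_comm {V : Type u} [CommGroup V] {A B : Subgroup V} {x : V}
    (hB : B = A ⊔ Subgroup.zpowers x) :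
    ∃ (C : Type u) (_ : Group C) (_ : IsCyclic C) (g : B →* C),
      ∀ y : B, g y = 1 ↔ (y : V) ∈ A := by
  have hxB : x ∈ B := by
    rw [hB]
    exact (le_sup_right : Subgroup.zpowers x ≤ A ⊔ Subgroup.zpowers x) (Subgroup.mem_zpowers x)
  have hcyc : IsCyclic (↥B ⧸ A.subgroupOf B) := by
    rw [isCyclic_iff_exists_zpowers_eq_top]
    refine ⟨QuotientGroup.mk' _ ⟨x, hxB⟩, ?_⟩
    rw [eq_top_iff]
    intro q _
    obtain ⟨y, rfl⟩ := QuotientGroup.mk'_surjective _ q
    have hy : (y : V) ∈ A ⊔ Subgroup.zpowers x := by rw [← hB]; exact y.2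
    obtain ⟨d, hd, r, hr, hyrd⟩ := Subgroup.mem_sup.mp hy
    obtain ⟨k, rfl⟩ := Subgroup.mem_zpowers_iff.mp hr
    rw [Subgroup.mem_zpowers_iff]
    refine ⟨k, ?_⟩
    rw [← map_zpow]
    rw [QuotientGroup.mk'_apply, QuotientGroup.mk'_apply, QuotientGroup.eq]
    apply Subgroup.mem_subgroupOf.mpr
    show ((⟨x, hxB⟩ : B) ^ k : B).1⁻¹ * (y : V) ∈ A
    rw [← hyrd]
    have : (((⟨x, hxB⟩ : B) ^ k : B) : V) = x ^ k := by simp
    rw [this]
    have e : (x ^ k)⁻¹ * (d * x ^ k) = d := by
      rw [mul_comm d, inv_mul_cancel_left]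
    rw [e]
    exact hd
  refine ⟨↥B ⧸ A.subgroupOf B, inferInstance, hcyc, QuotientGroup.mk' _, fun y => ?_⟩
  rw [QuotientGroup.mk'_apply, QuotientGroup.eq_one_iff]
  exact Iff.rfl

/-- If `Ω₁(V)` of a finite abelian `p`-group has a characteristic flag with cyclic steps, then every
`p'`-group of automorphisms of `V` is abelian of exponent dividing `p - 1`. -/
theorem pprime_aut_of_omega_flag {V : Type u} [CommGroup V] [Finite V] {p : ℕ} [Fact p.Prime]
    (hV : IsPGroup p V) (W : ℕ → Subgroup V) (E : ℕ)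
    (hW0 : ∀ x : V, x ^ p = 1 → x ∈ W 0) (hWE : W E = ⊥)
    (hchar : ∀ (j : ℕ) (α : MulAut V), ∀ y ∈ W j, α y ∈ W j)
    (hstep : ∀ j < E, ∃ x, W j = W (j + 1) ⊔ Subgroup.zpowers x)
    (H : Subgroup (MulAut V)) (hH : (Nat.card H).Coprime p) :
    IsMulCommutative H ∧ ∀ h ∈ H, h ^ (p - 1) = 1 := by
  have hfinH : Finite H := inferInstance
  have hpowH : ∀ γ : H, (γ : MulAut V) ^ Nat.card H = 1 := fun γ => by
    have : γ ^ Nat.card H = 1 := pow_card_eq_one'
    have h2 : ((γ ^ Nat.card H : H) : MulAut V) = ((1 : H) : MulAut V) := by rw [this]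
    rw [Subgroup.coe_pow, Subgroup.coe_one] at h2
    exact h2
  have hinv : ∀ j, ∀ a ∈ H, ∀ y ∈ W j, a y ∈ W j := fun j a _ y hy => hchar j a y hy
  have key : ∀ γ : H, (∀ j < E, ∀ y ∈ W j, y⁻¹ * (γ : MulAut V) y ∈ W (j + 1)) →
      (γ : MulAut V) = 1 := by
    intro γ hγ
    have h0 := fixes_of_chain hV (γ : MulAut V) (Nat.card H) hH (hpowH γ) E W hWE hγ
    exact comm_aut_eq_one_of_fixes_omega hV _ (Nat.card H) hH (hpowH γ)
      (fun x hx => h0 x (hW0 x hx))
  constructor
  · refine ⟨⟨fun a b => ?_⟩⟩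
    have h1 : ((⁅a, b⁆ : H) : MulAut V) = 1 := by
      apply key
      intro j hj y hy
      obtain ⟨x, hx⟩ := hstep j hj
      obtain ⟨C, _, _, g, hg⟩ := exists_cyclic_factor_hom_comm hx
      exact comm_stabilizes_factor (W (j + 1)) (W j) g hg H (hinv (j + 1)) (hinv j) a b y hy
    have h2 : ⁅a, b⁆ = 1 := Subtype.ext h1
    exact commutatorElement_eq_one_iff_mul_comm.mp h2
  · intro h hh
    have h1 : (((⟨h, hh⟩ : H) ^ (p - 1) : H) : MulAut V) = 1 := by
      apply key
      intro j hj y hy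
      obtain ⟨x, hx⟩ := hstep j hj
      obtain ⟨C, _, _, g, hg⟩ := exists_cyclic_factor_hom_comm hx
      exact pow_pred_stabilizes_factor (W (j + 1)) (W j) (hV.to_subgroup _) g hg H
        (hinv (j + 1)) (hinv j) ⟨h, hh⟩ hH pow_card_eq_one' y hy
    simpa using h1

end Cfsg.Agent.Lib.Helper87
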