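import Cfsg.Agent.Lib.Helper87.CyclicFactor
import Cfsg.Agent.Lib.Helper87.Chain
import Cfsg.Agent.Lib.Helper87.ConstrainedNormal

/-!
# Chains of strongly closed subgroups with cyclic steps
-/

set_option autoImplicit false

namespace Cfsg.Agent.Lib.Helper87

open Cfsg Cfsg.FusionSystem
open scoped commutatorElement

universe u

variable {Ω : Type u} [Group Ω]

/-- A cyclic step `B = A ⟨x⟩` with `A` normalized by `B`, read inside a subgroup `X`: a
homomorphism from `B ∩ X` to a cyclic group with kernel `A ∩ X`. -/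
theorem exists_cyclic_factor_hom {A B : Subgroup Ω} (hAB : A ≤ B)
    (hBN : B ≤ Subgroup.normalizer (A : Set Ω)) {x : Ω} (hB : B = A ⊔ Subgroup.zpowers x)
    (X : Subgroup Ω) :
    ∃ (C : Type u) (_ : Group C) (_ : IsCyclic C) (g : ↥(B.subgroupOf X) →* C),
      ∀ y : ↥(B.subgroupOf X), g y = 1 ↔ ((y : X) : Ω) ∈ A := by
  have hn : (A.subgroupOf B).Normal := (Subgroup.normal_subgroupOf_iff_le_normalizer hAB).mpr hBN
  have hxB : x ∈ B := by
    rw [hB]; exact (le_sup_right : Subgroup.zpowers x ≤ A ⊔ Subgroup.zpowers x) (Subgroup.mem_zpowers x)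
  have hcyc : IsCyclic (↥B ⧸ A.subgroupOf B) := by
    rw [isCyclic_iff_exists_zpowers_eq_top]
    refine ⟨QuotientGroup.mk' _ ⟨x, hxB⟩, ?_⟩
    rw [eq_top_iff]
    intro q _
    obtain ⟨y, rfl⟩ := QuotientGroup.mk'_surjective _ q
    have hy : (y : Ω) ∈ Subgroup.zpowers x ⊔ A := by
      rw [sup_comm, ← hB]; exact y.2
    have hzN : Subgroup.zpowers x ≤ Subgroup.normalizer (A : Set Ω) := by
      rw [Subgroup.zpowers_le]; exact hBN hxB
    obtain ⟨r, hr, d, hd, hyrd⟩ := exists_mul_of_mem_sup hzN hy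
    obtain ⟨k, rfl⟩ := Subgroup.mem_zpowers_iff.mp hr
    rw [Subgroup.mem_zpowers_iff]
    refine ⟨k, ?_⟩
    rw [← map_zpow]
    rw [QuotientGroup.mk'_apply, QuotientGroup.mk'_apply, QuotientGroup.eq]
    apply Subgroup.mem_subgroupOf.mpr
    show ((⟨x, hxB⟩ : B) ^ k : B).1⁻¹ * (y : Ω) ∈ A
    rw [hyrd]
    have : (((⟨x, hxB⟩ : B) ^ k : B) : Ω) = x ^ k := by simp
    rw [this]
    have e : (x ^ k)⁻¹ * (x ^ k * d) = d := by group
    rw [e]
    exact hd
  let ι : ↥(B.subgroupOf X) →* ↥B :=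
    MonoidHom.codRestrict (X.subtype.comp (B.subgroupOf X).subtype) B
      (fun y => Subgroup.mem_subgroupOf.mp y.2)
  refine ⟨↥B ⧸ A.subgroupOf B, inferInstance, hcyc, (QuotientGroup.mk' _).comp ι, fun y => ?_⟩
  show QuotientGroup.mk' (A.subgroupOf B) (ι y) = 1 ↔ _
  rw [QuotientGroup.mk'_apply, QuotientGroup.eq_one_iff]
  exact Iff.rfl

variable {S : Subgroup Ω}

/-- The supersoluble chain hypothesis. -/
def IsSSChain (F : FusionSystem S) (m : ℕ) (c : Fin (m + 1) → Subgroup Ω) : Prop :=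
  c 0 = ⊥ ∧ c (Fin.last m) = S ∧ (∀ i : Fin (m + 1), F.StronglyClosed (c i)) ∧
    ∀ i : Fin m, c i.castSucc ≤ c i.succ ∧
      ∃ x ∈ S, c i.succ = c i.castSucc ⊔ Subgroup.zpowers x

/-- The descending chain induced on a subgroup `X`. -/
def descChain {m : ℕ} (c : Fin (m + 1) → Subgroup Ω) (X : Subgroup Ω) (j : ℕ) : Subgroup X :=
  (c ⟨m - j, Nat.lt_succ_of_le (Nat.sub_le m j)⟩).subgroupOf X

theorem descChain_zero {F : FusionSystem S} {m : ℕ} {c : Fin (m + 1) → Subgroup Ω}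
    (hc : IsSSChain F m c) {X : Subgroup Ω} (hX : X ≤ S) : descChain c X 0 = ⊤ := by
  have : (⟨m - 0, Nat.lt_succ_of_le (Nat.sub_le m 0)⟩ : Fin (m + 1)) = Fin.last m :=
    Fin.ext (Nat.sub_zero m)
  unfold descChain
  rw [this, hc.2.1, eq_top_iff]
  intro y _
  exact Subgroup.mem_subgroupOf.mpr (hX y.2)

theorem descChain_last {F : FusionSystem S} {m : ℕ} {c : Fin (m + 1) → Subgroup Ω}
    (hc : IsSSChain F m c) (X : Subgroup Ω) : descChain c X m = ⊥ := by
  have : (⟨m - m, Nat.lt_succ_of_le (Nat.sub_le m m)⟩ : Fin (m + 1)) = 0 :=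
    Fin.ext (Nat.sub_self m)
  unfold descChain
  rw [this, hc.1]
  exact Subgroup.bot_subgroupOf X

/-- Automorphisms acting trivially on all cyclic steps stabilize the descending chain. -/
theorem descChain_step {m : ℕ} {c : Fin (m + 1) → Subgroup Ω} {X : Subgroup Ω} (γ : MulAut X)
    (hγ : ∀ i : Fin m, ∀ y : X, (y : Ω) ∈ c i.succ → ((y⁻¹ * γ y : X) : Ω) ∈ c i.castSucc) :
    ∀ j < m, ∀ y ∈ descChain c X j, y⁻¹ * γ y ∈ descChain c X (j + 1) := by
  intro j hj y hy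
  have h1 : (⟨m - j, Nat.lt_succ_of_le (Nat.sub_le m j)⟩ : Fin (m + 1)) =
      (⟨m - j - 1, by omega⟩ : Fin m).succ := Fin.ext (by simp; omega)
  have h2 : (⟨m - (j + 1), Nat.lt_succ_of_le (Nat.sub_le m (j + 1))⟩ : Fin (m + 1)) =
      (⟨m - j - 1, by omega⟩ : Fin m).castSucc := Fin.ext (by simp; omega)
  unfold descChain at hy ⊢
  rw [h1] at hy
  rw [h2]
  exact Subgroup.mem_subgroupOf.mpr (hγ _ y (Subgroup.mem_subgroupOf.mp hy))

section

variable [Finite S] {p : ℕ} [Fact p.Prime]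

/-- Commutators of chain-preserving automorphisms of `X ≤ S` act trivially on the cyclic steps. -/
theorem comm_stabilizes_chain (F : FusionSystem S) {m : ℕ}
    {c : Fin (m + 1) → Subgroup Ω} (hc : IsSSChain F m c) {X : Subgroup Ω}
    (𝒜 : Subgroup (MulAut X))
    (hinv : ∀ a ∈ 𝒜, ∀ i : Fin (m + 1), ∀ y : X, (y : Ω) ∈ c i → ((a y : X) : Ω) ∈ c i)
    (a b : 𝒜) (i : Fin m) (y : X) (hy : (y : Ω) ∈ c i.succ) :
    ((y⁻¹ * ((⁅a, b⁆ : 𝒜) : MulAut X) y : X) : Ω) ∈ c i.castSucc := by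
  obtain ⟨hle, x, -, hB⟩ := hc.2.2.2 i
  have hBN : c i.succ ≤ Subgroup.normalizer (c i.castSucc : Set Ω) :=
    (hc.2.2.1 i.succ).1.trans (stronglyClosed_le_normalizer F (hc.2.2.1 i.castSucc))
  obtain ⟨C, _, _, g, hg⟩ := exists_cyclic_factor_hom hle hBN hB X
  have := comm_stabilizes_factor ((c i.castSucc).subgroupOf X) ((c i.succ).subgroupOf X) g
    (fun y => (hg y).trans Subgroup.mem_subgroupOf.symm) 𝒜
    (fun a ha y hy => Subgroup.mem_subgroupOf.mpr (hinv a ha _ y (Subgroup.mem_subgroupOf.mp hy)))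
    (fun a ha y hy => Subgroup.mem_subgroupOf.mpr (hinv a ha _ y (Subgroup.mem_subgroupOf.mp hy)))
    a b y (Subgroup.mem_subgroupOf.mpr hy)
  exact Subgroup.mem_subgroupOf.mp this

/-- `(p-1)`-th powers of chain-preserving `p'`-automorphisms act trivially on the cyclic steps. -/
theorem pow_pred_stabilizes_chain (hS : IsPGroup p S) (F : FusionSystem S) {m : ℕ}
    {c : Fin (m + 1) → Subgroup Ω} (hc : IsSSChain F m c) {X : Subgroup Ω} (hX : X ≤ S)
    (𝒜 : Subgroup (MulAut X))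
    (hinv : ∀ a ∈ 𝒜, ∀ i : Fin (m + 1), ∀ y : X, (y : Ω) ∈ c i → ((a y : X) : Ω) ∈ c i)
    (a : 𝒜) {r : ℕ} (hr : r.Coprime p) (har : a ^ r = 1) (i : Fin m) (y : X)
    (hy : (y : Ω) ∈ c i.succ) :
    ((y⁻¹ * ((a ^ (p - 1) : 𝒜) : MulAut X) y : X) : Ω) ∈ c i.castSucc := by
  obtain ⟨hle, x, -, hB⟩ := hc.2.2.2 i
  have hBN : c i.succ ≤ Subgroup.normalizer (c i.castSucc : Set Ω) :=
    (hc.2.2.1 i.succ).1.trans (stronglyClosed_le_normalizer F (hc.2.2.1 i.castSucc))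
  obtain ⟨C, _, _, g, hg⟩ := exists_cyclic_factor_hom hle hBN hB X
  have hfinX : Finite X := finite_of_le hX
  have hXp : IsPGroup p X := hS.to_le hX
  have := pow_pred_stabilizes_factor ((c i.castSucc).subgroupOf X) ((c i.succ).subgroupOf X)
    (hXp.to_subgroup _) g
    (fun y => (hg y).trans Subgroup.mem_subgroupOf.symm) 𝒜
    (fun a ha y hy => Subgroup.mem_subgroupOf.mpr (hinv a ha _ y (Subgroup.mem_subgroupOf.mp hy)))
    (fun a ha y hy => Subgroup.mem_subgroupOf.mpr (hinv a ha _ y (Subgroup.mem_subgroupOf.mp hy)))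
    a hr har y (Subgroup.mem_subgroupOf.mpr hy)
  exact Subgroup.mem_subgroupOf.mp this

end

end Cfsg.Agent.Lib.Helper87
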