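import Cfsg.Agent.Lib.Helper87.InvariantChain
import Cfsg.Agent.Lib.Helper87.SupersolubleChain
import Cfsg.Agent.Lib.Helper87.Alperin
import Cfsg.Agent.Lib.Helper88.Abelian

/-!
# Resistant `p`-groups whose `p'`-automorphism groups are abelian of exponent `p - 1` are of
supersoluble type
-/

set_option autoImplicit false

namespace Cfsg.Agent.Lib.Helper87

open Cfsg Cfsg.FusionSystem

universe u

variable {Ω : Type u} [Group Ω] {S : Subgroup Ω}

/-- When `S` is normal in `F`, every map of `F` is the restriction of an element of `Aut_F(S)`. -/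
theorem exists_aut_of_isNormal_top [Finite S] (F : FusionSystem S) (hN : F.IsNormal S)
    {P : Subgroup Ω} {φ : P →* Ω} (hφ : φ ∈ F.Hom P) :
    ∃ α : MulAut S, α ∈ F.autGroup S ∧
      ∀ (x : P) (hS : (x : Ω) ∈ S), ((α ⟨x, hS⟩ : S) : Ω) = φ x := by
  have hPS : P ≤ S := (F.le_of_mem hφ).1
  obtain ⟨ψ, hψ, hext, -⟩ := hN.2 P φ hφ
  obtain ⟨ψ', hψ', hc⟩ := Cfsg.Agent.Lib.Helper88.hom_cast F (sup_eq_right.mpr hPS) hψ
  obtain ⟨α, hα⟩ := Cfsg.Agent.Lib.Helper88.aut_of_hom_top F hψ'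
  refine ⟨α, Subgroup.subset_closure (by
    show S.subtype.comp α.toMonoidHom ∈ F.Hom S
    rw [hα]; exact hψ'), fun x hS => ?_⟩
  have h1 : ((α ⟨x, hS⟩ : S) : Ω) = ψ' ⟨x, hS⟩ := by
    rw [← hα]; rfl
  rw [h1, hc x ((le_sup_left : P ≤ P ⊔ S) x.2) hS, ← hext x]
  rfl

/-- When `S` is normal in `F`, an `Aut_F(S)`-invariant subgroup of `S` is strongly closed. -/
theorem stronglyClosed_of_autGroup_invariant [Finite S] (F : FusionSystem S) (hN : F.IsNormal S)
    (D : Subgroup S) (hD : ∀ α ∈ F.autGroup S, ∀ y ∈ D, α y ∈ D) :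
    F.StronglyClosed (D.map S.subtype) := by
  refine ⟨?_, fun R hR φ hφ x => ?_⟩
  · rintro _ ⟨y, -, rfl⟩
    exact y.2
  · obtain ⟨α, hα, h⟩ := exists_aut_of_isNormal_top F hN hφ
    obtain ⟨y, hy, hyx⟩ := hR x.2
    have hS : (x : Ω) ∈ S := by rw [← hyx]; exact y.2
    rw [← h x hS]
    have : (⟨x, hS⟩ : S) = y := Subtype.ext hyx.symm
    rw [this]
    exact ⟨α y, hD α hα y hy, rfl⟩

variable [Finite S] {p : ℕ} [Fact p.Prime]

/-- `Aut_F(S) = Inn(S) K` for a `p'`-subgroup `K` when `F` is saturated. -/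
theorem exists_pprime_complement (F : FusionSystem S) (hF : F.IsSaturated p) :
    ∃ H : Subgroup (MulAut S), (Nat.card H).Coprime p ∧
      ∀ α ∈ F.autGroup S, ∃ g : S, ∃ h ∈ H, α = MulAut.conj g * h := by
  obtain ⟨⟨-, R, hR⟩, -⟩ := Cfsg.Agent.Lib.Helper88.top_automized_receptive F p hF
  have hAI : autInducedBy S S = Inn S :=
    le_antisymm autInducedBy_top_le_inn (inn_le_autInducedBy le_rfl)
  rw [hAI] at hR
  have hfinB : Finite (F.autGroup S) := inferInstance
  have hnorm : ((Inn S).subgroupOf (F.autGroup S)).Normal := Subgroup.Normal.subgroupOf inferInstance _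
  have hcop : (Nat.card ((Inn S).subgroupOf (F.autGroup S))).Coprime ((Inn S).subgroupOf (F.autGroup S)).index := by
    rw [← hR]; exact R.card_coprime_index
  obtain ⟨K, hK⟩ := Subgroup.exists_right_complement'_of_coprime hcop
  refine ⟨K.map (F.autGroup S).subtype, ?_, fun α hα => ?_⟩
  · rw [Subgroup.card_map_of_injective (Subgroup.subtype_injective _)]
    have h1 : ((Inn S).subgroupOf (F.autGroup S)).index = Nat.card K := by
      have := hK.symm.index_eq_card
      exact this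
    rw [← h1, ← hR, Nat.coprime_comm, Nat.Prime.coprime_iff_not_dvd Fact.out]
    exact R.not_dvd_index
  · obtain ⟨⟨n, k⟩, hnk, -⟩ := (Subgroup.isComplement_iff_existsUnique.mp hK) ⟨α, hα⟩
    have hn : ((n : F.autGroup S) : MulAut S) ∈ Inn S := Subgroup.mem_subgroupOf.mp n.2
    obtain ⟨g, hg⟩ := hn
    refine ⟨g, ((k : F.autGroup S) : MulAut S), ⟨(k : F.autGroup S), k.2, rfl⟩, ?_⟩
    rw [hg]
    have := congrArg (fun b : F.autGroup S => (b : MulAut S)) hnk
    exact this.symm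

/-- The backward direction of the supersoluble-type criterion. -/
theorem supersoluble_of_resistant (hS : IsPGroup p S) (F : FusionSystem S) (hF : F.IsSaturated p)
    (hN : F.IsNormal S)
    (hall : ∀ H : Subgroup (MulAut S), (Nat.card H).Coprime p →
      IsMulCommutative H ∧ ∀ h ∈ H, h ^ (p - 1) = 1) :
    ∃ (m : ℕ) (c : Fin (m + 1) → Subgroup Ω), IsSSChain F m c := by
  obtain ⟨H, hHcop, hdec⟩ := exists_pprime_complement F hF
  obtain ⟨hHc, hHp⟩ := hall H hHcop
  have hHc' : ∀ a ∈ H, ∀ b ∈ H, a * b = b * a := fun a ha b hb => by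
    have := hHc.is_comm.comm (⟨a, ha⟩ : H) ⟨b, hb⟩
    exact congrArg (fun w : H => (w : MulAut S)) this
  obtain ⟨m, d, hd0, hdl, hdi, hds⟩ := exists_invariant_chain hS H hHc' hHp
  have hinv : ∀ i, ∀ α ∈ F.autGroup S, ∀ y ∈ d i, α y ∈ d i := by
    intro i α hα y hy
    obtain ⟨g, h, hh, rfl⟩ := hdec α hα
    have h1 : h y ∈ d i := (hdi i).2 h hh y hy
    show MulAut.conj g (h y) ∈ d i
    rw [MulAut.conj_apply]
    exact (hdi i).1.conj_mem _ h1 g
  refine ⟨m, fun i => (d i).map S.subtype, ?_, ?_, ?_, ?_⟩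
  · show (d 0).map S.subtype = ⊥
    rw [hd0, Subgroup.map_bot]
  · show (d (Fin.last m)).map S.subtype = S
    rw [hdl, ← MonoidHom.range_eq_map, Subgroup.range_subtype]
  · intro i
    exact stronglyClosed_of_autGroup_invariant F hN (d i) (hinv i)
  · intro i
    obtain ⟨x, hx⟩ := hds i
    refine ⟨?_, (x : Ω), x.2, ?_⟩
    · show (d i.castSucc).map S.subtype ≤ (d i.succ).map S.subtype
      rw [hx]
      exact Subgroup.map_mono le_sup_left
    · show (d i.succ).map S.subtype = (d i.castSucc).map S.subtype ⊔ Subgroup.zpowers (x : Ω)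
      rw [hx, Subgroup.map_sup, MonoidHom.map_zpowers]
      rfl

end Cfsg.Agent.Lib.Helper87
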