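import Cfsg.Agent.Lib.Helper87.SupersolubleChain
import Cfsg.Agent.Lib.Helper87.AutSystem
import Cfsg.Agent.Lib.Helper87.Alperin
import Cfsg.Agent.Lib.Helper88.EssOut
import Cfsg.Agent.Lib.Helper84.PCore
import Cfsg.Agent.S5080
import Cfsg.Agent.S5087

/-!
# Supersoluble fusion systems: the forward direction
-/

set_option autoImplicit false

namespace Cfsg.Agent.Lib.Helper87

open Cfsg Cfsg.FusionSystem
open scoped commutatorElement

universe u

variable {Ω : Type u} [Group Ω] {S : Subgroup Ω} [Finite S] {p : ℕ} [Fact p.Prime]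

/-- A saturated system with a supersoluble chain has no essential subgroups. -/
theorem no_essential_of_chain (hS : IsPGroup p S) (F : FusionSystem S) (hF : F.IsSaturated p)
    {m : ℕ} {c : Fin (m + 1) → Subgroup Ω} (hc : IsSSChain F m c) {R : Subgroup Ω}
    (hR : F.IsEssential p R) : False := by
  have hRc : F.IsCentric R := hR.1
  have hRS : R ≤ S := hRc.1
  have hrad : F.IsRadical p R := Cfsg.Agent.S5080.result p hS F hF R hR
  have hne : R ≠ S := Cfsg.Agent.Lib.Helper88.essential_ne_top hS F hF hR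
  obtain ⟨g, hgN, hgR⟩ := exists_mem_normalizerIn_not_mem hS hRS hne
  have hinv : ∀ a ∈ F.autGroup R, ∀ i : Fin (m + 1), ∀ y : R, (y : Ω) ∈ c i →
      ((a y : R) : Ω) ∈ c i := fun a ha i y hy =>
    autGroup_apply_mem_of_stronglyClosed F hRS (hc.2.2.1 i) ha y hy
  have hinv' : ∀ γ ∈ F.autGroup R, ∀ i, ∀ x ∈ descChain c R i, γ x ∈ descChain c R i :=
    fun γ hγ i x hx => Subgroup.mem_subgroupOf.mpr (hinv γ hγ _ x (Subgroup.mem_subgroupOf.mp hx))
  have hcomm : ∀ a b : F.autGroup R, ((⁅a, b⁆ : F.autGroup R) : MulAut R) ∈ Inn R := by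
    intro a b
    exact stabilizer_le_inn hS F hRS hrad m (descChain c R) (descChain_zero hc hRS)
      (descChain_last hc R) hinv' (⁅a, b⁆ : F.autGroup R).2
      (descChain_step _ (comm_stabilizes_chain F hc (F.autGroup R) hinv a b))
  have hNn : ((autInducedBy S R).subgroupOf (F.autGroup R)).Normal := by
    constructor
    intro δ hδ β
    rw [Subgroup.mem_subgroupOf] at hδ ⊢
    have e : β * δ * β⁻¹ = ⁅β, δ⁆ * δ := by rw [commutatorElement_def]; group
    rw [e, Subgroup.coe_mul]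
    exact Subgroup.mul_mem _ (inn_le_autInducedBy hRS (hcomm β δ)) hδ
  have hNp : IsPGroup p ((autInducedBy S R).subgroupOf (F.autGroup R)) :=
    (autInducedBy_isPGroup hS R).comap_subtype
  have hle := Cfsg.Agent.Lib.Helper84.le_pCore hNn hNp
  have hα : conjAut R g hgN.2 ∈ F.autGroup R :=
    autInducedBy_le_autGroup F hRS (conjAut_mem_autInducedBy hgN.1 hgN.2)
  have hαinn : conjAut R g hgN.2 ∈ Inn R := by
    rw [← hrad.2]
    exact ⟨⟨_, hα⟩, hle (Subgroup.mem_subgroupOf.mpr (conjAut_mem_autInducedBy hgN.1 hgN.2)), rfl⟩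
  obtain ⟨r, hr⟩ := hαinn
  have hcen' : (r : Ω)⁻¹ * g ∈ centralizerIn S R := by
    refine ⟨S.mul_mem (S.inv_mem (hRS r.2)) hgN.1, ?_⟩
    intro x hx
    have h1 : ((MulAut.conj r ⟨x, hx⟩ : R) : Ω) = ((conjAut R g hgN.2 ⟨x, hx⟩ : R) : Ω) := by
      rw [hr]
    have h2 : (r : Ω) * x * (r : Ω)⁻¹ = g * x * g⁻¹ := h1
    calc x * ((r : Ω)⁻¹ * g) = (r : Ω)⁻¹ * ((r : Ω) * x * (r : Ω)⁻¹) * g := by group
      _ = (r : Ω)⁻¹ * (g * x * g⁻¹) * g := by rw [h2]
      _ = (r : Ω)⁻¹ * g * x := by group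
  have hcenR := hRc.2 R (isConj_refl F hRS) hcen'
  apply hgR
  have : g = (r : Ω) * ((r : Ω)⁻¹ * g) := by group
  rw [this]
  exact R.mul_mem r.2 hcenR

/-- Hence `S` is normal in such a system. -/
theorem isNormal_top_of_chain (hS : IsPGroup p S) (F : FusionSystem S) (hF : F.IsSaturated p)
    {m : ℕ} {c : Fin (m + 1) → Subgroup Ω} (hc : IsSSChain F m c) : F.IsNormal S := by
  rw [Cfsg.Agent.S5087.result p hS F hF S]
  rintro P (rfl | hP)
  · refine ⟨le_rfl, fun α _ => ?_⟩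
    have : P.subgroupOf P = ⊤ := Subgroup.subgroupOf_self P
    rw [this]
    exact Subgroup.map_top_of_surjective _ α.surjective
  · exact (no_essential_of_chain hS F hF hc hP).elim

/-- Powers by the order of `H` land in a normal subgroup `N` for elements of `N ⊔ H`. -/
theorem pow_card_mem_of_mem_sup {G : Type*} [Group G] (N H : Subgroup G) [N.Normal] [Finite H]
    {α : G} (hα : α ∈ N ⊔ H) : α ^ Nat.card H ∈ N := by
  have h1 : QuotientGroup.mk' N α ∈ (N ⊔ H).map (QuotientGroup.mk' N) := ⟨α, hα, rfl⟩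
  have h2 : N.map (QuotientGroup.mk' N) = ⊥ := by
    rw [Subgroup.map_eq_bot_iff, QuotientGroup.ker_mk']
  rw [Subgroup.map_sup, h2, bot_sup_eq] at h1
  obtain ⟨h, hh, hhα⟩ := h1
  apply (QuotientGroup.eq_one_iff _).mp
  show QuotientGroup.mk' N (α ^ Nat.card H) = 1
  rw [map_pow, ← hhα, ← map_pow]
  have h3 : (⟨h, hh⟩ : H) ^ Nat.card H = 1 := pow_card_eq_one'
  have h4 : h ^ Nat.card H = 1 := by
    have h5 : (((⟨h, hh⟩ : H) ^ Nat.card H : H) : G) = h ^ Nat.card H := rfl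
    rw [← h5, h3]; rfl
  rw [h4, map_one]

/-- If every saturated system over `S` has a supersoluble chain, then every `p'`-subgroup of
`Aut(S)` is abelian of exponent dividing `p - 1`. -/
theorem pprime_aut_of_supersoluble (hS : IsPGroup p S)
    (hall : ∀ F : FusionSystem S, F.IsSaturated p →
      ∃ (m : ℕ) (c : Fin (m + 1) → Subgroup Ω), IsSSChain F m c)
    (H : Subgroup (MulAut S)) (hH : (Nat.card H).Coprime p) :
    IsMulCommutative H ∧ ∀ h ∈ H, h ^ (p - 1) = 1 := by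
  have hfinH : Finite H := inferInstance
  have hAq : ∀ α ∈ Inn S ⊔ H, α ^ Nat.card H ∈ Inn S := fun α hα =>
    pow_card_mem_of_mem_sup (Inn S) H hα
  have hFsat := autSystem_isSaturated hS (Inn S ⊔ H) le_sup_left (Nat.card H) hH hAq
  obtain ⟨m, c, hc⟩ := hall _ hFsat
  have hinv : ∀ a ∈ H, ∀ i : Fin (m + 1), ∀ y : S, (y : Ω) ∈ c i → ((a y : S) : Ω) ∈ c i := by
    intro a ha i y hy
    have haF : a ∈ (autSystem S (Inn S ⊔ H) le_sup_left).autGroup S :=
      (autSystem_autGroup_iff le_rfl a).mpr ⟨a, le_sup_right (a := Inn S) ha, fun x => rfl⟩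
    exact autGroup_apply_mem_of_stronglyClosed _ le_rfl (hc.2.2.1 i) haF y hy
  have key : ∀ γ : H, (∀ i : Fin m, ∀ y : S, (y : Ω) ∈ c i.succ →
      ((y⁻¹ * (γ : MulAut S) y : S) : Ω) ∈ c i.castSucc) → γ = 1 := by
    intro γ hγ
    have h3 : γ ^ Nat.card H = 1 := pow_card_eq_one'
    have h4 : (γ : MulAut S) ^ Nat.card H = 1 := by
      have h5 : ((γ ^ Nat.card H : H) : MulAut S) = (γ : MulAut S) ^ Nat.card H := rfl
      rw [← h5, h3]; rfl
    have := aut_eq_one_of_chain hS (γ : MulAut S) (Nat.card H) hH h4 m (descChain c S)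
      (descChain_zero hc le_rfl) (descChain_last hc S) (descChain_step _ hγ)
    exact Subtype.ext this
  refine ⟨⟨⟨fun a b => ?_⟩⟩, fun h hh => ?_⟩
  · have := key ⁅a, b⁆ (comm_stabilizes_chain _ hc H hinv a b)
    exact commutatorElement_eq_one_iff_mul_comm.mp this
  · have h3 : (⟨h, hh⟩ : H) ^ Nat.card H = 1 := pow_card_eq_one'
    have := key ((⟨h, hh⟩ : H) ^ (p - 1))
      (pow_pred_stabilizes_chain hS _ hc le_rfl H hinv ⟨h, hh⟩ hH h3)
    have h5 : (((⟨h, hh⟩ : H) ^ (p - 1) : H) : MulAut S) = h ^ (p - 1) := rfl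
    rw [← h5, this]; rfl

end Cfsg.Agent.Lib.Helper87
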