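import Cfsg.Agent.Lib.Helper87.DistinctInvariants
import Cfsg.Agent.Lib.Helper87.PPrimeAutProp
import Cfsg.Agent.Lib.Helper87.SupersolubleFwd
import Cfsg.Agent.Lib.Helper87.SupersolubleBwd
import Cfsg.Agent.Lib.Helper88.AlperinUse

/-!
# Abelian `p`-groups of supersoluble type
-/

set_option autoImplicit false

namespace Cfsg.Agent.Lib.Helper87

open Cfsg Cfsg.FusionSystem

/-- Splitting two factors off a product of groups. -/
def piSplitTwo {ι : Type*} [DecidableEq ι] (B : ι → Type*) [∀ k, Group (B k)] {i j : ι}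
    (hij : i ≠ j) : (∀ k, B k) ≃* (B i × B j) × (∀ k : {k // k ≠ i ∧ k ≠ j}, B k) where
  toFun f := ((f i, f j), fun k => f k.1)
  invFun x := fun k =>
    if hi : k = i then hi ▸ x.1.1 else if hj : k = j then hj ▸ x.1.2 else x.2 ⟨k, hi, hj⟩
  left_inv f := by
    funext k
    by_cases hi : k = i
    · subst hi; simp
    · by_cases hj : k = j
      · subst hj; simp [hi]
      · simp [hi, hj]
  right_inv x := by
    obtain ⟨⟨a, b⟩, r⟩ := x
    refine Prod.ext (Prod.ext ?_ ?_) ?_
    · simp
    · simp [hij.symm]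
    · funext k
      simp [k.2.1, k.2.2]
  map_mul' f g := rfl

variable {p : ℕ} [hp : Fact p.Prime]

/-- A finite abelian `p`-group is a product of cyclic groups of orders `p ^ e i`, `e i > 0`. -/
theorem exists_pi_zmod_pow (S : Type*) [CommGroup S] [Finite S] (hS : IsPGroup p S) :
    ∃ (ι : Type) (_ : Fintype ι) (e : ι → ℕ), (∀ i, 0 < e i) ∧
      Nonempty (S ≃* ∀ i, Multiplicative (ZMod (p ^ e i))) := by
  classical
  obtain ⟨ι, hι, n, hn, ⟨ψ⟩⟩ := CommGroup.equiv_prod_multiplicative_zmod_of_finite S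
  have hpow : ∀ i, ∃ k, n i = p ^ k := by
    intro i
    have hne : NeZero (n i) := ⟨by have := hn i; omega⟩
    have hfin : Finite (Multiplicative (ZMod (n i))) := inferInstanceAs (Finite (ZMod (n i)))
    have hpi : IsPGroup p (Multiplicative (ZMod (n i))) :=
      hS.of_injective (ψ.symm.toMonoidHom.comp
        (MonoidHom.mulSingle (fun i => Multiplicative (ZMod (n i))) i))
        (ψ.symm.injective.comp
          (Pi.mulSingle_injective (M := fun i => Multiplicative (ZMod (n i))) i))
    obtain ⟨k, hk⟩ := hpi.exists_card_eq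
    refine ⟨k, ?_⟩
    rw [← hk]
    exact (Nat.card_zmod (n i)).symm
  choose e he using hpow
  have hn' : n = fun i => p ^ e i := funext he
  subst hn'
  refine ⟨ι, hι, e, fun i => ?_, ⟨ψ⟩⟩
  rcases Nat.eq_zero_or_pos (e i) with h0 | h0
  · have : 1 < p ^ e i := hn i
    rw [h0, pow_zero] at this
    omega
  · exact h0

/-- A finite abelian `p`-group not of the form `(ℤ/pⁿ)² × H` has the `p'`-automorphism
property. -/
theorem pPrimeAutProp_of_distinct (S : Type*) [CommGroup S] [Finite S] (hS : IsPGroup p S)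
    (hno : ¬ ∃ (n : ℕ) (H : Type) (_ : CommGroup H), 0 < n ∧
      Nonempty (S ≃* (Multiplicative (ZMod (p ^ n)) × Multiplicative (ZMod (p ^ n))) × H)) :
    PPrimeAutProp p S := by
  classical
  obtain ⟨ι, hι, e, he, ⟨ψ⟩⟩ := exists_pi_zmod_pow S hS
  have hinj : Function.Injective e := by
    intro i j hij
    by_contra hne
    apply hno
    refine ⟨e i, ∀ k : {k // k ≠ i ∧ k ≠ j}, Multiplicative (ZMod (p ^ e k)), inferInstance,
      he i, ?_⟩
    have e2 : Multiplicative (ZMod (p ^ e j)) ≃* Multiplicative (ZMod (p ^ e i)) := by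
      rw [hij]
    exact ⟨(ψ.trans (piSplitTwo (fun k => Multiplicative (ZMod (p ^ e k))) hne)).trans
      (MulEquiv.prodCongr (MulEquiv.prodCongr (MulEquiv.refl _) e2) (MulEquiv.refl _))⟩
  apply pPrimeAutProp_of_mulEquiv ψ
  intro H hH
  exact pprime_aut_of_injective (C := fun i => Multiplicative (ZMod (p ^ e i))) (e := e)
    (fun i => Nat.card_zmod (p ^ e i)) hinj H hH

variable {Ω : Type*} [Group Ω] {S : Subgroup Ω} [Finite S]

/-- The supersoluble-type criterion for abelian `S`. -/
theorem abelian_supersoluble_iff (hS : IsPGroup p S) (hab : IsMulCommutative S) :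
    (∀ F : FusionSystem S, F.IsSaturated p →
      ∃ (m : ℕ) (c : Fin (m + 1) → Subgroup Ω), IsSSChain F m c) ↔
    ¬ ∃ (n : ℕ) (H : Type) (_ : CommGroup H), 0 < n ∧
      Nonempty (S ≃* (Multiplicative (ZMod (p ^ n)) × Multiplicative (ZMod (p ^ n))) × H) := by
  have habS : ∀ x ∈ S, ∀ y ∈ S, x * y = y * x := fun x hx y hy =>
    congrArg (fun w : S => (w : Ω)) (hab.is_comm.comm (⟨x, hx⟩ : S) ⟨y, hy⟩)
  constructor
  · rintro hall ⟨n, H, _, hn, ⟨ψ⟩⟩
    have h1 : PPrimeAutProp p S := fun K hK => pprime_aut_of_supersoluble hS hall K hK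
    have h2 : PPrimeAutProp p
        ((Multiplicative (ZMod (p ^ n)) × Multiplicative (ZMod (p ^ n))) × H) :=
      pPrimeAutProp_of_mulEquiv ψ.symm h1
    exact not_pPrimeAutProp_zmod_sq p hn (pPrimeAutProp_of_prod h2)
  · intro hno F hF
    let _ : CommGroup S := { (inferInstance : Group S) with mul_comm := hab.is_comm.comm }
    have h1 : PPrimeAutProp p S := pPrimeAutProp_of_distinct S hS hno
    have hN : F.IsNormal S := by
      apply Cfsg.Agent.Lib.Helper88.isNormal_top_of_extends
      intro P φ hφ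
      obtain ⟨α, hα, h⟩ := Cfsg.Agent.Lib.Helper88.extend_to_aut habS F p hF hφ
      exact ⟨α, hα, fun x hx => (h x hx).symm⟩
    exact supersoluble_of_resistant hS F hF hN h1

end Cfsg.Agent.Lib.Helper87
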