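import Mathlib
import Cfsg.Agent.Lib.Helper87.AltModel
import Cfsg.Agent.Lib.Helper87.AltCrit2
import Cfsg.Agent.Lib.Helper17.AltFA0
import Cfsg.Agent.Lib.Helper17.AltFAo5
import Cfsg.Agent.Lib.Helper30.AltFAFF
import Cfsg.Agent.Lib.Helper30.AltFU3
import Cfsg.Agent.Lib.Helper33.AltFAt1
import Cfsg.Agent.Lib.Helper33.AltFAt2
import Cfsg.Agent.Lib.Helper47.AltFApc
import Cfsg.Agent.Lib.Helper51.AltFAo4
import Cfsg.Agent.Lib.Helper55.AltFGEN
import Cfsg.Agent.Lib.Helper55.AltFT1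
import Cfsg.Agent.Lib.Helper55.AltFU1
import Cfsg.Agent.Lib.Helper55.AltFV3
import Cfsg.Agent.Lib.Helper59.AltFK2
import Cfsg.Agent.Lib.Helper59.AltFN3
import Cfsg.Agent.Lib.Helper59.AltFN4
import Cfsg.Agent.Lib.Helper64.AltFC3
import Cfsg.Agent.Lib.Helper64.AltFN1
import Cfsg.Agent.Lib.Helper64.AltFN2
import Cfsg.Agent.Lib.Helper69.AltFAo2
import Cfsg.Agent.Lib.Helper69.AltFAo3
import Cfsg.Agent.Lib.Helper75.AltFV0
import Cfsg.Agent.Lib.Helper75.AltFV2
import Cfsg.Agent.Lib.Helper75.AltFV4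
import Cfsg.Agent.Lib.Helper80.AltFC0
import Cfsg.Agent.Lib.Helper80.AltFC1
import Cfsg.Agent.Lib.Helper80.AltFC2
import Cfsg.Agent.Lib.Helper80.AltFT2
import Cfsg.Agent.Lib.Helper80.AltFT3
import Cfsg.Agent.Lib.Helper80.AltFU1p

set_option autoImplicit false

/-! # S5165: the `p`-fusion system of `A_n` is simple (`p² ≤ n`, `n mod p ≤ 1`, `n ≥ 6`)

Assembly of the leaves proved by the S5165 hive (helpers 17, 30, 33, 47, 51, 55, 59, 64, 69, 75, 80);
namespace `Cfsg.Agent.Lib.Helper87.AltF`.  Model and notation: `Cfsg/Agent/Lib/Helper87/AltModel.lean`;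
criterion: `Cfsg/Agent/Lib/Helper87/AltCrit.lean`, `AltCrit2.lean`. -/

namespace Cfsg.Agent.Lib.Helper87.AltF

open Equiv Subgroup Cfsg.Agent.Lib.Helper87.AltCrit

/-! ## Part T: transport / relative form of the criterion -/

/-- [T4] the final transport step: the relative hypotheses in `Perm Y` for `A = alternatingGroup Y`
and a maximal `p`-subgroup `S0` of `A` give simplicity of the fusion system of
`alternatingGroup (Fin n)` on every Sylow `p`-subgroup, `n = |Y|`. -/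
theorem isSimple_of_baseHypIn {Y : Type} [Fintype Y] [DecidableEq Y] {p : ℕ} [Fact p.Prime] (n : ℕ)
    (hn : Fintype.card Y = n) (S0 : Subgroup (Perm Y)) (hS0p : IsPGroup p S0)
    (hS0max : ∀ Q' : Subgroup (Perm Y), IsPGroup p Q' → Q' ≤ alternatingGroup Y → S0 ≤ Q' → Q' = S0)
    (h : BaseHypIn p (alternatingGroup Y) S0) (S : Sylow p (alternatingGroup (Fin n))) :
    (Cfsg.groupFusionSystem (S : Subgroup (alternatingGroup (Fin n)))).IsSimple p := by
  obtain ⟨e⟩ := exists_altCongr ((Fintype.equivFinOfCardEq hn) : Y ≃ Fin n)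
  have hSA : S0 ≤ alternatingGroup Y := h.1
  refine isSimple_of_baseHyp_equiv e (S0.subgroupOf (alternatingGroup Y)) ?_ ?_
    (BaseHypIn.subgroupOf h) S
  · exact hS0p.comap_of_injective _ (Subgroup.subtype_injective _)
  · intro Q hQ hle
    have h1 : Q.map (alternatingGroup Y).subtype = S0 := by
      apply hS0max
      · exact hQ.map _
      · rintro _ ⟨x, -, rfl⟩
        exact x.2
      · intro x hx
        exact ⟨⟨x, hSA hx⟩, hle (Subgroup.mem_subgroupOf.mpr hx), rfl⟩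
    rw [← h1]
    ext x
    rw [Subgroup.mem_subgroupOf]
    constructor
    · intro hx
      exact ⟨x, hx, rfl⟩
    · rintro ⟨y, hy, hyx⟩
      have : y = x := Subtype.ext hyx
      exact this ▸ hy

/-! ## Part C: the base group `Bs = ⟨cyc k⟩` (generic index type `I`) -/

/-! ## Part N: `N_A(S0) ≤ N(B)` -/

/-! ## Part U: the multiplier character `uu` on `N(Bs)` -/

/-! ## Part V: the square `Δ`, the regular group `Vg` and the diagonal element `h0 lam` -/

/-! ## Part A: no proper nontrivial strongly closed subgroup -/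

/-! ## Assembly (proved from the leaves) -/

theorem exists_orderOf_of_isPGroup {Ω : Type*} [Group Ω] {p : ℕ} [hp : Fact p.Prime]
    {S0 : Subgroup Ω} (hS0p : IsPGroup p S0) {w : Ω} (hw : w ∈ S0) :
    ∃ k : ℕ, orderOf w = p ^ k := by
  obtain ⟨k, hk⟩ := hS0p ⟨w, hw⟩
  have h1 : w ^ p ^ k = 1 := congrArg Subtype.val hk
  obtain ⟨j, -, hj⟩ := (Nat.dvd_prime_pow hp.out).mp (orderOf_dvd_of_pow_eq_one h1)
  exact ⟨j, hj⟩

/-- [A] no proper nontrivial strongly closed subgroup in a Sylow `p`-subgroup of `Alt(Z)`. -/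
theorem propA_alt (Z : Type) [Fintype Z] [DecidableEq Z] (p : ℕ) [Fact p.Prime]
    (h2 : p = 2 → 6 ≤ Fintype.card Z) (hodd : p ≠ 2 → p + 2 ≤ Fintype.card Z)
    (S0 : Subgroup (Perm Z)) (hS0A : S0 ≤ alternatingGroup Z) (hS0p : IsPGroup p S0)
    (hmax : ∀ Q' : Subgroup (Perm Z), IsPGroup p Q' → Q' ≤ alternatingGroup Z → S0 ≤ Q' → Q' = S0) :
    ∀ T : Subgroup (Perm Z), T ≤ S0 → T ≠ ⊥ →
      (∀ x ∈ T, ∀ g ∈ alternatingGroup Z, g * x * g⁻¹ ∈ S0 → g * x * g⁻¹ ∈ T) → T = S0 := by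
  intro T hT hTne hcl
  obtain ⟨h𝒯, hST⟩ := closedFam_of_stronglyClosed (alternatingGroup Z) S0 T hS0A hS0p hmax hT hcl
  have hne : ∃ y ∈ {y : Perm Z | ∃ g ∈ alternatingGroup Z, ∃ t ∈ T, y = g * t * g⁻¹}, y ≠ 1 := by
    obtain ⟨t, ht1⟩ := (Subgroup.ne_bot_iff_exists_ne_one).mp hTne
    refine ⟨(t : Perm Z), ⟨1, Subgroup.one_mem _, t, t.2, by simp⟩, ?_⟩
    intro h
    exact ht1 (Subtype.ext h)
  have hall : ∀ w ∈ alternatingGroup Z, (∃ k : ℕ, orderOf w = p ^ k) →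
      w ∈ {y : Perm Z | ∃ g ∈ alternatingGroup Z, ∃ t ∈ T, y = g * t * g⁻¹} := by
    by_cases hp : p = 2
    · subst hp
      intro w hw hk
      exact closedFam_twoElement_mem Z _ h𝒯
        (closedFam_two_cycles_mem Z _ h𝒯 (closedFam_dblswap_mem Z (h2 rfl) _ h𝒯 hne)) w hw hk
    · intro w _ hk
      exact closedFam_pElement_mem Z p hp _ h𝒯
        (closedFam_ppow_cycle_mem Z p hp _ h𝒯
          (closedFam_orderP_mem Z p hp _ h𝒯
            (closedFam_pcycle_mem Z p hp (hodd hp) _ h𝒯 hne))) w hk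
  apply le_antisymm hT
  intro w hw
  exact hST w hw (hall w (hS0A hw) (exists_orderOf_of_isPGroup hS0p hw))

/-- [M-odd] the relative hypotheses for `p` odd. -/
theorem baseHypIn_odd (p a0 m' : ℕ) [Fact p.Prime] (hp : p ≠ 2) (ha0 : a0 ≤ 1) :
    ∃ S0 : Subgroup (Perm (Pt p m' a0)), IsPGroup p S0 ∧
      (∀ Q' : Subgroup (Perm (Pt p m' a0)), IsPGroup p Q' → Q' ≤ alternatingGroup (Pt p m' a0) →
        S0 ≤ Q' → Q' = S0) ∧
      BaseHypIn p (alternatingGroup (Pt p m' a0)) S0 := by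
  have hpp : p.Prime := Fact.out
  have hp3 : 3 ≤ p := by
    have := hpp.two_le
    omega
  have hcardI : Fintype.card (Idx p m') = p + m' := by
    simp [Idx, ZMod.card]
  have hcardY : Fintype.card (Pt p m' a0) = (p + m') * p + a0 := by
    simp [Pt, PtI, Idx, ZMod.card]
  obtain ⟨S0, hQS, hS0A, hS0p, hmax⟩ := exists_maximal_pSubgroup (alternatingGroup (Pt p m' a0))
    (Qg p a0 m') (Qg_le_alt p a0 m' hp) (Qg_isPGroup p a0 m')
  have hBQ : Bs (I := Idx p m') p a0 ≤ Qg p a0 m' := le_sup_left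
  have hBS : Bs (I := Idx p m') p a0 ≤ S0 := hBQ.trans hQS
  have hBg : Bg (I := Idx p m') p a0 = Bs (I := Idx p m') p a0 :=
    inf_eq_left.mpr (Bs_le_alt p a0 hp)
  have hBc : ∀ g ∈ alternatingGroup (Pt p m' a0),
      (∀ x ∈ Bs (I := Idx p m') p a0, g * x = x * g) → g ∈ Bs (I := Idx p m') p a0 := by
    intro g hg hx
    have := Bg_centric (I := Idx p m') p a0 (by rw [hcardI]; omega) ha0 g hg (by rw [hBg]; exact hx)
    rwa [hBg] at this
  obtain ⟨lam, hlam⟩ := (IsCyclic.exists_generator : ∃ g : (ZMod p)ˣ, ∀ x, x ∈ Subgroup.zpowers g)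
  refine ⟨S0, hS0p, hmax, hS0A, ?_, ?_, Bs (I := Idx p m') p a0,
    {x : Perm (Pt p m' a0) | x ∈ alternatingGroup (Pt p m' a0) ∧
      x ∈ normalizer ((Bs (I := Idx p m') p a0 : Subgroup (Perm (Pt p m' a0))) :
        Set (Perm (Pt p m' a0))) ∧ ∃ k : ℕ, orderOf x = p ^ k} ∪ {h0 p a0 m' lam},
    hBS, ?_, hBc, ?_, ?_⟩
  · -- `S0 ≠ ⊥`
    intro hbot
    apply Bg_ne_bot (I := Idx p m') p a0 (by rw [hcardI]; omega)
    rw [hBg, eq_bot_iff, ← hbot]
    exact hBS
  · -- no strongly closed subgroups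
    apply propA_alt (Pt p m' a0) p (fun h => absurd h hp) ?_ S0 hS0A hS0p hmax
    intro _
    rw [hcardY]
    nlinarith
  · -- `X ⊆ A`
    rintro x (⟨hxA, -, -⟩ | hx)
    · exact hxA
    · rw [Set.mem_singleton_iff] at hx
      rw [hx]
      have := h0_mem_closure p a0 m' hp lam
      refine (Subgroup.closure_le (alternatingGroup (Pt p m' a0))).mpr ?_ this
      rintro y ⟨hyA, -, -⟩
      exact hyA
  · -- the good elements
    rintro x (⟨hxA, hxN, k, hk⟩ | hx)
    · refine ⟨hxN, Bs (I := Idx p m') p a0, Bs (I := Idx p m') p a0, le_rfl, le_rfl, hBS, hBc,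
        hxN, Subgroup.subset_closure ⟨hxA, hxN, k, hk⟩⟩
    · rw [Set.mem_singleton_iff] at hx
      rw [hx]
      refine ⟨h0_mem_normalizer_Bs p a0 m' lam, Rg p a0 m', Qg p a0 m', Rg_le_Qg p a0 m', hBQ, hQS,
        fun g _ hg => Rg_centric p a0 m' ha0 g hg, h0_mem_normalizer_Qg p a0 m' lam,
        h0_mem_closure p a0 m' hp lam⟩
  · -- generation
    intro n hnA hn
    exact mem_closure_good p a0 m' hp ha0 lam hlam n hnA
      (normalizer_le_of_Bs_le (I := Idx p m') p a0 ha0 S0 hS0p hBS n hn)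

/-- [M-two] the relative hypotheses for `p = 2`. -/
theorem baseHypIn_two (p a0 m' : ℕ) [Fact p.Prime] (hp : p = 2) (ha0 : a0 ≤ 1) (hm' : 1 ≤ m') :
    ∃ S0 : Subgroup (Perm (Pt p m' a0)), IsPGroup p S0 ∧
      (∀ Q' : Subgroup (Perm (Pt p m' a0)), IsPGroup p Q' → Q' ≤ alternatingGroup (Pt p m' a0) →
        S0 ≤ Q' → Q' = S0) ∧
      BaseHypIn p (alternatingGroup (Pt p m' a0)) S0 := by
  have hcardI : Fintype.card (Idx p m') = p + m' := by
    simp [Idx, ZMod.card]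
  have hcardY : Fintype.card (Pt p m' a0) = (p + m') * p + a0 := by
    simp [Pt, PtI, Idx, ZMod.card]
  have hI3 : 3 ≤ Fintype.card (Idx p m') := by rw [hcardI]; omega
  obtain ⟨Shat, S0, hShat, hBShat, hS0, hS0p, hmax⟩ :=
    exists_sylow_two (I := Idx p m') p a0 hp (by omega)
  have hS0A : S0 ≤ alternatingGroup (Pt p m' a0) := by rw [hS0]; exact inf_le_right
  have hBS : Bg (I := Idx p m') p a0 ≤ S0 := by
    rw [hS0]
    exact inf_le_inf_right _ hBShat
  have hBc := Bg_centric (I := Idx p m') p a0 hI3 ha0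
  refine ⟨S0, hS0p, hmax, hS0A, ?_, ?_, Bg (I := Idx p m') p a0,
    {x : Perm (Pt p m' a0) | x ∈ alternatingGroup (Pt p m' a0) ∧
      x ∈ normalizer ((Bg (I := Idx p m') p a0 : Subgroup (Perm (Pt p m' a0))) :
        Set (Perm (Pt p m' a0))) ∧ ∃ k : ℕ, orderOf x = p ^ k},
    hBS, ?_, hBc, ?_, ?_⟩
  · intro hbot
    apply Bg_ne_bot (I := Idx p m') p a0 (by omega)
    rw [eq_bot_iff, ← hbot]
    exact hBS
  · apply propA_alt (Pt p m' a0) p ?_ (fun h => absurd hp h) S0 hS0A hS0p hmax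
    intro _
    rw [hcardY]
    subst hp
    omega
  · rintro x ⟨hxA, -, -⟩
    exact hxA
  · rintro x ⟨hxA, hxN, k, hk⟩
    exact ⟨hxN, Bg (I := Idx p m') p a0, Bg (I := Idx p m') p a0, le_rfl, le_rfl, hBS, hBc, hxN,
      Subgroup.subset_closure ⟨hxA, hxN, k, hk⟩⟩
  · intro n hnA hn
    exact normalizer_Bg_le_closure_two (I := Idx p m') p a0 hp hI3 ha0 n hnA
      (normalizer_le_two (I := Idx p m') p a0 hp hI3 ha0 Shat S0 hShat hBShat hS0 hmax n hnA hn)

/-- **The theorem** (statement of `S5165`). -/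
theorem alt_fusion_simple (n p : ℕ) (hn : 6 ≤ n) [Fact p.Prime] (hnp : p ^ 2 ≤ n) (hb : n % p ≤ 1)
    (S : Sylow p (alternatingGroup (Fin n))) :
    (Cfsg.groupFusionSystem (S : Subgroup (alternatingGroup (Fin n)))).IsSimple p := by
  have hpp : p.Prime := Fact.out
  have hp2 := hpp.two_le
  -- `n = (p + m') * p + a0`
  have hdiv : p ≤ n / p := by
    rw [Nat.le_div_iff_mul_le hpp.pos]
    nlinarith
  obtain ⟨m', hm'⟩ : ∃ m', n / p = p + m' := ⟨n / p - p, by omega⟩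
  have hcard : Fintype.card (Pt p m' (n % p)) = n := by
    have h1 : Fintype.card (Pt p m' (n % p)) = (p + m') * p + n % p := by
      simp [Pt, PtI, Idx, ZMod.card]
    rw [h1, ← hm', mul_comm]
    exact Nat.div_add_mod n p
  by_cases hp : p = 2
  · have h1 : 1 ≤ m' := by
      have h3 : 3 ≤ n / p := by
        rw [Nat.le_div_iff_mul_le hpp.pos]
        subst hp
        omega
      omega
    obtain ⟨S0, hS0p, hmax, h⟩ := baseHypIn_two p (n % p) m' hp hb h1
    exact isSimple_of_baseHypIn n hcard S0 hS0p hmax h S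
  · obtain ⟨S0, hS0p, hmax, h⟩ := baseHypIn_odd p (n % p) m' hp hb
    exact isSimple_of_baseHypIn n hcard S0 hS0p hmax h S

end Cfsg.Agent.Lib.Helper87.AltF
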