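import Mathlib
import Cfsg.Agent.Lib.Helper87.AltModel

set_option autoImplicit false

/-! # S5165: small shared tools for the model (membership in the base group `Bs`) -/

namespace Cfsg.Agent.Lib.Helper87.AltF

open Equiv

/-- powers of the block cycle -/
theorem tl_cyc_pow_inl_self {I : Type} [DecidableEq I] (p a0 : ℕ) (k : I) (n : ℕ) (s : ZMod p) :
    (cyc p a0 k ^ n) (Sum.inl (k, s)) = Sum.inl (k, s + n) := by
  induction n generalizing s with
  | zero => simp
  | succ n ih =>
    rw [pow_succ, Perm.mul_apply, cyc_inl_self, ih]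
    push_cast
    congr 2
    ring

theorem tl_cyc_pow_inl_of_ne {I : Type} [DecidableEq I] (p a0 : ℕ) {j k : I} (h : j ≠ k) (n : ℕ)
    (s : ZMod p) : (cyc p a0 k ^ n) (Sum.inl (j, s)) = Sum.inl (j, s) := by
  induction n with
  | zero => simp
  | succ n ih => rw [pow_succ, Perm.mul_apply, cyc_inl_of_ne p a0 h, ih]

theorem tl_cyc_pow_inr {I : Type} [DecidableEq I] (p a0 : ℕ) (k : I) (n : ℕ) (x : Fin a0) :
    (cyc p a0 k ^ n) (Sum.inr x) = Sum.inr x := by
  induction n with
  | zero => simp
  | succ n ih => rw [pow_succ, Perm.mul_apply, cyc_inr, ih]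

theorem tl_cyc_mem_Bs {I : Type} [DecidableEq I] (p a0 : ℕ) (k : I) :
    cyc p a0 k ∈ Bs (I := I) p a0 :=
  Subgroup.subset_closure ⟨k, rfl⟩

/-- a blockwise translation supported on a finite set of blocks belongs to `Bs` -/
theorem tl_mem_Bs_aux {I : Type} [DecidableEq I] (p a0 : ℕ) [NeZero p] (T : Finset I) :
    ∀ (a : I → ZMod p), (∀ k, k ∉ T → a k = 0) → ∀ b : Perm (PtI I p a0),
      (∀ k s, b (Sum.inl (k, s)) = Sum.inl (k, s + a k)) → (∀ x, b (Sum.inr x) = Sum.inr x) →
      b ∈ Bs (I := I) p a0 := by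
  induction T using Finset.induction_on with
  | empty =>
    intro a ha b h1 h2
    have : b = 1 := by
      ext x
      rcases x with ⟨k, s⟩ | x
      · rw [h1, ha k (Finset.notMem_empty k)]
        simp
      · rw [h2]
        simp
    rw [this]
    exact Subgroup.one_mem _
  | insert k T hk ih =>
    intro a ha b h1 h2
    -- `b = b' * cyc k ^ (a k).val`
    set c := cyc p a0 k ^ (a k).val with hc
    have hb' : b * c⁻¹ ∈ Bs (I := I) p a0 := by
      apply ih (fun j => if j = k then 0 else a j)
      · intro j hj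
        by_cases hjk : j = k
        · simp [hjk]
        · simp only [hjk, if_false]
          apply ha
          simp [hjk, hj]
      · intro j s
        by_cases hjk : j = k
        · subst hjk
          have h3 : c (Sum.inl (j, s - a j)) = Sum.inl (j, s) := by
            rw [hc, tl_cyc_pow_inl_self]
            simp
          have h4 : c⁻¹ (Sum.inl (j, s)) = Sum.inl (j, s - a j) := by
            rw [Perm.inv_eq_iff_eq, h3]
          rw [Perm.mul_apply, h4, h1]
          simp
        · have h3 : c (Sum.inl (j, s)) = Sum.inl (j, s) := by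
            rw [hc, tl_cyc_pow_inl_of_ne p a0 hjk]
          have h4 : c⁻¹ (Sum.inl (j, s)) = Sum.inl (j, s) := by
            rw [Perm.inv_eq_iff_eq, h3]
          rw [Perm.mul_apply, h4, h1]
          simp [hjk]
      · intro x
        have h3 : c (Sum.inr x) = Sum.inr x := by rw [hc, tl_cyc_pow_inr]
        have h4 : c⁻¹ (Sum.inr x) = Sum.inr x := by rw [Perm.inv_eq_iff_eq, h3]
        rw [Perm.mul_apply, h4, h2]
    have hcB : c ∈ Bs (I := I) p a0 := Subgroup.pow_mem _ (tl_cyc_mem_Bs p a0 k) _
    have : b = b * c⁻¹ * c := by group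
    rw [this]
    exact Subgroup.mul_mem _ hb' hcB

/-- [TOOL] converse of `aff_Bs_pointwise`: every blockwise translation fixing the extra points
belongs to `Bs`. -/
theorem mem_Bs_of_pointwise {I : Type} [Fintype I] [DecidableEq I] (p a0 : ℕ) [NeZero p]
    (b : Perm (PtI I p a0)) (a : I → ZMod p)
    (h1 : ∀ k s, b (Sum.inl (k, s)) = Sum.inl (k, s + a k))
    (h2 : ∀ x, b (Sum.inr x) = Sum.inr x) : b ∈ Bs (I := I) p a0 :=
  tl_mem_Bs_aux p a0 Finset.univ a (fun k hk => absurd (Finset.mem_univ k) hk) b h1 h2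

/-- [TOOL] `blk 1 f` with all `f k` translations belongs to `Bs`. -/
theorem blk_addRight_mem_Bs {I : Type} [Fintype I] [DecidableEq I] (p a0 : ℕ) [NeZero p]
    (a : I → ZMod p) :
    blk p a0 1 (fun k => Equiv.addRight (a k)) ∈ Bs (I := I) p a0 :=
  mem_Bs_of_pointwise p a0 _ a (fun _ _ => rfl) (fun _ => rfl)

end Cfsg.Agent.Lib.Helper87.AltF
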