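import Cfsg.Agent.Lib.Helper87.StabilizerCore
import Cfsg.Agent.Lib.Helper84.PCore
import Cfsg.Agent.S5076

/-!
# The fusion system of a central quotient of a group with constrained fusion system
-/

set_option autoImplicit false

namespace Cfsg.Agent.Lib.Helper87

open Cfsg Cfsg.FusionSystem
open scoped commutatorElement

variable {X : Type*} [Group X] [Finite X] {p : ℕ} [Fact p.Prime]

/-- A `p`-element lying in `R Z` (`R` Sylow, `Z` central) lies in `R`. -/
theorem mem_sylow_of_mk_mem (R : Sylow p X) (Z : Subgroup X) [Z.Normal]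
    (hZ : Z ≤ Subgroup.center X) {y : X} (hy : ∃ k : ℕ, y ^ p ^ k = 1)
    (h : QuotientGroup.mk' Z y ∈ (R : Subgroup X).map (QuotientGroup.mk' Z)) :
    y ∈ (R : Subgroup X) := by
  obtain ⟨r, hr, hry⟩ := h
  have hz : r⁻¹ * y ∈ Z := QuotientGroup.eq.mp hry
  have hzc : r⁻¹ * y ∈ Subgroup.center X := hZ hz
  obtain ⟨k, hk⟩ := hy
  obtain ⟨a, ha⟩ := R.isPGroup' ⟨r, hr⟩
  have ha' : r ^ p ^ a = 1 := by
    have := congrArg (fun s : (R : Subgroup X) => (s : X)) ha
    simpa using this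
  -- `z` is a `p`-element
  have hcomm : Commute (r⁻¹) y := by
    have h1 : (r⁻¹ * y) * r = r * (r⁻¹ * y) := (Subgroup.mem_center_iff.mp hzc r).symm
    have h2 : y * r = r * y := by
      calc y * r = r * ((r⁻¹ * y) * r) := by group
        _ = r * (r * (r⁻¹ * y)) := by rw [h1]
        _ = r * y := by group
    have h3 : Commute r y := h2.symm
    exact h3.inv_left
  have hzpow : (r⁻¹ * y) ^ p ^ (a + k) = 1 := by
    rw [hcomm.mul_pow, pow_add, pow_mul, inv_pow, ha', inv_one, one_pow, one_mul, mul_comm,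
      pow_mul, hk, one_pow]
  have hord : ∃ j : ℕ, orderOf (r⁻¹ * y) = p ^ j := by
    have hdvd := orderOf_dvd_of_pow_eq_one hzpow
    obtain ⟨j, -, hj⟩ := (Nat.dvd_prime_pow (Fact.out : p.Prime)).mp hdvd
    exact ⟨j, hj⟩
  obtain ⟨j, hj⟩ := hord
  have hpg : IsPGroup p (Subgroup.zpowers (r⁻¹ * y)) := by
    apply IsPGroup.of_card (n := j)
    rw [Nat.card_zpowers, hj]
  have hnorm : (Subgroup.zpowers (r⁻¹ * y)).Normal := by
    constructor
    intro n hn g
    have hnc : n ∈ Subgroup.center X := by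
      have : Subgroup.zpowers (r⁻¹ * y) ≤ Subgroup.center X := by
        rw [Subgroup.zpowers_le]; exact hzc
      exact this hn
    have : g * n * g⁻¹ = n := by
      have h1 := Subgroup.mem_center_iff.mp hnc g
      calc g * n * g⁻¹ = (n * g) * g⁻¹ := by rw [h1]
        _ = n := by group
    rw [this]
    exact hn
  have hzR : r⁻¹ * y ∈ (R : Subgroup X) :=
    Cfsg.Agent.Lib.Helper84.normal_pGroup_le_sylow hnorm hpg R (Subgroup.mem_zpowers _)
  have : y = r * (r⁻¹ * y) := by group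
  rw [this]
  exact Subgroup.mul_mem _ hr hzR

omit [Finite X] in
theorem conj_pow_eq_one {g x : X} {n : ℕ} (h : x ^ n = 1) : (g * x * g⁻¹) ^ n = 1 := by
  rw [conj_pow, h]; group

/-- The fusion system of `X / Z` (`Z` central) on the image of a Sylow subgroup `R` is constrained
when that of `X` on `R` is. -/
theorem constrained_quotient_central (R : Sylow p X) (Z : Subgroup X) [Z.Normal]
    (hZ : Z ≤ Subgroup.center X)
    (hF : (Cfsg.groupFusionSystem (R : Subgroup X)).IsConstrained p) :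
    (Cfsg.groupFusionSystem ((R : Subgroup X).map (QuotientGroup.mk' Z))).IsConstrained p := by
  have hRp : IsPGroup p (R : Subgroup X) := R.isPGroup'
  obtain ⟨hcore, hcorec, hmax⟩ := core_spec _ hF
  have hFsat := hF.1
  have hQR : (Cfsg.groupFusionSystem (R : Subgroup X)).core ≤ (R : Subgroup X) := hcore.1
  have hsat : (Cfsg.groupFusionSystem ((R : Subgroup X).map (QuotientGroup.mk' Z))).IsSaturated p :=
    Cfsg.Agent.S5076.result p (R.mapSurjective (QuotientGroup.mk'_surjective Z))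
  -- lifting maps
  have key_lift : ∀ (P' : Subgroup (X ⧸ Z)) (φ' : P' →* X ⧸ Z),
      φ' ∈ (Cfsg.groupFusionSystem ((R : Subgroup X).map (QuotientGroup.mk' Z))).Hom P' →
      ∃ g : X, (∀ x ∈ (R : Subgroup X) ⊓ P'.comap (QuotientGroup.mk' Z), g * x * g⁻¹ ∈ (R : Subgroup X)) ∧
        ∀ x' : P', φ' x' = QuotientGroup.mk' Z g * x' * (QuotientGroup.mk' Z g)⁻¹ := by
    rintro P' φ' ⟨-, hval, g', hg'⟩
    obtain ⟨g, rfl⟩ := QuotientGroup.mk'_surjective Z g'
    refine ⟨g, fun x hx => ?_, hg'⟩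
    have h1 := hval ⟨QuotientGroup.mk' Z x, hx.2⟩
    rw [hg'] at h1
    have h2 : QuotientGroup.mk' Z (g * x * g⁻¹) ∈ (R : Subgroup X).map (QuotientGroup.mk' Z) := by
      rw [map_mul, map_mul, map_inv]; exact h1
    obtain ⟨a, ha⟩ := R.isPGroup' ⟨x, hx.1⟩
    have ha' : x ^ p ^ a = 1 := by
      have := congrArg (fun s : (R : Subgroup X) => (s : X)) ha
      simpa using this
    exact mem_sylow_of_mk_mem R Z hZ ⟨a, conj_pow_eq_one ha'⟩ h2
  -- the image of the core is normal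
  have hnormal : (Cfsg.groupFusionSystem ((R : Subgroup X).map (QuotientGroup.mk' Z))).IsNormal
      ((Cfsg.groupFusionSystem (R : Subgroup X)).core.map (QuotientGroup.mk' Z)) := by
    refine ⟨Subgroup.map_mono hQR, fun P' φ' hφ' => ?_⟩
    have hP'R : P' ≤ (R : Subgroup X).map (QuotientGroup.mk' Z) := hφ'.1
    obtain ⟨g, hgR, hgφ⟩ := key_lift P' φ' hφ'
    have hφ : Cfsg.conjHom ((R : Subgroup X) ⊓ P'.comap (QuotientGroup.mk' Z)) g ∈
        (Cfsg.groupFusionSystem (R : Subgroup X)).Hom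
          ((R : Subgroup X) ⊓ P'.comap (QuotientGroup.mk' Z)) :=
      ⟨inf_le_left, fun x => hgR x x.2, g, fun _ => rfl⟩
    obtain ⟨ψ, hψ, hψe, hψQ⟩ := hcore.2 _ _ hφ
    obtain ⟨h1, h2⟩ := (map_subgroupOf_eq_iff ψ).mp hψQ
    obtain ⟨-, hvalψ, h, hh⟩ := hψ
    have hsurj : ∀ y' ∈ P' ⊔ (Cfsg.groupFusionSystem (R : Subgroup X)).core.map (QuotientGroup.mk' Z),
        ∃ y, ∃ hy : y ∈ ((R : Subgroup X) ⊓ P'.comap (QuotientGroup.mk' Z)) ⊔
          (Cfsg.groupFusionSystem (R : Subgroup X)).core, QuotientGroup.mk' Z y = y' := by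
      have hle : P' ⊔ (Cfsg.groupFusionSystem (R : Subgroup X)).core.map (QuotientGroup.mk' Z) ≤
          (((R : Subgroup X) ⊓ P'.comap (QuotientGroup.mk' Z)) ⊔
            (Cfsg.groupFusionSystem (R : Subgroup X)).core).map (QuotientGroup.mk' Z) := by
        rw [Subgroup.map_sup]
        refine sup_le_sup_right ?_ _
        intro x' hx'
        obtain ⟨r, hr, rfl⟩ := hP'R hx'
        exact ⟨r, ⟨hr, hx'⟩, rfl⟩
      intro y' hy'
      obtain ⟨y, hy, hyy'⟩ := hle hy'
      exact ⟨y, hy, hyy'⟩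
    have hconj : ∀ (y : X) (hy : y ∈ ((R : Subgroup X) ⊓ P'.comap (QuotientGroup.mk' Z)) ⊔
          (Cfsg.groupFusionSystem (R : Subgroup X)).core),
        QuotientGroup.mk' Z h * QuotientGroup.mk' Z y * (QuotientGroup.mk' Z h)⁻¹ =
          QuotientGroup.mk' Z (ψ ⟨y, hy⟩) := by
      intro y hy
      rw [hh ⟨y, hy⟩, map_mul, map_mul, map_inv]
    refine ⟨Cfsg.conjHom _ (QuotientGroup.mk' Z h), ?_, ?_, ?_⟩
    · refine ⟨sup_le hP'R (Subgroup.map_mono hQR), fun y' => ?_, _, fun _ => rfl⟩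
      obtain ⟨y, hy, hyy'⟩ := hsurj y' y'.2
      show QuotientGroup.mk' Z h * (y' : X ⧸ Z) * (QuotientGroup.mk' Z h)⁻¹ ∈ _
      rw [← hyy', hconj y hy]
      exact ⟨_, hvalψ _, rfl⟩
    · intro x'
      obtain ⟨r, hr, hrx'⟩ := hP'R x'.2
      have hrP : r ∈ (R : Subgroup X) ⊓ P'.comap (QuotientGroup.mk' Z) := by
        refine ⟨hr, ?_⟩
        show QuotientGroup.mk' Z r ∈ P'
        rw [hrx']; exact x'.2
      show QuotientGroup.mk' Z h * (x' : X ⧸ Z) * (QuotientGroup.mk' Z h)⁻¹ = φ' x'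
      rw [hgφ x', ← hrx', hconj r (le_sup_left (a := (R : Subgroup X) ⊓ P'.comap (QuotientGroup.mk' Z)) hrP)]
      have h3 := hψe ⟨r, hrP⟩
      have h4 : ψ ⟨r, le_sup_left (a := (R : Subgroup X) ⊓ P'.comap (QuotientGroup.mk' Z)) hrP⟩ =
          g * r * g⁻¹ := h3
      rw [h4, map_mul, map_mul, map_inv]
    · rw [map_subgroupOf_eq_iff]
      refine ⟨fun y' hy' => ?_, fun q' hq' => ?_⟩
      · obtain ⟨q, hq, hqy'⟩ := hy'
        show QuotientGroup.mk' Z h * (y' : X ⧸ Z) * (QuotientGroup.mk' Z h)⁻¹ ∈ _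
        rw [← hqy', hconj q (le_sup_right (b := (Cfsg.groupFusionSystem (R : Subgroup X)).core) hq)]
        exact ⟨_, h1 _ hq, rfl⟩
      · obtain ⟨q, hq, rfl⟩ := hq'
        obtain ⟨y, hy, hyq⟩ := h2 q hq
        have hmem : QuotientGroup.mk' Z (y : X) ∈
            (Cfsg.groupFusionSystem (R : Subgroup X)).core.map (QuotientGroup.mk' Z) := ⟨_, hy, rfl⟩
        refine ⟨⟨QuotientGroup.mk' Z (y : X), le_sup_right (a := P') hmem⟩, hmem, ?_⟩
        show QuotientGroup.mk' Z h * QuotientGroup.mk' Z (y : X) * (QuotientGroup.mk' Z h)⁻¹ = _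
        rw [hconj y y.2, ← hyq]
  refine ⟨hsat, _, hnormal, ?_⟩
  -- centricity
  apply isCentric_of_stronglyClosed _ (stronglyClosed_of_isNormal _ hnormal)
  rintro s' ⟨hs'R, hs'c⟩
  obtain ⟨s, hsR, rfl⟩ := hs'R
  suffices hsQ : s ∈ (Cfsg.groupFusionSystem (R : Subgroup X)).core from ⟨s, hsQ, rfl⟩
  have hDle : (R : Subgroup X) ⊓ (Subgroup.centralizer
      (((Cfsg.groupFusionSystem (R : Subgroup X)).core.map (QuotientGroup.mk' Z) : Subgroup (X ⧸ Z)) :
        Set (X ⧸ Z))).comap (QuotientGroup.mk' Z) ≤ (Cfsg.groupFusionSystem (R : Subgroup X)).core := by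
    apply le_core_of_stabilizes hRp _ hFsat hcore hcorec hmax (Z₂ := Z ⊓ (R : Subgroup X))
    · -- `Z ∩ R` strongly closed
      refine ⟨inf_le_right, fun P hP φ hφ x => ?_⟩
      obtain ⟨-, -, g, hg⟩ := hφ
      have hxc : (x : X) ∈ Subgroup.center X := hZ (hP x.2).1
      have : φ x = x := by
        rw [hg x]
        have h1 := Subgroup.mem_center_iff.mp hxc g
        calc g * (x : X) * g⁻¹ = ((x : X) * g) * g⁻¹ := by rw [h1]
          _ = x := by group
      rw [this]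
      exact hP x.2
    · -- `D` strongly closed
      refine ⟨inf_le_left, fun P hP φ hφ x => ?_⟩
      obtain ⟨ψ, hψ, hψe, hψQ⟩ := hcore.2 P φ hφ
      obtain ⟨h1, h2⟩ := (map_subgroupOf_eq_iff ψ).mp hψQ
      obtain ⟨-, hvalψ, h, hh⟩ := hψ
      refine ⟨hφ.2.1 x, ?_⟩
      show QuotientGroup.mk' Z (φ x) ∈ Subgroup.centralizer _
      rw [Subgroup.mem_centralizer_iff]
      rintro _ ⟨q, hq, rfl⟩
      obtain ⟨y, hy, hyq⟩ := h2 q hq
      have hxc := Subgroup.mem_centralizer_iff.mp (hP x.2).2 (QuotientGroup.mk' Z (y : X))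
        ⟨_, hy, rfl⟩
      have e1 : φ x = h * x * h⁻¹ := by
        rw [← hψe x, hh]; rfl
      have e2 : q = h * y * h⁻¹ := by rw [← hyq, hh]
      rw [e1, e2]
      simp only [map_mul, map_inv]
      have hxc' : QuotientGroup.mk' Z (y : X) * QuotientGroup.mk' Z (x : X) =
          QuotientGroup.mk' Z (x : X) * QuotientGroup.mk' Z (y : X) := hxc
      calc QuotientGroup.mk' Z h * QuotientGroup.mk' Z (y : X) * (QuotientGroup.mk' Z h)⁻¹ *
            (QuotientGroup.mk' Z h * QuotientGroup.mk' Z (x : X) * (QuotientGroup.mk' Z h)⁻¹)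
          = QuotientGroup.mk' Z h * (QuotientGroup.mk' Z (y : X) * QuotientGroup.mk' Z (x : X)) *
            (QuotientGroup.mk' Z h)⁻¹ := by group
        _ = QuotientGroup.mk' Z h * (QuotientGroup.mk' Z (x : X) * QuotientGroup.mk' Z (y : X)) *
            (QuotientGroup.mk' Z h)⁻¹ := by rw [hxc']
        _ = _ := by group
    · -- `[Q, D] ≤ Z ∩ R`
      intro q hq c hc
      refine ⟨?_, ?_⟩
      · apply (QuotientGroup.eq_one_iff _).mp
        show QuotientGroup.mk' Z ⁅q, c⁆ = 1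
        rw [map_commutatorElement, commutatorElement_eq_one_iff_mul_comm]
        exact Subgroup.mem_centralizer_iff.mp hc.2 _ ⟨q, hq, rfl⟩
      · rw [commutatorElement_def]
        have hqR := hQR hq
        exact Subgroup.mul_mem _ (Subgroup.mul_mem _ (Subgroup.mul_mem _ hqR hc.1)
          (Subgroup.inv_mem _ hqR)) (Subgroup.inv_mem _ hc.1)
    · -- `[Z ∩ R, D] = 1`
      rw [Subgroup.commutator_eq_bot_iff_le_centralizer]
      intro z hz
      rw [Subgroup.mem_centralizer_iff]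
      intro c _
      exact Subgroup.mem_center_iff.mp (hZ hz.1) c
  exact hDle ⟨hsR, hs'c⟩

end Cfsg.Agent.Lib.Helper87
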