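import Cfsg.Agent.Lib.Helper87.AbelianOmega

/-!
# Products of cyclic `p`-groups of pairwise distinct orders
-/

set_option autoImplicit false

namespace Cfsg.Agent.Lib.Helper87

/-- `Ω₁(V) ∩ ℧^j(V)` for a commutative group `V`. -/
def omegaAgemo (p : ℕ) (V : Type*) [CommGroup V] (j : ℕ) : Subgroup V where
  carrier := {v | v ^ p = 1 ∧ ∃ u, u ^ (p ^ j) = v}
  one_mem' := ⟨one_pow _, 1, one_pow _⟩
  mul_mem' := by
    rintro a b ⟨ha, u, rfl⟩ ⟨hb, w, rfl⟩
    exact ⟨by rw [mul_pow, ha, hb, one_mul], u * w, mul_pow _ _ _⟩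
  inv_mem' := by
    rintro a ⟨ha, u, rfl⟩
    exact ⟨by rw [inv_pow, ha, inv_one], u⁻¹, inv_pow _ _⟩

section basic

variable {p : ℕ} {V : Type*} [CommGroup V]

theorem mem_omegaAgemo {j : ℕ} {v : V} :
    v ∈ omegaAgemo p V j ↔ v ^ p = 1 ∧ ∃ u, u ^ (p ^ j) = v := Iff.rfl

theorem omegaAgemo_char (j : ℕ) (α : MulAut V) {y : V} (hy : y ∈ omegaAgemo p V j) :
    α y ∈ omegaAgemo p V j := by
  obtain ⟨hyp, u, rfl⟩ := hy
  exact ⟨by rw [← map_pow, hyp, map_one], α u, by rw [map_pow]⟩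

theorem omegaAgemo_succ_le (j : ℕ) : omegaAgemo p V (j + 1) ≤ omegaAgemo p V j := by
  rintro v ⟨hvp, u, rfl⟩
  exact ⟨hvp, u ^ p, by rw [← pow_mul, ← pow_succ']⟩

theorem mem_omegaAgemo_zero {x : V} (hx : x ^ p = 1) : x ∈ omegaAgemo p V 0 :=
  ⟨hx, x, by rw [pow_zero, pow_one]⟩

theorem omegaAgemo_eq_bot {E : ℕ} (hE : ∀ u : V, u ^ (p ^ E) = 1) : omegaAgemo p V E = ⊥ := by
  rw [eq_bot_iff]
  rintro v ⟨-, u, rfl⟩
  rw [Subgroup.mem_bot]
  exact hE u

end basic

section cyclic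

variable {p : ℕ} [hp : Fact p.Prime]

/-- In a cyclic group of order `p ^ e`, an element killed by `p ^ k` is a `p ^ (e - k)`-th power. -/
theorem cyclic_exists_root {C : Type*} [CommGroup C] [IsCyclic C] {e : ℕ}
    (hcard : Nat.card C = p ^ e) {k : ℕ} (hk : k ≤ e) (u : C) (hu : u ^ (p ^ k) = 1) :
    ∃ t : C, t ^ (p ^ (e - k)) = u := by
  obtain ⟨g, hg⟩ := IsCyclic.exists_generator (α := C)
  have hord : orderOf g = p ^ e := (orderOf_eq_card_of_forall_mem_zpowers hg).trans hcard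
  obtain ⟨z, rfl⟩ := Subgroup.mem_zpowers_iff.mp (hg u)
  have h1 : g ^ (z * (p ^ k : ℕ)) = 1 := by
    rw [zpow_mul, zpow_natCast]; exact hu
  have h2 : ((orderOf g : ℕ) : ℤ) ∣ z * (p ^ k : ℕ) := orderOf_dvd_iff_zpow_eq_one.mpr h1
  rw [hord] at h2
  have h3 : ((p ^ e : ℕ) : ℤ) = ((p ^ (e - k) : ℕ) : ℤ) * ((p ^ k : ℕ) : ℤ) := by
    rw [← Nat.cast_mul, ← pow_add, Nat.sub_add_cancel hk]
  rw [h3] at h2
  have hne : ((p ^ k : ℕ) : ℤ) ≠ 0 := by
    exact_mod_cast (pow_pos hp.out.pos k).ne'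
  obtain ⟨z', hz'⟩ := Int.dvd_of_mul_dvd_mul_right hne h2
  refine ⟨g ^ z', ?_⟩
  rw [← zpow_natCast, ← zpow_mul, hz', mul_comm]

theorem cyclic_pow_eq_one_of_le {C : Type*} [Group C] {e : ℕ}
    (hcard : Nat.card C = p ^ e) {j : ℕ} (hj : e ≤ j) (u : C) : u ^ (p ^ j) = 1 := by
  have hfin : Finite C := Nat.finite_of_card_ne_zero (by rw [hcard]; exact (pow_pos hp.out.pos e).ne')
  have h1 : u ^ (p ^ e) = 1 := by rw [← hcard]; exact pow_card_eq_one'
  have h2 : orderOf u ∣ p ^ j := (orderOf_dvd_of_pow_eq_one h1).trans (pow_dvd_pow p hj)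
  exact orderOf_dvd_iff_pow_eq_one.mp h2

/-- The root extraction used in the cyclic step of the flag. -/
theorem cyclic_root_step {C : Type*} [CommGroup C] [IsCyclic C] {e : ℕ}
    (hcard : Nat.card C = p ^ e) {j : ℕ} (hne : e ≠ j + 1) (u : C)
    (hu : (u ^ (p ^ j)) ^ p = 1) : ∃ t : C, t ^ (p ^ (j + 1)) = u ^ (p ^ j) := by
  rcases Nat.lt_or_ge j e with hlt | hge
  · have hk : j + 1 ≤ e := hlt
    have hu' : u ^ (p ^ (j + 1)) = 1 := by rw [pow_succ, pow_mul]; exact hu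
    obtain ⟨t', ht'⟩ := cyclic_exists_root hcard hk u hu'
    refine ⟨t' ^ (p ^ (e - j - 2)), ?_⟩
    rw [← ht', ← pow_mul, ← pow_mul, ← pow_add, ← pow_add]
    congr 2
    omega
  · exact ⟨1, by rw [one_pow, cyclic_pow_eq_one_of_le hcard hge u]⟩

end cyclic

section product

variable {p : ℕ} [hp : Fact p.Prime] {ι : Type} [Fintype ι] [DecidableEq ι] {C : ι → Type}
  [∀ i, CommGroup (C i)] [∀ i, IsCyclic (C i)] {e : ι → ℕ}

/-- The cyclic step of the flag `Ω₁ ∩ ℧^j` in a product of cyclic `p`-groups of distinct orders. -/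
theorem omegaAgemo_step (hcard : ∀ i, Nat.card (C i) = p ^ e i) (hinj : Function.Injective e)
    (j : ℕ) : ∃ x : (∀ i, C i),
      omegaAgemo p (∀ i, C i) j = omegaAgemo p (∀ i, C i) (j + 1) ⊔ Subgroup.zpowers x := by
  by_cases h : ∃ i₀, e i₀ = j + 1
  · obtain ⟨i₀, hi₀⟩ := h
    obtain ⟨g, hg⟩ := IsCyclic.exists_generator (α := C i₀)
    have hgp : g ^ (p ^ (j + 1)) = 1 := cyclic_pow_eq_one_of_le (hcard i₀) hi₀.le g
    refine ⟨Pi.mulSingle i₀ (g ^ (p ^ j)), le_antisymm ?_ ?_⟩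
    · rintro v ⟨hvp, u, rfl⟩
      have hroot : ∀ i, i ≠ i₀ → ∃ t : C i, t ^ (p ^ (j + 1)) = (u i) ^ (p ^ j) := by
        intro i hi
        refine cyclic_root_step (hcard i) (fun h => hi (hinj (h.trans hi₀.symm))) (u i) ?_
        have := congrFun hvp i
        simpa using this
      choose t ht using hroot
      let z : ∀ i, C i := fun i => if h : i = i₀ then 1 else t i h
      have hw : z ^ (p ^ (j + 1)) ∈ omegaAgemo p (∀ i, C i) (j + 1) := by
        refine ⟨?_, z, rfl⟩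
        funext i
        by_cases hi : i = i₀
        · simp [z, hi]
        · have h1 : z i = t i hi := by simp [z, hi]
          have h2 := congrFun hvp i
          simp only [Pi.pow_apply, Pi.one_apply] at h2 ⊢
          rw [h1, ht i hi]
          exact h2
      obtain ⟨k, hk⟩ := Subgroup.mem_zpowers_iff.mp (hg (u i₀))
      have hv : u ^ (p ^ j) = z ^ (p ^ (j + 1)) * (Pi.mulSingle i₀ (g ^ (p ^ j))) ^ k := by
        funext i
        by_cases hi : i = i₀
        · subst hi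
          have h1 : z i = 1 := by simp [z]
          simp only [Pi.mul_apply, Pi.pow_apply, h1, one_pow, one_mul]
          rw [Pi.mulSingle_eq_same, ← hk, ← zpow_natCast, ← zpow_natCast,
            ← zpow_mul, ← zpow_mul, mul_comm]
        · have h1 : z i = t i hi := by simp [z, hi]
          simp only [Pi.mul_apply, Pi.pow_apply]
          rw [h1, ht i hi, Pi.mulSingle_eq_of_ne hi, one_zpow, mul_one]
      rw [hv]
      exact Subgroup.mul_mem_sup hw (Subgroup.zpow_mem _ (Subgroup.mem_zpowers _) k)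
    · refine sup_le (omegaAgemo_succ_le j) (Subgroup.zpowers_le.mpr ⟨?_, Pi.mulSingle i₀ g, ?_⟩)
      · rw [← Pi.mulSingle_pow, ← pow_mul, ← pow_succ, hgp, Pi.mulSingle_one]
      · rw [← Pi.mulSingle_pow]
  · push Not at h
    refine ⟨1, ?_⟩
    rw [Subgroup.zpowers_one_eq_bot, sup_bot_eq]
    refine le_antisymm ?_ (omegaAgemo_succ_le j)
    rintro v ⟨hvp, u, rfl⟩
    have hroot : ∀ i, ∃ t : C i, t ^ (p ^ (j + 1)) = (u i) ^ (p ^ j) := by
      intro i
      refine cyclic_root_step (hcard i) (h i) (u i) ?_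
      have := congrFun hvp i
      simpa using this
    choose t ht using hroot
    refine ⟨hvp, t, ?_⟩
    funext i
    exact ht i

/-- In a product of cyclic `p`-groups of pairwise distinct orders, `p'`-groups of automorphisms are
abelian of exponent dividing `p - 1`. -/
theorem pprime_aut_of_injective (hcard : ∀ i, Nat.card (C i) = p ^ e i)
    (hinj : Function.Injective e) (H : Subgroup (MulAut (∀ i, C i)))
    (hH : (Nat.card H).Coprime p) : IsMulCommutative H ∧ ∀ h ∈ H, h ^ (p - 1) = 1 := by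
  have hfin : ∀ i, Finite (C i) := fun i =>
    Nat.finite_of_card_ne_zero (by rw [hcard i]; exact (pow_pos hp.out.pos _).ne')
  have hE : ∀ u : (∀ i, C i), u ^ (p ^ (∑ i, e i)) = 1 := by
    intro u
    funext i
    exact cyclic_pow_eq_one_of_le (hcard i)
      (Finset.single_le_sum (f := e) (fun _ _ => Nat.zero_le _) (Finset.mem_univ i)) (u i)
  have hV : IsPGroup p (∀ i, C i) := fun u => ⟨_, hE u⟩
  exact pprime_aut_of_omega_flag hV (omegaAgemo p (∀ i, C i)) (∑ i, e i)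
    (fun x hx => mem_omegaAgemo_zero hx) (omegaAgemo_eq_bot hE)
    (fun j α y hy => omegaAgemo_char j α hy) (fun j _ => omegaAgemo_step hcard hinj j) H hH

end product

end Cfsg.Agent.Lib.Helper87
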