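import Mathlib

/-!
# Common eigenvectors for commuting operators of exponent dividing `p - 1` over `ZMod p`
-/

set_option autoImplicit false

namespace Cfsg.Agent.Lib.Helper87

open Polynomial

variable {p : ℕ} [hp : Fact p.Prime]

/-- An operator with `g ^ (p - 1) = 1` on a nonzero finite-dimensional `ZMod p`-space has an
eigenvector. -/
theorem exists_eigenvector_of_pow_pred {U : Type*} [AddCommGroup U] [Module (ZMod p) U]
    [Module.Finite (ZMod p) U] [Nontrivial U] (g : Module.End (ZMod p) U)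
    (hg : g ^ (p - 1) = 1) : ∃ (μ : ZMod p) (v : U), v ≠ 0 ∧ g v = μ • v := by
  have hint : IsIntegral (ZMod p) g := Algebra.IsIntegral.isIntegral g
  have h1 : minpoly (ZMod p) g ∣ (X ^ (p - 1) - 1 : (ZMod p)[X]) := by
    apply minpoly.dvd
    simp [hg]
  have hp1 : p - 1 + 1 = p := Nat.sub_add_cancel hp.out.one_lt.le
  have h2 : (X ^ (p - 1) - 1 : (ZMod p)[X]) ∣ X ^ p - X := by
    refine ⟨X, ?_⟩
    rw [sub_mul, one_mul, ← pow_succ, hp1]
  have hne : (X ^ p - X : (ZMod p)[X]) ≠ 0 := FiniteField.X_pow_card_sub_X_ne_zero _ hp.out.one_lt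
  have hsplit : Splits (minpoly (ZMod p) g) :=
    (GaloisField.splits_zmod_X_pow_sub_X p).of_dvd hne (h1.trans h2)
  have hdeg : degree (minpoly (ZMod p) g) ≠ 0 := (minpoly.degree_pos hint).ne'
  obtain ⟨μ, hμ⟩ := hsplit.exists_eval_eq_zero hdeg
  have hev : g.HasEigenvalue μ := Module.End.hasEigenvalue_of_isRoot hμ
  obtain ⟨v, hv⟩ := hev.exists_hasEigenvector
  exact ⟨μ, v, hv.2, Module.End.mem_eigenspace_iff.mp hv.1⟩

/-- Simultaneous version on an invariant subspace. -/
theorem exists_common_eigenspace {A : Type*} [AddCommGroup A] [Module (ZMod p) A]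
    [Module.Finite (ZMod p) A] (𝓗 : Set (Module.End (ZMod p) A))
    (hcomm : ∀ f ∈ 𝓗, ∀ g ∈ 𝓗, f * g = g * f) (hpow : ∀ f ∈ 𝓗, f ^ (p - 1) = 1)
    (T : Finset (Module.End (ZMod p) A)) (hT : (T : Set (Module.End (ZMod p) A)) ⊆ 𝓗)
    (W : Submodule (ZMod p) A) (hW : W ≠ ⊥) (hWinv : ∀ f ∈ 𝓗, ∀ x ∈ W, f x ∈ W) :
    ∃ W' : Submodule (ZMod p) A, W' ≤ W ∧ W' ≠ ⊥ ∧ (∀ f ∈ 𝓗, ∀ x ∈ W', f x ∈ W') ∧
      ∀ f ∈ T, ∃ μ : ZMod p, ∀ x ∈ W', f x = μ • x := by
  classical
  induction T using Finset.induction_on with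
  | empty => exact ⟨W, le_rfl, hW, hWinv, fun f hf => absurd hf (Finset.notMem_empty f)⟩
  | insert f T hfT ih =>
    have hf𝓗 : f ∈ 𝓗 := hT (Finset.mem_insert_self f T)
    obtain ⟨W', hW'W, hW'ne, hW'inv, hW'T⟩ :=
      ih (fun x hx => hT (Finset.mem_insert_of_mem hx))
    have hnt : Nontrivial W' := (Submodule.nontrivial_iff_ne_bot).mpr hW'ne
    have hgpow : (f.restrict (hW'inv f hf𝓗)) ^ (p - 1) = 1 := by
      rw [Module.End.pow_restrict]
      ext x
      simp [hpow f hf𝓗]
    obtain ⟨μ, v, hv0, hv⟩ := exists_eigenvector_of_pow_pred (f.restrict (hW'inv f hf𝓗)) hgpow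
    have hv' : f (v : A) = μ • (v : A) := by
      have := congrArg (fun z : W' => (z : A)) hv
      simpa using this
    refine ⟨W' ⊓ Module.End.eigenspace f μ, inf_le_left.trans hW'W, ?_, ?_, ?_⟩
    · intro h
      have hmem : (v : A) ∈ W' ⊓ Module.End.eigenspace f μ :=
        ⟨v.2, Module.End.mem_eigenspace_iff.mpr hv'⟩
      rw [h, Submodule.mem_bot] at hmem
      exact hv0 (Subtype.ext hmem)
    · intro g hg x hx
      refine ⟨hW'inv g hg x hx.1, ?_⟩
      show g x ∈ Module.End.eigenspace f μ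
      rw [Module.End.mem_eigenspace_iff]
      have h1 : f (g x) = g (f x) := by
        have := congrArg (fun e : Module.End (ZMod p) A => e x) (hcomm f hf𝓗 g hg)
        simpa using this
      rw [h1, Module.End.mem_eigenspace_iff.mp hx.2, map_smul]
    · intro g hg
      rcases Finset.mem_insert.mp hg with rfl | hgT
      · exact ⟨μ, fun x hx => Module.End.mem_eigenspace_iff.mp hx.2⟩
      · obtain ⟨ν, hν⟩ := hW'T g hgT
        exact ⟨ν, fun x hx => hν x hx.1⟩

/-- Additive form of the common eigenvector statement. -/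
theorem exists_common_eigenvector_add {A : Type*} [AddCommGroup A] [Module (ZMod p) A] [Finite A]
    [Nontrivial A] {Hg : Type*} [Finite Hg] (f : Hg → Module.End (ZMod p) A)
    (hcomm : ∀ a b : Hg, f a * f b = f b * f a) (hpow : ∀ a : Hg, f a ^ (p - 1) = 1) :
    ∃ x : A, x ≠ 0 ∧ ∀ a : Hg, ∃ k : ℕ, f a x = k • x := by
  have hcomm' : ∀ g ∈ Set.range f, ∀ h ∈ Set.range f, g * h = h * g := by
    rintro _ ⟨a, rfl⟩ _ ⟨b, rfl⟩
    exact hcomm a b
  have hpow' : ∀ g ∈ Set.range f, g ^ (p - 1) = 1 := by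
    rintro _ ⟨a, rfl⟩
    exact hpow a
  have hfin : Module.Finite (ZMod p) A := Module.Finite.of_finite
  obtain ⟨W', -, hne, -, hsc⟩ := exists_common_eigenspace (Set.range f) hcomm' hpow'
    (Set.finite_range f).toFinset (by simp) ⊤ top_ne_bot (fun _ _ _ _ => Submodule.mem_top)
  obtain ⟨x, hxW, hx0⟩ := Submodule.exists_mem_ne_zero_of_ne_bot hne
  refine ⟨x, hx0, fun a => ?_⟩
  obtain ⟨μ, hμ⟩ := hsc (f a) (by simp)
  refine ⟨μ.val, ?_⟩
  rw [hμ x hxW]
  conv_lhs => rw [← ZMod.natCast_zmod_val μ]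
  exact Nat.cast_smul_eq_nsmul (ZMod p) μ.val x

/-- Version for additive endomorphisms of a `ZMod p`-module. -/
theorem exists_common_eigenvector_addHom {A : Type*} [AddCommGroup A] [Module (ZMod p) A]
    [Finite A] [Nontrivial A] {Hg : Type*} [Finite Hg] (f : Hg → (A →+ A))
    (hcomm : ∀ (a b : Hg) (x : A), f a (f b x) = f b (f a x))
    (hpow : ∀ (a : Hg) (x : A), (f a)^[p - 1] x = x) :
    ∃ x : A, x ≠ 0 ∧ ∀ a : Hg, ∃ k : ℕ, f a x = k • x := by
  have hiter : ∀ (a : Hg) (n : ℕ) (x : A),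
      ((AddMonoidHom.toZModLinearMap p (f a) : Module.End (ZMod p) A) ^ n) x = (f a)^[n] x := by
    intro a n
    induction n with
    | zero => intro x; simp
    | succ n ih =>
      intro x
      rw [pow_succ, Module.End.mul_apply, ih, Function.iterate_succ_apply]
      rfl
  obtain ⟨x, hx0, hx⟩ := exists_common_eigenvector_add
    (fun a => (AddMonoidHom.toZModLinearMap p (f a) : Module.End (ZMod p) A))
    (fun a b => by
      ext x
      exact hcomm a b x)
    (fun a => by
      ext x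
      rw [hiter, hpow]
      rfl)
  exact ⟨x, hx0, fun a => hx a⟩

/-- Version without a chosen module structure. -/
theorem exists_common_eigenvector_addHom' {A : Type*} [AddCommGroup A] (hA : ∀ x : A, p • x = 0)
    [Finite A] [Nontrivial A] {Hg : Type*} [Finite Hg] (f : Hg → (A →+ A))
    (hcomm : ∀ (a b : Hg) (x : A), f a (f b x) = f b (f a x))
    (hpow : ∀ (a : Hg) (x : A), (f a)^[p - 1] x = x) :
    ∃ x : A, x ≠ 0 ∧ ∀ a : Hg, ∃ k : ℕ, f a x = k • x :=
  @exists_common_eigenvector_addHom p hp A _ (AddCommGroup.zmodModule hA) _ _ Hg _ f hcomm hpow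

/-- A commuting family of automorphisms of exponent dividing `p - 1` of a nontrivial elementary
abelian `p`-group leaves some subgroup of order `p` invariant. -/
theorem exists_invariant_zpowers {V : Type*} [CommGroup V] [Finite V] [Nontrivial V]
    (hV : ∀ v : V, v ^ p = 1) {Hg : Type*} [Group Hg] [Finite Hg] (ρ : Hg →* MulAut V)
    (hcomm : ∀ a b : Hg, ρ a * ρ b = ρ b * ρ a) (hpow : ∀ a : Hg, ρ a ^ (p - 1) = 1) :
    ∃ v : V, v ≠ 1 ∧ ∀ a : Hg, ρ a v ∈ Subgroup.zpowers v := by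
  have hA : ∀ x : Additive V, p • x = 0 := fun x => by
    show Additive.ofMul (x.toMul ^ p) = 0
    rw [hV]; rfl
  let f : Hg → (Additive V →+ Additive V) := fun a => MonoidHom.toAdditive (ρ a).toMonoidHom
  have hf : ∀ (a : Hg) (x : Additive V), f a x = Additive.ofMul (ρ a x.toMul) := fun a x => rfl
  have hfiter : ∀ (a : Hg) (n : ℕ) (x : Additive V),
      (f a)^[n] x = Additive.ofMul ((ρ a ^ n) x.toMul) := by
    intro a n
    induction n with
    | zero => intro x; simp
    | succ n ih =>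
      intro x
      rw [Function.iterate_succ_apply, ih, hf, pow_succ]
      rfl
  obtain ⟨x, hx0, hx⟩ := exists_common_eigenvector_addHom' hA f
    (fun a b x => by
      rw [hf, hf, hf, hf]
      have := congrArg (fun e : MulAut V => e x.toMul) (hcomm a b)
      exact congrArg Additive.ofMul this)
    (fun a x => by
      rw [hfiter, hpow a]
      rfl)
  refine ⟨x.toMul, fun h => hx0 (by rw [← ofMul_toMul x, h]; rfl), fun a => ?_⟩
  obtain ⟨k, hk⟩ := hx a
  rw [hf] at hk
  have h3 : ρ a x.toMul = x.toMul ^ k := by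
    have := congrArg Additive.toMul hk
    simpa using this
  rw [h3]
  exact Subgroup.pow_mem _ (Subgroup.mem_zpowers _) _

end Cfsg.Agent.Lib.Helper87
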