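import Cfsg.Agent.Lib.Helper87.EssentialTI
import Cfsg.Agent.Lib.Helper87.AbelianIndexP
import Cfsg.Agent.Lib.Helper87.Inner

set_option autoImplicit false
open Cfsg Cfsg.FusionSystem

namespace Cfsg.Agent.Lib.Helper87

variable {Ω : Type*} [Group Ω] {S : Subgroup Ω}

/-- Elements of `Aut_S(P)` preserve every normal subgroup of `P` contained in `A`. -/
theorem aip_autS_preserves [Finite S] {p : ℕ} [Fact p.Prime] (hS : IsPGroup p S) {A P : Subgroup Ω}
    (hAS : A ≤ S) (hAc : ∀ a ∈ A, ∀ b ∈ A, a * b = b * a) (hAi : (A.subgroupOf S).index = p)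
    {x : Ω} (hxP : x ∈ P) (hxS : x ∈ S) (hxA : x ∉ A)
    (N : Subgroup P) [hN : N.Normal] (hNA : N ≤ A.subgroupOf P)
    {c : MulAut P} (hc : c ∈ autInducedBy S P) {y : P} (hy : y ∈ N) : c y ∈ N := by
  obtain ⟨s, hs, hcs⟩ := (mem_autInducedBy_iff S P c).mp hc
  obtain ⟨k, a, ha, rfl⟩ := aip_exists_zpow hS hAS hAi hxS hxA hs
  have hyA : (y : Ω) ∈ A := Subgroup.mem_subgroupOf.mp (hNA hy)
  have h1 : c y = (⟨x, hxP⟩ : P) ^ k * y * ((⟨x, hxP⟩ : P) ^ k)⁻¹ := by
    apply Subtype.ext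
    rw [hcs]
    have e : a * (y : Ω) * a⁻¹ = y := by
      rw [hAc a ha _ hyA]; group
    calc x ^ k * a * (y : Ω) * (x ^ k * a)⁻¹ = x ^ k * (a * (y : Ω) * a⁻¹) * (x ^ k)⁻¹ := by group
      _ = x ^ k * (y : Ω) * (x ^ k)⁻¹ := by rw [e]
      _ = _ := by simp
  rw [h1]
  exact hN.conj_mem y hy _

theorem aip_autS_preserves_iff [Finite S] {p : ℕ} [Fact p.Prime] (hS : IsPGroup p S)
    {A P : Subgroup Ω}
    (hAS : A ≤ S) (hAc : ∀ a ∈ A, ∀ b ∈ A, a * b = b * a) (hAi : (A.subgroupOf S).index = p)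
    {x : Ω} (hxP : x ∈ P) (hxS : x ∈ S) (hxA : x ∉ A)
    (N : Subgroup P) [hN : N.Normal] (hNA : N ≤ A.subgroupOf P)
    {c : MulAut P} (hc : c ∈ autInducedBy S P) (y : P) : c y ∈ N ↔ y ∈ N := by
  constructor
  · intro h
    have h2 := aip_autS_preserves hS hAS hAc hAi hxP hxS hxA N hNA
      ((autInducedBy S P).inv_mem hc) h
    have e : c⁻¹ (c y) = y := by
      show c.symm (c y) = y
      simp
    rwa [e] at h2
  · exact aip_autS_preserves hS hAS hAc hAi hxP hxS hxA N hNA hc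


/-- `|P : P ∩ A| = p` when `P ≤ S` is not contained in `A`. -/
theorem aip_relIndex [Finite S] {p : ℕ} [Fact p.Prime] (hS : IsPGroup p S) {A P : Subgroup Ω}
    (hAS : A ≤ S) (hAi : (A.subgroupOf S).index = p) (hPS : P ≤ S)
    {x : Ω} (hxP : x ∈ P) (hxA : x ∉ A) : A.relIndex P = p := by
  haveI hn := aip_normal hS hAi
  have hxS : x ∈ S := hPS hxP
  have htop : P.subgroupOf S ⊔ A.subgroupOf S = ⊤ := by
    rw [eq_top_iff]
    rintro ⟨s, hs⟩ -
    obtain ⟨k, a, ha, rfl⟩ := aip_exists_zpow hS hAS hAi hxS hxA hs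
    have h1 : (⟨x ^ k, S.zpow_mem hxS k⟩ : S) ∈ P.subgroupOf S :=
      Subgroup.mem_subgroupOf.mpr (P.zpow_mem hxP k)
    have h2 : (⟨a, hAS ha⟩ : S) ∈ A.subgroupOf S := Subgroup.mem_subgroupOf.mpr ha
    have h3 := Subgroup.mul_mem_sup h1 h2
    exact h3
  have h1 := Subgroup.relIndex_sup_right (H := P.subgroupOf S) (K := A.subgroupOf S)
  rw [htop, Subgroup.relIndex_top_right, hAi, Subgroup.relIndex_subgroupOf hPS] at h1
  exact h1.symm


set_option maxHeartbeats 1600000 in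
/-- Core of Oliver's lemma on essential subgroups not contained in the abelian subgroup `A` of
index `p`. -/
theorem aip_core [Finite S] {p : ℕ} [hp : Fact p.Prime] (hS : IsPGroup p S) (F : FusionSystem S)
    (hF : F.IsSaturated p) {A P : Subgroup Ω}
    (hAS : A ≤ S) (hAc : ∀ a ∈ A, ∀ b ∈ A, a * b = b * a) (hAi : (A.subgroupOf S).index = p)
    (hP : F.IsEssential p P) {x : Ω} (hxP : x ∈ P) (hxA : x ∉ A) :
    (P.subgroupOf (A ⊓ Subgroup.normalizer (P : Set Ω))).index = p ∧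
    ∃ R' : Subgroup P, (∀ y ∈ R', (y : Ω) ∈ A) ∧ (∀ y ∈ R', ∀ s ∈ S, (y : Ω) * s = s * y) ∧
      (∀ y z : P, y * z * y⁻¹ * z⁻¹ ∈ R') ∧ R'.relIndex (A.subgroupOf P) = p := by
  have hPS : P ≤ S := hP.2.1.1
  have hxS : x ∈ S := hPS hxP
  have hfinP : Finite P := finite_of_le hPS
  have hcen : centralizerIn S P ≤ P := hP.1.2 P (isConj_refl F hPS)
  have hPne : P ≠ S := Cfsg.Agent.Lib.Helper88.essential_ne_top hS F hF hP
  obtain ⟨α, hα, hTI⟩ := essential_TI hS F hF hP
  have eα : ∀ y : P, α (α⁻¹ y) = y := fun y => by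
    show α (α.symm y) = y
    simp
  have eα' : ∀ y : P, α⁻¹ (α y) = y := fun y => by
    show α.symm (α y) = y
    simp
  have hP0n : (A.subgroupOf P).Normal := ⟨fun y hy g => by
    apply Subgroup.mem_subgroupOf.mpr
    have := aip_conj_mem hS hAS hAi (hPS g.2) (Subgroup.mem_subgroupOf.mp hy)
    simpa using this⟩
  have hP0αn : ((A.subgroupOf P).comap (α⁻¹).toMonoidHom).Normal := hP0n.comap _
  obtain ⟨R', hR'def⟩ : ∃ R' : Subgroup P,
      R' = A.subgroupOf P ⊓ (A.subgroupOf P).comap (α⁻¹).toMonoidHom := ⟨_, rfl⟩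
  have hR'n : R'.Normal := by
    rw [hR'def]; infer_instance
  have hR'P0 : R' ≤ A.subgroupOf P := by
    rw [hR'def]; exact inf_le_left
  have hR'mem : ∀ y : P, y ∈ R' ↔ (y : Ω) ∈ A ∧ ((α⁻¹ y : P) : Ω) ∈ A := by
    intro y
    rw [hR'def]
    exact Iff.rfl
  have hR''n : (R'.comap α.toMonoidHom).Normal := hR'n.comap _
  have hR''P0 : R'.comap α.toMonoidHom ≤ A.subgroupOf P := by
    intro y hy
    have h1 : α y ∈ R' := hy
    have h2 := ((hR'mem (α y)).mp h1).2
    rw [eα'] at h2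
    exact Subgroup.mem_subgroupOf.mpr h2
  obtain ⟨R, hRdef⟩ : ∃ R : Subgroup Ω, R = R'.map P.subtype := ⟨_, rfl⟩
  have hRmem : ∀ y : P, (y : Ω) ∈ R ↔ y ∈ R' := by
    intro y
    rw [hRdef]
    constructor
    · rintro ⟨z, hz, hzy⟩
      have : z = y := Subtype.ext hzy
      rwa [← this]
    · intro hy; exact ⟨y, hy, rfl⟩
  have hRP : ∀ r ∈ R, ∃ hr : r ∈ P, (⟨r, hr⟩ : P) ∈ R' := by
    intro r hr
    rw [hRdef] at hr
    obtain ⟨z, hz, rfl⟩ := hr
    exact ⟨z.2, hz⟩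
  have hTle : autInducedBy S P ≤ F.autGroup P := autInducedBy_le_autGroup F hPS
  have hXp : IsPGroup p ↥(chainStab P R ⊓ F.autGroup P) :=
    (chainStab_isPGroup (R := R) (hS.to_le hPS)).to_le inf_le_left
  have hN1 : ∀ c ∈ autInducedBy S P, ∀ φ ∈ chainStab P R ⊓ F.autGroup P,
      c * φ * c⁻¹ ∈ chainStab P R ⊓ F.autGroup P := by
    intro c hc φ hφ
    refine ⟨conj_mem_chainStab ?_ hφ.1, ?_⟩
    · intro y
      rw [hRmem, hRmem]
      haveI := hR'n
      exact aip_autS_preserves_iff hS hAS hAc hAi hxP hxS hxA R' hR'P0 hc y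
    · exact (F.autGroup P).mul_mem ((F.autGroup P).mul_mem (hTle hc) hφ.2)
        ((F.autGroup P).inv_mem (hTle hc))
  have hN2 : ∀ c ∈ autInducedBy S P, ∀ φ ∈ chainStab P R ⊓ F.autGroup P,
      (α * c * α⁻¹) * φ * (α * c * α⁻¹)⁻¹ ∈ chainStab P R ⊓ F.autGroup P := by
    intro c hc φ hφ
    have hcA : α * c * α⁻¹ ∈ F.autGroup P :=
      (F.autGroup P).mul_mem ((F.autGroup P).mul_mem hα (hTle hc)) ((F.autGroup P).inv_mem hα)
    refine ⟨conj_mem_chainStab ?_ hφ.1, ?_⟩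
    · intro y
      rw [hRmem, hRmem]
      show α (c (α⁻¹ y)) ∈ R' ↔ y ∈ R'
      haveI := hR''n
      have h1 := aip_autS_preserves_iff hS hAS hAc hAi hxP hxS hxA (R'.comap α.toMonoidHom)
        hR''P0 hc (α⁻¹ y)
      have h2 : (c (α⁻¹ y) ∈ R'.comap α.toMonoidHom) ↔ α (c (α⁻¹ y)) ∈ R' := Iff.rfl
      have h3 : (α⁻¹ y ∈ R'.comap α.toMonoidHom) ↔ α (α⁻¹ y) ∈ R' := Iff.rfl
      rw [h2, h3, eα] at h1
      exact h1
    · exact (F.autGroup P).mul_mem ((F.autGroup P).mul_mem hcA hφ.2) ((F.autGroup P).inv_mem hcA)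
  have hinner := hTI (chainStab P R ⊓ F.autGroup P) inf_le_right hXp hN1 hN2
  -- Claim II
  have claimII : ∀ a ∈ A, a ∈ Subgroup.normalizer (P : Set Ω) → a * x * a⁻¹ * x⁻¹ ∈ R → a ∈ P := by
    intro a ha haN hax
    have hcS : conjAut P a haN ∈ autInducedBy S P := conjAut_mem_autInducedBy (hAS ha) haN
    have hstab : conjAut P a haN ∈ chainStab P R := by
      refine ⟨fun y hy => ?_, fun y => ?_⟩
      · apply Subtype.ext
        rw [conjAut_coe]
        have hyA : (y : Ω) ∈ A := ((hR'mem y).mp ((hRmem y).mp hy)).1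
        rw [hAc a ha _ hyA]; group
      · -- subgroup argument
        let D : Subgroup P :=
          { carrier := {y | conjAut P a haN y * y⁻¹ ∈ R'}
            one_mem' := by
              show conjAut P a haN 1 * 1⁻¹ ∈ R'
              rw [map_one, inv_one, mul_one]; exact R'.one_mem
            mul_mem' := by
              intro y z hy hz
              show conjAut P a haN (y * z) * (y * z)⁻¹ ∈ R'
              have e : conjAut P a haN (y * z) * (y * z)⁻¹ =
                  (conjAut P a haN y * y⁻¹) * (y * (conjAut P a haN z * z⁻¹) * y⁻¹) := by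
                rw [map_mul]; group
              rw [e]
              exact R'.mul_mem hy (hR'n.conj_mem _ hz y)
            inv_mem' := by
              intro y hy
              show conjAut P a haN y⁻¹ * y⁻¹⁻¹ ∈ R'
              have e : conjAut P a haN y⁻¹ * y⁻¹⁻¹ =
                  y⁻¹ * (conjAut P a haN y * y⁻¹)⁻¹ * y⁻¹⁻¹ := by
                rw [map_inv]; group
              rw [e]
              exact hR'n.conj_mem _ (R'.inv_mem hy) y⁻¹ }
        have hxD : (⟨x, hxP⟩ : P) ∈ D := by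
          show conjAut P a haN ⟨x, hxP⟩ * (⟨x, hxP⟩ : P)⁻¹ ∈ R'
          rw [← hRmem]
          exact hax
        have hall : ∀ y : P, y ∈ D := by
          intro y
          obtain ⟨k, b, hb, hyb⟩ := aip_exists_zpow hS hAS hAi hxS hxA (hPS y.2)
          have hbP : b ∈ P := by
            have e : b = (x ^ k)⁻¹ * (y : Ω) := by rw [hyb]; group
            rw [e]
            exact P.mul_mem (P.inv_mem (P.zpow_mem hxP k)) y.2
          have hbD : (⟨b, hbP⟩ : P) ∈ D := by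
            show conjAut P a haN ⟨b, hbP⟩ * (⟨b, hbP⟩ : P)⁻¹ ∈ R'
            have e : conjAut P a haN ⟨b, hbP⟩ = ⟨b, hbP⟩ := by
              apply Subtype.ext
              rw [conjAut_coe]
              show a * b * a⁻¹ = b
              rw [hAc a ha b hb]; group
            rw [e, mul_inv_cancel]
            exact R'.one_mem
          have e : y = (⟨x, hxP⟩ : P) ^ k * ⟨b, hbP⟩ := by
            apply Subtype.ext
            rw [hyb]
            simp
          rw [e]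
          exact D.mul_mem (D.zpow_mem hxD k) hbD
        have := hall y
        exact (hRmem _).mpr this
    obtain ⟨g, hg⟩ := hinner _ ⟨hstab, hTle hcS⟩
    have hcent : (g : Ω)⁻¹ * a ∈ centralizerIn S P := by
      refine ⟨S.mul_mem (S.inv_mem (hPS g.2)) (hAS ha), Subgroup.mem_centralizer_iff.mpr ?_⟩
      intro y hy
      have h4 := congrArg Subtype.val (hg ⟨y, hy⟩)
      rw [conjAut_coe] at h4
      have h5 : a * y * a⁻¹ = (g : Ω) * y * (g : Ω)⁻¹ := by
        simpa using h4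
      have h6 : y = (g : Ω)⁻¹ * (a * y * a⁻¹) * g := by
        rw [h5]; group
      calc y * ((g : Ω)⁻¹ * a) = (g : Ω)⁻¹ * (a * y * a⁻¹) * g * ((g : Ω)⁻¹ * a) := by rw [← h6]
        _ = (g : Ω)⁻¹ * a * y := by group
    have hmem := hcen hcent
    have e : a = (g : Ω) * ((g : Ω)⁻¹ * a) := by group
    rw [e]
    exact P.mul_mem g.2 hmem
  -- the commutator homomorphism on `Y = N_A(P)`
  have hfx : ∀ a : ↥(A ⊓ Subgroup.normalizer (P : Set Ω)), (a : Ω) * x * (a : Ω)⁻¹ * x⁻¹ ∈ P := by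
    intro a
    have h1 : (a : Ω) * x * (a : Ω)⁻¹ ∈ P := (Subgroup.mem_normalizer_iff.mp a.2.2 x).mp hxP
    exact P.mul_mem h1 (P.inv_mem hxP)
  let f : ↥(A ⊓ Subgroup.normalizer (P : Set Ω)) →* P :=
    { toFun := fun a => ⟨(a : Ω) * x * (a : Ω)⁻¹ * x⁻¹, hfx a⟩
      map_one' := by
        apply Subtype.ext
        show ((1 : ↥(A ⊓ Subgroup.normalizer (P : Set Ω))) : Ω) * x *
          ((1 : ↥(A ⊓ Subgroup.normalizer (P : Set Ω))) : Ω)⁻¹ * x⁻¹ = 1
        simp
      map_mul' := fun a b => by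
        apply Subtype.ext
        exact aip_comm_mul hS hAS hAc hAi hxS a.2.1 b.2.1 }
  have hfval : ∀ a, ((f a : P) : Ω) = (a : Ω) * x * (a : Ω)⁻¹ * x⁻¹ := fun a => rfl
  have hKle : R'.comap f ≤ P.subgroupOf (A ⊓ Subgroup.normalizer (P : Set Ω)) := by
    intro a ha
    apply Subgroup.mem_subgroupOf.mpr
    have h1 : f a ∈ R' := ha
    have h2 : ((f a : P) : Ω) ∈ R := (hRmem _).mpr h1
    rw [hfval] at h2
    exact claimII a a.2.1 a.2.2 h2
  have hfinY : Finite ↥(A ⊓ Subgroup.normalizer (P : Set Ω)) := finite_of_le (inf_le_left.trans hAS)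
  have hYp : IsPGroup p ↥(A ⊓ Subgroup.normalizer (P : Set Ω)) := hS.to_le (inf_le_left.trans hAS)
  have hrange : f.range ≤ A.subgroupOf P := by
    rintro _ ⟨a, rfl⟩
    apply Subgroup.mem_subgroupOf.mpr
    rw [hfval]
    exact aip_comm_mem hS hAS hAi hxS a.2.1
  have hP0idx : (A.subgroupOf P).index = p := aip_relIndex hS hAS hAi hPS hxP hxA
  have hP0αidx : ((A.subgroupOf P).comap (α⁻¹).toMonoidHom).index = p := by
    rw [Subgroup.index_comap_of_surjective, hP0idx]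
    exact (α⁻¹).surjective
  have hrel1 : R'.relIndex (A.subgroupOf P) ≤ p := by
    have h4 : R'.relIndex (A.subgroupOf P) =
        ((A.subgroupOf P).comap (α⁻¹).toMonoidHom).relIndex (A.subgroupOf P) := by
      rw [hR'def, Subgroup.inf_relIndex_left]
    rw [h4]
    have h5 := Subgroup.relIndex_le_of_le_right (H := (A.subgroupOf P).comap (α⁻¹).toMonoidHom)
      (le_top : A.subgroupOf P ≤ ⊤) (by
        rw [Subgroup.relIndex_top_right, hP0αidx]; exact hp.out.ne_zero)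
    rwa [Subgroup.relIndex_top_right, hP0αidx] at h5
  have hKidx : (R'.comap f).index ≤ p := by
    rw [Subgroup.index_comap]
    refine le_trans (Subgroup.relIndex_le_of_le_right hrange ?_) hrel1
    exact Subgroup.index_ne_zero_of_finite
  have hidx_le : (P.subgroupOf (A ⊓ Subgroup.normalizer (P : Set Ω))).index ≤ p := by
    refine le_trans (Nat.le_of_dvd ?_ (Subgroup.index_dvd_of_le hKle)) hKidx
    exact Nat.pos_of_ne_zero Subgroup.index_ne_zero_of_finite
  -- there is an element of `N_A(P)` outside `P`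
  have hexY : ∃ a ∈ A ⊓ Subgroup.normalizer (P : Set Ω), a ∉ P := by
    by_contra hcon
    push Not at hcon
    have hlt := card_lt_card_normalizerIn hS hPS hPne
    have hle : normalizerIn S P ≤ P := by
      intro n hn
      obtain ⟨k, a, ha, rfl⟩ := aip_exists_zpow hS hAS hAi hxS hxA hn.1
      have hxkN : x ^ k ∈ Subgroup.normalizer (P : Set Ω) :=
        Subgroup.le_normalizer (P.zpow_mem hxP k)
      have haN : a ∈ Subgroup.normalizer (P : Set Ω) := by
        have e : a = (x ^ k)⁻¹ * (x ^ k * a) := by group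
        rw [e]
        exact (Subgroup.normalizer (P : Set Ω)).mul_mem
          ((Subgroup.normalizer (P : Set Ω)).inv_mem hxkN) hn.2
      exact P.mul_mem (P.zpow_mem hxP k) (hcon a ⟨ha, haN⟩)
    have hfinN : Finite (normalizerIn S P) := finite_of_le (normalizerIn_le S P)
    exact absurd (Subgroup.card_le_of_le hle) (not_le.mpr hlt)
  have hidx : (P.subgroupOf (A ⊓ Subgroup.normalizer (P : Set Ω))).index = p := by
    obtain ⟨n, hn⟩ := hYp.index (P.subgroupOf (A ⊓ Subgroup.normalizer (P : Set Ω)))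
    rcases n with _ | _ | n
    · exfalso
      rw [pow_zero, Subgroup.index_eq_one, Subgroup.subgroupOf_eq_top] at hn
      obtain ⟨a, ha, haP⟩ := hexY
      exact haP (hn ha)
    · rw [hn]; simp
    · exfalso
      rw [hn] at hidx_le
      have h1 : p ^ 2 ≤ p ^ (n + 1 + 1) := Nat.pow_le_pow_right hp.out.pos (by omega)
      have h2 : p < p ^ 2 := by
        have := hp.out.one_lt
        nlinarith
      omega
  refine ⟨hidx, R', fun y hy => ((hR'mem y).mp hy).1, ?_, ?_, ?_⟩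
  · -- R' central in S
    obtain ⟨a, ha, haP⟩ := hexY
    have hnle : ¬ A.subgroupOf P ≤ (A.subgroupOf P).comap (α⁻¹).toMonoidHom := by
      intro hle
      have hR'eq : R' = A.subgroupOf P := by
        rw [hR'def]; exact inf_eq_left.mpr hle
      apply haP
      refine claimII a ha.1 ha.2 ?_
      have hm : a * x * a⁻¹ * x⁻¹ ∈ P := hfx ⟨a, ha⟩
      have : (⟨a * x * a⁻¹ * x⁻¹, hm⟩ : P) ∈ R' := by
        rw [hR'eq]
        exact Subgroup.mem_subgroupOf.mpr (aip_comm_mem hS hAS hAi hxS ha.1)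
      exact (hRmem ⟨_, hm⟩).mpr this
    have hnle2 : ¬ (A.subgroupOf P).comap (α⁻¹).toMonoidHom ≤ A.subgroupOf P := by
      intro hle
      have h1 := Subgroup.relIndex_mul_index hle
      rw [hP0idx, hP0αidx] at h1
      have h2 : ((A.subgroupOf P).comap (α⁻¹).toMonoidHom).relIndex (A.subgroupOf P) = 1 := by
        have hp0 := hp.out.pos
        nlinarith
      exact hnle (Subgroup.relIndex_eq_one.mp h2)
    obtain ⟨w, hw1, hw2⟩ := SetLike.not_le_iff_exists.mp hnle2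
    have hw1' : ((α⁻¹ w : P) : Ω) ∈ A := hw1
    have hw2' : (w : Ω) ∉ A := fun h => hw2 (Subgroup.mem_subgroupOf.mpr h)
    intro y hy s hs
    obtain ⟨hyA, hyα⟩ := (hR'mem y).mp hy
    have hcomm : y * w = w * y := by
      have h1 : (α⁻¹ y : P) * α⁻¹ w = α⁻¹ w * α⁻¹ y := Subtype.ext (hAc _ hyα _ hw1')
      have h2 := congrArg α h1
      rw [map_mul, map_mul, eα, eα] at h2
      exact h2
    have hcomm' : (y : Ω) * w = w * y := congrArg Subtype.val hcomm
    exact aip_central_of_commute hS hAS hAc hAi (hPS w.2) hw2' hyA hcomm' s hs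
  · intro y z
    rw [hR'mem]
    constructor
    · exact aip_commutator_mem hS hAS hAi (hPS y.2) (hPS z.2)
    · have e : α⁻¹ (y * z * y⁻¹ * z⁻¹) = α⁻¹ y * α⁻¹ z * (α⁻¹ y)⁻¹ * (α⁻¹ z)⁻¹ := by
        rw [map_mul, map_mul, map_mul, map_inv, map_inv]
      rw [e]
      exact aip_commutator_mem hS hAS hAi (hPS (α⁻¹ y).2) (hPS (α⁻¹ z).2)
  · -- relIndex = p
    obtain ⟨a, ha, haP⟩ := hexY
    have hne1 : R'.relIndex (A.subgroupOf P) ≠ 1 := by
      intro h1
      have hle := Subgroup.relIndex_eq_one.mp h1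
      apply haP
      refine claimII a ha.1 ha.2 ?_
      have hm : a * x * a⁻¹ * x⁻¹ ∈ P := hfx ⟨a, ha⟩
      have : (⟨a * x * a⁻¹ * x⁻¹, hm⟩ : P) ∈ R' :=
        hle (Subgroup.mem_subgroupOf.mpr (aip_comm_mem hS hAS hAi hxS ha.1))
      exact (hRmem ⟨_, hm⟩).mpr this
    have hP0p : IsPGroup p ↥(A.subgroupOf P) := (hS.to_le hPS).to_subgroup _
    obtain ⟨n, hn⟩ := hP0p.index (R'.subgroupOf (A.subgroupOf P))
    have hn' : R'.relIndex (A.subgroupOf P) = p ^ n := hn
    rcases n with _ | _ | n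
    · exact absurd (by rw [hn', pow_zero]) hne1
    · rw [hn']; simp
    · exfalso
      rw [hn'] at hrel1
      have h1 : p ^ 2 ≤ p ^ (n + 1 + 1) := Nat.pow_le_pow_right hp.out.pos (by omega)
      have h2 : p < p ^ 2 := by
        have := hp.out.one_lt
        nlinarith
      omega


theorem mem_of_conjAut_inner {P : Subgroup Ω} (hPS : P ≤ S) (hcen : centralizerIn S P ≤ P) {a : Ω}
    (ha : a ∈ S) (haN : a ∈ Subgroup.normalizer (P : Set Ω)) (g : P)
    (hg : ∀ y : P, conjAut P a haN y = g * y * g⁻¹) : a ∈ P := by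
  have hcent : (g : Ω)⁻¹ * a ∈ centralizerIn S P := by
    refine ⟨S.mul_mem (S.inv_mem (hPS g.2)) ha, Subgroup.mem_centralizer_iff.mpr ?_⟩
    intro y hy
    have h4 := congrArg Subtype.val (hg ⟨y, hy⟩)
    rw [conjAut_coe] at h4
    have h5 : a * y * a⁻¹ = (g : Ω) * y * (g : Ω)⁻¹ := by
      simpa using h4
    have h6 : y = (g : Ω)⁻¹ * (a * y * a⁻¹) * g := by
      rw [h5]; group
    calc y * ((g : Ω)⁻¹ * a) = (g : Ω)⁻¹ * (a * y * a⁻¹) * g * ((g : Ω)⁻¹ * a) := by rw [← h6]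
      _ = (g : Ω)⁻¹ * a * y := by group
  have hmem := hcen hcent
  have e : a = (g : Ω) * ((g : Ω)⁻¹ * a) := by group
  rw [e]
  exact P.mul_mem g.2 hmem

/-- If an automorphism `c` of `P` fixes `P ∩ A` pointwise and moves `x` inside its coset of a normal
subgroup `N`, then it moves every element inside its coset of `N`. -/
theorem aip_coset_of_gen [Finite S] {p : ℕ} [Fact p.Prime] (hS : IsPGroup p S) {A P : Subgroup Ω}
    (hAS : A ≤ S) (hAi : (A.subgroupOf S).index = p) (hPS : P ≤ S)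
    {x : Ω} (hxP : x ∈ P) (hxA : x ∉ A) (N : Subgroup P) [hN : N.Normal] (c : MulAut P)
    (hcb : ∀ b : P, (b : Ω) ∈ A → c b = b) (hcx : c ⟨x, hxP⟩ * (⟨x, hxP⟩ : P)⁻¹ ∈ N) (y : P) :
    c y * y⁻¹ ∈ N := by
  have hxS : x ∈ S := hPS hxP
  let D : Subgroup P :=
    { carrier := {y | c y * y⁻¹ ∈ N}
      one_mem' := by
        show c 1 * 1⁻¹ ∈ N
        rw [map_one, inv_one, mul_one]; exact N.one_mem
      mul_mem' := by
        intro y z hy hz
        show c (y * z) * (y * z)⁻¹ ∈ N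
        have e : c (y * z) * (y * z)⁻¹ = (c y * y⁻¹) * (y * (c z * z⁻¹) * y⁻¹) := by
          rw [map_mul]; group
        rw [e]
        exact N.mul_mem hy (hN.conj_mem _ hz y)
      inv_mem' := by
        intro y hy
        show c y⁻¹ * y⁻¹⁻¹ ∈ N
        have e : c y⁻¹ * y⁻¹⁻¹ = y⁻¹ * (c y * y⁻¹)⁻¹ * y⁻¹⁻¹ := by
          rw [map_inv]; group
        rw [e]
        exact hN.conj_mem _ (N.inv_mem hy) y⁻¹ }
  have hxD : (⟨x, hxP⟩ : P) ∈ D := hcx
  obtain ⟨k, b, hb, hyb⟩ := aip_exists_zpow hS hAS hAi hxS hxA (hPS y.2)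
  have hbP : b ∈ P := by
    have e : b = (x ^ k)⁻¹ * (y : Ω) := by rw [hyb]; group
    rw [e]
    exact P.mul_mem (P.inv_mem (P.zpow_mem hxP k)) y.2
  have hbD : (⟨b, hbP⟩ : P) ∈ D := by
    show c ⟨b, hbP⟩ * (⟨b, hbP⟩ : P)⁻¹ ∈ N
    rw [hcb ⟨b, hbP⟩ hb, mul_inv_cancel]
    exact N.one_mem
  have e : y = (⟨x, hxP⟩ : P) ^ k * ⟨b, hbP⟩ := by
    apply Subtype.ext
    rw [hyb]
    simp
  have : y ∈ D := by
    rw [e]
    exact D.mul_mem (D.zpow_mem hxD k) hbD
  exact this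

/-- Every element of `P` is a power of `x` times an element of `P ∩ A`. -/
theorem aip_decomp [Finite S] {p : ℕ} [Fact p.Prime] (hS : IsPGroup p S) {A P : Subgroup Ω}
    (hAS : A ≤ S) (hAi : (A.subgroupOf S).index = p) (hPS : P ≤ S)
    {x : Ω} (hxP : x ∈ P) (hxA : x ∉ A) {y : Ω} (hy : y ∈ P) :
    ∃ (k : ℤ) (b : Ω), b ∈ A ∧ b ∈ P ∧ y = x ^ k * b := by
  obtain ⟨k, b, hb, hyb⟩ := aip_exists_zpow hS hAS hAi (hPS hxP) hxA (hPS hy)
  refine ⟨k, b, hb, ?_, hyb⟩
  have e : b = (x ^ k)⁻¹ * y := by rw [hyb]; group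
  rw [e]
  exact P.mul_mem (P.inv_mem (P.zpow_mem hxP k)) hy

end Cfsg.Agent.Lib.Helper87
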