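import Cfsg.Agent.Lib.Helper87.EssentialIndexP

set_option autoImplicit false
open Cfsg Cfsg.FusionSystem

namespace Cfsg.Agent.Lib.Helper87

variable {Ω : Type*} [Group Ω] {S : Subgroup Ω}

/-- The centre of `P` as a subgroup of the ambient group. -/
def centerOf (P : Subgroup Ω) : Subgroup Ω := (Subgroup.center P).map P.subtype

theorem mem_centerOf_iff {P : Subgroup Ω} (y : P) : (y : Ω) ∈ centerOf P ↔ y ∈ Subgroup.center P := by
  constructor
  · rintro ⟨z, hz, hzy⟩
    have : z = y := Subtype.ext hzy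
    rwa [← this]
  · intro hy; exact ⟨y, hy, rfl⟩

theorem aut_preserves_center {P : Subgroup Ω} (c : MulAut P) (y : P) :
    ((c y : P) : Ω) ∈ centerOf P ↔ (y : Ω) ∈ centerOf P := by
  rw [mem_centerOf_iff, mem_centerOf_iff]
  have e : ∀ u : P, c (c⁻¹ u) = u := fun u => by
    show c (c.symm u) = u
    simp
  have e' : ∀ u : P, c⁻¹ (c u) = u := fun u => by
    show c.symm (c u) = u
    simp
  constructor
  · intro h
    rw [Subgroup.mem_center_iff] at h ⊢
    intro g
    have h1 := h (c g)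
    rw [← map_mul, ← map_mul] at h1
    exact c.injective h1
  · intro h
    rw [Subgroup.mem_center_iff] at h ⊢
    intro g
    have h1 := h (c⁻¹ g)
    have h2 := congrArg c h1
    rw [map_mul, map_mul, e] at h2
    exact h2

/-- Key step: for a nonabelian essential subgroup `P = (P ∩ A)⟨x⟩`, an element `a ∈ A` whose
commutator with `x` is central in `S` lies in `P`. -/
theorem aip_mem_of_comm_central [Finite S] {p : ℕ} [hp : Fact p.Prime] (hS : IsPGroup p S)
    (F : FusionSystem S) (hF : F.IsSaturated p) {A P : Subgroup Ω}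
    (hAS : A ≤ S) (hAc : ∀ a ∈ A, ∀ b ∈ A, a * b = b * a) (hAi : (A.subgroupOf S).index = p)
    (hP : F.IsEssential p P) {x : Ω} (hxP : x ∈ P) (hxA : x ∉ A)
    (hPna : ∃ y ∈ P, ∃ z ∈ P, y * z ≠ z * y) {a : Ω} (ha : a ∈ A)
    (hz : ∀ s ∈ S, (a * x * a⁻¹ * x⁻¹) * s = s * (a * x * a⁻¹ * x⁻¹)) : a ∈ P := by
  have hPS : P ≤ S := hP.2.1.1
  have hxS : x ∈ S := hPS hxP
  have hfinP : Finite P := finite_of_le hPS
  have hcen : centralizerIn S P ≤ P := hP.1.2 P (isConj_refl F hPS)
  obtain ⟨α, hα, hTI⟩ := essential_TI hS F hF hP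
  have hzS : a * x * a⁻¹ * x⁻¹ ∈ S :=
    S.mul_mem (S.mul_mem (S.mul_mem (hAS ha) hxS) (S.inv_mem (hAS ha))) (S.inv_mem hxS)
  have hzP : a * x * a⁻¹ * x⁻¹ ∈ P := by
    apply hcen
    refine ⟨hzS, Subgroup.mem_centralizer_iff.mpr fun y hy => (hz y (hPS hy)).symm⟩
  have haxP : a * x * a⁻¹ ∈ P := by
    have e : a * x * a⁻¹ = (a * x * a⁻¹ * x⁻¹) * x := by group
    rw [e]
    exact P.mul_mem hzP hxP
  have haN : a ∈ Subgroup.normalizer (P : Set Ω) := by
    apply Cfsg.Agent.Lib.Helper88.mem_normalizer_of_conj_mem_finite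
    intro y hy
    obtain ⟨k, b, hb, hbP, rfl⟩ := aip_decomp hS hAS hAi hPS hxP hxA hy
    have e : a * (x ^ k * b) * a⁻¹ = (a * x * a⁻¹) ^ k * (a * b * a⁻¹) := by
      rw [conj_zpow]; group
    have e2 : a * b * a⁻¹ = b := by
      rw [hAc a ha b hb]; group
    rw [e, e2]
    exact P.mul_mem (P.zpow_mem haxP k) hbP
  -- centre of `P` lies in `A`
  have hZPA : ∀ y : P, y ∈ Subgroup.center P → (y : Ω) ∈ A := by
    intro y hy
    have hAc' : ∀ a ∈ P ⊓ A, ∀ b ∈ P ⊓ A, a * b = b * a := fun a ha b hb => hAc a ha.2 b hb.2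
    have hidx : ((P ⊓ A).subgroupOf P).index = p := by
      rw [Subgroup.inf_subgroupOf_left]
      exact aip_relIndex hS hAS hAi hPS hxP hxA
    have h1 := aip_center_le (S := P) (A := P ⊓ A) (hS.to_le hPS) inf_le_left hAc' hidx hPna y.2
      (fun s hs => by
        have := Subgroup.mem_center_iff.mp hy ⟨s, hs⟩
        exact (congrArg Subtype.val this).symm)
    exact h1.2
  have hcS : conjAut P a haN ∈ autInducedBy S P := conjAut_mem_autInducedBy (hAS ha) haN
  have hTle : autInducedBy S P ≤ F.autGroup P := autInducedBy_le_autGroup F hPS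
  have hstab : conjAut P a haN ∈ chainStab P (centerOf P) := by
    have hfix : ∀ b : P, (b : Ω) ∈ A → conjAut P a haN b = b := by
      intro b hb
      apply Subtype.ext
      rw [conjAut_coe, hAc a ha _ hb]; group
    refine ⟨fun y hy => ?_, fun y => ?_⟩
    · exact hfix y (hZPA y ((mem_centerOf_iff y).mp hy))
    · haveI : (Subgroup.center P).Normal := inferInstance
      have hcx : conjAut P a haN ⟨x, hxP⟩ * (⟨x, hxP⟩ : P)⁻¹ ∈ Subgroup.center P := by
        rw [Subgroup.mem_center_iff]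
        intro g
        apply Subtype.ext
        exact (hz g (hPS g.2)).symm
      have := aip_coset_of_gen hS hAS hAi hPS hxP hxA (Subgroup.center P) (conjAut P a haN) hfix hcx y
      exact (mem_centerOf_iff _).mpr this
  have hXp : IsPGroup p ↥(chainStab P (centerOf P) ⊓ F.autGroup P) :=
    (chainStab_isPGroup (R := centerOf P) (hS.to_le hPS)).to_le inf_le_left
  have hN : ∀ c ∈ F.autGroup P, ∀ φ ∈ chainStab P (centerOf P) ⊓ F.autGroup P,
      c * φ * c⁻¹ ∈ chainStab P (centerOf P) ⊓ F.autGroup P := by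
    intro c hc φ hφ
    exact ⟨conj_mem_chainStab (aut_preserves_center c) hφ.1,
      (F.autGroup P).mul_mem ((F.autGroup P).mul_mem hc hφ.2) ((F.autGroup P).inv_mem hc)⟩
  obtain ⟨g, hg⟩ := hTI (chainStab P (centerOf P) ⊓ F.autGroup P) inf_le_right hXp
    (fun c hc => hN c (hTle hc))
    (fun c hc => hN _ ((F.autGroup P).mul_mem ((F.autGroup P).mul_mem hα (hTle hc))
      ((F.autGroup P).inv_mem hα)))
    _ ⟨hstab, hTle hcS⟩
  exact mem_of_conjAut_inner hPS hcen (hAS ha) haN g hg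

end Cfsg.Agent.Lib.Helper87
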