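import Cfsg.Agent.Lib.Helper87.AbelianIndexP3

set_option autoImplicit false
open Cfsg Cfsg.FusionSystem

namespace Cfsg.Agent.Lib.Helper87

variable {Ω : Type*} [Group Ω] {S : Subgroup Ω}

/-- If `a ∈ A` conjugates `x` into `P = (P ∩ A)⟨x⟩` then `a` normalizes `P`. -/
theorem aip_normalizes [Finite S] {p : ℕ} [Fact p.Prime] (hS : IsPGroup p S) {A P : Subgroup Ω}
    (hAS : A ≤ S) (hAc : ∀ a ∈ A, ∀ b ∈ A, a * b = b * a) (hAi : (A.subgroupOf S).index = p)
    (hPS : P ≤ S) {x : Ω} (hxP : x ∈ P) (hxA : x ∉ A) {a : Ω} (ha : a ∈ A)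
    (haxP : a * x * a⁻¹ ∈ P) : a ∈ Subgroup.normalizer (P : Set Ω) := by
  have hfinP : Finite P := finite_of_le hPS
  apply Cfsg.Agent.Lib.Helper88.mem_normalizer_of_conj_mem_finite
  intro y hy
  obtain ⟨k, b, hb, hbP, rfl⟩ := aip_decomp hS hAS hAi hPS hxP hxA hy
  have e : a * (x ^ k * b) * a⁻¹ = (a * x * a⁻¹) ^ k * (a * b * a⁻¹) := by
    rw [conj_zpow]; group
  have e2 : a * b * a⁻¹ = b := by
    rw [hAc a ha b hb]; group
  rw [e, e2]
  exact P.mul_mem (P.zpow_mem haxP k) hbP

set_option maxHeartbeats 1000000 in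
/-- Oliver's Lemma 2.3(b), fusion part: if some essential subgroup is not contained in `A` then
`Z₂(S) ≤ A` and `|Z₂(S) : Z(S)| = p`. -/
theorem aip_second_center [Finite S] {p : ℕ} [hp : Fact p.Prime] (hS : IsPGroup p S)
    (F : FusionSystem S) (hF : F.IsSaturated p) {A P : Subgroup Ω}
    (hAS : A ≤ S) (hAc : ∀ a ∈ A, ∀ b ∈ A, a * b = b * a) (hAi : (A.subgroupOf S).index = p)
    (hna : ∃ s ∈ S, ∃ t ∈ S, s * t ≠ t * s)
    (huniq : ∀ B : Subgroup Ω, B ≤ S → (∀ a ∈ B, ∀ b ∈ B, a * b = b * a) →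
      (B.subgroupOf S).index = p → B = A)
    (hP : F.IsEssential p P) {x : Ω} (hxP : x ∈ P) (hxA : x ∉ A) :
    (Subgroup.upperCentralSeries ↥S 2).map S.subtype ≤ A ∧
    (S ⊓ Subgroup.centralizer (S : Set Ω)).relIndex
      ((Subgroup.upperCentralSeries ↥S 2).map S.subtype) = p := by
  have hPS : P ≤ S := hP.2.1.1
  have hxS : x ∈ S := hPS hxP
  have hcen : centralizerIn S P ≤ P := hP.1.2 P (isConj_refl F hPS)
  have hZP : S ⊓ Subgroup.centralizer (S : Set Ω) ≤ P := center_le_of_centric hPS hcen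
  have hZA : S ⊓ Subgroup.centralizer (S : Set Ω) ≤ A := by
    intro z hz
    have hz' := (mem_center_iff' z).mp hz
    exact aip_center_le hS hAS hAc hAi hna hz'.1 hz'.2
  obtain ⟨hidx, R', hR'A, hR'c, hR'comm, hR'rel⟩ := aip_core hS F hF hAS hAc hAi hP hxP hxA
  obtain ⟨-, hab, hnab⟩ := aip_structure hS F hF hAS hAc hAi hna hP hxP hxA
  by_cases hPab : ∀ y ∈ P, ∀ z ∈ P, y * z = z * y
  · -- abelian case
    have hPA := hab hPab
    have hY : A ⊓ Subgroup.normalizer (P : Set Ω) =
        (Subgroup.upperCentralSeries ↥S 2).map S.subtype ⊓ A := by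
      apply le_antisymm
      · intro a ha
        refine ⟨?_, ha.1⟩
        show a ∈ (Subgroup.upperCentralSeries ↥S 2).map S.subtype
        rw [aip_mem_secondCenter_iff hS hAS hAc hAi hxS hxA ha.1]
        have h1 : a * x * a⁻¹ ∈ P := (Subgroup.mem_normalizer_iff.mp ha.2 x).mp hxP
        have h2 : a * x * a⁻¹ * x⁻¹ ∈ P ⊓ A :=
          ⟨P.mul_mem h1 (P.inv_mem hxP), aip_comm_mem hS hAS hAi hxS ha.1⟩
        rw [hPA] at h2
        exact ((mem_center_iff' _).mp h2).2
      · intro a ha
        refine ⟨ha.2, ?_⟩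
        have h1 := (aip_mem_secondCenter_iff hS hAS hAc hAi hxS hxA ha.2).mp ha.1
        have h2 : a * x * a⁻¹ * x⁻¹ ∈ S ⊓ Subgroup.centralizer (S : Set Ω) := by
          rw [mem_center_iff']
          exact ⟨hAS (aip_comm_mem hS hAS hAi hxS ha.2), h1⟩
        have h3 : a * x * a⁻¹ ∈ P := by
          have e : a * x * a⁻¹ = (a * x * a⁻¹ * x⁻¹) * x := by group
          rw [e]
          exact P.mul_mem (hZP h2) hxP
        exact aip_normalizes hS hAS hAc hAi hPS hxP hxA ha.2 h3
    have hZ2A : (Subgroup.upperCentralSeries ↥S 2).map S.subtype ≤ A := by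
      by_contra hcon
      obtain ⟨w, hw, hwA⟩ := SetLike.not_le_iff_exists.mp hcon
      have hwZ := (mem_secondCenter_iff w).mp hw
      have hwS : w ∈ S := hwZ.1
      -- A ≤ Z₂
      have hAZ2 : A ≤ (Subgroup.upperCentralSeries ↥S 2).map S.subtype := by
        intro a ha
        rw [aip_mem_secondCenter_iff hS hAS hAc hAi hxS hxA ha]
        intro s hs
        obtain ⟨k, b, hb, hxb⟩ := aip_exists_zpow hS hAS hAi hwS hwA hxS
        have hwk : w ^ k ∈ (Subgroup.upperCentralSeries ↥S 2).map S.subtype :=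
          Subgroup.zpow_mem _ hw k
        have hwkZ := (mem_secondCenter_iff _).mp hwk
        have e1 : b * a⁻¹ * b⁻¹ = a⁻¹ := by
          rw [hAc b hb _ (A.inv_mem ha)]; group
        have e2 : a * x * a⁻¹ * x⁻¹ = (w ^ k * a * (w ^ k)⁻¹ * a⁻¹)⁻¹ := by
          rw [hxb]
          calc a * (w ^ k * b) * a⁻¹ * (w ^ k * b)⁻¹
              = a * w ^ k * (b * a⁻¹ * b⁻¹) * (w ^ k)⁻¹ := by group
            _ = (w ^ k * a * (w ^ k)⁻¹ * a⁻¹)⁻¹ := by rw [e1]; group
        rw [e2]
        have hc : Commute (w ^ k * a * (w ^ k)⁻¹ * a⁻¹) s := hwkZ.2 a (hAS ha) s hs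
        exact hc.inv_left.eq
      have hYA : A ⊓ Subgroup.normalizer (P : Set Ω) = A := by
        rw [hY]; exact inf_eq_right.mpr hAZ2
      rw [hYA] at hidx
      have hZrelA : (S ⊓ Subgroup.centralizer (S : Set Ω)).relIndex A = p := by
        rw [← hPA, Subgroup.inf_relIndex_right]
        exact hidx
      have hZrelS : (S ⊓ Subgroup.centralizer (S : Set Ω)).relIndex S = p ^ 2 := by
        rw [← Subgroup.relIndex_mul_relIndex _ A S hZA hAS, hZrelA]
        have : A.relIndex S = p := hAi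
        rw [this, pow_two]
      -- B = Z⟨w⟩
      obtain ⟨B, hBdef⟩ : ∃ B : Subgroup Ω,
        B = (S ⊓ Subgroup.centralizer (S : Set Ω)) ⊔ Subgroup.zpowers w := ⟨_, rfl⟩
      have hZB : S ⊓ Subgroup.centralizer (S : Set Ω) ≤ B := by rw [hBdef]; exact le_sup_left
      have hwB : w ∈ B := by
        rw [hBdef]; exact Subgroup.mem_sup_right (Subgroup.mem_zpowers w)
      have hBS : B ≤ S := by
        rw [hBdef]
        exact sup_le inf_le_left ((Subgroup.zpowers_le).mpr hwS)
      have hBw : B ≤ Subgroup.centralizer {w} := by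
        rw [hBdef]
        apply sup_le
        · intro z hz
          rw [Subgroup.mem_centralizer_singleton_iff]
          exact ((mem_center_iff' z).mp hz).2 w hwS
        · rw [Subgroup.zpowers_le, Subgroup.mem_centralizer_singleton_iff]
      have hBc : ∀ a ∈ B, ∀ b ∈ B, a * b = b * a := by
        have hBB : B ≤ Subgroup.centralizer (B : Set Ω) := by
          conv_lhs => rw [hBdef]
          apply sup_le
          · intro z hz
            rw [Subgroup.mem_centralizer_iff]
            intro b hb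
            exact (((mem_center_iff' z).mp hz).2 b (hBS hb)).symm
          · rw [Subgroup.zpowers_le, Subgroup.mem_centralizer_iff]
            intro b hb
            have := Subgroup.mem_centralizer_singleton_iff.mp (hBw hb)
            exact this
        intro a ha b hb
        exact (Subgroup.mem_centralizer_iff.mp (hBB hb) a ha)
      have h1 := Subgroup.relIndex_mul_relIndex _ B S hZB hBS
      rw [hZrelS] at h1
      have hne1 : (S ⊓ Subgroup.centralizer (S : Set Ω)).relIndex B ≠ 1 := by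
        intro h
        have := Subgroup.relIndex_eq_one.mp h
        exact hwA (hZA (this hwB))
      have hne2 : B.relIndex S ≠ 1 := by
        intro h
        have hSB := Subgroup.relIndex_eq_one.mp h
        obtain ⟨s, hs, t, ht, hst⟩ := hna
        exact hst (hBc s (hSB hs) t (hSB ht))
      have h2 := (hp.out.mul_eq_prime_sq_iff hne1 hne2).mp h1
      have hBA := huniq B hBS hBc h2.2
      exact hwA (hBA ▸ hwB)
    refine ⟨hZ2A, ?_⟩
    have hYZ2 : A ⊓ Subgroup.normalizer (P : Set Ω) =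
        (Subgroup.upperCentralSeries ↥S 2).map S.subtype := by
      rw [hY]; exact inf_eq_left.mpr hZ2A
    rw [← hYZ2]
    have h1 : P ⊓ (A ⊓ Subgroup.normalizer (P : Set Ω)) = S ⊓ Subgroup.centralizer (S : Set Ω) := by
      rw [← inf_assoc, hPA]
      exact inf_eq_left.mpr (hZP.trans Subgroup.le_normalizer)
    rw [← h1, Subgroup.inf_relIndex_right]
    exact hidx
  · -- nonabelian case
    push Not at hPab
    have hPA := hnab hPab
    refine ⟨hPA ▸ inf_le_right, ?_⟩
    rw [← hPA]
    have hle1 : R' ≤ (S ⊓ Subgroup.centralizer (S : Set Ω)).subgroupOf P := by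
      intro y hy
      apply Subgroup.mem_subgroupOf.mpr
      rw [mem_center_iff']
      exact ⟨hPS y.2, hR'c y hy⟩
    have hle2 : (S ⊓ Subgroup.centralizer (S : Set Ω)).subgroupOf P ≤ A.subgroupOf P := by
      intro y hy
      exact Subgroup.mem_subgroupOf.mpr (hZA (Subgroup.mem_subgroupOf.mp hy))
    have h1 := Subgroup.relIndex_mul_relIndex _ _ _ hle1 hle2
    rw [hR'rel] at h1
    have hne : ((S ⊓ Subgroup.centralizer (S : Set Ω)).subgroupOf P).relIndex (A.subgroupOf P) ≠ 1 := by
      intro h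
      have hle := Subgroup.relIndex_eq_one.mp h
      obtain ⟨y, hy, z, hz, hyz⟩ := hPab
      apply hyz
      obtain ⟨k, b, hb, hbP, rfl⟩ := aip_decomp hS hAS hAi hPS hxP hxA hy
      obtain ⟨l, c, hc, hcP, rfl⟩ := aip_decomp hS hAS hAi hPS hxP hxA hz
      have hbZ : ∀ s ∈ S, b * s = s * b := by
        have := hle (show (⟨b, hbP⟩ : P) ∈ A.subgroupOf P from Subgroup.mem_subgroupOf.mpr hb)
        exact ((mem_center_iff' b).mp (Subgroup.mem_subgroupOf.mp this)).2
      have hcZ : ∀ s ∈ S, c * s = s * c := by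
        have := hle (show (⟨c, hcP⟩ : P) ∈ A.subgroupOf P from Subgroup.mem_subgroupOf.mpr hc)
        exact ((mem_center_iff' c).mp (Subgroup.mem_subgroupOf.mp this)).2
      have hxl : x ^ l ∈ S := S.zpow_mem hxS l
      have hxk : x ^ k ∈ S := S.zpow_mem hxS k
      have hxx : x ^ k * x ^ l = x ^ l * x ^ k := by
        rw [← zpow_add, ← zpow_add, add_comm]
      calc x ^ k * b * (x ^ l * c) = x ^ k * (b * x ^ l) * c := by group
        _ = x ^ k * (x ^ l * b) * c := by rw [hbZ _ hxl]
        _ = (x ^ k * x ^ l) * (b * c) := by group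
        _ = (x ^ l * x ^ k) * (c * b) := by rw [hxx, hcZ b (hAS hb)]
        _ = x ^ l * (x ^ k * c) * b := by group
        _ = x ^ l * (c * x ^ k) * b := by rw [hcZ _ hxk]
        _ = x ^ l * c * (x ^ k * b) := by group
    have hdvd : ((S ⊓ Subgroup.centralizer (S : Set Ω)).subgroupOf P).relIndex (A.subgroupOf P) ∣ p :=
      Dvd.intro_left _ h1
    have h2 := (Nat.dvd_prime hp.out).mp hdvd
    have h3 : ((S ⊓ Subgroup.centralizer (S : Set Ω)).subgroupOf P).relIndex (A.subgroupOf P) = p :=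
      h2.resolve_left hne
    rw [← Subgroup.inf_subgroupOf_left A P, Subgroup.relIndex_subgroupOf inf_le_left] at h3
    exact h3

end Cfsg.Agent.Lib.Helper87
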