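import Cfsg.Agent.Lib.Helper87.EssentialIndexP4
import Cfsg.Agent.Lib.Helper87.SL2Trick
import Cfsg.Agent.Lib.Helper87.ExtendAut

set_option autoImplicit false
open Cfsg Cfsg.FusionSystem

namespace Cfsg.Agent.Lib.Helper87

variable {Ω : Type*} [Group Ω] {S : Subgroup Ω}

/-- The centre of `S` as a subgroup of the ambient group. -/
abbrev ZZ (S : Subgroup Ω) : Subgroup Ω := S ⊓ Subgroup.centralizer (S : Set Ω)

/-- `Z(S) ∩ [S, S]`. -/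
abbrev ZZ₀ (S : Subgroup Ω) : Subgroup Ω := ZZ S ⊓ ⁅S, S⁆

theorem mem_ZZ_comm {z : Ω} (hz : z ∈ ZZ S) {s : Ω} (hs : s ∈ S) : s * z * s⁻¹ = z := by
  have h := ((mem_center_iff' z).mp hz).2 s hs
  rw [← h]; group

/-- Commutators of an element of `N_S(P)` with elements of `P` lie in `Z(S) ∩ [S,S]` when
`P ∩ A = Z(S)`. -/
theorem ht_comm_mem [Finite S] {p : ℕ} [Fact p.Prime] (hS : IsPGroup p S) {A P : Subgroup Ω}
    (hAS : A ≤ S) (hAi : (A.subgroupOf S).index = p) (hPS : P ≤ S)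
    (hPA : P ⊓ A = ZZ S) {s : Ω} (hs : s ∈ S) (hsN : s ∈ Subgroup.normalizer (P : Set Ω))
    {y : Ω} (hy : y ∈ P) : s * y * s⁻¹ * y⁻¹ ∈ ZZ₀ S := by
  have h1 : s * y * s⁻¹ ∈ P := (Subgroup.mem_normalizer_iff.mp hsN y).mp hy
  have h2 : s * y * s⁻¹ * y⁻¹ ∈ P := P.mul_mem h1 (P.inv_mem hy)
  have h3 : s * y * s⁻¹ * y⁻¹ ∈ A := aip_commutator_mem hS hAS hAi hs (hPS hy)
  have h4 : s * y * s⁻¹ * y⁻¹ ∈ ⁅S, S⁆ := by
    have := Subgroup.commutator_mem_commutator hs (hPS hy)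
    rwa [commutatorElement_def] at this
  exact ⟨hPA ▸ (⟨h2, h3⟩ : s * y * s⁻¹ * y⁻¹ ∈ P ⊓ A), h4⟩

/-- The fixed points on `P` of an element of `A` outside `P` are central. -/
theorem ht_fixed_mem [Finite S] {p : ℕ} [Fact p.Prime] (hS : IsPGroup p S) {A P : Subgroup Ω}
    (hAS : A ≤ S) (hAc : ∀ a ∈ A, ∀ b ∈ A, a * b = b * a) (hAi : (A.subgroupOf S).index = p)
    (hPS : P ≤ S) (hPA : P ⊓ A = ZZ S) {a : Ω} (ha : a ∈ A) (haP : a ∉ P)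
    {y : Ω} (hy : y ∈ P) (hay : a * y * a⁻¹ = y) : y ∈ ZZ S := by
  by_cases hyA : y ∈ A
  · exact hPA ▸ (⟨hy, hyA⟩ : y ∈ P ⊓ A)
  · exfalso
    apply haP
    have hcomm : a * y = y * a := by
      calc a * y = (a * y * a⁻¹) * a := by group
        _ = y * a := by rw [hay]
    have h1 := aip_central_of_commute hS hAS hAc hAi (hPS hy) hyA ha hcomm
    have h2 : a ∈ ZZ S := (mem_center_iff' a).mpr ⟨hAS ha, fun s hs => h1 s hs⟩
    have h3 : a ∈ P ⊓ A := hPA ▸ h2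
    exact h3.1

theorem ht_exists_a [Finite S] {p : ℕ} [hp : Fact p.Prime] (hS : IsPGroup p S) (F : FusionSystem S)
    (hF : F.IsSaturated p) {A P : Subgroup Ω}
    (hAS : A ≤ S) (hAc : ∀ a ∈ A, ∀ b ∈ A, a * b = b * a) (hAi : (A.subgroupOf S).index = p)
    (hP : F.IsEssential p P) {x : Ω} (hxP : x ∈ P) (hxA : x ∉ A) :
    ∃ a ∈ A, a ∈ Subgroup.normalizer (P : Set Ω) ∧ a ∉ P := by
  obtain ⟨hidx, -⟩ := aip_core hS F hF hAS hAc hAi hP hxP hxA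
  by_contra hcon
  push Not at hcon
  have htop : P.subgroupOf (A ⊓ Subgroup.normalizer (P : Set Ω)) = ⊤ := by
    rw [eq_top_iff]
    rintro ⟨a, ha⟩ -
    exact Subgroup.mem_subgroupOf.mpr (hcon a ha.1 ha.2)
  rw [htop, Subgroup.index_top] at hidx
  exact hp.1.one_lt.ne hidx


/-- Key lemma: if `t = c_a` fixes `g(Z₀)` pointwise then `g⁻¹` preserves `Z(S)`. -/
theorem ht_key [Finite S] {p : ℕ} [hp : Fact p.Prime] (hS : IsPGroup p S) (F : FusionSystem S)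
    (hF : F.IsSaturated p) {A P : Subgroup Ω}
    (hAS : A ≤ S) (hAc : ∀ a ∈ A, ∀ b ∈ A, a * b = b * a) (hAi : (A.subgroupOf S).index = p)
    (hfn : F.IsFullyNormalized P) (hPA : P ⊓ A = ZZ S)
    {a : Ω} (ha : a ∈ A) (haN : a ∈ Subgroup.normalizer (P : Set Ω)) (haP : a ∉ P)
    {g : MulAut P} (hg : g ∈ F.autGroup P)
    (h : ∀ f : P, (f : Ω) ∈ ZZ₀ S → conjAut P a haN (g f) = g f) :
    ∀ z : P, (z : Ω) ∈ ZZ S → ((g⁻¹ z : P) : Ω) ∈ ZZ S := by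
  have hPS : P ≤ S := hfn.1
  have hfinP : Finite P := finite_of_le hPS
  obtain ⟨-, R, hR⟩ := (fc_fa_of_fullyNormalized hS F hF hfn).2
  have hTle : autInducedBy S P ≤ F.autGroup P := autInducedBy_le_autGroup F hPS
  have eg : ∀ y : P, g (g⁻¹ y) = y := fun y => by
    show g (g.symm y) = y
    simp
  have eg' : ∀ y : P, g⁻¹ (g y) = y := fun y => by
    show g.symm (g y) = y
    simp
  obtain ⟨t, htdef⟩ : ∃ t, t = conjAut P a haN := ⟨_, rfl⟩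
  have htcoe : ∀ y : P, ((t y : P) : Ω) = a * y * a⁻¹ := by
    intro y; rw [htdef]; rfl
  have htfix : ∀ y : P, t y = y → (y : Ω) ∈ ZZ S := fun y hy =>
    ht_fixed_mem hS hAS hAc hAi hPS hPA ha haP y.2 (by rw [← htcoe, hy])
  have htZ : ∀ y : P, (y : Ω) ∈ ZZ S → t y = y := fun y hy =>
    Subtype.ext (by rw [htcoe]; exact mem_ZZ_comm hy (hAS ha))
  have htcomm : ∀ y : P, ((t y : P) : Ω) * (y : Ω)⁻¹ ∈ ZZ₀ S := fun y => by
    rw [htcoe]; exact ht_comm_mem hS hAS hAi hPS hPA (hAS ha) haN y.2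
  rw [← htdef] at h
  obtain ⟨E', hE'def⟩ : ∃ E' : Subgroup Ω,
      E' = (((ZZ₀ S).subgroupOf P).map g.toMonoidHom).map P.subtype := ⟨_, rfl⟩
  have hE'mem : ∀ y : P, (y : Ω) ∈ E' ↔ ∃ f : P, (f : Ω) ∈ ZZ₀ S ∧ g f = y := by
    intro y
    rw [hE'def]
    constructor
    · rintro ⟨y', ⟨f, hf, rfl⟩, hy'⟩
      exact ⟨f, Subgroup.mem_subgroupOf.mp hf, Subtype.ext hy'⟩
    · rintro ⟨f, hf, rfl⟩
      exact ⟨g f, ⟨f, Subgroup.mem_subgroupOf.mpr hf, rfl⟩, rfl⟩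
  have hE'Z : ∀ y : P, (y : Ω) ∈ E' → (y : Ω) ∈ ZZ S := by
    intro y hy
    obtain ⟨f, hf, rfl⟩ := (hE'mem y).mp hy
    exact htfix _ (h f hf)
  obtain ⟨X, hXdef⟩ : ∃ X : Subgroup (MulAut P), X = chainStab P E' ⊓ F.autGroup P := ⟨_, rfl⟩
  have hXle : X ≤ F.autGroup P := hXdef ▸ inf_le_right
  have hXp : IsPGroup p X := by
    rw [hXdef]
    exact (chainStab_isPGroup (hS.to_le hPS)).to_le inf_le_left
  have hN : ∀ c ∈ autInducedBy S P, ∀ φ ∈ X, c * φ * c⁻¹ ∈ X := by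
    intro c hc φ hφ
    rw [hXdef] at hφ ⊢
    refine ⟨conj_mem_chainStab ?_ hφ.1, (F.autGroup P).mul_mem
      ((F.autGroup P).mul_mem (hTle hc) hφ.2) ((F.autGroup P).inv_mem (hTle hc))⟩
    obtain ⟨s, hs, hcs⟩ := (mem_autInducedBy_iff S P c).mp hc
    intro y
    constructor
    · intro hy
      have h1 : ((c y : P) : Ω) ∈ ZZ S := hE'Z _ hy
      have h2 : c y = y := by
        apply Subtype.ext
        rw [hcs] at h1 ⊢
        have h3 := mem_ZZ_comm h1 (S.inv_mem hs)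
        calc s * y * s⁻¹ = s⁻¹ * (s * y * s⁻¹) * s⁻¹⁻¹ := h3.symm
          _ = y := by group
      rwa [h2] at hy
    · intro hy
      have h2 : c y = y := Subtype.ext (by rw [hcs]; exact mem_ZZ_comm (hE'Z y hy) hs)
      rwa [h2]
  have hXT : X ≤ autInducedBy S P := le_of_normalizes_sylow R hR hTle hXle hXp hN
  have ht' : g * t * g⁻¹ ∈ X := by
    rw [hXdef]
    refine ⟨⟨fun y hy => ?_, fun y => ?_⟩, ?_⟩
    · obtain ⟨f, hf, rfl⟩ := (hE'mem y).mp hy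
      show g (t (g⁻¹ (g f))) = g f
      rw [eg', htZ f hf.1]
    · show ((g (t (g⁻¹ y)) : P) : Ω) * (y : Ω)⁻¹ ∈ E'
      have e : ((g (t (g⁻¹ y)) : P) : Ω) * (y : Ω)⁻¹ =
          ((g (t (g⁻¹ y) * (g⁻¹ y)⁻¹) : P) : Ω) := by
        rw [map_mul, map_inv, eg]; rfl
      rw [e, hE'mem]
      exact ⟨_, htcomm (g⁻¹ y), rfl⟩
    · exact (F.autGroup P).mul_mem ((F.autGroup P).mul_mem hg
        (hTle (htdef ▸ conjAut_mem_autInducedBy (hAS ha) haN))) ((F.autGroup P).inv_mem hg)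
  obtain ⟨s', hs', hcs'⟩ := (mem_autInducedBy_iff S P _).mp (hXT ht')
  intro z hz
  apply htfix
  have h1 : (g * t * g⁻¹) z = z := Subtype.ext (by rw [hcs']; exact mem_ZZ_comm hz hs')
  have h2 : g (t (g⁻¹ z)) = z := h1
  have h3 := congrArg (⇑g⁻¹) h2
  rwa [eg'] at h3


set_option maxHeartbeats 800000 in
/-- The local `SL₂(p)`-lemma for an abelian essential subgroup `P = Z(S)⟨x⟩`: for `g ∈ Aut_F(P)`
not preserving `Z(S)` there is `τ ∈ Aut_F(P)` commuting with `Aut_S(P)`, inverting `Z(S) ∩ [S,S]`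
and fixing a complement `Z(S) ∩ g(Z(S))` of it in `Z(S)` pointwise. -/
theorem ht_tau [Finite S] {p : ℕ} [hp : Fact p.Prime] (hS : IsPGroup p S) (F : FusionSystem S)
    (hF : F.IsSaturated p) {A P : Subgroup Ω}
    (hAS : A ≤ S) (hAc : ∀ a ∈ A, ∀ b ∈ A, a * b = b * a) (hAi : (A.subgroupOf S).index = p)
    (hP : F.IsEssential p P) (hPab : ∀ y ∈ P, ∀ z ∈ P, y * z = z * y) (hPA : P ⊓ A = ZZ S)
    {x : Ω} (hxP : x ∈ P) (hxA : x ∉ A) (hZ0 : Nat.card ↥(ZZ₀ S) = p)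
    {g : MulAut P} (hg : g ∈ F.autGroup P)
    (hg1 : ¬ ∀ z : P, (z : Ω) ∈ ZZ S → ((g z : P) : Ω) ∈ ZZ S)
    (hg2 : ¬ ∀ z : P, (z : Ω) ∈ ZZ S → ((g⁻¹ z : P) : Ω) ∈ ZZ S) :
    ∃ τ ∈ F.autGroup P,
      (∀ (s : Ω) (hs : s ∈ Subgroup.normalizer (P : Set Ω)), s ∈ S →
        τ * conjAut P s hs = conjAut P s hs * τ) ∧
      (∀ f : P, (f : Ω) ∈ ZZ₀ S → τ f = f⁻¹) ∧
      (∀ z : P, (z : Ω) ∈ ZZ S → ∃ w f : P, (w : Ω) ∈ ZZ S ∧ ((g⁻¹ w : P) : Ω) ∈ ZZ S ∧ τ w = w ∧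
        (f : Ω) ∈ ZZ₀ S ∧ z = w * f) := by
  have hfn := hP.2.1
  have hPS : P ≤ S := hfn.1
  obtain ⟨a, ha, haN, haP⟩ := ht_exists_a hS F hF hAS hAc hAi hP hxP hxA
  have hTle : autInducedBy S P ≤ F.autGroup P := autInducedBy_le_autGroup F hPS
  have eg : ∀ y : P, g (g⁻¹ y) = y := fun y => by
    show g (g.symm y) = y
    simp
  have eg' : ∀ y : P, g⁻¹ (g y) = y := fun y => by
    show g.symm (g y) = y
    simp
  obtain ⟨t, htdef⟩ : ∃ t, t = conjAut P a haN := ⟨_, rfl⟩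
  have htcoe : ∀ y : P, ((t y : P) : Ω) = a * y * a⁻¹ := by
    intro y; rw [htdef]; rfl
  have htfix : ∀ y : P, t y = y → (y : Ω) ∈ ZZ S := fun y hy =>
    ht_fixed_mem hS hAS hAc hAi hPS hPA ha haP y.2 (by rw [← htcoe, hy])
  have htZ : ∀ y : P, (y : Ω) ∈ ZZ S → t y = y := fun y hy =>
    Subtype.ext (by rw [htcoe]; exact mem_ZZ_comm hy (hAS ha))
  have htcomm : ∀ y : P, ((t y : P) : Ω) * (y : Ω)⁻¹ ∈ ZZ₀ S := fun y => by
    rw [htcoe]; exact ht_comm_mem hS hAS hAi hPS hPA (hAS ha) haN y.2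
  have hc : ∀ u v : P, u * v = v * u := fun u v => Subtype.ext (hPab u u.2 v v.2)
  have hZ0P : ZZ₀ S ≤ P := fun f hf => (hPA.symm ▸ hf.1 : f ∈ P ⊓ A).1
  obtain ⟨Z₀', hZ₀'def⟩ : ∃ Z₀' : Subgroup P, Z₀' = (ZZ₀ S).subgroupOf P := ⟨_, rfl⟩
  obtain ⟨E, hEdef⟩ : ∃ E : Subgroup P, E = Z₀'.map g.toMonoidHom := ⟨_, rfl⟩
  have hmemZ₀' : ∀ f : P, f ∈ Z₀' ↔ (f : Ω) ∈ ZZ₀ S := by
    intro f; rw [hZ₀'def, Subgroup.mem_subgroupOf]
  have hcardZ₀' : Nat.card Z₀' = p := by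
    rw [hZ₀'def, ← hZ0]
    exact Nat.card_congr (Subgroup.subgroupOfEquivOfLe hZ0P).toEquiv
  have hcardE : Nat.card E = p := by
    rw [hEdef, Subgroup.card_map_of_injective (show Function.Injective g.toMonoidHom from g.injective),
      hcardZ₀']
  obtain ⟨t', ht'def⟩ : ∃ t', t' = g * t * g⁻¹ := ⟨_, rfl⟩
  have ht'app : ∀ y : P, t' y = g (t (g⁻¹ y)) := fun y => by rw [ht'def]; rfl
  have h1 : ∀ y, t y * y⁻¹ ∈ Z₀' := fun y => (hmemZ₀' _).mpr (htcomm y)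
  have h2 : ∀ y, t' y * y⁻¹ ∈ E := by
    intro y
    rw [hEdef]
    refine ⟨t (g⁻¹ y) * (g⁻¹ y)⁻¹, h1 _, ?_⟩
    show g (t (g⁻¹ y) * (g⁻¹ y)⁻¹) = t' y * y⁻¹
    rw [map_mul, map_inv, eg, ht'app]
  have h3 : ∀ y ∈ Z₀', t y = y := fun y hy => htZ y ((hmemZ₀' y).mp hy).1
  have h4 : ∀ y ∈ E, t' y = y := by
    intro y hy
    rw [hEdef] at hy
    obtain ⟨f, hf, rfl⟩ := hy
    show t' (g f) = g f
    rw [ht'app, eg', h3 f hf]
  have h5 : ∃ e ∈ E, t e ≠ e := by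
    by_contra hcon
    push Not at hcon
    apply hg2
    apply ht_key hS F hF hAS hAc hAi hfn hPA ha haN haP hg
    intro f hf
    rw [← htdef]
    exact hcon (g f) (by rw [hEdef]; exact ⟨f, (hmemZ₀' f).mpr hf, rfl⟩)
  have h6 : ∃ f ∈ Z₀', t' f ≠ f := by
    by_contra hcon
    push Not at hcon
    apply hg1
    have h7 := ht_key hS F hF hAS hAc hAi hfn hPA ha haN haP ((F.autGroup P).inv_mem hg) (by
      intro f hf
      rw [← htdef]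
      have h7 := hcon f ((hmemZ₀' f).mpr hf)
      rw [ht'app] at h7
      have h8 := congrArg (⇑g⁻¹) h7
      rwa [eg'] at h8)
    intro z hz
    have h8 := h7 z hz
    rwa [inv_inv] at h8
  obtain ⟨τ, hτcl, hτa, hτb, hτc, hτe⟩ := sl2_trick hc hcardZ₀' hcardE h1 h2 h3 h4 h5 h6
  have htmem : t ∈ F.autGroup P := hTle (htdef ▸ conjAut_mem_autInducedBy (hAS ha) haN)
  refine ⟨τ, ?_, ?_, ?_, ?_⟩
  · have hle : Subgroup.closure ({t, t'} : Set (MulAut P)) ≤ F.autGroup P := by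
      rw [Subgroup.closure_le]
      intro φ hφ
      rcases hφ with rfl | hφ
      · exact htmem
      · rw [Set.mem_singleton_iff] at hφ
        rw [hφ, ht'def]
        exact (F.autGroup P).mul_mem ((F.autGroup P).mul_mem hg htmem) ((F.autGroup P).inv_mem hg)
    exact hle hτcl
  · intro s hs hsS
    apply hτe
    · intro y
      exact (hmemZ₀' _).mpr (ht_comm_mem hS hAS hAi hPS hPA hsS hs y.2)
    · intro z hz
      exact Subtype.ext (mem_ZZ_comm (htfix z hz) hsS)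
  · intro f hf
    exact hτb f ((hmemZ₀' f).mpr hf)
  · intro z hz
    obtain ⟨w, f, hw, hw', hf, hzwf⟩ := hτc z (htZ z hz)
    refine ⟨w, f, htfix w hw, ?_, hτa w hw hw', (hmemZ₀' f).mp hf, hzwf⟩
    apply htfix
    rw [ht'app] at hw'
    have h8 := congrArg (⇑g⁻¹) hw'
    rwa [eg'] at h8


/-- The automorphism `τ` of `ht_tau` extends to `N_S(P)`. -/
theorem ht_tau_extends [Finite S] {p : ℕ} [hp : Fact p.Prime] (hS : IsPGroup p S)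
    (F : FusionSystem S) (hF : F.IsSaturated p) {A P : Subgroup Ω}
    (hAS : A ≤ S) (hAc : ∀ a ∈ A, ∀ b ∈ A, a * b = b * a) (hAi : (A.subgroupOf S).index = p)
    (hP : F.IsEssential p P) (hPab : ∀ y ∈ P, ∀ z ∈ P, y * z = z * y) (hPA : P ⊓ A = ZZ S)
    {x : Ω} (hxP : x ∈ P) (hxA : x ∉ A) (hZ0 : Nat.card ↥(ZZ₀ S) = p)
    {g : MulAut P} (hg : g ∈ F.autGroup P)
    (hg1 : ¬ ∀ z : P, (z : Ω) ∈ ZZ S → ((g z : P) : Ω) ∈ ZZ S)
    (hg2 : ¬ ∀ z : P, (z : Ω) ∈ ZZ S → ((g⁻¹ z : P) : Ω) ∈ ZZ S) :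
    ∃ ψ ∈ F.Hom (normalizerIn S P),
      (∀ (f : Ω) (hf : f ∈ normalizerIn S P), f ∈ ZZ₀ S → ψ ⟨f, hf⟩ = f⁻¹) ∧
      (∀ z ∈ ZZ S, ∃ w f : Ω, w ∈ ZZ S ∧ f ∈ ZZ₀ S ∧ z = w * f ∧
        (∀ hw : w ∈ normalizerIn S P, ψ ⟨w, hw⟩ = w) ∧
        (∀ hwP : w ∈ P, ((g⁻¹ ⟨w, hwP⟩ : P) : Ω) ∈ ZZ S)) := by
  have hfn := hP.2.1
  have hPS : P ≤ S := hfn.1
  have hfinP : Finite P := finite_of_le hPS
  obtain ⟨τ, hτ, hτcomm, hτinv, hτdec⟩ :=
    ht_tau hS F hF hAS hAc hAi hP hPab hPA hxP hxA hZ0 hg hg1 hg2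
  have hZP : ZZ S ≤ P := fun z hz => (hPA.symm ▸ hz : z ∈ P ⊓ A).1
  obtain ⟨ψ, hψ, hψe⟩ := extend_of_normalizes hS F hF hfn hτ (by
    intro c hc
    obtain ⟨s, hs, hcs⟩ := (mem_autInducedBy_iff S P c).mp hc
    have hsN : s ∈ Subgroup.normalizer (P : Set Ω) := by
      apply Cfsg.Agent.Lib.Helper88.mem_normalizer_of_conj_mem_finite
      intro y hy
      rw [← hcs ⟨y, hy⟩]
      exact (c ⟨y, hy⟩).2
    have hceq : c = conjAut P s hsN := by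
      ext y
      rw [hcs, conjAut_coe]
    rw [hceq, hτcomm s hsN hs, mul_assoc, mul_inv_cancel, mul_one]
    exact conjAut_mem_autInducedBy hs hsN)
  refine ⟨ψ, hψ, ?_, ?_⟩
  · intro f hf hf0
    have hfP : f ∈ P := hZP hf0.1
    rw [hψe ⟨f, hfP⟩ hf, hτinv ⟨f, hfP⟩ hf0]
    rfl
  · intro z hz
    obtain ⟨w, f, hw, hgw, hτw, hf, hzwf⟩ := hτdec ⟨z, hZP hz⟩ hz
    refine ⟨w, f, hw, hf, ?_, ?_, ?_⟩
    · have := congrArg Subtype.val hzwf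
      exact this
    · intro hw'
      rw [hψe w hw', hτw]
    · intro hwP
      exact hgw

end Cfsg.Agent.Lib.Helper87
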