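import Cfsg.Agent.Lib.Helper87.HTypeLocal
import Cfsg.Agent.Lib.Helper87.AGNormal
import Cfsg.Agent.Lib.Helper88.Abelian

set_option autoImplicit false
set_option linter.unusedSectionVars false
open Cfsg Cfsg.FusionSystem

namespace Cfsg.Agent.Lib.Helper87

variable {Ω : Type*} [Group Ω] {S : Subgroup Ω}

/-- The second centre of `S` as a subgroup of the ambient group. -/
abbrev ZZ₂ (S : Subgroup Ω) : Subgroup Ω := (Subgroup.upperCentralSeries ↥S 2).map S.subtype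

/-- Standing hypotheses: `S` nonabelian with a unique abelian subgroup `A` of index `p` (`p` odd),
`F` saturated, `A` not essential. -/
structure AIPCtx (S : Subgroup Ω) (p : ℕ) (F : FusionSystem S) (A : Subgroup Ω) : Prop where
  hS : IsPGroup p S
  hF : F.IsSaturated p
  hp2 : p ≠ 2
  hAS : A ≤ S
  hAc : ∀ a ∈ A, ∀ b ∈ A, a * b = b * a
  hAi : (A.subgroupOf S).index = p
  hna : ∃ s ∈ S, ∃ t ∈ S, s * t ≠ t * s
  huniq : ∀ B : Subgroup Ω, B ≤ S → (∀ a ∈ B, ∀ b ∈ B, a * b = b * a) →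
    (B.subgroupOf S).index = p → B = A
  hAe : ¬ F.IsEssential p A

theorem ZZ_le_ZZ₂ : ZZ S ≤ ZZ₂ S := by
  intro z hz
  have hz' := (mem_center_iff' z).mp hz
  rw [mem_secondCenter_iff]
  refine ⟨hz'.1, fun s hs t ht => ?_⟩
  have e : z * s * z⁻¹ * s⁻¹ = 1 := by
    rw [hz'.2 s hs]; group
  rw [e, one_mul, mul_one]

section ctx

variable [Finite S] {p : ℕ} [hp : Fact p.Prime] {F : FusionSystem S} {A : Subgroup Ω}

theorem AIPCtx.exists_not_mem (C : AIPCtx S p F A) {R : Subgroup Ω} (hR : F.IsEssential p R) :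
    ∃ x ∈ R, x ∉ A := by
  have hRS : R ≤ S := hR.2.1.1
  have hcen : centralizerIn S R ≤ R := hR.1.2 R (isConj_refl F hRS)
  by_contra hcon
  push Not at hcon
  have hAR : A ≤ R := by
    intro a ha
    apply hcen
    refine ⟨C.hAS ha, Subgroup.mem_centralizer_iff.mpr fun y hy => ?_⟩
    exact C.hAc y (hcon y hy) a ha
  have : R = A := le_antisymm hcon hAR
  exact C.hAe (this ▸ hR)

theorem AIPCtx.facts (C : AIPCtx S p F A) {R : Subgroup Ω} (hR : F.IsEssential p R) :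
    ZZ₂ S ≤ A ∧ (ZZ S).relIndex (ZZ₂ S) = p ∧ Nat.card ↥(ZZ₀ S) = p := by
  obtain ⟨x, hxR, hxA⟩ := C.exists_not_mem hR
  have hxS : x ∈ S := hR.2.1.1 hxR
  obtain ⟨hZ2A, hrel⟩ := aip_second_center C.hS F C.hF C.hAS C.hAc C.hAi C.hna C.huniq hR hxR hxA
  obtain ⟨h1, -, -⟩ := aip_maxclass C.hS C.hAS C.hAc C.hAi C.hna hxS hxA hZ2A hrel
  exact ⟨hZ2A, hrel, h1⟩

theorem AIPCtx.card_ZZ₂ (C : AIPCtx S p F A) {R : Subgroup Ω} (hR : F.IsEssential p R) :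
    Nat.card ↥(ZZ₂ S) = p * Nat.card ↥(ZZ S) := by
  obtain ⟨-, hrel, -⟩ := C.facts hR
  have h1 := Subgroup.card_mul_index ((ZZ S).subgroupOf (ZZ₂ S))
  have h2 : ((ZZ S).subgroupOf (ZZ₂ S)).index = p := hrel
  rw [h2, Nat.card_congr (Subgroup.subgroupOfEquivOfLe (ZZ_le_ZZ₂ (S := S))).toEquiv] at h1
  rw [← h1, mul_comm]

theorem AIPCtx.card_eq (C : AIPCtx S p F A) {R : Subgroup Ω} (hRS : R ≤ S) {x : Ω} (hxR : x ∈ R)
    (hxA : x ∉ A) : Nat.card ↥R = p * Nat.card ↥(R ⊓ A) := by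
  have hrel := aip_relIndex C.hS C.hAS C.hAi hRS hxR hxA
  have h1 := Subgroup.card_mul_index (A.subgroupOf R)
  have h2 : (A.subgroupOf R).index = p := hrel
  rw [h2, ← Subgroup.inf_subgroupOf_left,
    Nat.card_congr (Subgroup.subgroupOfEquivOfLe (inf_le_left : R ⊓ A ≤ R)).toEquiv] at h1
  rw [← h1, mul_comm]

/-- The two types of essential subgroups, with their orders. -/
theorem AIPCtx.ess_type (C : AIPCtx S p F A) {R : Subgroup Ω} (hR : F.IsEssential p R) :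
    ((∀ y ∈ R, ∀ z ∈ R, y * z = z * y) ∧ R ⊓ A = ZZ S ∧ Nat.card ↥R = p * Nat.card ↥(ZZ S)) ∨
    ((∃ y ∈ R, ∃ z ∈ R, y * z ≠ z * y) ∧ R ⊓ A = ZZ₂ S ∧
      Nat.card ↥R = p ^ 2 * Nat.card ↥(ZZ S)) := by
  obtain ⟨x, hxR, hxA⟩ := C.exists_not_mem hR
  have hRS : R ≤ S := hR.2.1.1
  obtain ⟨-, hab, hnab⟩ := aip_structure C.hS F C.hF C.hAS C.hAc C.hAi C.hna hR hxR hxA
  have hcard := C.card_eq hRS hxR hxA
  by_cases hRab : ∀ y ∈ R, ∀ z ∈ R, y * z = z * y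
  · left
    have h1 := hab hRab
    refine ⟨hRab, h1, ?_⟩
    rw [hcard, h1]
  · right
    push Not at hRab
    have h1 : R ⊓ A = ZZ₂ S := hnab hRab
    refine ⟨hRab, h1, ?_⟩
    rw [hcard, h1, C.card_ZZ₂ hR]
    ring

/-- Order of the normalizer of an essential subgroup. -/
theorem AIPCtx.card_normalizer (C : AIPCtx S p F A) {R : Subgroup Ω} (hR : F.IsEssential p R) :
    Nat.card ↥(normalizerIn S R) = p * Nat.card ↥R := by
  obtain ⟨x, hxR, hxA⟩ := C.exists_not_mem hR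
  have hRS : R ≤ S := hR.2.1.1
  obtain ⟨hidx, -, -⟩ := aip_structure C.hS F C.hF C.hAS C.hAc C.hAi C.hna hR hxR hxA
  have h1 := Subgroup.card_mul_index (R.subgroupOf (S ⊓ Subgroup.normalizer (R : Set Ω)))
  have hle : R ≤ S ⊓ Subgroup.normalizer (R : Set Ω) := le_inf hRS Subgroup.le_normalizer
  rw [hidx, Nat.card_congr (Subgroup.subgroupOfEquivOfLe hle).toEquiv] at h1
  show Nat.card ↥(S ⊓ Subgroup.normalizer (R : Set Ω)) = _
  rw [← h1, mul_comm]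

/-- The centre of a nonabelian essential subgroup is `Z(S)`. -/
theorem AIPCtx.center_eq (C : AIPCtx S p F A) {R : Subgroup Ω} (hR : F.IsEssential p R)
    (hRna : ∃ y ∈ R, ∃ z ∈ R, y * z ≠ z * y) (y : R) :
    y ∈ Subgroup.center R ↔ (y : Ω) ∈ ZZ S := by
  obtain ⟨x, hxR, hxA⟩ := C.exists_not_mem hR
  have hRS : R ≤ S := hR.2.1.1
  have hfinR : Finite R := finite_of_le hRS
  constructor
  · intro hy
    have hyA : (y : Ω) ∈ A := by
      have hAc' : ∀ a ∈ R ⊓ A, ∀ b ∈ R ⊓ A, a * b = b * a := fun a ha b hb =>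
        C.hAc a ha.2 b hb.2
      have hidx : ((R ⊓ A).subgroupOf R).index = p := by
        rw [Subgroup.inf_subgroupOf_left]
        exact aip_relIndex C.hS C.hAS C.hAi hRS hxR hxA
      have h1 := aip_center_le (S := R) (A := R ⊓ A) (C.hS.to_le hRS) inf_le_left hAc' hidx hRna
        y.2 (fun s hs => by
          have := Subgroup.mem_center_iff.mp hy ⟨s, hs⟩
          exact (congrArg Subtype.val this).symm)
      exact h1.2
    have hyx : (y : Ω) * x = x * y := by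
      have := Subgroup.mem_center_iff.mp hy ⟨x, hxR⟩
      exact (congrArg Subtype.val this).symm
    have h2 := aip_central_of_commute C.hS C.hAS C.hAc C.hAi (hRS hxR) hxA hyA hyx
    exact (mem_center_iff' _).mpr ⟨hRS y.2, h2⟩
  · intro hy
    have hy' := (mem_center_iff' _).mp hy
    rw [Subgroup.mem_center_iff]
    intro g
    apply Subtype.ext
    exact (hy'.2 g (hRS g.2)).symm

end ctx


/-! ### Automorphisms of `S` and the characteristic subgroups `Z(S)`, `Z(S) ∩ [S,S]` -/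

theorem mem_ZZ_iff_center (z : S) : (z : Ω) ∈ ZZ S ↔ z ∈ Subgroup.center S := by
  rw [mem_center_iff', Subgroup.mem_center_iff]
  constructor
  · rintro ⟨-, h⟩ g
    exact Subtype.ext (h g g.2).symm
  · intro h
    refine ⟨z.2, fun s hs => ?_⟩
    exact (congrArg Subtype.val (h ⟨s, hs⟩)).symm

theorem aut_mem_ZZ_iff (β : MulAut S) (z : S) : ((β z : S) : Ω) ∈ ZZ S ↔ (z : Ω) ∈ ZZ S := by
  rw [mem_ZZ_iff_center, mem_ZZ_iff_center]
  have h := (Subgroup.characteristic_iff_comap_eq.mp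
    (inferInstance : (Subgroup.center S).Characteristic)) β
  constructor
  · intro hx
    rw [← h]; exact hx
  · intro hx
    rw [← h] at hx; exact hx

theorem mem_comm_iff (z : S) : (z : Ω) ∈ ⁅S, S⁆ ↔ z ∈ commutator S := by
  have hcomm : (commutator ↥S).map S.subtype = ⁅S, S⁆ := by
    rw [commutator_def, Subgroup.map_commutator, ← MonoidHom.range_eq_map, Subgroup.range_subtype]
  rw [← hcomm]
  exact Subgroup.mem_map_iff_mem S.subtype_injective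

theorem aut_mem_comm_iff (β : MulAut S) (z : S) :
    ((β z : S) : Ω) ∈ ⁅S, S⁆ ↔ (z : Ω) ∈ ⁅S, S⁆ := by
  rw [mem_comm_iff, mem_comm_iff]
  have h := (Subgroup.characteristic_iff_comap_eq.mp
    (inferInstance : (commutator S).Characteristic)) β
  constructor
  · intro hx
    rw [← h]; exact hx
  · intro hx
    rw [← h] at hx; exact hx

theorem aut_mem_ZZ₀_iff (β : MulAut S) (z : S) : ((β z : S) : Ω) ∈ ZZ₀ S ↔ (z : Ω) ∈ ZZ₀ S := by
  constructor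
  · rintro ⟨h1, h2⟩
    exact ⟨(aut_mem_ZZ_iff β z).mp h1, (aut_mem_comm_iff β z).mp h2⟩
  · rintro ⟨h1, h2⟩
    exact ⟨(aut_mem_ZZ_iff β z).mpr h1, (aut_mem_comm_iff β z).mpr h2⟩

/-- An automorphism mapping a finite subgroup into itself maps it onto itself. -/
theorem aut_mem_iff_of_forall_mem {G : Type*} [Group G] (α : MulAut G) (W : Subgroup G) [Finite W]
    (h : ∀ y ∈ W, α y ∈ W) (y : G) : α y ∈ W ↔ y ∈ W := by
  constructor
  · intro hy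
    have hinj : Function.Injective (fun w : W => (⟨α w, h w w.2⟩ : W)) := by
      intro a b hab
      have := congrArg Subtype.val hab
      exact Subtype.ext (α.injective this)
    obtain ⟨w, hw⟩ := (Finite.injective_iff_surjective.mp hinj) ⟨α y, hy⟩
    have h1 : α w = α y := congrArg Subtype.val hw
    have h2 := α.injective h1
    rw [← h2]
    exact w.2
  · exact h y

/-- `β` inverts `Z(S) ∩ [S,S]`. -/
def InvZ₀ (β : MulAut S) : Prop := ∀ f : S, (f : Ω) ∈ ZZ₀ S → β f = f⁻¹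

/-- `γ` fixes `Z(S) ∩ [S,S]` pointwise. -/
def FixZ₀ (γ : MulAut S) : Prop := ∀ f : S, (f : Ω) ∈ ZZ₀ S → γ f = f

/-- `β` acts trivially on `Z(S)` modulo `Z(S) ∩ [S,S]`. -/
def StabZ (β : MulAut S) : Prop := ∀ z : S, (z : Ω) ∈ ZZ S → ((z⁻¹ * β z : S) : Ω) ∈ ZZ₀ S

theorem InvZ₀.inv {β : MulAut S} (h : InvZ₀ β) : InvZ₀ β⁻¹ := by
  intro f hf
  have h1 := h f⁻¹ ((ZZ₀ S).inv_mem hf)
  rw [inv_inv] at h1
  have h2 : β⁻¹ (β f⁻¹) = f⁻¹ := by
    show β.symm (β f⁻¹) = f⁻¹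
    simp
  rw [h1] at h2
  exact h2

theorem StabZ.inv {β : MulAut S} (h : StabZ β) (h0 : InvZ₀ β) : StabZ β⁻¹ := by
  intro z hz
  -- β z = z d  ⇒  z = β⁻¹ z * β⁻¹ d = β⁻¹ z * d⁻¹
  obtain ⟨d, hddef⟩ : ∃ d : S, d = z⁻¹ * β z := ⟨_, rfl⟩
  have hd : (d : Ω) ∈ ZZ₀ S := hddef ▸ h z hz
  have h1 : β z = z * d := by rw [hddef]; group
  have h2 : β⁻¹ (β z) = z := by
    show β.symm (β z) = z
    simp
  rw [h1, map_mul, h0.inv d hd] at h2
  have h3 : z⁻¹ * β⁻¹ z = d := by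
    have : β⁻¹ z = z * d := eq_mul_of_mul_inv_eq h2
    rw [this]; group
  rw [h3]
  exact hd

theorem FixZ₀.of_mul {β β' : MulAut S} (h : InvZ₀ β) (h' : InvZ₀ β') : FixZ₀ (β * β') := by
  intro f hf
  show β (β' f) = f
  rw [h' f hf, h f⁻¹ ((ZZ₀ S).inv_mem hf), inv_inv]

theorem StabZ.of_mul {β β' : MulAut S} (h : StabZ β) (h' : StabZ β') (h0 : InvZ₀ β) :
    StabZ (β * β') := by
  intro z hz
  obtain ⟨d', hd'def⟩ : ∃ d' : S, d' = z⁻¹ * β' z := ⟨_, rfl⟩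
  have hd' : (d' : Ω) ∈ ZZ₀ S := hd'def ▸ h' z hz
  have h1 : β' z = z * d' := by rw [hd'def]; group
  have e : z⁻¹ * (β * β') z = (z⁻¹ * β z) * β d' := by
    show z⁻¹ * β (β' z) = _
    rw [h1, map_mul]; group
  rw [e, h0 d' hd']
  exact (ZZ₀ S).mul_mem (h z hz) ((ZZ₀ S).inv_mem hd')

section ctx2

variable [Finite S] {p : ℕ} [hp : Fact p.Prime] {F : FusionSystem S} {A : Subgroup Ω}

/-- Some power of every element of `Aut_F(S)`, with exponent prime to `p`, is inner. -/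
theorem exists_coprime_pow_mem_autS (F : FusionSystem S)
    (hF : F.IsSaturated p) :
    ∃ m : ℕ, m.Coprime p ∧ ∀ γ ∈ F.autGroup S, γ ^ m ∈ autInducedBy S S := by
  obtain ⟨⟨-, Sy, hSy⟩, -⟩ := Cfsg.Agent.Lib.Helper88.top_automized_receptive F p hF
  have hmemSy : ∀ c : F.autGroup S, c ∈ (Sy : Subgroup (F.autGroup S)) ↔
      (c : MulAut S) ∈ autInducedBy S S := by
    intro c
    rw [hSy, Subgroup.mem_subgroupOf]
  have hn : (Sy : Subgroup (F.autGroup S)).Normal := by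
    refine ⟨fun c hc γ => ?_⟩
    rw [hmemSy] at hc ⊢
    obtain ⟨s, hs, hcs⟩ := (mem_autInducedBy_iff S S _).mp hc
    refine (mem_autInducedBy_iff S S _).mpr ⟨((γ : MulAut S) ⟨s, hs⟩ : S), ((γ : MulAut S) ⟨s, hs⟩).2,
      fun y => ?_⟩
    show (((γ : MulAut S) ((c : MulAut S) ((γ : MulAut S)⁻¹ y)) : S) : Ω) = _
    have h1 : (c : MulAut S) ((γ : MulAut S)⁻¹ y) =
        ⟨s, hs⟩ * ((γ : MulAut S)⁻¹ y) * (⟨s, hs⟩ : S)⁻¹ := by
      apply Subtype.ext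
      rw [hcs]
      rfl
    rw [h1, map_mul, map_mul, map_inv]
    have h2 : (γ : MulAut S) ((γ : MulAut S)⁻¹ y) = y := by
      show (γ : MulAut S) ((γ : MulAut S).symm y) = y
      simp
    rw [h2]
    rfl
  refine ⟨(Sy : Subgroup (F.autGroup S)).index, ?_, fun γ hγ => ?_⟩
  · exact (Nat.Coprime.symm ((Nat.Prime.coprime_iff_not_dvd hp.1).mpr Sy.not_dvd_index))
  · have h1 := Subgroup.pow_index_mem (Sy : Subgroup (F.autGroup S)) (⟨γ, hγ⟩ : F.autGroup S)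
    rw [hmemSy] at h1
    exact h1


/-- An element of `Aut_F(S)` stabilising the chain `1 ≤ Z₀ ≤ Z(S)` acts trivially on `Z(S)`. -/
theorem stab_fix_trivial (F : FusionSystem S) (hF : F.IsSaturated p)
    (hZ0 : Nat.card ↥(ZZ₀ S) = p) {γ : MulAut S} (hγ : γ ∈ F.autGroup S) (h1 : FixZ₀ γ)
    (h2 : StabZ γ) : ∀ z : S, (z : Ω) ∈ ZZ S → γ z = z := by
  intro z hz
  obtain ⟨m, hm, hpow⟩ := exists_coprime_pow_mem_autS F hF
  obtain ⟨d, hddef⟩ : ∃ d : S, d = z⁻¹ * γ z := ⟨_, rfl⟩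
  have hd : (d : Ω) ∈ ZZ₀ S := hddef ▸ h2 z hz
  have hγz : γ z = z * d := by rw [hddef]; group
  have hγd : γ d = d := h1 d hd
  have hdp : d ^ p = 1 := by
    have h3 := pow_card_eq_one' (G := ↥(ZZ₀ S)) (x := ⟨(d : Ω), hd⟩)
    rw [hZ0] at h3
    apply Subtype.ext
    have h4 := congrArg Subtype.val h3
    simpa using h4
  have hp_fix : (γ ^ p) z = z := by rw [aut_pow_apply_mul γ hγz hγd, hdp, mul_one]
  have hm_fix : (γ ^ m) z = z := by
    obtain ⟨s, hs, hcs⟩ := (mem_autInducedBy_iff S S _).mp (hpow γ hγ)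
    apply Subtype.ext
    rw [hcs]
    exact mem_ZZ_comm hz hs
  have hgcd := Nat.gcd_eq_gcd_ab m p
  rw [Nat.Coprime.gcd_eq_one hm] at hgcd
  have e : (γ ^ m) ^ (Nat.gcdA m p) * (γ ^ p) ^ (Nat.gcdB m p) = γ := by
    rw [← zpow_natCast, ← zpow_natCast, ← zpow_mul, ← zpow_mul, ← zpow_add, ← hgcd]
    simp
  have hH : (γ ^ m) ^ (Nat.gcdA m p) * (γ ^ p) ^ (Nat.gcdB m p) ∈
      MulAction.stabilizer (MulAut S) z :=
    Subgroup.mul_mem _ (Subgroup.zpow_mem _ (MulAction.mem_stabilizer_iff.mpr hm_fix) _)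
      (Subgroup.zpow_mem _ (MulAction.mem_stabilizer_iff.mpr hp_fix) _)
  rw [e] at hH
  exact MulAction.mem_stabilizer_iff.mp hH

/-- Two splitting automorphisms in `Aut_F(S)` agree on `Z(S)`. -/
theorem split_unique (F : FusionSystem S) (hF : F.IsSaturated p)
    (hZ0 : Nat.card ↥(ZZ₀ S) = p) {β β' : MulAut S} (hβ : β ∈ F.autGroup S)
    (hβ' : β' ∈ F.autGroup S) (h0 : InvZ₀ β) (h1 : StabZ β) (h0' : InvZ₀ β') (h1' : StabZ β') :
    ∀ z : S, (z : Ω) ∈ ZZ S → β z = β' z := by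
  intro z hz
  have h := stab_fix_trivial F hF hZ0 ((F.autGroup S).mul_mem ((F.autGroup S).inv_mem hβ) hβ')
    (FixZ₀.of_mul h0.inv h0') (StabZ.of_mul (h1.inv h0) h1' h0.inv) z hz
  have h2 : β⁻¹ (β' z) = z := h
  have h3 := congrArg (⇑β) h2
  have h4 : β (β⁻¹ (β' z)) = β' z := by
    show β (β.symm (β' z)) = β' z
    simp
  rw [h4] at h3
  exact h3.symm


/-- Level A: a map of the system defined on a subgroup of order larger than `p²|Z(S)|` is the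
restriction of an element of `Aut_F(S)`. -/
theorem levelA (C : AIPCtx S p F A) : ∀ (Q : Subgroup Ω) (φ : Q →* Ω), GenBy F (IsAG F p) Q φ →
    p ^ 2 * Nat.card ↥(ZZ S) < Nat.card ↥Q →
    ∃ β ∈ F.autGroup S, ∀ (y : Q) (hy : (y : Ω) ∈ S), φ y = ((β ⟨y, hy⟩ : S) : Ω) := by
  intro Q φ h
  induction h with
  | @aut Q R hR hRS α hα hQR =>
    intro hcard
    rcases hR with rfl | hR
    · exact ⟨α, hα, fun y hy => rfl⟩
    · exfalso
      have hfinR : Finite R := finite_of_le hRS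
      have h1 : Nat.card Q ≤ Nat.card R := Subgroup.card_le_of_le hQR
      have hn0 : 0 < Nat.card ↥(ZZ S) := by
        have : Finite ↥(ZZ S) := finite_of_le inf_le_left
        exact Nat.card_pos
      have hp1 : 1 ≤ p := hp.1.one_lt.le
      rcases C.ess_type hR with ⟨-, -, h2⟩ | ⟨-, -, h2⟩
      · have : p * Nat.card ↥(ZZ S) ≤ p ^ 2 * Nat.card ↥(ZZ S) := by
          apply Nat.mul_le_mul_right
          calc p = p ^ 1 := (pow_one p).symm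
            _ ≤ p ^ 2 := Nat.pow_le_pow_right hp1 (by norm_num)
        omega
      · omega
  | @comp Q Q' φ ψ hφ hψ h ih1 ih2 =>
    intro hcard
    obtain ⟨β₁, hβ₁, h1⟩ := ih1 hcard
    have hQ'S : Q' ≤ S := hom_le F (GenBy.mem_hom hψ)
    have hfinQ' : Finite Q' := finite_of_le hQ'S
    have hinj : Function.Injective φ := F.injective_of_mem (GenBy.mem_hom hφ)
    have hcard' : Nat.card Q ≤ Nat.card Q' :=
      Nat.card_le_card_of_injective (fun y : Q => (⟨φ y, h y⟩ : Q'))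
        (fun a b hab => hinj (congrArg Subtype.val hab))
    obtain ⟨β₂, hβ₂, h2⟩ := ih2 (lt_of_lt_of_le hcard hcard')
    refine ⟨β₂ * β₁, (F.autGroup S).mul_mem hβ₂ hβ₁, fun y hy => ?_⟩
    show ψ ⟨φ y, h y⟩ = _
    have e1 := h1 y hy
    have hφS : φ y ∈ S := hQ'S (h y)
    rw [h2 ⟨φ y, h y⟩ hφS]
    show ((β₂ ⟨φ y, hφS⟩ : S) : Ω) = ((β₂ (β₁ ⟨y, hy⟩) : S) : Ω)
    have e2 : (⟨φ y, hφS⟩ : S) = β₁ ⟨y, hy⟩ := Subtype.ext e1
    rw [e2]

/-- The automorphisms of `R` agreeing on `Z(S)` with an element of `Aut_F(S)`. -/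
def agreeSub (F : FusionSystem S) (R : Subgroup Ω) (hZR : ZZ S ≤ R) : Subgroup (MulAut R) where
  carrier := {α | ∃ β ∈ F.autGroup S, ∀ (z : R) (hz : (z : Ω) ∈ S), (z : Ω) ∈ ZZ S →
    ((α z : R) : Ω) = ((β ⟨z, hz⟩ : S) : Ω)}
  one_mem' := ⟨1, (F.autGroup S).one_mem, fun z hz _ => rfl⟩
  mul_mem' := by
    rintro α₁ α₂ ⟨β₁, hβ₁, h1⟩ ⟨β₂, hβ₂, h2⟩
    refine ⟨β₁ * β₂, (F.autGroup S).mul_mem hβ₁ hβ₂, fun z hz hzZ => ?_⟩
    have e2 := h2 z hz hzZ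
    have hz' : ((α₂ z : R) : Ω) ∈ S := by rw [e2]; exact (β₂ ⟨z, hz⟩).2
    have hzZ' : ((α₂ z : R) : Ω) ∈ ZZ S := by
      rw [e2]; exact (aut_mem_ZZ_iff β₂ ⟨z, hz⟩).mpr hzZ
    show ((α₁ (α₂ z) : R) : Ω) = ((β₁ (β₂ ⟨z, hz⟩) : S) : Ω)
    rw [h1 (α₂ z) hz' hzZ']
    have e3 : (⟨((α₂ z : R) : Ω), hz'⟩ : S) = β₂ ⟨z, hz⟩ := Subtype.ext e2
    rw [e3]
  inv_mem' := by
    rintro α ⟨β, hβ, h1⟩
    refine ⟨β⁻¹, (F.autGroup S).inv_mem hβ, fun z hz hzZ => ?_⟩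
    have hu : ((β⁻¹ ⟨z, hz⟩ : S) : Ω) ∈ ZZ S := (aut_mem_ZZ_iff β⁻¹ ⟨z, hz⟩).mpr hzZ
    have e1 := h1 ⟨((β⁻¹ ⟨z, hz⟩ : S) : Ω), hZR hu⟩ (β⁻¹ ⟨z, hz⟩).2 hu
    have e2 : β (β⁻¹ ⟨z, hz⟩) = ⟨z, hz⟩ := by
      show β (β.symm ⟨z, hz⟩) = ⟨z, hz⟩
      simp
    have e3 : α ⟨((β⁻¹ ⟨z, hz⟩ : S) : Ω), hZR hu⟩ = z := by
      apply Subtype.ext
      rw [e1]
      exact congrArg Subtype.val e2
    have h5 := congrArg (⇑α⁻¹) e3
    have h6 : α⁻¹ (α ⟨((β⁻¹ ⟨z, hz⟩ : S) : Ω), hZR hu⟩) = ⟨((β⁻¹ ⟨z, hz⟩ : S) : Ω), hZR hu⟩ := by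
      show α.symm (α _) = _
      simp
    rw [h6] at h5
    rw [← h5]

theorem mem_agreeSub_iff (F : FusionSystem S) (R : Subgroup Ω) (hZR : ZZ S ≤ R) (α : MulAut R) :
    α ∈ agreeSub F R hZR ↔ ∃ β ∈ F.autGroup S, ∀ (z : R) (hz : (z : Ω) ∈ S), (z : Ω) ∈ ZZ S →
      ((α z : R) : Ω) = ((β ⟨z, hz⟩ : S) : Ω) := Iff.rfl


theorem card_ZZ_pos : 0 < Nat.card ↥(ZZ S) := by
  have : Finite ↥(ZZ S) := finite_of_le inf_le_left
  exact Nat.card_pos

/-- Lemma BZ: every automorphism in `Aut_F(R)`, `R` a nonabelian essential subgroup, agrees on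
`Z(S)` with an element of `Aut_F(S)`. -/
theorem bz (C : AIPCtx S p F A) {R : Subgroup Ω} (hR : F.IsEssential p R)
    (hRna : ∃ y ∈ R, ∃ z ∈ R, y * z ≠ z * y) (hZR : ZZ S ≤ R) :
    F.autGroup R ≤ agreeSub F R hZR := by
  have hfn := hR.2.1
  have hRS : R ≤ S := hfn.1
  apply autGroup_le_of_frattini C.hS F C.hF hfn
  · intro g hg c hc
    refine ⟨1, (F.autGroup S).one_mem, fun z hz hzZ => ?_⟩
    have hzc : z ∈ Subgroup.center R := (C.center_eq hR hRna z).mpr hzZ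
    have hgz : g⁻¹ z ∈ Subgroup.center R := by
      have h := (Subgroup.characteristic_iff_comap_eq.mp
        (inferInstance : (Subgroup.center R).Characteristic)) g⁻¹
      rw [← h] at hzc
      exact hzc
    have hgzZ : ((g⁻¹ z : R) : Ω) ∈ ZZ S := (C.center_eq hR hRna _).mp hgz
    obtain ⟨s, hs, hcs⟩ := (mem_autInducedBy_iff S R c).mp hc
    have hcz : c (g⁻¹ z) = g⁻¹ z := Subtype.ext (by rw [hcs]; exact mem_ZZ_comm hgzZ hs)
    show ((g (c (g⁻¹ z)) : R) : Ω) = _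
    rw [hcz]
    have : g (g⁻¹ z) = z := by
      show g (g.symm z) = z
      simp
    rw [this]
    rfl
  · rintro ν hν ⟨ψ, hψ, hψe⟩
    have hgen := alperin_goldschmidt C.hS F C.hF _ ψ hψ
    have hcard : p ^ 2 * Nat.card ↥(ZZ S) < Nat.card ↥(normalizerIn S R) := by
      rw [C.card_normalizer hR]
      rcases C.ess_type hR with ⟨hab, -, -⟩ | ⟨-, -, h2⟩
      · exfalso
        obtain ⟨y, hy, z, hz, hyz⟩ := hRna
        exact hyz (hab y hy z hz)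
      · rw [h2]
        have hn0 : 0 < Nat.card ↥(ZZ S) := card_ZZ_pos
        have h3 : 0 < p ^ 2 * Nat.card ↥(ZZ S) := Nat.mul_pos (pow_pos hp.1.pos 2) hn0
        have h4 := hp.1.two_le
        nlinarith
    obtain ⟨β, hβ, hβe⟩ := levelA C _ ψ hgen hcard
    refine ⟨β, hβ, fun z hz hzZ => ?_⟩
    have hzN : (z : Ω) ∈ normalizerIn S R := le_normalizerIn hRS z.2
    rw [← hψe z hzN]
    exact hβe ⟨z, hzN⟩ hz

/-- Level B: a map of the system defined on a subgroup of order at least `p²|Z(S)|` containing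
`Z(S)` agrees on `Z(S)` with an element of `Aut_F(S)`. -/
theorem levelB (C : AIPCtx S p F A) : ∀ (Q : Subgroup Ω) (φ : Q →* Ω), GenBy F (IsAG F p) Q φ →
    ZZ S ≤ Q → p ^ 2 * Nat.card ↥(ZZ S) ≤ Nat.card ↥Q →
    ∃ β ∈ F.autGroup S, ∀ (z : Q) (hz : (z : Ω) ∈ S), (z : Ω) ∈ ZZ S →
      φ z = ((β ⟨z, hz⟩ : S) : Ω) := by
  intro Q φ h
  induction h with
  | @aut Q R hR hRS α hα hQR =>
    intro hZQ hcard
    rcases hR with rfl | hR
    · exact ⟨α, hα, fun z hz _ => rfl⟩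
    · have hfinR : Finite R := finite_of_le hRS
      have h1 : Nat.card Q ≤ Nat.card R := Subgroup.card_le_of_le hQR
      rcases C.ess_type hR with ⟨-, -, h2⟩ | ⟨hna, -, -⟩
      · exfalso
        have hn0 : 0 < Nat.card ↥(ZZ S) := card_ZZ_pos
        have h4 := hp.1.two_le
        have h5 : p * Nat.card ↥(ZZ S) < p ^ 2 * Nat.card ↥(ZZ S) := by nlinarith
        omega
      · obtain ⟨β, hβ, hβe⟩ := bz C hR hna (hZQ.trans hQR) hα
        exact ⟨β, hβ, fun z hz hzZ => hβe ⟨z, hQR z.2⟩ hz hzZ⟩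
  | @comp Q Q' φ ψ hφ hψ h ih1 ih2 =>
    intro hZQ hcard
    obtain ⟨β₁, hβ₁, h1⟩ := ih1 hZQ hcard
    have hQ'S : Q' ≤ S := hom_le F (GenBy.mem_hom hψ)
    have hfinQ' : Finite Q' := finite_of_le hQ'S
    have hinj : Function.Injective φ := F.injective_of_mem (GenBy.mem_hom hφ)
    have hcard' : Nat.card Q ≤ Nat.card Q' :=
      Nat.card_le_card_of_injective (fun y : Q => (⟨φ y, h y⟩ : Q'))
        (fun a b hab => hinj (congrArg Subtype.val hab))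
    have hZQ' : ZZ S ≤ Q' := by
      intro z hz
      have hzS : z ∈ S := hz.1
      have hu : ((β₁⁻¹ ⟨z, hzS⟩ : S) : Ω) ∈ ZZ S := (aut_mem_ZZ_iff β₁⁻¹ ⟨z, hzS⟩).mpr hz
      have e := h1 ⟨_, hZQ hu⟩ (β₁⁻¹ ⟨z, hzS⟩).2 hu
      have e2 : β₁ (β₁⁻¹ ⟨z, hzS⟩) = ⟨z, hzS⟩ := by
        show β₁ (β₁.symm ⟨z, hzS⟩) = ⟨z, hzS⟩
        simp
      have e3 : φ ⟨_, hZQ hu⟩ = z := by
        rw [e]
        exact congrArg Subtype.val e2
      rw [← e3]
      exact h _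
    obtain ⟨β₂, hβ₂, h2⟩ := ih2 hZQ' (hcard.trans hcard')
    refine ⟨β₂ * β₁, (F.autGroup S).mul_mem hβ₂ hβ₁, fun z hz hzZ => ?_⟩
    show ψ ⟨φ z, h z⟩ = _
    have e1 := h1 z hz hzZ
    have hφS : φ z ∈ S := hQ'S (h z)
    have hφZ : φ z ∈ ZZ S := by
      rw [e1]; exact (aut_mem_ZZ_iff β₁ ⟨z, hz⟩).mpr hzZ
    rw [h2 ⟨φ z, h z⟩ hφS hφZ]
    show ((β₂ ⟨φ z, hφS⟩ : S) : Ω) = ((β₂ (β₁ ⟨z, hz⟩) : S) : Ω)
    have e2 : (⟨φ z, hφS⟩ : S) = β₁ ⟨z, hz⟩ := Subtype.ext e1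
    rw [e2]

end ctx2

end Cfsg.Agent.Lib.Helper87
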