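import Cfsg.Agent.Lib.Helper87.IndexPGlobal

set_option autoImplicit false
set_option linter.unusedSectionVars false
open Cfsg Cfsg.FusionSystem

namespace Cfsg.Agent.Lib.Helper87

variable {Ω : Type*} [Group Ω] {S : Subgroup Ω}

/-- `β` inverts `Z₀ = Z(S) ∩ [S,S]` and fixes pointwise a complement of `Z₀` in `Z(S)` all of whose
elements satisfy `Q`. -/
def IsSplitW (β : MulAut S) (Q : S → Prop) : Prop :=
  InvZ₀ β ∧ ∀ z : S, (z : Ω) ∈ ZZ S → ∃ w f : S, (w : Ω) ∈ ZZ S ∧ (f : Ω) ∈ ZZ₀ S ∧ z = w * f ∧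
    β w = w ∧ Q w

theorem IsSplitW.stabZ {β : MulAut S} {Q : S → Prop} (h : IsSplitW β Q) : StabZ β := by
  intro z hz
  obtain ⟨w, f, hw, hf, rfl, hβw, -⟩ := h.2 z hz
  have e : (w * f)⁻¹ * β (w * f) = f⁻¹ * f⁻¹ := by
    rw [map_mul, hβw, h.1 f hf]; group
  rw [e]
  exact (ZZ₀ S).mul_mem ((ZZ₀ S).inv_mem hf) ((ZZ₀ S).inv_mem hf)

theorem IsSplitW.of_fixed {p : ℕ} [hp : Fact p.Prime] (hS : IsPGroup p S) (hp2 : p ≠ 2)
    {β : MulAut S} {Q : S → Prop} (h : IsSplitW β Q) {z : S} (hz : (z : Ω) ∈ ZZ S)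
    (hβz : β z = z) : Q z := by
  obtain ⟨w, f, hw, hf, rfl, hβw, hQ⟩ := h.2 z hz
  have h1 : f⁻¹ = f := by
    rw [map_mul, hβw, h.1 f hf] at hβz
    exact mul_left_cancel hβz
  have h2 : f ^ 2 = 1 := by
    rw [pow_two]
    nth_rewrite 1 [← h1]
    group
  obtain ⟨k, hk⟩ := hS f
  have hcop : Nat.gcd 2 (p ^ k) = 1 :=
    Nat.Coprime.pow_right k ((Nat.coprime_primes Nat.prime_two hp.1).mpr (Ne.symm hp2))
  have h3 : f ^ Nat.gcd 2 (p ^ k) = 1 := pow_gcd_eq_one.mpr ⟨h2, hk⟩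
  rw [hcop, pow_one] at h3
  rw [h3, mul_one]
  exact hQ

/-- The fixed points of `β` on `Z(S)`, as a subgroup of the ambient group. -/
def splitFix (β : MulAut S) : Subgroup Ω where
  carrier := {z | z ∈ ZZ S ∧ ∀ hz : z ∈ S, β ⟨z, hz⟩ = ⟨z, hz⟩}
  one_mem' := ⟨(ZZ S).one_mem, fun hz => by
    have e : (⟨1, hz⟩ : S) = 1 := rfl
    rw [e, map_one]⟩
  mul_mem' := by
    rintro a b ⟨ha, ha'⟩ ⟨hb, hb'⟩
    refine ⟨(ZZ S).mul_mem ha hb, fun hz => ?_⟩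
    have e : (⟨a * b, hz⟩ : S) = ⟨a, ha.1⟩ * ⟨b, hb.1⟩ := rfl
    rw [e, map_mul, ha' ha.1, hb' hb.1]
  inv_mem' := by
    rintro a ⟨ha, ha'⟩
    refine ⟨(ZZ S).inv_mem ha, fun hz => ?_⟩
    have e : (⟨a⁻¹, hz⟩ : S) = (⟨a, ha.1⟩ : S)⁻¹ := rfl
    rw [e, map_inv, ha' ha.1]

theorem mem_splitFix_iff (β : MulAut S) (z : S) :
    (z : Ω) ∈ splitFix β ↔ (z : Ω) ∈ ZZ S ∧ β z = z := by
  constructor
  · rintro ⟨h1, h2⟩
    exact ⟨h1, h2 z.2⟩
  · rintro ⟨h1, h2⟩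
    exact ⟨h1, fun _ => h2⟩

theorem splitFix_le (β : MulAut S) : splitFix β ≤ ZZ S := fun _ hz => hz.1

/-- The automorphisms of `R` preserving the subgroup `W`. -/
def stabSubW (R W : Subgroup Ω) : Subgroup (MulAut R) where
  carrier := {α | ∀ y : R, ((α y : R) : Ω) ∈ W ↔ (y : Ω) ∈ W}
  one_mem' := fun _ => Iff.rfl
  mul_mem' := fun {a b} ha hb y => (ha (b y)).trans (hb y)
  inv_mem' := fun {a} ha y => by
    have h := ha (a⁻¹ y)
    have e : a (a⁻¹ y) = y := by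
      show a (a.symm y) = y
      simp
    rw [e] at h
    exact h.symm

theorem mem_stabSubW_of_forall {R W : Subgroup Ω} [Finite R] {α : MulAut R}
    (h : ∀ y : R, (y : Ω) ∈ W → ((α y : R) : Ω) ∈ W) : α ∈ stabSubW R W := by
  intro y
  have h1 := aut_mem_iff_of_forall_mem α (W.subgroupOf R)
    (fun y hy => Subgroup.mem_subgroupOf.mpr (h y (Subgroup.mem_subgroupOf.mp hy))) y
  rw [Subgroup.mem_subgroupOf, Subgroup.mem_subgroupOf] at h1
  exact h1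


section ctx

variable [Finite S] {p : ℕ} [hp : Fact p.Prime] {F : FusionSystem S} {A : Subgroup Ω}

/-- From an abelian essential subgroup `P` and `g ∈ Aut_F(P)` not preserving `Z(S)` we obtain a
splitting automorphism of `S`. -/
theorem exists_split (C : AIPCtx S p F A) {P : Subgroup Ω} (hP : F.IsEssential p P)
    (hPab : ∀ y ∈ P, ∀ z ∈ P, y * z = z * y) {g : MulAut P} (hg : g ∈ F.autGroup P)
    (hg1 : ¬ ∀ z : P, (z : Ω) ∈ ZZ S → ((g z : P) : Ω) ∈ ZZ S)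
    (hg2 : ¬ ∀ z : P, (z : Ω) ∈ ZZ S → ((g⁻¹ z : P) : Ω) ∈ ZZ S) :
    ∃ β ∈ F.autGroup S, IsSplitW β
      (fun w => ∀ hwP : (w : Ω) ∈ P, ((g⁻¹ ⟨w, hwP⟩ : P) : Ω) ∈ ZZ S) := by
  obtain ⟨x, hxP, hxA⟩ := C.exists_not_mem hP
  have hPS : P ≤ S := hP.2.1.1
  obtain ⟨-, -, hZ0⟩ := C.facts hP
  obtain ⟨hPA, hcardP⟩ : P ⊓ A = ZZ S ∧ Nat.card ↥P = p * Nat.card ↥(ZZ S) := by
    rcases C.ess_type hP with ⟨-, h1, h2⟩ | ⟨⟨y, hy, z, hz, hyz⟩, -, -⟩
    · exact ⟨h1, h2⟩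
    · exact absurd (hPab y hy z hz) hyz
  have hZP : ZZ S ≤ P := fun z hz => (hPA.symm ▸ hz : z ∈ P ⊓ A).1
  obtain ⟨ψ, hψ, hψinv, hψdec⟩ :=
    ht_tau_extends C.hS F C.hF C.hAS C.hAc C.hAi hP hPab hPA hxP hxA hZ0 hg hg1 hg2
  have hgen := alperin_goldschmidt C.hS F C.hF _ ψ hψ
  have hPN : P ≤ normalizerIn S P := le_normalizerIn hPS
  have hcard : p ^ 2 * Nat.card ↥(ZZ S) ≤ Nat.card ↥(normalizerIn S P) := by
    rw [C.card_normalizer hP, hcardP]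
    exact le_of_eq (by ring)
  obtain ⟨β, hβ, hβe⟩ := levelB C _ ψ hgen (hZP.trans hPN) hcard
  refine ⟨β, hβ, ?_, ?_⟩
  · intro f hf
    apply Subtype.ext
    have hfN : (f : Ω) ∈ normalizerIn S P := hPN (hZP hf.1)
    rw [← hβe ⟨f, hfN⟩ f.2 hf.1, hψinv f hfN hf]
    rfl
  · intro z hz
    obtain ⟨w, f, hw, hf, hzwf, hψw, hgw⟩ := hψdec z hz
    refine ⟨⟨w, hw.1⟩, ⟨f, hf.1.1⟩, hw, hf, Subtype.ext hzwf, ?_, hgw⟩
    apply Subtype.ext
    have hwN : w ∈ normalizerIn S P := hPN (hZP hw)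
    rw [← hβe ⟨w, hwN⟩ hw.1 hw, hψw hwN]

/-- `Aut_F(S)` preserves the fixed-point subgroup of a splitting automorphism. -/
theorem splitFix_invariant (C : AIPCtx S p F A) (hZ0 : Nat.card ↥(ZZ₀ S) = p) {β₀ : MulAut S}
    (hβ₀ : β₀ ∈ F.autGroup S) {Q₀ : S → Prop} (hs₀ : IsSplitW β₀ Q₀) {γ : MulAut S}
    (hγ : γ ∈ F.autGroup S) (w : S) (hw : (w : Ω) ∈ splitFix β₀) :
    ((γ w : S) : Ω) ∈ splitFix β₀ := by
  have eγ : ∀ y : S, γ (γ⁻¹ y) = y := fun y => by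
    show γ (γ.symm y) = y
    simp
  have eγ' : ∀ y : S, γ⁻¹ (γ y) = y := fun y => by
    show γ.symm (γ y) = y
    simp
  have h0' : InvZ₀ (γ * β₀ * γ⁻¹) := by
    intro f hf
    show γ (β₀ (γ⁻¹ f)) = f⁻¹
    rw [hs₀.1 _ ((aut_mem_ZZ₀_iff γ⁻¹ f).mpr hf), map_inv, eγ]
  have h1' : StabZ (γ * β₀ * γ⁻¹) := by
    intro z hz
    have hz' : ((γ⁻¹ z : S) : Ω) ∈ ZZ S := (aut_mem_ZZ_iff γ⁻¹ z).mpr hz
    have h2 := hs₀.stabZ (γ⁻¹ z) hz'
    have h3 := (aut_mem_ZZ₀_iff γ ((γ⁻¹ z)⁻¹ * β₀ (γ⁻¹ z))).mpr h2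
    have e : γ ((γ⁻¹ z)⁻¹ * β₀ (γ⁻¹ z)) = z⁻¹ * (γ * β₀ * γ⁻¹) z := by
      rw [map_mul, map_inv, eγ]
      rfl
    rw [e] at h3
    exact h3
  have hmem : γ * β₀ * γ⁻¹ ∈ F.autGroup S :=
    (F.autGroup S).mul_mem ((F.autGroup S).mul_mem hγ hβ₀) ((F.autGroup S).inv_mem hγ)
  have huniq := split_unique F C.hF hZ0 hβ₀ hmem hs₀.1 hs₀.stabZ h0' h1'
  obtain ⟨hwZ, hβw⟩ := (mem_splitFix_iff β₀ w).mp hw
  rw [mem_splitFix_iff]
  have hγwZ : ((γ w : S) : Ω) ∈ ZZ S := (aut_mem_ZZ_iff γ w).mpr hwZ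
  refine ⟨hγwZ, ?_⟩
  rw [huniq (γ w) hγwZ]
  show γ (β₀ (γ⁻¹ (γ w))) = γ w
  rw [eγ', hβw]


/-- An automorphism whose inverse... : if `g` maps `Z(S) ∩ R` into `Z(S)` then so does `g⁻¹`. -/
theorem aut_inv_preserves_ZZ {R : Subgroup Ω} [Finite R] {g : MulAut R}
    (h : ∀ z : R, (z : Ω) ∈ ZZ S → ((g z : R) : Ω) ∈ ZZ S) :
    ∀ z : R, (z : Ω) ∈ ZZ S → ((g⁻¹ z : R) : Ω) ∈ ZZ S := by
  have h1 : g ∈ stabSubW R (ZZ S) := mem_stabSubW_of_forall h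
  have h2 := (stabSubW R (ZZ S)).inv_mem h1
  intro z hz
  exact (h2 z).mpr hz

/-- The fixed-point subgroup `W` of a splitting automorphism is invariant under `Aut_F(R)` for
every abelian essential subgroup `R`. -/
theorem htype_invariant (C : AIPCtx S p F A) (hZ0 : Nat.card ↥(ZZ₀ S) = p) {β₀ : MulAut S}
    (hβ₀ : β₀ ∈ F.autGroup S) {Q₀ : S → Prop} (hs₀ : IsSplitW β₀ Q₀) {R : Subgroup Ω}
    (hR : F.IsEssential p R) (hRab : ∀ y ∈ R, ∀ z ∈ R, y * z = z * y) :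
    F.autGroup R ≤ stabSubW R (splitFix β₀) := by
  have hfn := hR.2.1
  have hRS : R ≤ S := hfn.1
  have hfinR : Finite R := finite_of_le hRS
  have hcen : centralizerIn S R ≤ R := hR.1.2 R (isConj_refl F hRS)
  have hZR : ZZ S ≤ R := center_le_of_centric hRS hcen
  apply autGroup_le_of_frattini C.hS F C.hF hfn
  · intro g hg c hc
    apply mem_stabSubW_of_forall
    intro y hy
    have eg : g (g⁻¹ y) = y := by
      show g (g.symm y) = y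
      simp
    obtain ⟨hyZ, hβy⟩ := (mem_splitFix_iff β₀ ⟨y, hRS y.2⟩).mp hy
    have hgy : ((g⁻¹ y : R) : Ω) ∈ ZZ S := by
      by_cases hg2 : ∀ z : R, (z : Ω) ∈ ZZ S → ((g⁻¹ z : R) : Ω) ∈ ZZ S
      · exact hg2 y hyZ
      · by_cases hg1 : ∀ z : R, (z : Ω) ∈ ZZ S → ((g z : R) : Ω) ∈ ZZ S
        · exact absurd (aut_inv_preserves_ZZ hg1) hg2
        · obtain ⟨β, hβ, hsβ⟩ := exists_split C hR hRab hg hg1 hg2
          have huniq := split_unique F C.hF hZ0 hβ hβ₀ hsβ.1 hsβ.stabZ hs₀.1 hs₀.stabZ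
            ⟨y, hRS y.2⟩ hyZ
          rw [hβy] at huniq
          exact hsβ.of_fixed C.hS C.hp2 hyZ huniq y.2
    obtain ⟨s, hs, hcs⟩ := (mem_autInducedBy_iff S R c).mp hc
    have hcz : c (g⁻¹ y) = g⁻¹ y := Subtype.ext (by rw [hcs]; exact mem_ZZ_comm hgy hs)
    have e : (g * c * g⁻¹) y = y := by
      show g (c (g⁻¹ y)) = y
      rw [hcz, eg]
    rw [e]
    exact hy
  · rintro ν hν ⟨ψ, hψ, hψe⟩
    apply mem_stabSubW_of_forall
    intro y hy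
    have hgen := alperin_goldschmidt C.hS F C.hF _ ψ hψ
    have hRN : R ≤ normalizerIn S R := le_normalizerIn hRS
    have hcard : p ^ 2 * Nat.card ↥(ZZ S) ≤ Nat.card ↥(normalizerIn S R) := by
      rw [C.card_normalizer hR]
      rcases C.ess_type hR with ⟨-, -, h2⟩ | ⟨⟨y, hy, z, hz, hyz⟩, -, -⟩
      · rw [h2]
        exact le_of_eq (by ring)
      · exact absurd (hRab y hy z hz) hyz
    obtain ⟨β, hβ, hβe⟩ := levelB C _ ψ hgen (hZR.trans hRN) hcard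
    have hyZ : (y : Ω) ∈ ZZ S := splitFix_le β₀ hy
    have h1 := hβe ⟨y, hRN y.2⟩ (hRS y.2) hyZ
    rw [hψe y (hRN y.2)] at h1
    rw [h1]
    exact splitFix_invariant C hZ0 hβ₀ hs₀ hβ ⟨y, hRS y.2⟩ hy

/-- The fixed-point subgroup of a splitting automorphism is normal in `F`. -/
theorem splitFix_normal (C : AIPCtx S p F A) (hZ0 : Nat.card ↥(ZZ₀ S) = p) {β₀ : MulAut S}
    (hβ₀ : β₀ ∈ F.autGroup S) {Q₀ : S → Prop} (hs₀ : IsSplitW β₀ Q₀) :
    F.IsNormal (splitFix β₀) := by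
  apply isNormal_of_AG_invariant C.hS F C.hF
  · intro R hR
    rcases hR with rfl | hR
    · exact (splitFix_le β₀).trans inf_le_left
    · have hRS : R ≤ S := hR.2.1.1
      have hcen : centralizerIn S R ≤ R := hR.1.2 R (isConj_refl F hRS)
      exact (splitFix_le β₀).trans (center_le_of_centric hRS hcen)
  · intro R hR α hα y hy
    rcases hR with rfl | hR
    · exact splitFix_invariant C hZ0 hβ₀ hs₀ hα y hy
    · have hRS : R ≤ S := hR.2.1.1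
      have hcen : centralizerIn S R ≤ R := hR.1.2 R (isConj_refl F hRS)
      have hZR : ZZ S ≤ R := center_le_of_centric hRS hcen
      rcases C.ess_type hR with ⟨hab, -, -⟩ | ⟨hna, -, -⟩
      · exact ((htype_invariant C hZ0 hβ₀ hs₀ hR hab hα) y).mpr hy
      · obtain ⟨β, hβ, hβe⟩ := bz C hR hna hZR hα
        rw [hβe y (hRS y.2) (splitFix_le β₀ hy)]
        exact splitFix_invariant C hZ0 hβ₀ hs₀ hβ ⟨y, hRS y.2⟩ hy


/-- If `O_p(F) = 1` then some essential subgroup is abelian. -/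
theorem aip_exists_htype (C : AIPCtx S p F A) (hcore : F.core = ⊥) :
    ∃ P : Subgroup Ω, F.IsEssential p P ∧ ∀ y ∈ P, ∀ z ∈ P, y * z = z * y := by
  by_contra hcon
  push Not at hcon
  have hnorm : F.IsNormal (ZZ S) := by
    apply isNormal_of_AG_invariant C.hS F C.hF
    · intro R hR
      rcases hR with rfl | hR
      · exact inf_le_left
      · have hRS : R ≤ S := hR.2.1.1
        have hcen : centralizerIn S R ≤ R := hR.1.2 R (isConj_refl F hRS)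
        exact center_le_of_centric hRS hcen
    · intro R hR α hα y hy
      rcases hR with rfl | hR
      · exact (aut_mem_ZZ_iff α y).mpr hy
      · obtain ⟨y₁, hy₁, z₁, hz₁, hyz⟩ := hcon R hR
        have hna : ∃ y ∈ R, ∃ z ∈ R, y * z ≠ z * y := ⟨y₁, hy₁, z₁, hz₁, hyz⟩
        rw [← C.center_eq hR hna] at hy ⊢
        have h := (Subgroup.characteristic_iff_comap_eq.mp
          (inferInstance : (Subgroup.center R).Characteristic)) α
        rw [← h] at hy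
        exact hy
  have hle : ZZ S ≤ F.core := le_sSup hnorm
  rw [hcore] at hle
  obtain ⟨s, hs, t, ht, hst⟩ := C.hna
  have : Nontrivial S := by
    refine ⟨⟨⟨s, hs⟩, ⟨t, ht⟩, fun h => hst ?_⟩⟩
    have h2 : s = t := congrArg Subtype.val h
    rw [h2]
  have hnt := C.hS.center_nontrivial
  obtain ⟨z, hz⟩ := exists_ne (1 : Subgroup.center S)
  apply hz
  have h1 : ((z : S) : Ω) ∈ ZZ S := (mem_ZZ_iff_center (z : S)).mpr z.2
  have h2 := hle h1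
  rw [Subgroup.mem_bot] at h2
  apply Subtype.ext
  apply Subtype.ext
  exact h2

/-- Main theorem: if `O_p(F) = 1` then `Z(S) ≤ [S, S]`. -/
theorem aip_center_le_comm (C : AIPCtx S p F A) (hcore : F.core = ⊥) : ZZ S ≤ ⁅S, S⁆ := by
  obtain ⟨P, hP, hPab⟩ := aip_exists_htype C hcore
  obtain ⟨-, -, hZ0⟩ := C.facts hP
  have hfn := hP.2.1
  have hPS : P ≤ S := hfn.1
  have hfinP : Finite P := finite_of_le hPS
  obtain ⟨x, hxP, hxA⟩ := C.exists_not_mem hP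
  have hPA : P ⊓ A = ZZ S := by
    rcases C.ess_type hP with ⟨-, h1, -⟩ | ⟨⟨y, hy, z, hz, hyz⟩, -, -⟩
    · exact h1
    · exact absurd (hPab y hy z hz) hyz
  -- a good `g`
  have hgood : ∃ g ∈ F.autGroup P, (¬ ∀ z : P, (z : Ω) ∈ ZZ S → ((g z : P) : Ω) ∈ ZZ S) ∧
      ¬ ∀ z : P, (z : Ω) ∈ ZZ S → ((g⁻¹ z : P) : Ω) ∈ ZZ S := by
    by_contra hcon0
    have hcon : ∀ g ∈ F.autGroup P, (¬ ∀ z : P, (z : Ω) ∈ ZZ S → ((g z : P) : Ω) ∈ ZZ S) →
        ∀ z : P, (z : Ω) ∈ ZZ S → ((g⁻¹ z : P) : Ω) ∈ ZZ S := by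
      intro g hg h1
      by_contra h2
      exact hcon0 ⟨g, hg, h1, h2⟩
    have hall : ∀ g ∈ F.autGroup P, g ∈ stabSubW P (ZZ S) := by
      intro g hg
      by_cases h1 : ∀ z : P, (z : Ω) ∈ ZZ S → ((g z : P) : Ω) ∈ ZZ S
      · exact mem_stabSubW_of_forall h1
      · have h2 := hcon g hg h1
        have h3 : g⁻¹ ∈ stabSubW P (ZZ S) := mem_stabSubW_of_forall h2
        have h4 := (stabSubW P (ZZ S)).inv_mem h3
        rwa [inv_inv] at h4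
    obtain ⟨a, ha, haN, haP⟩ := ht_exists_a C.hS F C.hF C.hAS C.hAc C.hAi hP hxP hxA
    obtain ⟨α, hα, hTI⟩ := essential_TI C.hS F C.hF hP
    have hTle : autInducedBy S P ≤ F.autGroup P := autInducedBy_le_autGroup F hPS
    have hX := hTI (chainStab P (ZZ S) ⊓ F.autGroup P) inf_le_right
      ((chainStab_isPGroup (C.hS.to_le hPS)).to_le inf_le_left)
      (fun c hc φ hφ => ⟨conj_mem_chainStab (hall c (hTle hc)) hφ.1,
        (F.autGroup P).mul_mem ((F.autGroup P).mul_mem (hTle hc) hφ.2)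
          ((F.autGroup P).inv_mem (hTle hc))⟩)
      (fun c hc φ hφ => by
        have hmem : α * c * α⁻¹ ∈ F.autGroup P :=
          (F.autGroup P).mul_mem ((F.autGroup P).mul_mem hα (hTle hc)) ((F.autGroup P).inv_mem hα)
        exact ⟨conj_mem_chainStab (hall _ hmem) hφ.1,
          (F.autGroup P).mul_mem ((F.autGroup P).mul_mem hmem hφ.2)
            ((F.autGroup P).inv_mem hmem)⟩)
    have htmem : conjAut P a haN ∈ chainStab P (ZZ S) ⊓ F.autGroup P := by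
      refine ⟨⟨fun y hy => ?_, fun y => ?_⟩, hTle (conjAut_mem_autInducedBy (C.hAS ha) haN)⟩
      · exact Subtype.ext (by rw [conjAut_coe]; exact mem_ZZ_comm hy (C.hAS ha))
      · rw [conjAut_coe]
        exact (ht_comm_mem C.hS C.hAS C.hAi hPS hPA (C.hAS ha) haN y.2).1
    obtain ⟨u, hu⟩ := hX _ htmem
    have h1 := hu ⟨x, hxP⟩
    have h2 : conjAut P a haN ⟨x, hxP⟩ = ⟨x, hxP⟩ := by
      rw [h1]
      apply Subtype.ext
      have := hPab u u.2 x hxP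
      show (u : Ω) * x * (u : Ω)⁻¹ = x
      rw [this]; group
    have h3 : a * x * a⁻¹ = x := by
      have := congrArg Subtype.val h2
      rwa [conjAut_coe] at this
    have h4 := ht_fixed_mem C.hS C.hAS C.hAc C.hAi hPS hPA ha haP hxP h3
    have h5 : x ∈ P ⊓ A := hPA.symm ▸ h4
    exact hxA h5.2
  obtain ⟨g, hg, hg1, hg2⟩ := hgood
  obtain ⟨β₀, hβ₀, hs₀⟩ := exists_split C hP hPab hg hg1 hg2
  have hnorm := splitFix_normal C hZ0 hβ₀ hs₀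
  have hle : splitFix β₀ ≤ F.core := le_sSup hnorm
  rw [hcore] at hle
  intro z hz
  obtain ⟨w, f, hw, hf, hzwf, hβw, -⟩ := hs₀.2 ⟨z, hz.1⟩ hz
  have hwW : (w : Ω) ∈ splitFix β₀ := (mem_splitFix_iff β₀ w).mpr ⟨hw, hβw⟩
  have hw1 := hle hwW
  rw [Subgroup.mem_bot] at hw1
  have e : z = (w : Ω) * (f : Ω) := congrArg Subtype.val hzwf
  rw [e, hw1, one_mul]
  exact hf.2

end ctx

end Cfsg.Agent.Lib.Helper87
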