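import Cfsg.Agent.Lib.Helper87.EigenLine
import Cfsg.Agent.Lib.Helper87.CyclicFactor

/-!
# Invariant chains with cyclic steps in a `p`-group acted on by an abelian group of exponent `p - 1`
-/

set_option autoImplicit false

namespace Cfsg.Agent.Lib.Helper87

open Cfsg.Agent.Lib.Helper85 (inducedAutHom inducedAutHom_apply)

variable {p : ℕ} [hp : Fact p.Prime]

/-- Version of `exists_invariant_zpowers` for a group that happens to be commutative. -/
theorem exists_invariant_zpowers' {V : Type*} [Group V] [Finite V] [Nontrivial V]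
    (hVc : ∀ a b : V, a * b = b * a)
    (hV : ∀ v : V, v ^ p = 1) {Hg : Type*} [Group Hg] [Finite Hg] (ρ : Hg →* MulAut V)
    (hcomm : ∀ a b : Hg, ρ a * ρ b = ρ b * ρ a) (hpow : ∀ a : Hg, ρ a ^ (p - 1) = 1) :
    ∃ v : V, v ≠ 1 ∧ ∀ a : Hg, ρ a v ∈ Subgroup.zpowers v :=
  @exists_invariant_zpowers p _ V { ‹Group V› with mul_comm := hVc } _ _ hV Hg _ _ ρ hcomm hpow

/-- The central elements of order dividing `p`. -/
def centerOmega (p : ℕ) (G : Type*) [Group G] : Subgroup G where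
  carrier := {z | z ∈ Subgroup.center G ∧ z ^ p = 1}
  one_mem' := ⟨Subgroup.one_mem _, one_pow _⟩
  mul_mem' := by
    rintro a b ⟨ha, hap⟩ ⟨hb, hbp⟩
    refine ⟨Subgroup.mul_mem _ ha hb, ?_⟩
    have hc : Commute a b := (Subgroup.mem_center_iff.mp ha b).symm
    rw [hc.mul_pow, hap, hbp, one_mul]
  inv_mem' := by
    rintro a ⟨ha, hap⟩
    exact ⟨Subgroup.inv_mem _ ha, by rw [inv_pow, hap, inv_one]⟩

omit hp in
theorem mem_centerOmega {G : Type*} [Group G] {z : G} :
    z ∈ centerOmega p G ↔ z ∈ Subgroup.center G ∧ z ^ p = 1 := Iff.rfl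

omit hp in
theorem mulAut_apply_mem_centerOmega {G : Type*} [Group G] (α : MulAut G) {z : G}
    (hz : z ∈ centerOmega p G) : α z ∈ centerOmega p G := by
  refine ⟨?_, ?_⟩
  · rw [Subgroup.mem_center_iff]
    intro g
    have h := Subgroup.mem_center_iff.mp hz.1 (α⁻¹ g)
    have := congrArg α h
    simpa using this
  · rw [← map_pow, hz.2, map_one]

/-- The key step: above a proper normal invariant subgroup there is a normal invariant subgroup
obtained by adjoining one element. -/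
theorem exists_invariant_cyclic_step {G : Type*} [Group G] [Finite G] (hG : IsPGroup p G)
    (H : Subgroup (MulAut G)) (hHc : ∀ a ∈ H, ∀ b ∈ H, a * b = b * a)
    (hHp : ∀ a ∈ H, a ^ (p - 1) = 1)
    (N : Subgroup G) [hNn : N.Normal] (hN : ∀ a ∈ H, ∀ y ∈ N, a y ∈ N) (hNtop : N ≠ ⊤) :
    ∃ x : G, x ∉ N ∧ (N ⊔ Subgroup.zpowers x).Normal ∧
      ∀ a ∈ H, ∀ y ∈ N ⊔ Subgroup.zpowers x, a y ∈ N ⊔ Subgroup.zpowers x := by
  classical
  let π : G →* G ⧸ N := QuotientGroup.mk' N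
  have hπ : Function.Surjective π := QuotientGroup.mk'_surjective N
  have hker : π.ker = N := QuotientGroup.ker_mk' N
  have hπ1 : ∀ x, π x = 1 ↔ x ∈ N := fun x => by rw [← MonoidHom.mem_ker, hker]
  have h𝒜 : ∀ β ∈ H, ∀ x, π x = 1 → π (β x) = 1 := fun β hβ x hx =>
    (hπ1 _).mpr (hN β hβ x ((hπ1 x).mp hx))
  let Φ : H →* MulAut (G ⧸ N) := inducedAutHom π hπ H h𝒜
  have hΦ : ∀ (β : H) (x : G), Φ β (π x) = π ((β : MulAut G) x) :=
    fun β x => inducedAutHom_apply π hπ H h𝒜 β x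
  -- the quotient is a nontrivial p-group
  have hnt : Nontrivial (G ⧸ N) := by
    obtain ⟨x, hx⟩ : ∃ x, x ∉ N := by
      by_contra hcon
      push Not at hcon
      exact hNtop (eq_top_iff.mpr fun x _ => hcon x)
    exact ⟨⟨π x, 1, fun h => hx ((hπ1 x).mp h)⟩⟩
  have hQp : IsPGroup p (G ⧸ N) := hG.to_quotient N
  have hZnt : Nontrivial (Subgroup.center (G ⧸ N)) := hQp.center_nontrivial
  have hZp : IsPGroup p (Subgroup.center (G ⧸ N)) := hQp.to_subgroup _
  have hdvd : p ∣ Nat.card (Subgroup.center (G ⧸ N)) := by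
    rcases hZp.card_eq_or_dvd with h1 | h1
    · exfalso
      have := (Nat.card_eq_one_iff_unique.mp h1).1
      exact not_subsingleton _ this
    · exact h1
  obtain ⟨z, hz⟩ := exists_prime_orderOf_dvd_card' p hdvd
  have hz1 : z ≠ 1 := by
    intro h
    rw [h, orderOf_one] at hz
    exact hp.out.one_lt.ne hz
  have hzp : z ^ p = 1 := by rw [← hz]; exact pow_orderOf_eq_one z
  let V' : Subgroup (G ⧸ N) := centerOmega p (G ⧸ N)
  have hzV : (z : G ⧸ N) ∈ V' := ⟨z.2, by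
    have := congrArg (Subtype.val) hzp
    simpa using this⟩
  have hVnt : Nontrivial V' :=
    ⟨⟨⟨z, hzV⟩, 1, fun h => hz1 (Subtype.ext (congrArg (fun w : V' => (w : G ⧸ N)) h))⟩⟩
  have hVc : ∀ a b : V', a * b = b * a := fun a b =>
    Subtype.ext (show (a : G ⧸ N) * b = b * a from Subgroup.mem_center_iff.mp b.2.1 a.1)
  have hVp : ∀ v : V', v ^ p = 1 := fun v => Subtype.ext (by simpa using v.2.2)
  let 𝒜 : Subgroup (MulAut (G ⧸ N)) := Φ.range
  let ρ : H →* MulAut V' :=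
    (resAutK V' 𝒜 (fun a _ y hy => mulAut_apply_mem_centerOmega a hy)).comp Φ.rangeRestrict
  have hρ : ∀ (a : H) (v : V'), ((ρ a v : V') : G ⧸ N) = Φ a v := fun a v => rfl
  have hfinH : Finite H := inferInstance
  obtain ⟨v, hv1, hv⟩ := exists_invariant_zpowers' hVc hVp ρ
    (fun a b => by
      rw [← map_mul, ← map_mul]
      congr 1
      exact Subtype.ext (hHc a a.2 b b.2))
    (fun a => by
      rw [← map_pow]
      have : a ^ (p - 1) = 1 := Subtype.ext (by simpa using hHp a a.2)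
      rw [this, map_one])
  obtain ⟨x, hx⟩ := hπ v.1
  have hxN : x ∉ N := by
    intro h
    apply hv1
    apply Subtype.ext
    rw [← hx]
    exact (hπ1 x).mpr h
  have hEq : N ⊔ Subgroup.zpowers x = (Subgroup.zpowers (v : G ⧸ N)).comap π := by
    rw [← hx, ← MonoidHom.map_zpowers, Subgroup.comap_map_eq, hker, sup_comm]
  have hvc : (v : G ⧸ N) ∈ Subgroup.center (G ⧸ N) := v.2.1
  have hnorm : (Subgroup.zpowers (v : G ⧸ N)).Normal := by
    refine ⟨fun n hn g => ?_⟩
    have hnc : n ∈ Subgroup.center (G ⧸ N) :=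
      (Subgroup.zpowers_le.mpr hvc) hn
    have : g * n * g⁻¹ = n := by
      rw [Subgroup.mem_center_iff.mp hnc g, mul_inv_cancel_right]
    rw [this]
    exact hn
  refine ⟨x, hxN, ?_, ?_⟩
  · rw [hEq]
    exact hnorm.comap π
  · intro a ha y hy
    rw [hEq] at hy ⊢
    rw [Subgroup.mem_comap] at hy ⊢
    have h1 : π (a y) = Φ ⟨a, ha⟩ (π y) := (hΦ ⟨a, ha⟩ y).symm
    rw [h1]
    obtain ⟨k, hk⟩ := Subgroup.mem_zpowers_iff.mp hy
    rw [← hk, map_zpow]
    apply Subgroup.zpow_mem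
    rw [← hρ]
    have := hv ⟨a, ha⟩
    obtain ⟨j, hj⟩ := Subgroup.mem_zpowers_iff.mp this
    rw [← hj]
    rw [Subgroup.coe_zpow]
    exact Subgroup.zpow_mem _ (Subgroup.mem_zpowers _) _

/-- An invariant normal chain with cyclic steps from any invariant normal subgroup up to `⊤`. -/
theorem exists_invariant_chain_from {G : Type*} [Group G] [Finite G] (hG : IsPGroup p G)
    (H : Subgroup (MulAut G)) (hHc : ∀ a ∈ H, ∀ b ∈ H, a * b = b * a)
    (hHp : ∀ a ∈ H, a ^ (p - 1) = 1) (N : Subgroup G) :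
    N.Normal → (∀ a ∈ H, ∀ y ∈ N, a y ∈ N) →
    ∃ (m : ℕ) (d : Fin (m + 1) → Subgroup G), d 0 = N ∧ d (Fin.last m) = ⊤ ∧
      (∀ i, (d i).Normal ∧ ∀ a ∈ H, ∀ y ∈ d i, a y ∈ d i) ∧
      ∀ i : Fin m, ∃ x, d i.succ = d i.castSucc ⊔ Subgroup.zpowers x := by
  induction N using WellFoundedGT.induction with
  | _ N ih =>
    intro hNn hN
    by_cases hNtop : N = ⊤
    · refine ⟨0, fun _ => N, rfl, hNtop, fun _ => ⟨hNn, hN⟩, fun i => i.elim0⟩
    · obtain ⟨x, hxN, hn', hinv'⟩ := exists_invariant_cyclic_step hG H hHc hHp N hN hNtop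
      have hlt : N < N ⊔ Subgroup.zpowers x := by
        refine lt_of_le_of_ne le_sup_left fun h => hxN ?_
        rw [h]
        exact (le_sup_right : Subgroup.zpowers x ≤ N ⊔ Subgroup.zpowers x)
          (Subgroup.mem_zpowers x)
      obtain ⟨m, d, hd0, hdl, hdi, hds⟩ := ih _ hlt hn' hinv'
      refine ⟨m + 1, Fin.cons N d, ?_, ?_, ?_, ?_⟩
      · rfl
      · rw [← Fin.succ_last, Fin.cons_succ]
        exact hdl
      · intro i
        refine Fin.cases ?_ (fun j => ?_) i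
        · rw [Fin.cons_zero]; exact ⟨hNn, hN⟩
        · rw [Fin.cons_succ]; exact hdi j
      · intro i
        refine Fin.cases ?_ (fun j => ?_) i
        · refine ⟨x, ?_⟩
          rw [Fin.cons_succ, Fin.castSucc_zero, Fin.cons_zero, hd0]
        · obtain ⟨y, hy⟩ := hds j
          refine ⟨y, ?_⟩
          rw [Fin.cons_succ, ← Fin.succ_castSucc, Fin.cons_succ]
          exact hy

/-- An invariant normal chain with cyclic steps from `⊥` up to `⊤`. -/
theorem exists_invariant_chain {G : Type*} [Group G] [Finite G] (hG : IsPGroup p G)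
    (H : Subgroup (MulAut G)) (hHc : ∀ a ∈ H, ∀ b ∈ H, a * b = b * a)
    (hHp : ∀ a ∈ H, a ^ (p - 1) = 1) :
    ∃ (m : ℕ) (d : Fin (m + 1) → Subgroup G), d 0 = ⊥ ∧ d (Fin.last m) = ⊤ ∧
      (∀ i, (d i).Normal ∧ ∀ a ∈ H, ∀ y ∈ d i, a y ∈ d i) ∧
      ∀ i : Fin m, ∃ x, d i.succ = d i.castSucc ⊔ Subgroup.zpowers x :=
  exists_invariant_chain_from hG H hHc hHp ⊥ inferInstance (fun a _ y hy => by
    rw [Subgroup.mem_bot] at hy ⊢
    rw [hy, map_one])

end Cfsg.Agent.Lib.Helper87
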