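import Mathlib
import Cfsg.Prelude.Def_OddOrderLocal

set_option autoImplicit false
set_option linter.style.haveILetI false

/-! Basic facts on metacyclic groups and on automorphisms of `p`-power order of groups of order
`p` and `p²`. -/

namespace Cfsg.Agent.Lib.Helper87

open Cfsg

section metacyclic

variable {T : Type*} [Group T]

/-- subgroups of metacyclic groups are metacyclic -/
theorem isMetacyclic_subgroup (h : IsMetacyclic T) (E : Subgroup T) : IsMetacyclic ↥E := by
  obtain ⟨N, hN, hNc, hQc⟩ := h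
  haveI := hN
  haveI := hNc
  haveI := hQc
  refine ⟨N.subgroupOf E, inferInstance, ?_, ?_⟩
  · let f : ↥(N.subgroupOf E) →* ↥N :=
      ((E.subtype).comp (N.subgroupOf E).subtype).codRestrict N
        (fun x => Subgroup.mem_subgroupOf.mp x.2)
    apply isCyclic_of_injective f
    intro a b hab
    have h1 : ((f a : ↥N) : T) = ((f b : ↥N) : T) := congrArg Subtype.val hab
    exact Subtype.ext (Subtype.ext h1)
  · let g : ↥E ⧸ N.subgroupOf E →* T ⧸ N :=
      QuotientGroup.map (N.subgroupOf E) N E.subtype (fun x hx => Subgroup.mem_subgroupOf.mp hx)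
    apply isCyclic_of_injective g
    rw [injective_iff_map_eq_one]
    intro a
    induction a using QuotientGroup.induction_on with
    | H e =>
      intro he
      have h1 : ((e : T) : T ⧸ N) = 1 := he
      rw [QuotientGroup.eq_one_iff] at h1
      rw [QuotientGroup.eq_one_iff]
      exact Subgroup.mem_subgroupOf.mpr h1

/-- a group embedding into a metacyclic group is metacyclic -/
theorem isMetacyclic_of_injective {A : Type*} [Group A] (f : A →* T) (hf : Function.Injective f)
    (h : IsMetacyclic T) : IsMetacyclic A := by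
  obtain ⟨N, hN, hNc, hQc⟩ := h
  haveI := hN
  haveI := hNc
  haveI := hQc
  refine ⟨N.comap f, inferInstance, ?_, ?_⟩
  · let f' : ↥(N.comap f) →* ↥N :=
      (f.comp (N.comap f).subtype).codRestrict N (fun x => x.2)
    apply isCyclic_of_injective f'
    intro a b hab
    have h1 : f (a : A) = f (b : A) := congrArg Subtype.val hab
    exact Subtype.ext (hf h1)
  · let g : A ⧸ N.comap f →* T ⧸ N :=
      QuotientGroup.map (N.comap f) N f (fun x hx => hx)
    apply isCyclic_of_injective g
    rw [injective_iff_map_eq_one]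
    intro a
    induction a using QuotientGroup.induction_on with
    | H e =>
      intro he
      have h1 : ((f e : T) : T ⧸ N) = 1 := he
      rw [QuotientGroup.eq_one_iff] at h1
      rw [QuotientGroup.eq_one_iff]
      exact h1

/-- quotients of metacyclic groups are metacyclic -/
theorem isMetacyclic_quotient (h : IsMetacyclic T) (Φ : Subgroup T) [Φ.Normal] :
    IsMetacyclic (T ⧸ Φ) := by
  obtain ⟨N, hN, hNc, hQc⟩ := h
  haveI := hN
  haveI := hNc
  haveI := hQc
  have hsurj := QuotientGroup.mk'_surjective Φ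
  haveI hN' : (N.map (QuotientGroup.mk' Φ)).Normal := hN.map _ hsurj
  refine ⟨N.map (QuotientGroup.mk' Φ), hN', ?_, ?_⟩
  · let f : ↥N →* ↥(N.map (QuotientGroup.mk' Φ)) :=
      ((QuotientGroup.mk' Φ).comp N.subtype).codRestrict _ (fun x => ⟨x, x.2, rfl⟩)
    apply isCyclic_of_surjective f
    rintro ⟨_, x, hx, rfl⟩
    exact ⟨⟨x, hx⟩, rfl⟩
  · let g : T ⧸ N →* (T ⧸ Φ) ⧸ N.map (QuotientGroup.mk' Φ) :=
      QuotientGroup.map N (N.map (QuotientGroup.mk' Φ)) (QuotientGroup.mk' Φ)
        (fun x hx => ⟨x, hx, rfl⟩)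
    apply isCyclic_of_surjective g
    intro a
    induction a using QuotientGroup.induction_on with
    | H b =>
      obtain ⟨t, rfl⟩ := hsurj b
      exact ⟨(t : T ⧸ N), rfl⟩

theorem card_le_of_isCyclic_of_pow {G : Type*} [Group G] [Finite G] [IsCyclic G] (n : ℕ)
    (hn : 0 < n) (h : ∀ x : G, x ^ n = 1) : Nat.card G ≤ n := by
  have h1 : Monoid.exponent G ∣ n := Monoid.exponent_dvd_of_forall_pow_eq_one h
  rw [IsCyclic.exponent_eq_card] at h1
  exact Nat.le_of_dvd hn h1

/-- a metacyclic group of exponent `p` has order at most `p²` -/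
theorem card_le_of_isMetacyclic_of_pow [Finite T] (h : IsMetacyclic T) (p : ℕ) (hp : 0 < p)
    (hexp : ∀ x : T, x ^ p = 1) : Nat.card T ≤ p ^ 2 := by
  obtain ⟨N, hN, hNc, hQc⟩ := h
  haveI := hN
  haveI := hNc
  haveI := hQc
  have h1 : Nat.card ↥N ≤ p := card_le_of_isCyclic_of_pow p hp (fun x => Subtype.ext (by
    rw [Subgroup.coe_pow, hexp]; rfl))
  have h2 : Nat.card (T ⧸ N) ≤ p := card_le_of_isCyclic_of_pow p hp (fun x => by
    induction x using QuotientGroup.induction_on with
    | H t => rw [← QuotientGroup.mk_pow, hexp]; rfl)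
  rw [Subgroup.card_eq_card_quotient_mul_card_subgroup N, pow_two]
  exact Nat.mul_le_mul h2 h1

end metacyclic

section tv

variable {W : Type*} [Group W]

/-- the subgroup of fixed points of an automorphism -/
def fixSub (κ : MulAut W) : Subgroup W where
  carrier := {w | κ w = w}
  one_mem' := map_one κ
  mul_mem' := by
    intro a b ha hb
    show κ (a * b) = a * b
    rw [map_mul, ha, hb]
  inv_mem' := by
    intro a ha
    show κ a⁻¹ = a⁻¹
    rw [map_inv, ha]

theorem mem_fixSub (κ : MulAut W) (w : W) : w ∈ fixSub κ ↔ κ w = w := Iff.rfl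

theorem aut_pow_apply_pow (κ : MulAut W) {m : W} {n : ℕ} (h : κ m = m ^ n) (j : ℕ) :
    (κ ^ j) m = m ^ (n ^ j) := by
  induction j with
  | zero => simp
  | succ j ih =>
    rw [pow_succ, MulAut.mul_apply, h, map_pow, ih, ← pow_mul, ← pow_succ]

/-- an automorphism of `p`-power order fixing a subgroup of order `p` fixes it pointwise -/
theorem aut_apply_eq_of_orderOf_eq_prime {p : ℕ} [hp : Fact p.Prime] (κ : MulAut W) {m : W}
    (hm : orderOf m = p) (hκm : κ m ∈ Subgroup.zpowers m) (k : ℕ) (hκ : κ ^ (p ^ k) = 1) :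
    κ m = m := by
  have hfin : IsOfFinOrder m := by
    rw [← orderOf_pos_iff, hm]; exact hp.out.pos
  obtain ⟨n, hn⟩ := (hfin.mem_powers_iff_mem_zpowers).mpr hκm
  have hn' : κ m = m ^ n := hn.symm
  have h1 := aut_pow_apply_pow κ hn' (p ^ k)
  rw [hκ, MulAut.one_apply] at h1
  have h2 : m ^ (n ^ (p ^ k)) = m ^ 1 := by rw [← h1, pow_one]
  rw [pow_eq_pow_iff_modEq, hm] at h2
  have h3 : ((n ^ (p ^ k) : ℕ) : ZMod p) = ((1 : ℕ) : ZMod p) := (ZMod.natCast_eq_natCast_iff _ _ _).mpr h2
  rw [Nat.cast_pow, ZMod.pow_card_pow] at h3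
  have h4 : n ≡ 1 [MOD p] := (ZMod.natCast_eq_natCast_iff _ _ _).mp h3
  rw [hn']
  have h5 : m ^ n = m ^ 1 := by
    rw [pow_eq_pow_iff_modEq, hm]; exact h4
  rw [h5, pow_one]

theorem isPGroup_zpowers_of_pow {p : ℕ} {G : Type*} [Group G] (κ : G) (k : ℕ)
    (hκ : κ ^ (p ^ k) = 1) : IsPGroup p ↥(Subgroup.zpowers κ) := by
  rintro ⟨g, hg⟩
  obtain ⟨i, rfl⟩ := Subgroup.mem_zpowers_iff.mp hg
  refine ⟨k, Subtype.ext ?_⟩
  show (κ ^ i) ^ (p ^ k) = 1
  rw [← zpow_natCast, ← zpow_mul, mul_comm, zpow_mul, zpow_natCast, hκ, one_zpow]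

/-- the fixed points of an automorphism of `p`-power order of a `p`-group have order divisible by
`p` -/
theorem dvd_card_fixSub [Finite W] {p : ℕ} [hp : Fact p.Prime] (κ : MulAut W) (k : ℕ)
    (hκ : κ ^ (p ^ k) = 1) (hW : p ∣ Nat.card W) : p ∣ Nat.card ↥(fixSub κ) := by
  have hΓ := isPGroup_zpowers_of_pow (p := p) κ k hκ
  have h1 := hΓ.card_modEq_card_fixedPoints W
  have h2 : (MulAction.fixedPoints ↥(Subgroup.zpowers κ) W) = ((fixSub κ : Subgroup W) : Set W) := by
    ext w
    constructor
    · intro hw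
      exact hw ⟨κ, Subgroup.mem_zpowers κ⟩
    · rintro hw ⟨g, hg⟩
      obtain ⟨i, rfl⟩ := Subgroup.mem_zpowers_iff.mp hg
      show (κ ^ i) w = w
      have h3 : w ∈ fixSub (κ ^ i) := by
        have hle : Subgroup.zpowers κ ≤
            ({ carrier := {φ | φ w = w}
               one_mem' := rfl
               mul_mem' := by
                intro a b ha hb
                show a (b w) = w
                rw [hb, ha]
               inv_mem' := by
                intro a ha
                show a⁻¹ w = w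
                calc a⁻¹ w = a⁻¹ (a w) := by rw [ha]
                  _ = w := by simp } : Subgroup (MulAut W)) := by
          rw [Subgroup.zpowers_le]
          exact hw
        exact hle (Subgroup.zpow_mem_zpowers κ i)
      exact h3
  rw [h2] at h1
  have h3 : Nat.card ↥(fixSub κ) ≡ 0 [MOD p] :=
    h1.symm.trans ((Nat.modEq_zero_iff_dvd).mpr hW)
  exact (Nat.modEq_zero_iff_dvd).mp h3

/-- **transvection structure**: an automorphism of `p`-power order of an abelian group of order
`p²` acts trivially on its own commutators. -/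
theorem aut_comm_fixed [Finite W] {p : ℕ} [hp : Fact p.Prime] (hc : ∀ a b : W, a * b = b * a)
    (hW : Nat.card W = p ^ 2) (κ : MulAut W) (k : ℕ) (hκ : κ ^ (p ^ k) = 1) (w : W) :
    κ (κ w * w⁻¹) = κ w * w⁻¹ := by
  -- the homomorphism `δ`
  let δ : W →* W :=
    { toFun := fun w => κ w * w⁻¹
      map_one' := by simp
      map_mul' := fun a b => by
        show κ (a * b) * (a * b)⁻¹ = κ a * a⁻¹ * (κ b * b⁻¹)
        rw [map_mul, mul_inv_rev, hc b⁻¹ a⁻¹]
        calc κ a * κ b * (a⁻¹ * b⁻¹) = κ a * (κ b * a⁻¹) * b⁻¹ := by group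
          _ = κ a * (a⁻¹ * κ b) * b⁻¹ := by rw [hc (κ b) a⁻¹]
          _ = κ a * a⁻¹ * (κ b * b⁻¹) := by group }
  have hδ : ∀ w, δ w = κ w * w⁻¹ := fun _ => rfl
  have hker : δ.ker = fixSub κ := by
    ext w
    rw [MonoidHom.mem_ker, mem_fixSub, hδ, mul_inv_eq_one]
  have hpW : p ∣ Nat.card W := by rw [hW]; exact dvd_pow_self p two_ne_zero
  have hdvd := dvd_card_fixSub κ k hκ hpW
  have hidx := Subgroup.index_ker δ
  have hmul := Subgroup.card_mul_index δ.ker
  rw [hidx, hker, hW] at hmul
  -- `|range δ|` divides `p`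
  obtain ⟨a, ha⟩ := hdvd
  have hr : Nat.card ↥δ.range ∣ p := by
    rw [ha] at hmul
    have hp0 : 0 < p := hp.out.pos
    have h1 : p * (a * Nat.card ↥δ.range) = p * p := by rw [← mul_assoc, hmul, pow_two]
    have h2 : a * Nat.card ↥δ.range = p := Nat.eq_of_mul_eq_mul_left hp0 h1
    exact ⟨a, by rw [← h2, mul_comm]⟩
  rcases (Nat.dvd_prime hp.out).mp hr with h1 | h1
  · -- trivial range
    have h2 : δ w = 1 := by
      have h3 : (⟨δ w, w, rfl⟩ : ↥δ.range) = 1 := by
        haveI : Subsingleton ↥δ.range := (Nat.card_eq_one_iff_unique.mp h1).1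
        exact Subsingleton.elim _ _
      exact congrArg Subtype.val h3
    rw [hδ] at h2
    rw [h2, map_one]
  · by_cases hm1 : δ w = 1
    · rw [hδ] at hm1
      rw [hm1, map_one]
    · have hmr : δ w ∈ δ.range := ⟨w, rfl⟩
      have hord : orderOf (δ w) = p := by
        have h2 : orderOf (δ w) ∣ p := by
          have h3 : orderOf (⟨δ w, hmr⟩ : ↥δ.range) ∣ Nat.card ↥δ.range := orderOf_dvd_natCard _
          rw [h1] at h3
          rwa [Subgroup.orderOf_mk] at h3
        rcases (Nat.dvd_prime hp.out).mp h2 with h3 | h3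
        · exact absurd (orderOf_eq_one_iff.mp h3) hm1
        · exact h3
      have hz : Subgroup.zpowers (δ w) = δ.range := by
        apply Subgroup.eq_of_le_of_card_ge
        · rw [Subgroup.zpowers_le]; exact hmr
        · rw [Nat.card_zpowers, hord, h1]
      have hκm : κ (δ w) ∈ Subgroup.zpowers (δ w) := by
        rw [hz]
        refine ⟨κ w, ?_⟩
        show κ (κ w) * (κ w)⁻¹ = κ (κ w * w⁻¹)
        rw [map_mul, map_inv]
      exact aut_apply_eq_of_orderOf_eq_prime κ hord hκm k hκ

/-- a nontrivial automorphism of `p`-power order of a group of order `p²` has exactly `p` fixed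
points -/
theorem card_fixSub_eq [Finite W] {p : ℕ} [hp : Fact p.Prime] (hW : Nat.card W = p ^ 2)
    (κ : MulAut W) (k : ℕ) (hκ : κ ^ (p ^ k) = 1) (hne : κ ≠ 1) : Nat.card ↥(fixSub κ) = p := by
  have hpW : p ∣ Nat.card W := by rw [hW]; exact dvd_pow_self p two_ne_zero
  have hdvd := dvd_card_fixSub κ k hκ hpW
  have h1 : Nat.card ↥(fixSub κ) ∣ p ^ 2 := hW ▸ Subgroup.card_subgroup_dvd_card _
  obtain ⟨r, hr2, hr⟩ := (Nat.dvd_prime_pow hp.out).mp h1
  interval_cases r
  · rw [hr, pow_zero] at hdvd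
    exact absurd (Nat.dvd_one.mp hdvd) hp.out.one_lt.ne'
  · rw [hr, pow_one]
  · exfalso
    apply hne
    have htop : fixSub κ = ⊤ := by
      apply Subgroup.eq_top_of_card_eq
      rw [hr, hW]
    ext w
    have : w ∈ fixSub κ := htop ▸ Subgroup.mem_top w
    exact this

/-- an automorphism of `p`-power order of a group of order dividing `p` is trivial -/
theorem aut_eq_one_of_card_dvd_prime [Finite W] {p : ℕ} [hp : Fact p.Prime]
    (hW : Nat.card W ∣ p) (κ : MulAut W) (k : ℕ) (hκ : κ ^ (p ^ k) = 1) : κ = 1 := by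
  ext w
  show κ w = w
  by_cases hw : w = 1
  · rw [hw, map_one]
  · rcases (Nat.dvd_prime hp.out).mp hW with h1 | h1
    · haveI : Subsingleton W := (Nat.card_eq_one_iff_unique.mp h1).1
      exact Subsingleton.elim _ _
    · have hord : orderOf w = p := by
        have h2 : orderOf w ∣ p := h1 ▸ orderOf_dvd_natCard w
        rcases (Nat.dvd_prime hp.out).mp h2 with h3 | h3
        · exact absurd (orderOf_eq_one_iff.mp h3) hw
        · exact h3
      have hz : Subgroup.zpowers w = ⊤ := by
        apply Subgroup.eq_top_of_card_eq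
        rw [Nat.card_zpowers, hord, h1]
      exact aut_apply_eq_of_orderOf_eq_prime κ hord (hz ▸ Subgroup.mem_top _) k hκ

end tv

end Cfsg.Agent.Lib.Helper87
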