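import Cfsg.Agent.Lib.Helper87.MetaCoreA
import Cfsg.Agent.Lib.Helper1.PFrattini

set_option autoImplicit false
set_option linter.style.haveILetI false

/-! Metacyclic `p`-groups, `p` odd: a normal elementary abelian subgroup of order `p²` contains all
elements of order `p`; an automorphism inverting it forces the group to be abelian. -/

namespace Cfsg.Agent.Lib.Helper87

open Cfsg

section x1

variable {T : Type*} [Group T]

theorem conj_pow_mul {g v m : T} (h1 : g * v * g⁻¹ = v * m) (h2 : g * m * g⁻¹ = m) (n : ℕ) :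
    g ^ n * v = v * m ^ n * g ^ n := by
  induction n with
  | zero => simp
  | succ n ih =>
    have e1 : g * v = v * m * g := by rw [← h1]; group
    have e2 : g * m ^ n = m ^ n * g := by
      have h3 : g * m ^ n * g⁻¹ = m ^ n := by
        rw [← conj_pow, h2]
      calc g * m ^ n = (g * m ^ n * g⁻¹) * g := by group
        _ = m ^ n * g := by rw [h3]
    calc g ^ (n + 1) * v = g * (g ^ n * v) := by rw [pow_succ']; group
      _ = g * (v * m ^ n * g ^ n) := by rw [ih]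
      _ = (g * v) * m ^ n * g ^ n := by group
      _ = v * m * (g * m ^ n) * g ^ n := by rw [e1]; group
      _ = v * m * (m ^ n * g) * g ^ n := by rw [e2]
      _ = v * m ^ (n + 1) * g ^ (n + 1) := by rw [pow_succ', pow_succ' g]; group

theorem mul_pow_of_conj {g v m : T} (h1 : g * v * g⁻¹ = v * m) (h2 : g * m * g⁻¹ = m)
    (h3 : v * m = m * v) (n : ℕ) :
    (v * g) ^ n = v ^ n * m ^ (n.choose 2) * g ^ n := by
  induction n with
  | zero => simp
  | succ n ih =>
    have e1 := conj_pow_mul h1 h2 n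
    have hc : ∀ b : ℕ, v * m ^ b = m ^ b * v := fun b =>
      (Commute.pow_right (show Commute v m from h3) b).eq
    have hch : (n + 1).choose 2 = n.choose 2 + n := by
      rw [Nat.choose_succ_succ, Nat.choose_one_right, add_comm]
    calc (v * g) ^ (n + 1) = (v * g) ^ n * (v * g) := pow_succ _ _
      _ = v ^ n * m ^ (n.choose 2) * g ^ n * (v * g) := by rw [ih]
      _ = v ^ n * m ^ (n.choose 2) * (g ^ n * v) * g := by group
      _ = v ^ n * m ^ (n.choose 2) * (v * m ^ n * g ^ n) * g := by rw [e1]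
      _ = v ^ n * (m ^ (n.choose 2) * v) * m ^ n * g ^ n * g := by group
      _ = v ^ n * (v * m ^ (n.choose 2)) * m ^ n * g ^ n * g := by rw [hc]
      _ = (v ^ n * v) * (m ^ (n.choose 2) * m ^ n) * (g ^ n * g) := by group
      _ = v ^ (n + 1) * m ^ ((n + 1).choose 2) * g ^ (n + 1) := by
        rw [hch, pow_add m, pow_succ v, pow_succ g]

/-- In a metacyclic group, `p` odd, a normal elementary abelian subgroup of order `p²` contains
every element of order dividing `p`. -/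
theorem mem_of_pow_eq_one_of_isMetacyclic [Finite T] {p : ℕ} [hp : Fact p.Prime] (hp2 : p ≠ 2)
    (hT : IsMetacyclic T) (V : Subgroup T) [hV : V.Normal] (hVc : Nat.card ↥V = p ^ 2)
    (hVe : ∀ v ∈ V, v ^ p = 1) {x : T} (hx : x ^ p = 1) : x ∈ V := by
  by_contra hxV
  have hcomm : ∀ a b : ↥V, a * b = b * a := fun a b =>
    (IsPGroup.isMulCommutative_of_card_eq_prime_sq hVc).is_comm.comm a b
  have hpc : p ∣ p.choose 2 := by
    apply hp.out.dvd_choose_self two_ne_zero
    have := hp.out.two_le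
    omega
  have hexp : ∀ e ∈ V ⊔ Subgroup.zpowers x, e ^ p = 1 := by
    intro e he
    have h1 : e ∈ ((V ⊔ Subgroup.zpowers x : Subgroup T) : Set T) := he
    rw [Subgroup.normal_mul] at h1
    obtain ⟨v, hv, g, hg, rfl⟩ := h1
    have hgp : g ^ p = 1 := by
      obtain ⟨i, rfl⟩ := Subgroup.mem_zpowers_iff.mp hg
      rw [← zpow_natCast, ← zpow_mul, mul_comm, zpow_mul, zpow_natCast, hx, one_zpow]
    -- the automorphism `κ`
    obtain ⟨κ, hκdef⟩ : ∃ κ : MulAut ↥V, κ = MulAut.conjNormal g := ⟨_, rfl⟩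
    have hκp : κ ^ (p ^ 1) = 1 := by
      rw [pow_one, hκdef, ← map_pow, hgp, map_one]
    have h2 := aut_comm_fixed hcomm hVc κ 1 hκp ⟨v, hv⟩
    obtain ⟨m, hmdef⟩ : ∃ m : ↥V, m = κ ⟨v, hv⟩ * (⟨v, hv⟩ : ↥V)⁻¹ := ⟨_, rfl⟩
    rw [← hmdef] at h2
    have hm1 : g * v * g⁻¹ = v * (m : T) := by
      have h3 : κ ⟨v, hv⟩ = ⟨v, hv⟩ * m := by
        rw [hmdef, hcomm]; group
      have h4 := congrArg Subtype.val h3
      rw [hκdef, MulAut.conjNormal_apply] at h4
      exact h4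
    have hm2 : g * (m : T) * g⁻¹ = m := by
      have h4 := congrArg Subtype.val h2
      rw [hκdef, MulAut.conjNormal_apply] at h4
      exact h4
    have hm3 : v * (m : T) = m * v := by
      have h4 := congrArg Subtype.val (hcomm ⟨v, hv⟩ m)
      exact h4
    rw [mul_pow_of_conj hm1 hm2 hm3, hVe v hv, hgp]
    obtain ⟨c, hc⟩ := hpc
    rw [hc, pow_mul, hVe _ m.2]
    simp
  have hE : IsMetacyclic ↥(V ⊔ Subgroup.zpowers x) := isMetacyclic_subgroup hT _
  have hle := card_le_of_isMetacyclic_of_pow hE p hp.out.pos (fun e => Subtype.ext (by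
    rw [Subgroup.coe_pow, hexp e e.2]; rfl))
  have hVE : V ≤ V ⊔ Subgroup.zpowers x := le_sup_left
  have hne : V ≠ V ⊔ Subgroup.zpowers x := by
    intro h
    apply hxV
    rw [h]
    exact (le_sup_right : Subgroup.zpowers x ≤ _) (Subgroup.mem_zpowers x)
  apply hne
  apply Subgroup.eq_of_le_of_card_ge hVE
  rw [hVc]
  exact hle

end x1

section inv

variable {T : Type*} [Group T]

theorem eq_one_of_eq_inv_of_pow {p : ℕ} [hp : Fact p.Prime] (hp2 : p ≠ 2) {z : T}
    (h1 : z = z⁻¹) (h2 : z ^ p = 1) : z = 1 := by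
  have h3 : z ^ 2 = 1 := by
    rw [pow_two]
    nth_rewrite 2 [h1]
    exact mul_inv_cancel z
  have h4 : orderOf z ∣ Nat.gcd 2 p := Nat.dvd_gcd (orderOf_dvd_of_pow_eq_one h3)
    (orderOf_dvd_of_pow_eq_one h2)
  have h5 : Nat.gcd 2 p = 1 := by
    rw [Nat.coprime_primes Nat.prime_two hp.out |>.mpr (Ne.symm hp2)]
  rw [h5, Nat.dvd_one] at h4
  exact orderOf_eq_one_iff.mp h4

/-- a nontrivial element of a `p`-group has a nontrivial power of order dividing `p` -/
theorem exists_pow_ne_one {p : ℕ} [hp : Fact p.Prime] (hT : IsPGroup p T) {y : T} (hy : y ≠ 1) :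
    ∃ n : ℕ, y ^ n ≠ 1 ∧ (y ^ n) ^ p = 1 := by
  obtain ⟨j, hj⟩ := (IsPGroup.iff_orderOf.mp hT) y
  have hj0 : j ≠ 0 := by
    rintro rfl
    rw [pow_zero, orderOf_eq_one_iff] at hj
    exact hy hj
  obtain ⟨i, rfl⟩ : ∃ i, j = i + 1 := ⟨j - 1, by omega⟩
  refine ⟨p ^ i, ?_, ?_⟩
  · apply pow_ne_one_of_lt_orderOf (pow_pos hp.out.pos i).ne'
    rw [hj]
    exact Nat.pow_lt_pow_right hp.out.one_lt (Nat.lt_succ_self i)
  · rw [← pow_mul, ← pow_succ, ← hj, pow_orderOf_eq_one]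

/-- an involutory automorphism of a `p`-group, `p` odd, fixing the elements of order `p` is
trivial -/
theorem aut_eq_one_of_sq_of_fix {p : ℕ} [hp : Fact p.Prime] (hp2 : p ≠ 2) (hT : IsPGroup p T)
    (σ : MulAut T) (hσ : ∀ t, σ (σ t) = t) (hfix : ∀ t : T, t ^ p = 1 → σ t = t) (t : T) :
    σ t = t := by
  obtain ⟨y, hydef⟩ : ∃ y, y = t⁻¹ * σ t := ⟨_, rfl⟩
  have hσy : σ y = y⁻¹ := by
    rw [hydef, map_mul, map_inv, hσ, mul_inv_rev, inv_inv]
  have hy1 : y = 1 := by
    by_contra hy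
    obtain ⟨n, hn1, hnp⟩ := exists_pow_ne_one hT hy
    apply hn1
    apply eq_one_of_eq_inv_of_pow hp2 _ hnp
    have h1 := hfix _ hnp
    rw [map_pow, hσy, inv_pow] at h1
    exact h1.symm
  rw [hydef] at hy1
  have : σ t = t * (t⁻¹ * σ t) := by group
  rw [this, hy1, mul_one]

theorem aut_pow_inv_of_odd (τ : MulAut T) (V : Subgroup T) (hτ : ∀ v ∈ V, τ v = v⁻¹) {m : ℕ}
    (hm : Odd m) : ∀ v ∈ V, (τ ^ m) v = v⁻¹ := by
  have h2 : ∀ v ∈ V, τ (τ v) = v := by
    intro v hv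
    rw [hτ v hv, hτ _ (V.inv_mem hv), inv_inv]
  have hev : ∀ j : ℕ, ∀ v ∈ V, (τ ^ (2 * j)) v = v := by
    intro j
    induction j with
    | zero => intro v _; simp
    | succ j ih =>
      intro v hv
      rw [Nat.mul_succ, pow_add, MulAut.mul_apply, pow_two, MulAut.mul_apply, h2 v hv, ih v hv]
  obtain ⟨j, rfl⟩ := hm
  intro v hv
  rw [pow_add, MulAut.mul_apply, pow_one, hτ v hv, hev j _ (V.inv_mem hv)]

/-- **Key lemma.** If all elements of order `p` of a finite `p`-group (`p` odd) lie in a subgroup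
inverted by an automorphism, the group is abelian. -/
theorem comm_of_aut_inverting [Finite T] {p : ℕ} [hp : Fact p.Prime] (hp2 : p ≠ 2)
    (hT : IsPGroup p T) (V : Subgroup T) (hV : ∀ t : T, t ^ p = 1 → t ∈ V) (τ : MulAut T)
    (hτ : ∀ v ∈ V, τ v = v⁻¹) : ∀ a b : T, a * b = b * a := by
  haveI : Finite (MulAut T) := Finite.of_injective (fun f : MulAut T => (f : T → T))
    (fun f g h => MulEquiv.ext (congrFun h))
  have hn0 : orderOf τ ≠ 0 := (orderOf_pos τ).ne'
  obtain ⟨b, m, hm, hbm⟩ := Nat.exists_eq_two_pow_mul_odd hn0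
  obtain ⟨τ₁, hτ₁def⟩ : ∃ τ₁ : MulAut T, τ₁ = τ ^ m := ⟨_, rfl⟩
  have hτ₁ : ∀ v ∈ V, τ₁ v = v⁻¹ := hτ₁def ▸ aut_pow_inv_of_odd τ V hτ hm
  have hτ₁pow : τ₁ ^ (2 ^ b) = 1 := by
    rw [hτ₁def, ← pow_mul, mul_comm, ← hbm, pow_orderOf_eq_one]
  have hsqfix : ∀ v ∈ V, (τ₁ ^ 2) v = v := by
    intro v hv
    rw [pow_two, MulAut.mul_apply, hτ₁ v hv, hτ₁ _ (V.inv_mem hv), inv_inv]
  -- `τ₁² = 1`
  have hsq : ∀ j : ℕ, (τ₁ ^ 2) ^ (2 ^ j) = 1 → τ₁ ^ 2 = 1 := by
    intro j
    induction j with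
    | zero => intro h; simpa using h
    | succ j ih =>
      intro h
      apply ih
      obtain ⟨σ, hσdef⟩ : ∃ σ : MulAut T, σ = (τ₁ ^ 2) ^ (2 ^ j) := ⟨_, rfl⟩
      have hσ2 : ∀ t, σ (σ t) = t := by
        intro t
        have : σ * σ = 1 := by
          rw [hσdef, ← pow_two, ← pow_mul, ← pow_succ]; exact h
        have h3 := congrArg (fun f : MulAut T => f t) this
        exact h3
      have hσfix : ∀ t : T, t ^ p = 1 → σ t = t := by
        intro t ht
        have htV := hV t ht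
        have : ∀ i : ℕ, ((τ₁ ^ 2) ^ i) t = t := by
          intro i
          induction i with
          | zero => simp
          | succ i ih2 => rw [pow_succ, MulAut.mul_apply, hsqfix t htV, ih2]
        rw [hσdef]
        exact this _
      rw [← hσdef]
      ext t
      exact aut_eq_one_of_sq_of_fix hp2 hT σ hσ2 hσfix t
  have hτ₁sq : τ₁ ^ 2 = 1 := by
    apply hsq b
    rw [← pow_mul, mul_comm, pow_mul, hτ₁pow, one_pow]
  have hinv2 : ∀ t, τ₁ (τ₁ t) = t := by
    intro t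
    have h3 := congrArg (fun f : MulAut T => f t) hτ₁sq
    rw [pow_two] at h3
    exact h3
  -- fixed point free
  have hfpf : ∀ t, τ₁ t = t → t = 1 := by
    intro t ht
    by_contra hne
    obtain ⟨n, hn1, hnp⟩ := exists_pow_ne_one hT hne
    apply hn1
    apply eq_one_of_eq_inv_of_pow hp2 _ hnp
    have h1 := hτ₁ _ (hV _ hnp)
    rw [map_pow, ht] at h1
    exact h1
  -- every element is inverted
  have hinj : Function.Injective (fun t : T => t⁻¹ * τ₁ t) := by
    intro a b hab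
    have hab' : a⁻¹ * τ₁ a = b⁻¹ * τ₁ b := hab
    have h1 : τ₁ (b * a⁻¹) = b * a⁻¹ := by
      rw [map_mul, map_inv]
      have : τ₁ b = b * (a⁻¹ * τ₁ a) := by rw [hab']; group
      rw [this]; group
    have h2 := hfpf _ h1
    have : b = (b * a⁻¹) * a := by group
    rw [this, h2, one_mul]
  have hsurj : Function.Surjective (fun t : T => t⁻¹ * τ₁ t) := Finite.surjective_of_injective hinj
  have hall : ∀ g : T, τ₁ g = g⁻¹ := by
    intro g
    obtain ⟨t, rfl⟩ := hsurj g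
    show τ₁ (t⁻¹ * τ₁ t) = (t⁻¹ * τ₁ t)⁻¹
    rw [map_mul, map_inv, hinv2, mul_inv_rev, inv_inv]
  intro a b
  have h1 := hall (a * b)
  rw [map_mul, hall a, hall b, mul_inv_rev] at h1
  have : a * b = (b⁻¹ * a⁻¹)⁻¹ := by group
  rw [this, ← h1]; group

end inv

section rel

variable {T : Type*} [Group T]

/-- **Relative form.** `T` a finite metacyclic `p`-group, `p` odd, `Φ ≤ D` normal subgroups with
`D/Φ` elementary abelian of order `p²`, and `τ` an automorphism preserving `Φ` and inverting `D`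
modulo `Φ`. Then `T` centralises `D/Φ`. -/
theorem comm_mem_of_aut_inverting_rel [Finite T] {p : ℕ} [hp : Fact p.Prime] (hp2 : p ≠ 2)
    (hT : IsPGroup p T) (hTm : IsMetacyclic T) (D Φ : Subgroup T) [hD : D.Normal] [hΦ : Φ.Normal]
    (hΦD : Φ ≤ D) (hpow : ∀ d ∈ D, d ^ p ∈ Φ) (hcard : Nat.card ↥D = p ^ 2 * Nat.card ↥Φ)
    (τ : MulAut T) (hτΦ : ∀ x ∈ Φ, τ x ∈ Φ) (hτ : ∀ d ∈ D, τ d * d ∈ Φ) (t d : T) :
    t * d * t⁻¹ * d⁻¹ ∈ Φ := by
  have hsurj := QuotientGroup.mk'_surjective Φ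
  obtain ⟨V, hVdef⟩ : ∃ V : Subgroup (T ⧸ Φ), V = D.map (QuotientGroup.mk' Φ) := ⟨_, rfl⟩
  haveI hVn : V.Normal := hVdef ▸ hD.map _ hsurj
  -- cardinality of `V`
  have hVc : Nat.card ↥V = p ^ 2 := by
    have h1 : V.index = D.index := by
      rw [hVdef]
      apply Subgroup.index_map_eq D hsurj
      rw [QuotientGroup.ker_mk']
      exact hΦD
    have h2 := Subgroup.card_mul_index V
    have h3 := Subgroup.card_mul_index D
    have h4 := Subgroup.card_eq_card_quotient_mul_card_subgroup Φ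
    rw [h1] at h2
    have h5 : Nat.card ↥V * D.index * Nat.card ↥Φ = p ^ 2 * D.index * Nat.card ↥Φ := by
      rw [h2, ← h4, ← h3, hcard]; ring
    have hpos : 0 < D.index * Nat.card ↥Φ :=
      Nat.mul_pos (Nat.pos_of_ne_zero Subgroup.index_ne_zero_of_finite) Nat.card_pos
    have h6 : Nat.card ↥V * (D.index * Nat.card ↥Φ) = p ^ 2 * (D.index * Nat.card ↥Φ) := by
      rw [← mul_assoc, h5, mul_assoc]
    exact Nat.eq_of_mul_eq_mul_right hpos h6
  have hVe : ∀ v ∈ V, v ^ p = 1 := by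
    intro v hv
    rw [hVdef] at hv
    obtain ⟨d', hd', rfl⟩ := hv
    rw [← map_pow]
    exact (QuotientGroup.eq_one_iff _).mpr (hpow d' hd')
  -- the induced automorphism
  have hmap : Φ.map (τ : T ≃* T).toMonoidHom = Φ := by
    apply Subgroup.eq_of_le_of_card_ge
    · rintro _ ⟨x, hx, rfl⟩
      exact hτΦ x hx
    · rw [Subgroup.card_map_of_injective (MulEquiv.injective _)]
  obtain ⟨τb, hτbdef⟩ : ∃ τb : MulAut (T ⧸ Φ), τb = QuotientGroup.congr Φ Φ τ hmap := ⟨_, rfl⟩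
  have hτb : ∀ x : T, τb (x : T ⧸ Φ) = ((τ x : T) : T ⧸ Φ) := by
    intro x
    rw [hτbdef]
    exact QuotientGroup.congr_mk Φ Φ τ hmap x
  have hτbV : ∀ v ∈ V, τb v = v⁻¹ := by
    intro v hv
    rw [hVdef] at hv
    obtain ⟨d', hd', rfl⟩ := hv
    show τb (d' : T ⧸ Φ) = _
    rw [hτb, eq_inv_iff_mul_eq_one]
    show ((τ d' : T) : T ⧸ Φ) * ((d' : T) : T ⧸ Φ) = 1
    rw [← QuotientGroup.mk_mul]
    exact (QuotientGroup.eq_one_iff _).mpr (hτ d' hd')
  have hTb : IsPGroup p (T ⧸ Φ) := hT.to_quotient Φ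
  have hTbm : IsMetacyclic (T ⧸ Φ) := isMetacyclic_quotient hTm Φ
  have hX : ∀ y : T ⧸ Φ, y ^ p = 1 → y ∈ V := fun y hy =>
    mem_of_pow_eq_one_of_isMetacyclic hp2 hTbm V hVc hVe hy
  have hcomm := comm_of_aut_inverting hp2 hTb V hX τb hτbV
  rw [← QuotientGroup.eq_one_iff]
  rw [QuotientGroup.mk_mul, QuotientGroup.mk_mul, QuotientGroup.mk_mul, QuotientGroup.mk_inv,
    QuotientGroup.mk_inv, hcomm (t : T ⧸ Φ) (d : T ⧸ Φ)]
  group

end rel

section frat

variable {H : Type*} [Group H]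

theorem pow_mem_frattini' [Finite H] {p : ℕ} [hp : Fact p.Prime] (hH : IsPGroup p H) (x : H) :
    x ^ p ∈ frattini H := by
  unfold frattini Order.radical
  simp only [Subgroup.mem_iInf]
  exact fun M hM => Cfsg.Agent.Lib.Helper1.pow_mem_coatom_of_isPGroup hH M hM x

theorem commutator_le_frattini' [Finite H] {p : ℕ} [hp : Fact p.Prime] (hH : IsPGroup p H) :
    commutator H ≤ frattini H := by
  unfold frattini Order.radical
  exact le_iInf₂ (fun M hM => Cfsg.Agent.Lib.Helper1.commutator_le_coatom_of_isPGroup hH M hM)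

/-- the Frattini quotient of a metacyclic `p`-group has order dividing `p²` -/
theorem frattini_index_dvd_of_isMetacyclic [Finite H] {p : ℕ} [hp : Fact p.Prime]
    (hH : IsPGroup p H) (hm : IsMetacyclic H) : (frattini H).index ∣ p ^ 2 := by
  have h1 : IsMetacyclic (H ⧸ frattini H) := isMetacyclic_quotient hm _
  have h2 := card_le_of_isMetacyclic_of_pow h1 p hp.out.pos (fun x => by
    induction x using QuotientGroup.induction_on with
    | H t =>
      rw [← QuotientGroup.mk_pow]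
      exact (QuotientGroup.eq_one_iff _).mpr (pow_mem_frattini' hH t))
  rw [← Subgroup.index_eq_card] at h2
  obtain ⟨n, hn⟩ := IsPGroup.iff_card.mp hH
  have h3 : (frattini H).index ∣ p ^ n := hn ▸ Subgroup.index_dvd_card _
  obtain ⟨r, -, hr⟩ := (Nat.dvd_prime_pow hp.out).mp h3
  rw [hr] at h2 ⊢
  have : r ≤ 2 := (Nat.pow_le_pow_iff_right hp.out.one_lt).mp h2
  exact pow_dvd_pow p this

end frat

end Cfsg.Agent.Lib.Helper87
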