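import Cfsg.Agent.Lib.Helper87.MetaSL2C
import Cfsg.Agent.Lib.Helper87.AGNormal
import Cfsg.Agent.Lib.Helper87.EssentialTI
import Cfsg.Agent.Lib.Helper87.Chain
import Cfsg.Agent.Lib.Helper87.Inner
import Cfsg.Agent.Lib.Helper87.Saturation

set_option autoImplicit false
set_option linter.style.haveILetI false
set_option linter.unusedSectionVars false

/-! A strongly closed metacyclic subgroup (`p` odd) and an essential subgroup: the context for the
main lemma. -/

namespace Cfsg.Agent.Lib.Helper87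

open Cfsg Cfsg.FusionSystem

variable {Ω : Type*} [Group Ω] {S : Subgroup Ω}

theorem sc_aut_mem (F : FusionSystem S) {P T : Subgroup Ω} (hP : P ≤ S)
    (hT : F.StronglyClosed T) {γ : MulAut P} (hγ : γ ∈ F.autGroup P) (x : P) (hx : (x : Ω) ∈ T) :
    ((γ x : P) : Ω) ∈ T := by
  have hγ' := (mem_autGroup_iff F hP γ).mp hγ
  have hφ := restrict_mem F hγ' (inf_le_left : P ⊓ T ≤ P)
  exact hT.2 (P ⊓ T) inf_le_right _ hφ ⟨x, x.2, hx⟩

theorem sc_le_normalizer [Finite S] (F : FusionSystem S) {T : Subgroup Ω}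
    (hT : F.StronglyClosed T) : S ≤ Subgroup.normalizer (T : Set Ω) :=
  weaklyClosed_le_normalizer F (weaklyClosed_of_stronglyClosed F hT)

theorem conjAut_pow (R : Subgroup Ω) (x : Ω) (hx : x ∈ Subgroup.normalizer (R : Set Ω)) (n : ℕ)
    (hxn : x ^ n = 1) : conjAut R x hx ^ n = 1 := by
  unfold conjAut
  rw [← map_pow]
  have : (⟨x, hx⟩ : ↥(Subgroup.normalizer (R : Set Ω))) ^ n = 1 := Subtype.ext (by
    rw [Subgroup.coe_pow]; exact hxn)
  rw [this, map_one]

/-- conjugation by an element of a strongly closed subgroup acts trivially modulo that subgroup -/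
theorem conjAut_mem_modSub [Finite S] (F : FusionSystem S) {Q R : Subgroup Ω}
    (hQ : F.StronglyClosed Q) (hRS : R ≤ S) {y : Ω} (hyQ : y ∈ Q)
    (hyN : y ∈ Subgroup.normalizer (R : Set Ω)) :
    conjAut R y hyN ∈ modSub (F.autGroup R) (Q.subgroupOf R) := by
  have hyS : y ∈ S := hQ.1 hyQ
  refine ⟨autInducedBy_le_autGroup F hRS (conjAut_mem_autInducedBy hyS hyN), fun g => ?_⟩
  rw [Subgroup.mem_subgroupOf]
  show y * (g : Ω) * y⁻¹ * (g : Ω)⁻¹ ∈ Q
  have h1 : (g : Ω) * y⁻¹ * (g : Ω)⁻¹ ∈ Q :=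
    (Subgroup.mem_normalizer_iff.mp (sc_le_normalizer F hQ (hRS g.2)) _).mp (Q.inv_mem hyQ)
  have e : y * (g : Ω) * y⁻¹ * (g : Ω)⁻¹ = y * ((g : Ω) * y⁻¹ * (g : Ω)⁻¹) := by group
  rw [e]
  exact Q.mul_mem hyQ h1

/-- the context attached to an essential subgroup and a strongly closed metacyclic subgroup -/
theorem mctx_of_essential [Finite S] {p : ℕ} [Fact p.Prime] (hS : IsPGroup p S)
    (F : FusionSystem S) (hF : F.IsSaturated p) {Q : Subgroup Ω} (hQ : F.StronglyClosed Q)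
    (hm : IsMetacyclic ↥Q) {R : Subgroup Ω} (hR : F.IsEssential p R) :
    MCtx p (Q.subgroupOf R) (F.autGroup R) := by
  have hRS : R ≤ S := hR.2.1.1
  haveI hfinR : Finite ↥R := finite_of_le hRS
  have hRp : IsPGroup p ↥R := hS.to_le hRS
  refine ⟨hRp, ?_, ?_, ?_⟩
  · intro α hα
    apply mem_stabSubgroup_of_finite
    intro x hx
    rw [Subgroup.mem_subgroupOf] at hx ⊢
    exact sc_aut_mem F hRS hQ hα x hx
  · obtain ⟨α₀, hα₀, hTI⟩ := essential_TI hS F hF hR
    intro X hX hXp hXn φ hφ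
    have hTle : autInducedBy S R ≤ F.autGroup R := autInducedBy_le_autGroup F hRS
    apply hTI X hX hXp (fun c hc ψ hψ => hXn c (hTle hc) ψ hψ) ?_ φ hφ
    intro c hc ψ hψ
    apply hXn _ _ ψ hψ
    exact (F.autGroup R).mul_mem ((F.autGroup R).mul_mem hα₀ (hTle hc)) ((F.autGroup R).inv_mem hα₀)
  · have hHp : IsPGroup p ↥(Q.subgroupOf R) := hRp.to_subgroup _
    apply frattini_index_dvd_of_isMetacyclic hHp
    let f : ↥(Q.subgroupOf R) →* ↥Q :=
      ((R.subtype).comp (Q.subgroupOf R).subtype).codRestrict Q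
        (fun x => Subgroup.mem_subgroupOf.mp x.2)
    apply isMetacyclic_of_injective f _ hm
    intro a b hab
    have h1 : ((f a : ↥Q) : Ω) = ((f b : ↥Q) : Ω) := congrArg Subtype.val hab
    exact Subtype.ext (Subtype.ext h1)

end Cfsg.Agent.Lib.Helper87
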