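import Cfsg.Agent.Lib.Helper87.MetaFusionA
import Cfsg.Agent.Lib.Helper87.AutTransport

set_option autoImplicit false
set_option linter.style.haveILetI false
set_option linter.unusedSectionVars false
set_option maxHeartbeats 1000000

/-! A strongly closed metacyclic subgroup (`p` odd) is contained in every essential subgroup. -/

namespace Cfsg.Agent.Lib.Helper87

open Cfsg Cfsg.FusionSystem

variable {Ω : Type*} [Group Ω] {S : Subgroup Ω}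

/-- **Key step.** No element of a strongly closed metacyclic subgroup (`p` odd) normalises an
essential subgroup without lying in it. -/
theorem mem_of_mem_normalizer_essential [Finite S] {p : ℕ} [hp : Fact p.Prime] (hp2 : p ≠ 2)
    (hS : IsPGroup p S) (F : FusionSystem S) (hF : F.IsSaturated p) {Q : Subgroup Ω}
    (hQ : F.StronglyClosed Q) (hm : IsMetacyclic ↥Q) {R : Subgroup Ω} (hR : F.IsEssential p R)
    {x : Ω} (hxQ : x ∈ Q) (hxN : x ∈ Subgroup.normalizer (R : Set Ω)) : x ∈ R := by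
  by_contra hxR
  have hRS : R ≤ S := hR.2.1.1
  have hQS : Q ≤ S := hQ.1
  haveI hfinR : Finite ↥R := finite_of_le hRS
  have hxS : x ∈ S := hQS hxQ
  have hSNQ : S ≤ Subgroup.normalizer (Q : Set Ω) := sc_le_normalizer F hQ
  have hcen : centralizerIn S R ≤ R := hR.1.2 R (isConj_refl F hRS)
  have C := mctx_of_essential hS F hF hQ hm hR
  obtain ⟨H, hHdef⟩ : ∃ H : Subgroup ↥R, H = Q.subgroupOf R := ⟨_, rfl⟩
  rw [← hHdef] at C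
  have hHmem : ∀ z : ↥R, z ∈ H ↔ (z : Ω) ∈ Q := fun z => by rw [hHdef, Subgroup.mem_subgroupOf]
  have hHp : IsPGroup p ↥H := C.hG.to_subgroup H
  -- the automorphism `c`
  obtain ⟨c, hcdef⟩ : ∃ c : MulAut ↥R, c = conjAut R x hxN := ⟨_, rfl⟩
  have hcK : c ∈ modSub (F.autGroup R) H := by
    rw [hcdef, hHdef]; exact conjAut_mem_modSub F hQ hRS hxQ hxN
  have hcp : ∃ k : ℕ, c ^ (p ^ k) = 1 := by
    obtain ⟨k, hk⟩ := (IsPGroup.iff_orderOf.mp hS) ⟨x, hxS⟩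
    refine ⟨k, ?_⟩
    rw [hcdef]
    apply conjAut_pow
    have h1 : (⟨x, hxS⟩ : ↥S) ^ (p ^ k) = 1 := by rw [← hk]; exact pow_orderOf_eq_one _
    have h2 := congrArg Subtype.val h1
    rwa [Subgroup.coe_pow] at h2
  obtain ⟨k, hcpk⟩ := hcp
  have hcinn : ¬ ∃ g : ↥R, ∀ y, c y = g * y * g⁻¹ := by
    rintro ⟨r, hr⟩
    apply hxR
    have h1 : ∀ z : ↥R, (r : Ω) * z * (r : Ω)⁻¹ = x * z * x⁻¹ := by
      intro z
      have h2 := congrArg Subtype.val (hr z)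
      rw [hcdef, conjAut_coe] at h2
      exact h2.symm
    have h2 : (r : Ω)⁻¹ * x ∈ centralizerIn S R := by
      refine ⟨S.mul_mem (S.inv_mem (hRS r.2)) hxS, ?_⟩
      intro z hz
      have := h1 ⟨z, hz⟩
      calc z * ((r : Ω)⁻¹ * x) = (r : Ω)⁻¹ * ((r : Ω) * z * (r : Ω)⁻¹) * x := by group
        _ = (r : Ω)⁻¹ * (x * z * x⁻¹) * x := by rw [this]
        _ = (r : Ω)⁻¹ * x * z := by group
    have h3 := hcen h2
    have : x = (r : Ω) * ((r : Ω)⁻¹ * x) := by group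
    rw [this]
    exact R.mul_mem r.2 h3
  -- the inverting automorphism
  obtain ⟨hidx, τ, hτK, hτinv⟩ := C.main hcK.1 hcK.2 hcpk hcinn
  have hτst : τ ∈ stabSubgroup H := C.hst hτK.1
  have hτ' : R.subtype.comp τ.toMonoidHom ∈ F.Hom R := (mem_autGroup_iff F hRS τ).mp hτK.1
  have hrτ : (R.subtype.comp τ.toMonoidHom).range = R := by
    apply le_antisymm
    · rintro _ ⟨z, rfl⟩
      exact (τ z).2
    · intro y hy
      exact ⟨τ.symm ⟨y, hy⟩, by simp⟩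
  have hrec := receptive_of_fullyNormalized hS F hF hR.2.1
  -- the subgroup `T0 = N_Q(R)`
  obtain ⟨T0, hT0def⟩ : ∃ T0 : Subgroup Ω, T0 = Q ⊓ normalizerIn S R := ⟨_, rfl⟩
  have hT0mem : ∀ w : Ω, w ∈ T0 ↔ w ∈ Q ∧ w ∈ S ∧ w ∈ Subgroup.normalizer (R : Set Ω) := by
    intro w; rw [hT0def]; rfl
  have hT0Q : T0 ≤ Q := hT0def ▸ inf_le_left
  have hT0S : T0 ≤ S := hT0Q.trans hQS
  have hT0N : T0 ≤ Subgroup.normalizer (R : Set Ω) := by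
    rw [hT0def]; exact fun y hy => hy.2.2
  haveI hfinT0 : Finite ↥T0 := finite_of_le hT0S
  have hxT0 : x ∈ T0 := by rw [hT0def]; exact ⟨hxQ, hxS, hxN⟩
  have hRQT0 : R ⊓ Q ≤ T0 := by
    rw [hT0def]
    exact fun z hz => ⟨hz.2, hRS hz.1, Subgroup.le_normalizer hz.1⟩
  -- `R T0` lies in the extender of `τ`
  have hM : R ⊔ T0 ≤ extender S R (R.subtype.comp τ.toMonoidHom) := by
    apply sup_le (self_le_extender F hτ')
    intro y hy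
    have hyN := hT0N hy
    have hyS := hT0S hy
    have hcyK : conjAut R y hyN ∈ modSub (F.autGroup R) H := by
      rw [hHdef]; exact conjAut_mem_modSub F hQ hRS (hT0Q hy) hyN
    have hβK : τ * conjAut R y hyN * τ⁻¹ * (conjAut R y hyN)⁻¹ ∈ modSub (F.autGroup R) H :=
      (modSub _ H).mul_mem (conj_mem_modSub C.hst hτK.1 hcyK) ((modSub _ H).inv_mem hcyK)
    have hβ1 := barW_comm_of_inv hτst (C.hst hcyK.1) hτinv
    obtain ⟨r, hr⟩ := C.kerW_inner ⟨hβK, hβ1⟩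
    refine Subgroup.subset_closure ⟨hyS, hyN, (r : Ω) * y, S.mul_mem (hRS r.2) hyS, fun z hz => ?_⟩
    show ((τ ⟨y * z * y⁻¹, hz⟩ : ↥R) : Ω) = (r : Ω) * y * ((τ z : ↥R) : Ω) * ((r : Ω) * y)⁻¹
    have h1 := hr (conjAut R y hyN (τ z))
    have h2 : (τ * conjAut R y hyN * τ⁻¹ * (conjAut R y hyN)⁻¹) (conjAut R y hyN (τ z)) =
        τ (conjAut R y hyN z) := by
      simp
    rw [h2] at h1
    have h3 : conjAut R y hyN z = ⟨y * z * y⁻¹, hz⟩ := Subtype.ext (conjAut_coe R y hyN z)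
    rw [h3] at h1
    have h4 := congrArg Subtype.val h1
    rw [h4]
    show (r : Ω) * ((conjAut R y hyN (τ z) : ↥R) : Ω) * (r : Ω)⁻¹ = _
    rw [conjAut_coe]
    group
  obtain ⟨ψ, hψ, hψe⟩ := extend_to_sub F hτ' hrτ hrec hM
  have hψR : ∀ (z : ↥R), ψ ⟨(z : Ω), (le_sup_left : R ≤ R ⊔ T0) z.2⟩ = ((τ z : ↥R) : Ω) := by
    intro z
    exact hψe (z : Ω) z.2 _
  -- restriction to `T0`
  obtain ⟨ψ₀, hψ₀def⟩ : ∃ ψ₀ : ↥T0 →* Ω,
      ψ₀ = ψ.comp (Subgroup.inclusion (le_sup_right : T0 ≤ R ⊔ T0)) := ⟨_, rfl⟩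
  have hψ₀ : ψ₀ ∈ F.Hom T0 := hψ₀def ▸ restrict_mem F hψ le_sup_right
  have hψ₀app : ∀ y : ↥T0, ψ₀ y = ψ ⟨(y : Ω), (le_sup_right : T0 ≤ R ⊔ T0) y.2⟩ := by
    intro y; rw [hψ₀def]; rfl
  have hψ₀R : ∀ (y : ↥T0) (hy : (y : Ω) ∈ R), ψ₀ y = ((τ ⟨(y : Ω), hy⟩ : ↥R) : Ω) := by
    intro y hy
    rw [hψ₀app]
    exact hψR ⟨(y : Ω), hy⟩
  have hψ₀Q : ∀ y : ↥T0, ψ₀ y ∈ Q := fun y => hQ.2 T0 hT0Q ψ₀ hψ₀ y
  have hψ₀S : ∀ y : ↥T0, ψ₀ y ∈ S := fun y => hom_mem_S F hψ₀ y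
  have hψ₀N : ∀ y : ↥T0, ψ₀ y ∈ Subgroup.normalizer (R : Set Ω) := by
    intro y
    apply Cfsg.Agent.Lib.Helper88.mem_normalizer_of_conj_mem_finite
    intro r hr
    obtain ⟨r', hr'def⟩ : ∃ r' : ↥R, r' = τ⁻¹ ⟨r, hr⟩ := ⟨_, rfl⟩
    have hτr' : τ r' = ⟨r, hr⟩ := by rw [hr'def]; simp
    have hyr' : (y : Ω) * (r' : Ω) * (y : Ω)⁻¹ ∈ R :=
      (Subgroup.mem_normalizer_iff.mp (hT0N y.2) _).mp r'.2
    have h1 : ψ ⟨(y : Ω) * (r' : Ω) * (y : Ω)⁻¹, (le_sup_left : R ≤ R ⊔ T0) hyr'⟩ =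
        ψ₀ y * r * (ψ₀ y)⁻¹ := by
      have e : (⟨(y : Ω) * (r' : Ω) * (y : Ω)⁻¹, (le_sup_left : R ≤ R ⊔ T0) hyr'⟩ : ↥(R ⊔ T0)) =
          ⟨(y : Ω), (le_sup_right : T0 ≤ R ⊔ T0) y.2⟩ *
            ⟨(r' : Ω), (le_sup_left : R ≤ R ⊔ T0) r'.2⟩ *
            ⟨(y : Ω), (le_sup_right : T0 ≤ R ⊔ T0) y.2⟩⁻¹ := Subtype.ext rfl
      rw [e, map_mul, map_mul, map_inv, ← hψ₀app, hψR r', hτr']
    rw [← h1, hψR ⟨_, hyr'⟩]
    exact (τ _).2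
  have hrange : ψ₀.range = T0 := by
    apply Subgroup.eq_of_le_of_card_ge
    · rintro _ ⟨y, rfl⟩
      exact (hT0mem _).mpr ⟨hψ₀Q y, hψ₀S y, hψ₀N y⟩
    · exact (Nat.card_congr (MonoidHom.ofInjective (F.injective_of_mem hψ₀)).toEquiv).le
  obtain ⟨τT, hτTdef⟩ : ∃ τT : MulAut ↥T0, τT = isoOfHom ψ₀ (F.injective_of_mem hψ₀) hrange :=
    ⟨_, rfl⟩
  have hτTapp : ∀ y : ↥T0, ((τT y : ↥T0) : Ω) = ψ₀ y := by
    intro y; rw [hτTdef]; rfl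
  -- the subgroups of `T0`
  obtain ⟨ΦΩ, hΦΩdef⟩ : ∃ ΦΩ : Subgroup Ω, ΦΩ = (frSub H).map R.subtype := ⟨_, rfl⟩
  have hΦΩmem : ∀ w : Ω, w ∈ ΦΩ ↔ ∃ z : ↥R, z ∈ frSub H ∧ (z : Ω) = w := by
    intro w; rw [hΦΩdef]; rfl
  have hΦRQ : ΦΩ ≤ R ⊓ Q := by
    intro w hw
    obtain ⟨z, hz, rfl⟩ := (hΦΩmem w).mp hw
    exact ⟨z.2, (hHmem z).mp (frSub_le H hz)⟩
  have hΦT0 : ΦΩ ≤ T0 := hΦRQ.trans hRQT0
  haveI hDn : ((R ⊓ Q).subgroupOf T0).Normal := by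
    refine ⟨fun n hn g => ?_⟩
    rw [Subgroup.mem_subgroupOf] at hn ⊢
    refine ⟨(Subgroup.mem_normalizer_iff.mp (hT0N g.2) _).mp hn.1, ?_⟩
    exact Q.mul_mem (Q.mul_mem (hT0Q g.2) hn.2) (Q.inv_mem (hT0Q g.2))
  haveI hΦn : (ΦΩ.subgroupOf T0).Normal := by
    refine ⟨fun n hn g => ?_⟩
    rw [Subgroup.mem_subgroupOf] at hn ⊢
    obtain ⟨z, hz, hzn⟩ := (hΦΩmem _).mp hn
    have hgN := hT0N g.2
    have hcg : conjAut R (g : Ω) hgN ∈ F.autGroup R :=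
      autInducedBy_le_autGroup F hRS (conjAut_mem_autInducedBy (hT0S g.2) hgN)
    have h1 := apply_mem_frSub (H := H) ⟨conjAut R (g : Ω) hgN, C.hst hcg⟩ hz
    refine (hΦΩmem _).mpr ⟨_, h1, ?_⟩
    show ((conjAut R (g : Ω) hgN z : ↥R) : Ω) = _
    rw [conjAut_coe, hzn]
    rfl
  have hΦD : ΦΩ.subgroupOf T0 ≤ (R ⊓ Q).subgroupOf T0 := by
    intro n hn
    rw [Subgroup.mem_subgroupOf] at hn ⊢
    exact hΦRQ hn
  have hpow : ∀ d ∈ (R ⊓ Q).subgroupOf T0, d ^ p ∈ ΦΩ.subgroupOf T0 := by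
    intro d hd
    rw [Subgroup.mem_subgroupOf] at hd ⊢
    have hdH : (⟨(d : Ω), hd.1⟩ : ↥R) ∈ H := (hHmem _).mpr hd.2
    have h1 := pow_mem_frattini' hHp (⟨⟨(d : Ω), hd.1⟩, hdH⟩ : ↥H)
    refine (hΦΩmem _).mpr ⟨((⟨⟨(d : Ω), hd.1⟩, hdH⟩ : ↥H) ^ p : ↥H), ⟨_, h1, rfl⟩, ?_⟩
    simp
  have hcard : Nat.card ↥((R ⊓ Q).subgroupOf T0) = p ^ 2 * Nat.card ↥(ΦΩ.subgroupOf T0) := by
    have e1 : Nat.card ↥((R ⊓ Q).subgroupOf T0) = Nat.card ↥(R ⊓ Q) :=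
      Nat.card_congr (Subgroup.subgroupOfEquivOfLe hRQT0).toEquiv
    have e2 : Nat.card ↥(ΦΩ.subgroupOf T0) = Nat.card ↥ΦΩ :=
      Nat.card_congr (Subgroup.subgroupOfEquivOfLe hΦT0).toEquiv
    have e3 : Nat.card ↥ΦΩ = Nat.card ↥(frSub H) := by
      rw [hΦΩdef]; exact Subgroup.card_map_of_injective R.subtype_injective
    have e4 : Nat.card ↥(frSub H) = Nat.card ↥(frattini ↥H) :=
      Subgroup.card_map_of_injective H.subtype_injective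
    have e5 := Subgroup.card_mul_index (frattini ↥H)
    have e6 : Nat.card ↥H = Nat.card ↥(R ⊓ Q) := by
      have h1 : H.map R.subtype = Q ⊓ R := by rw [hHdef]; exact Subgroup.subgroupOf_map_subtype Q R
      rw [inf_comm, ← h1]
      exact (Subgroup.card_map_of_injective R.subtype_injective).symm
    rw [e1, e2, e3, e4, ← e6, ← e5, hidx, mul_comm]
  have hτΦ : ∀ n ∈ ΦΩ.subgroupOf T0, τT n ∈ ΦΩ.subgroupOf T0 := by
    intro n hn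
    rw [Subgroup.mem_subgroupOf] at hn ⊢
    obtain ⟨z, hz, hzn⟩ := (hΦΩmem _).mp hn
    rw [hτTapp, hψ₀R n (hzn ▸ z.2)]
    have h1 := apply_mem_frSub (H := H) ⟨τ, hτst⟩ hz
    refine (hΦΩmem _).mpr ⟨_, h1, ?_⟩
    have : z = ⟨(n : Ω), hzn ▸ z.2⟩ := Subtype.ext hzn
    rw [← this]
  have hτD : ∀ d ∈ (R ⊓ Q).subgroupOf T0, τT d * d ∈ ΦΩ.subgroupOf T0 := by
    intro d hd
    rw [Subgroup.mem_subgroupOf] at hd ⊢
    have hdH : (⟨(d : Ω), hd.1⟩ : ↥R) ∈ H := (hHmem _).mpr hd.2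
    have h1 := apply_mul_mem_frSub hτst hτinv _ hdH
    refine (hΦΩmem _).mpr ⟨_, h1, ?_⟩
    show ((τ ⟨(d : Ω), hd.1⟩ : ↥R) : Ω) * (d : Ω) = ((τT d : ↥T0) : Ω) * (d : Ω)
    rw [hτTapp, hψ₀R d hd.1]
  have hT0p : IsPGroup p ↥T0 := hS.to_le hT0S
  have hT0m : IsMetacyclic ↥T0 :=
    isMetacyclic_of_injective (Subgroup.inclusion hT0Q) (Subgroup.inclusion_injective hT0Q) hm
  have hcomm := comm_mem_of_aut_inverting_rel hp2 hT0p hT0m ((R ⊓ Q).subgroupOf T0)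
    (ΦΩ.subgroupOf T0) hΦD hpow hcard τT hτΦ hτD
  -- conclusion: `c` acts trivially on the Frattini quotient, hence is inner
  apply hcinn
  apply C.inner_of_trivial hcK.1 hcK.2
  intro h hh
  have hhQ : (h : Ω) ∈ Q := (hHmem h).mp hh
  have h1 := hcomm ⟨x, hxT0⟩ ⟨(h : Ω), hRQT0 ⟨h.2, hhQ⟩⟩
  rw [Subgroup.mem_subgroupOf] at h1
  obtain ⟨z, hz, hzn⟩ := (hΦΩmem _).mp h1
  have : c h * h⁻¹ = z := by
    apply Subtype.ext
    rw [hzn, hcdef]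
    show ((conjAut R x hxN h : ↥R) : Ω) * (h : Ω)⁻¹ = _
    rw [conjAut_coe]
    rfl
  rw [this]
  exact hz

end Cfsg.Agent.Lib.Helper87
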