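import Cfsg.Agent.Lib.Helper87.MetaFusionB

set_option autoImplicit false
set_option linter.style.haveILetI false
set_option linter.unusedSectionVars false

/-! A strongly closed metacyclic subgroup (`p` odd) is normal in a saturated fusion system. -/

namespace Cfsg.Agent.Lib.Helper87

open Cfsg Cfsg.FusionSystem

variable {Ω : Type*} [Group Ω] {S : Subgroup Ω}

/-- a strongly closed metacyclic subgroup (`p` odd) lies in every essential subgroup -/
theorem stronglyClosed_metacyclic_le_essential [Finite S] {p : ℕ} [hp : Fact p.Prime]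
    (hp2 : p ≠ 2) (hS : IsPGroup p S) (F : FusionSystem S) (hF : F.IsSaturated p)
    {Q : Subgroup Ω} (hQ : F.StronglyClosed Q) (hm : IsMetacyclic ↥Q) {R : Subgroup Ω}
    (hR : F.IsEssential p R) : Q ≤ R := by
  by_contra hQR
  have hRS : R ≤ S := hR.2.1.1
  have hQS : Q ≤ S := hQ.1
  have hTS : R ⊔ Q ≤ S := sup_le hRS hQS
  haveI hfinT : Finite ↥(R ⊔ Q) := finite_of_le hTS
  have hTp : IsPGroup p ↥(R ⊔ Q) := hS.to_le hTS
  have hne : R ≠ R ⊔ Q := by
    intro h
    apply hQR
    rw [h]
    exact le_sup_right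
  have hlt := card_lt_card_normalizerIn hTp (le_sup_left : R ≤ R ⊔ Q) hne
  have hex : ∃ g ∈ normalizerIn (R ⊔ Q) R, g ∉ R := by
    by_contra hcon
    push Not at hcon
    haveI : Finite ↥R := finite_of_le hRS
    have h1 : Nat.card ↥(normalizerIn (R ⊔ Q) R) ≤ Nat.card ↥R :=
      Subgroup.card_le_of_le (fun g hg => hcon g hg)
    omega
  obtain ⟨g, hg, hgR⟩ := hex
  have hRNQ : R ≤ Subgroup.normalizer (Q : Set Ω) := hRS.trans (sc_le_normalizer F hQ)
  obtain ⟨r, hr, d, hd, hgrd⟩ := exists_mul_of_mem_sup hRNQ hg.1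
  have hdN : d ∈ Subgroup.normalizer (R : Set Ω) := by
    have e : d = r⁻¹ * g := by rw [hgrd]; group
    rw [e]
    exact Subgroup.mul_mem _ (Subgroup.inv_mem _ (Subgroup.le_normalizer hr)) hg.2
  have hdR := mem_of_mem_normalizer_essential hp2 hS F hF hQ hm hR hd hdN
  apply hgR
  rw [hgrd]
  exact R.mul_mem hr hdR

/-- **Theorem.** A strongly closed metacyclic subgroup (`p` odd) is normal in a saturated fusion
system. -/
theorem isNormal_of_stronglyClosed_metacyclic [Finite S] {p : ℕ} [hp : Fact p.Prime]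
    (hp2 : p ≠ 2) (hS : IsPGroup p S) (F : FusionSystem S) (hF : F.IsSaturated p)
    {Q : Subgroup Ω} (hQ : F.StronglyClosed Q) (hm : IsMetacyclic ↥Q) : F.IsNormal Q := by
  apply isNormal_of_AG_invariant hS F hF
  · rintro R (rfl | hR)
    · exact hQ.1
    · exact stronglyClosed_metacyclic_le_essential hp2 hS F hF hQ hm hR
  · intro R hR α hα y hy
    exact sc_aut_mem F hR.le hQ hα y hy

end Cfsg.Agent.Lib.Helper87
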