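import Cfsg.Agent.Lib.Helper87.MetaCoreB
import Cfsg.Agent.Lib.Helper87.SL2Trick
import Cfsg.Agent.Lib.Helper32.Rank2Ker

set_option autoImplicit false
set_option linter.style.haveILetI false

/-! The `SL₂(p)` trick in inverting form, and the action of automorphisms stabilising a subgroup on
its Frattini quotient. -/

namespace Cfsg.Agent.Lib.Helper87

open Cfsg

/-- The `SL₂(p)` trick, inverting form: two transvections of an abelian group with distinct centres
of order `p` generate an automorphism inverting both centres. -/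
theorem sl2_trick_inv {G : Type*} [Group G] (hc : ∀ a b : G, a * b = b * a) {p : ℕ} [Fact p.Prime]
    {Z₀ E : Subgroup G} (hZ₀ : Nat.card Z₀ = p) (hE : Nat.card E = p) {t t' : MulAut G}
    (h1 : ∀ y, t y * y⁻¹ ∈ Z₀) (h2 : ∀ y, t' y * y⁻¹ ∈ E)
    (h3 : ∀ y ∈ Z₀, t y = y) (h4 : ∀ y ∈ E, t' y = y)
    (h5 : ∃ e ∈ E, t e ≠ e) (h6 : ∃ f ∈ Z₀, t' f ≠ f) :
    ∃ τ ∈ Subgroup.closure ({t, t'} : Set (MulAut G)),
      (∀ f ∈ Z₀, τ f = f⁻¹) ∧ (∀ e ∈ E, τ e = e⁻¹) := by
  obtain ⟨e, heE, hte⟩ := h5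
  obtain ⟨f₀, hf₀, ht'f₀⟩ := h6
  obtain ⟨f₁, hf₁def⟩ : ∃ f₁, f₁ = t e * e⁻¹ := ⟨_, rfl⟩
  have hf₁Z : f₁ ∈ Z₀ := hf₁def ▸ h1 e
  have hf₁ne : f₁ ≠ 1 := by
    intro h
    apply hte
    rw [hf₁def] at h
    exact mul_inv_eq_one.mp h
  have htf₁ : t f₁ = f₁ := h3 f₁ hf₁Z
  have hte' : t e = e * f₁ := by
    rw [hf₁def, hc e]; group
  have hZ₀gen : ∀ f ∈ Z₀, ∃ m : ℕ, f₁ ^ m = f := fun f hf =>
    exists_pow_eq_of_prime_card Z₀ hZ₀ hf₁Z hf₁ne hf
  have ht'f₁ : t' f₁ ≠ f₁ := by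
    intro h
    apply ht'f₀
    obtain ⟨m, rfl⟩ := hZ₀gen f₀ hf₀
    rw [map_pow, h]
  obtain ⟨u, hudef⟩ : ∃ u, u = t' f₁ * f₁⁻¹ := ⟨_, rfl⟩
  have huE : u ∈ E := hudef ▸ h2 f₁
  have hune : u ≠ 1 := by
    intro h
    apply ht'f₁
    rw [hudef] at h
    exact mul_inv_eq_one.mp h
  have ht'u : t' u = u := h4 u huE
  have ht'f₁' : t' f₁ = f₁ * u := by
    rw [hudef, hc f₁]; group
  have hEgen : ∀ d ∈ E, ∃ m : ℕ, u ^ m = d := fun d hd =>
    exists_pow_eq_of_prime_card E hE huE hune hd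
  have hene : e ≠ 1 := by
    rintro rfl
    exact hte (map_one t)
  have hEgen' : ∀ d ∈ E, ∃ m : ℕ, e ^ m = d := fun d hd =>
    exists_pow_eq_of_prime_card E hE heE hene hd
  obtain ⟨m, hm⟩ := hEgen e⁻¹ (E.inv_mem heE)
  obtain ⟨s, hsdef⟩ : ∃ s : MulAut G, s = t' ^ m := ⟨_, rfl⟩
  have hsf₁ : s f₁ = f₁ * e⁻¹ := by
    rw [hsdef, aut_pow_apply_mul t' ht'f₁' ht'u, hm]
  have hse : s e = e := by
    rw [hsdef]; exact aut_pow_apply_fixed t' (h4 e heE) m
  have htcl : t ∈ Subgroup.closure ({t, t'} : Set (MulAut G)) :=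
    Subgroup.subset_closure (by simp)
  have ht'cl : t' ∈ Subgroup.closure ({t, t'} : Set (MulAut G)) :=
    Subgroup.subset_closure (by simp)
  have hscl : s ∈ Subgroup.closure ({t, t'} : Set (MulAut G)) := by
    rw [hsdef]; exact Subgroup.pow_mem _ ht'cl m
  obtain ⟨n, hndef⟩ : ∃ n : MulAut G, n = t * s * t := ⟨_, rfl⟩
  have hncl : n ∈ Subgroup.closure ({t, t'} : Set (MulAut G)) := by
    rw [hndef]
    exact Subgroup.mul_mem _ (Subgroup.mul_mem _ htcl hscl) htcl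
  have hn_apply : ∀ y, n y = t (s (t y)) := fun y => by rw [hndef]; rfl
  have hnf₁ : n f₁ = e⁻¹ := by
    rw [hn_apply, htf₁, hsf₁, map_mul, map_inv, htf₁, hte', mul_inv_rev]
    group
  have hne : n e = f₁ := by
    rw [hn_apply, hte', map_mul, hse, hsf₁]
    have : e * (f₁ * e⁻¹) = f₁ := by rw [hc f₁]; group
    rw [this, htf₁]
  refine ⟨n * n, Subgroup.mul_mem _ hncl hncl, ?_, ?_⟩
  · intro f hf
    obtain ⟨k, rfl⟩ := hZ₀gen f hf
    show n (n (f₁ ^ k)) = _
    rw [map_pow, hnf₁, map_pow, map_inv, hne, inv_pow]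
  · intro d hd
    obtain ⟨k, rfl⟩ := hEgen' d hd
    show n (n (e ^ k)) = _
    rw [map_pow, hne, map_pow, hnf₁, inv_pow]

section stab

variable {G : Type*} [Group G]

/-- automorphisms stabilising the subgroup `H` -/
def stabSubgroup (H : Subgroup G) : Subgroup (MulAut G) where
  carrier := {α | ∀ h, α h ∈ H ↔ h ∈ H}
  one_mem' := fun _ => Iff.rfl
  mul_mem' := by
    intro a b ha hb h
    show a (b h) ∈ H ↔ h ∈ H
    rw [ha, hb]
  inv_mem' := by
    intro a ha h
    have := ha (a⁻¹ h)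
    rw [MulAut.apply_inv_self] at this
    exact this.symm

theorem mem_stabSubgroup {H : Subgroup G} (α : MulAut G) :
    α ∈ stabSubgroup H ↔ ∀ h, α h ∈ H ↔ h ∈ H := Iff.rfl

theorem mem_stabSubgroup_of_finite {H : Subgroup G} [Finite H] (α : MulAut G)
    (h : ∀ x ∈ H, α x ∈ H) : α ∈ stabSubgroup H := by
  have hle : H.map (α : G ≃* G).toMonoidHom ≤ H := by
    rintro _ ⟨x, hx, rfl⟩
    exact h x hx
  have heq : H.map (α : G ≃* G).toMonoidHom = H := by
    apply Subgroup.eq_of_le_of_card_ge hle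
    rw [Subgroup.card_map_of_injective (MulEquiv.injective _)]
  intro x
  constructor
  · intro hx
    rw [← heq] at hx
    obtain ⟨y, hy, hyx⟩ := hx
    have : y = x := (MulEquiv.injective α) hyx
    rw [← this]; exact hy
  · exact h x

/-- restriction to `H` of the automorphisms stabilising `H` -/
def resHom (H : Subgroup G) : ↥(stabSubgroup H) →* MulAut ↥H where
  toFun α :=
    { toFun := fun h => ⟨(α : MulAut G) h, (α.2 h).mpr h.2⟩
      invFun := fun h => ⟨(α : MulAut G)⁻¹ h, ((stabSubgroup H).inv_mem α.2 h).mpr h.2⟩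
      left_inv := fun h => Subtype.ext (by simp)
      right_inv := fun h => Subtype.ext (by simp)
      map_mul' := fun a b => Subtype.ext (by simp) }
  map_one' := by
    ext h
    rfl
  map_mul' := fun a b => by
    ext h
    rfl

theorem resHom_apply (H : Subgroup G) (α : ↥(stabSubgroup H)) (h : ↥H) :
    ((resHom H α h : ↥H) : G) = (α : MulAut G) h := rfl

/-- the action on the Frattini quotient of `H` -/
noncomputable def frHom (H : Subgroup G) : ↥(stabSubgroup H) →* MulAut (↥H ⧸ frattini ↥H) :=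
  (Cfsg.Agent.Lib.Helper32.Rank2.autQuot (frattini ↥H)).comp (resHom H)

theorem frHom_mk (H : Subgroup G) (α : ↥(stabSubgroup H)) (h : ↥H) :
    frHom H α (h : ↥H ⧸ frattini ↥H) = ((resHom H α h : ↥H) : ↥H ⧸ frattini ↥H) := rfl

/-- the image in `G` of the Frattini subgroup of `H` -/
def frSub (H : Subgroup G) : Subgroup G := (frattini ↥H).map H.subtype

theorem mem_frSub {H : Subgroup G} {x : G} (hx : x ∈ H) :
    x ∈ frSub H ↔ (⟨x, hx⟩ : ↥H) ∈ frattini ↥H := by
  constructor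
  · rintro ⟨y, hy, hyx⟩
    have : y = ⟨x, hx⟩ := Subtype.ext hyx
    rw [← this]; exact hy
  · intro h
    exact ⟨⟨x, hx⟩, h, rfl⟩

theorem frSub_le (H : Subgroup G) : frSub H ≤ H := by
  rintro _ ⟨y, -, rfl⟩
  exact y.2

theorem apply_mem_frSub {H : Subgroup G} (α : ↥(stabSubgroup H)) {x : G} (hx : x ∈ frSub H) :
    (α : MulAut G) x ∈ frSub H := by
  obtain ⟨y, hy, rfl⟩ := hx
  have h1 : (frattini ↥H).map (resHom H α : ↥H ≃* ↥H).toMonoidHom = frattini ↥H :=
    Subgroup.characteristic_iff_map_eq.mp frattini_characteristic _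
  have h2 : resHom H α y ∈ frattini ↥H := by
    rw [← h1]
    exact ⟨y, hy, rfl⟩
  exact ⟨resHom H α y, h2, rfl⟩

/-- the induced action on the Frattini quotient is trivial iff the automorphism moves elements of
`H` within their coset of the Frattini subgroup -/
theorem frHom_eq_one_iff {H : Subgroup G} (α : ↥(stabSubgroup H)) :
    frHom H α = 1 ↔ ∀ h ∈ H, (α : MulAut G) h * h⁻¹ ∈ frSub H := by
  constructor
  · intro h1 h hh
    have h2 := congrArg (fun f : MulAut (↥H ⧸ frattini ↥H) => f ((⟨h, hh⟩ : ↥H) : ↥H ⧸ frattini ↥H)) h1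
    simp only [frHom_mk, MulAut.one_apply] at h2
    have h3 : (resHom H α ⟨h, hh⟩ * (⟨h, hh⟩ : ↥H)⁻¹ : ↥H) ∈ frattini ↥H := by
      rw [← QuotientGroup.eq_one_iff, QuotientGroup.mk_mul, QuotientGroup.mk_inv, h2,
        mul_inv_cancel]
    exact ⟨_, h3, rfl⟩
  · intro h1
    ext x
    induction x using QuotientGroup.induction_on with
    | H h =>
      rw [frHom_mk, MulAut.one_apply]
      have h2 := h1 h h.2
      have hmem : (α : MulAut G) h * (h : G)⁻¹ ∈ H :=
        H.mul_mem ((α.2 h).mpr h.2) (H.inv_mem h.2)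
      rw [mem_frSub hmem] at h2
      have h3 : (resHom H α h * h⁻¹ : ↥H) ∈ frattini ↥H := by
        have : (resHom H α h * h⁻¹ : ↥H) = ⟨(α : MulAut G) h * (h : G)⁻¹, hmem⟩ := rfl
        rw [this]; exact h2
      rw [← QuotientGroup.eq_one_iff, QuotientGroup.mk_mul, QuotientGroup.mk_inv] at h3
      exact mul_inv_eq_one.mp h3

theorem aut_pow_apply_mul_left (φ : MulAut G) {y m : G} (h1 : φ y = m * y) (h2 : φ m = m) (n : ℕ) :
    (φ ^ n) y = m ^ n * y := by
  induction n with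
  | zero => simp
  | succ n ih =>
    rw [pow_succ, MulAut.mul_apply, h1, map_mul, ih, aut_pow_apply_fixed φ h2, pow_succ', mul_assoc]

/-- an automorphism fixing `H` pointwise and acting trivially modulo `H` has order dividing
`|G|` -/
theorem aut_pow_card_eq_one [Finite G] (H : Subgroup G) (β : MulAut G) (h1 : ∀ h ∈ H, β h = h)
    (h2 : ∀ g, β g * g⁻¹ ∈ H) : β ^ Nat.card G = 1 := by
  ext y
  have e : β y = (β y * y⁻¹) * y := by group
  rw [aut_pow_apply_mul_left β e (h1 _ (h2 y)), pow_card_eq_one', one_mul]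
  rfl

end stab

end Cfsg.Agent.Lib.Helper87
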