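import Cfsg.Agent.Lib.Helper87.MetaSL2A

set_option autoImplicit false
set_option linter.style.haveILetI false
set_option linter.unusedSectionVars false

/-! A group of automorphisms of a `p`-group `G` with `O_p = Inn`, acting on a normal subgroup `H` with
Frattini quotient of order at most `p²`: if some non-inner `p`-element acts trivially modulo `H`, there
is an element acting trivially modulo `H` and inverting `H` modulo its Frattini subgroup. -/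

namespace Cfsg.Agent.Lib.Helper87

open Cfsg

section M

variable {G : Type*} [Group G]

/-- the action on the Frattini quotient of `H`, with junk value outside the stabiliser -/
noncomputable def barW (H : Subgroup G) (α : MulAut G) : MulAut (↥H ⧸ frattini ↥H) := by
  classical
  exact if h : α ∈ stabSubgroup H then frHom H ⟨α, h⟩ else 1

theorem barW_of_mem {H : Subgroup G} {α : MulAut G} (h : α ∈ stabSubgroup H) :
    barW H α = frHom H ⟨α, h⟩ := by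
  unfold barW
  rw [dif_pos h]

theorem barW_mul {H : Subgroup G} {α β : MulAut G} (hα : α ∈ stabSubgroup H)
    (hβ : β ∈ stabSubgroup H) : barW H (α * β) = barW H α * barW H β := by
  rw [barW_of_mem hα, barW_of_mem hβ, barW_of_mem ((stabSubgroup H).mul_mem hα hβ), ← map_mul]
  rfl

theorem barW_one (H : Subgroup G) : barW H 1 = 1 := by
  rw [barW_of_mem (stabSubgroup H).one_mem]
  exact map_one _

theorem barW_inv {H : Subgroup G} {α : MulAut G} (hα : α ∈ stabSubgroup H) :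
    barW H α⁻¹ = (barW H α)⁻¹ := by
  rw [barW_of_mem hα, barW_of_mem ((stabSubgroup H).inv_mem hα), ← map_inv]
  rfl

theorem barW_pow {H : Subgroup G} {α : MulAut G} (hα : α ∈ stabSubgroup H) (n : ℕ) :
    barW H (α ^ n) = barW H α ^ n := by
  rw [barW_of_mem hα, barW_of_mem ((stabSubgroup H).pow_mem hα n), ← map_pow]
  rfl

theorem barW_eq_one_iff {H : Subgroup G} {α : MulAut G} (hα : α ∈ stabSubgroup H) :
    barW H α = 1 ↔ ∀ h ∈ H, α h * h⁻¹ ∈ frSub H := by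
  rw [barW_of_mem hα]
  exact frHom_eq_one_iff ⟨α, hα⟩

theorem barW_mk {H : Subgroup G} {α : MulAut G} (hα : α ∈ stabSubgroup H) (h : ↥H) :
    barW H α (h : ↥H ⧸ frattini ↥H) =
      ((⟨α h, (hα h).mpr h.2⟩ : ↥H) : ↥H ⧸ frattini ↥H) := by
  rw [barW_of_mem hα]
  rfl

theorem barW_conj {H : Subgroup G} {a α : MulAut G} (ha : a ∈ stabSubgroup H)
    (hα : α ∈ stabSubgroup H) : barW H (a * α * a⁻¹) = barW H a * barW H α * (barW H a)⁻¹ := by
  rw [barW_mul ((stabSubgroup H).mul_mem ha hα) ((stabSubgroup H).inv_mem ha), barW_mul ha hα,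
    barW_inv ha]

/-- lifting elements of a closure along `barW` -/
theorem exists_lift_closure {H : Subgroup G} {c t : MulAut G} (hc : c ∈ stabSubgroup H)
    (ht : t ∈ stabSubgroup H) {τb : MulAut (↥H ⧸ frattini ↥H)}
    (hτb : τb ∈ Subgroup.closure ({barW H c, barW H t} : Set (MulAut (↥H ⧸ frattini ↥H)))) :
    ∃ τ ∈ Subgroup.closure ({c, t} : Set (MulAut G)), barW H τ = τb := by
  have hle : Subgroup.closure ({c, t} : Set (MulAut G)) ≤ stabSubgroup H := by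
    rw [Subgroup.closure_le]
    rintro x (rfl | rfl)
    · exact hc
    · exact ht
  refine Subgroup.closure_induction
    (p := fun τb _ => ∃ τ ∈ Subgroup.closure ({c, t} : Set (MulAut G)), barW H τ = τb)
    ?_ ?_ ?_ ?_ hτb
  · rintro x (rfl | rfl)
    · exact ⟨c, Subgroup.subset_closure (by simp), rfl⟩
    · exact ⟨t, Subgroup.subset_closure (by simp), rfl⟩
  · exact ⟨1, Subgroup.one_mem _, barW_one H⟩
  · rintro x y _ _ ⟨a, ha, rfl⟩ ⟨b, hb, rfl⟩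
    exact ⟨a * b, Subgroup.mul_mem _ ha hb, barW_mul (hle ha) (hle hb)⟩
  · rintro x _ ⟨a, ha, rfl⟩
    exact ⟨a⁻¹, Subgroup.inv_mem _ ha, barW_inv (hle ha)⟩

/-- automorphisms in `𝔄` acting trivially modulo `H` -/
def modSub (𝔄 : Subgroup (MulAut G)) (H : Subgroup G) : Subgroup (MulAut G) where
  carrier := {α | α ∈ 𝔄 ∧ ∀ g, α g * g⁻¹ ∈ H}
  one_mem' := ⟨𝔄.one_mem, fun g => by simp⟩
  mul_mem' := by
    rintro a b ⟨ha1, ha2⟩ ⟨hb1, hb2⟩
    refine ⟨𝔄.mul_mem ha1 hb1, fun g => ?_⟩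
    have e : (a * b) g * g⁻¹ = (a (b g) * (b g)⁻¹) * (b g * g⁻¹) := by
      rw [MulAut.mul_apply]; group
    rw [e]
    exact H.mul_mem (ha2 _) (hb2 _)
  inv_mem' := by
    rintro a ⟨ha1, ha2⟩
    refine ⟨𝔄.inv_mem ha1, fun g => ?_⟩
    have h := ha2 (a⁻¹ g)
    rw [MulAut.apply_inv_self] at h
    have e : a⁻¹ g * g⁻¹ = (g * (a⁻¹ g)⁻¹)⁻¹ := by group
    rw [e]
    exact H.inv_mem h

theorem mem_modSub {𝔄 : Subgroup (MulAut G)} {H : Subgroup G} {α : MulAut G} :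
    α ∈ modSub 𝔄 H ↔ α ∈ 𝔄 ∧ ∀ g, α g * g⁻¹ ∈ H := Iff.rfl

theorem conj_mem_modSub {𝔄 : Subgroup (MulAut G)} {H : Subgroup G} (hst : 𝔄 ≤ stabSubgroup H)
    {a α : MulAut G} (ha : a ∈ 𝔄) (hα : α ∈ modSub 𝔄 H) : a * α * a⁻¹ ∈ modSub 𝔄 H := by
  refine ⟨𝔄.mul_mem (𝔄.mul_mem ha hα.1) (𝔄.inv_mem ha), fun g => ?_⟩
  have h1 := hα.2 (a⁻¹ g)
  have h2 : a (α (a⁻¹ g) * (a⁻¹ g)⁻¹) ∈ H := (hst ha _).mpr h1
  rw [map_mul, map_inv, MulAut.apply_inv_self] at h2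
  exact h2

/-- the data for the main lemma -/
structure MCtx (p : ℕ) (H : Subgroup G) (𝔄 : Subgroup (MulAut G)) : Prop where
  hG : IsPGroup p G
  hst : 𝔄 ≤ stabSubgroup H
  hOp : ∀ X : Subgroup (MulAut G), X ≤ 𝔄 → IsPGroup p X →
    (∀ a ∈ 𝔄, ∀ φ ∈ X, a * φ * a⁻¹ ∈ X) → ∀ φ ∈ X, ∃ g : G, ∀ y, φ y = g * y * g⁻¹
  hW : (frattini ↥H).index ∣ p ^ 2

namespace MCtx

variable {p : ℕ} [hp : Fact p.Prime] {H : Subgroup G} {𝔄 : Subgroup (MulAut G)} [Finite G]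

/-- the kernel of the action on the Frattini quotient, inside `modSub` -/
def kerW (_C : MCtx p H 𝔄) : Subgroup (MulAut G) where
  carrier := {α | α ∈ modSub 𝔄 H ∧ barW H α = 1}
  one_mem' := ⟨(modSub 𝔄 H).one_mem, barW_one H⟩
  mul_mem' := by
    rintro a b ⟨ha1, ha2⟩ ⟨hb1, hb2⟩
    refine ⟨(modSub 𝔄 H).mul_mem ha1 hb1, ?_⟩
    rw [barW_mul (_C.hst ha1.1) (_C.hst hb1.1), ha2, hb2, one_mul]
  inv_mem' := by
    rintro a ⟨ha1, ha2⟩
    refine ⟨(modSub 𝔄 H).inv_mem ha1, ?_⟩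
    rw [barW_inv (_C.hst ha1.1), ha2, inv_one]

theorem kerW_pow (C : MCtx p H 𝔄) {α : MulAut G} (hα : α ∈ C.kerW) :
    ∃ n : ℕ, α ^ (p ^ n) = 1 := by
  obtain ⟨hαK, hα1⟩ := hα
  have hst := C.hst hαK.1
  rw [barW_of_mem hst] at hα1
  have hHp : IsPGroup p ↥H := C.hG.to_subgroup H
  obtain ⟨k, hk⟩ := Cfsg.Agent.Lib.Helper32.Rank2.pKer_autQuot_frattini hHp
    (resHom H ⟨α, hst⟩) hα1
  obtain ⟨j, hj⟩ := IsPGroup.iff_card.mp C.hG
  obtain ⟨β, hβdef⟩ : ∃ β : MulAut G, β = α ^ (p ^ k) := ⟨_, rfl⟩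
  have hβK : β ∈ modSub 𝔄 H := hβdef ▸ (modSub 𝔄 H).pow_mem hαK _
  have hβfix : ∀ h ∈ H, β h = h := by
    intro h hh
    rw [← map_pow] at hk
    have h2 := congrArg (fun f : MulAut ↥H => ((f ⟨h, hh⟩ : ↥H) : G)) hk
    simp only [resHom_apply, MulAut.one_apply] at h2
    rw [hβdef]
    exact h2
  have h3 := aut_pow_card_eq_one H β hβfix hβK.2
  refine ⟨k + j, ?_⟩
  rw [pow_add, pow_mul, ← hβdef, ← hj]
  exact h3

theorem kerW_isPGroup (C : MCtx p H 𝔄) : IsPGroup p ↥C.kerW := by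
  rintro ⟨α, hα⟩
  obtain ⟨n, hn⟩ := C.kerW_pow hα
  exact ⟨n, Subtype.ext hn⟩

theorem kerW_inner (C : MCtx p H 𝔄) {α : MulAut G} (hα : α ∈ C.kerW) :
    ∃ g : G, ∀ y, α y = g * y * g⁻¹ := by
  refine C.hOp C.kerW (fun x hx => hx.1.1) C.kerW_isPGroup ?_ α hα
  rintro a ha φ ⟨hφ1, hφ2⟩
  refine ⟨conj_mem_modSub C.hst ha hφ1, ?_⟩
  rw [barW_conj (C.hst ha) (C.hst hφ1.1), hφ2, mul_one, mul_inv_cancel]

/-- an automorphism in `𝔄` acting trivially modulo `H` and on `H` modulo its Frattini subgroup is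
inner -/
theorem inner_of_trivial (C : MCtx p H 𝔄) {α : MulAut G} (hα : α ∈ 𝔄)
    (hK : ∀ g, α g * g⁻¹ ∈ H) (hW : ∀ h ∈ H, α h * h⁻¹ ∈ frSub H) :
    ∃ g : G, ∀ y, α y = g * y * g⁻¹ :=
  C.kerW_inner ⟨⟨hα, hK⟩, (barW_eq_one_iff (C.hst hα)).mpr hW⟩

end MCtx

end M

end Cfsg.Agent.Lib.Helper87
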