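import Cfsg.Agent.Lib.Helper87.MetaSL2B

set_option autoImplicit false
set_option linter.style.haveILetI false
set_option linter.unusedSectionVars false

/-! The main lemma: existence of the inverting automorphism. -/

namespace Cfsg.Agent.Lib.Helper87

open Cfsg
open scoped commutatorElement

section chainW

variable {W : Type*} [Group W]

/-- the stability group of the chain `1 ≤ ℓ ≤ W` -/
def chainStabW (ℓ : Subgroup W) : Subgroup (MulAut W) where
  carrier := {φ | (∀ w ∈ ℓ, φ w = w) ∧ ∀ w, φ w * w⁻¹ ∈ ℓ}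
  one_mem' := ⟨fun _ _ => rfl, fun w => by simp⟩
  mul_mem' := by
    rintro a b ⟨ha1, ha2⟩ ⟨hb1, hb2⟩
    refine ⟨fun w hw => ?_, fun w => ?_⟩
    · show a (b w) = w
      rw [hb1 w hw, ha1 w hw]
    · have e : (a * b) w * w⁻¹ = (a (b w) * (b w)⁻¹) * (b w * w⁻¹) := by
        rw [MulAut.mul_apply]; group
      rw [e]
      exact ℓ.mul_mem (ha2 _) (hb2 _)
  inv_mem' := by
    rintro a ⟨ha1, ha2⟩
    refine ⟨fun w hw => ?_, fun w => ?_⟩
    · calc a⁻¹ w = a⁻¹ (a w) := by rw [ha1 w hw]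
        _ = w := by simp
    · have h := ha2 (a⁻¹ w)
      rw [MulAut.apply_inv_self] at h
      have e : a⁻¹ w * w⁻¹ = (w * (a⁻¹ w)⁻¹)⁻¹ := by group
      rw [e]
      exact ℓ.inv_mem h

theorem pow_eq_one_of_mem_chainStabW {ℓ : Subgroup W} {φ : MulAut W} (hφ : φ ∈ chainStabW ℓ)
    (n : ℕ) (hn : ∀ w : W, w ^ n = 1) : φ ^ n = 1 := by
  ext w
  have e : φ w = (φ w * w⁻¹) * w := by group
  rw [aut_pow_apply_mul_left φ e (hφ.1 _ (hφ.2 w)), hn, one_mul]
  rfl

end chainW

section main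

variable {G : Type*} [Group G] {p : ℕ} [hp : Fact p.Prime] {H : Subgroup G}
  {𝔄 : Subgroup (MulAut G)} [Finite G]

theorem frattini_quot_comm (hH : IsPGroup p ↥H) (a b : ↥H ⧸ frattini ↥H) : a * b = b * a := by
  induction a using QuotientGroup.induction_on with
  | H x =>
    induction b using QuotientGroup.induction_on with
    | H y =>
      rw [← QuotientGroup.mk_mul, ← QuotientGroup.mk_mul]
      apply QuotientGroup.eq.mpr
      apply commutator_le_frattini' hH
      have e : (x * y)⁻¹ * (y * x) = ⁅y⁻¹, x⁻¹⁆ := by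
        rw [commutatorElement_def]; group
      rw [e, commutator_def]
      exact Subgroup.commutator_mem_commutator (Subgroup.mem_top _) (Subgroup.mem_top _)

theorem frattini_quot_pow (hH : IsPGroup p ↥H) (a : ↥H ⧸ frattini ↥H) : a ^ p = 1 := by
  induction a using QuotientGroup.induction_on with
  | H x =>
    rw [← QuotientGroup.mk_pow]
    exact (QuotientGroup.eq_one_iff _).mpr (pow_mem_frattini' hH x)

/-- **Main lemma.** -/
theorem MCtx.main (C : MCtx p H 𝔄) {c : MulAut G} (hc𝔄 : c ∈ 𝔄) (hcK : ∀ g, c g * g⁻¹ ∈ H)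
    {k : ℕ} (hcp : c ^ (p ^ k) = 1) (hcinn : ¬ ∃ g : G, ∀ y, c y = g * y * g⁻¹) :
    (frattini ↥H).index = p ^ 2 ∧
      ∃ τ ∈ modSub 𝔄 H, ∀ w : ↥H ⧸ frattini ↥H, barW H τ w = w⁻¹ := by
  have hHp : IsPGroup p ↥H := C.hG.to_subgroup H
  have hWcomm := frattini_quot_comm (p := p) hHp
  have hWexp := frattini_quot_pow (p := p) hHp
  -- the generating set of `p`-elements
  obtain ⟨gens, hgens⟩ : ∃ gens : Set (MulAut G),
      gens = {α | α ∈ modSub 𝔄 H ∧ ∃ n : ℕ, α ^ (p ^ n) = 1} := ⟨_, rfl⟩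
  have hcg : c ∈ gens := by
    rw [hgens]; exact ⟨⟨hc𝔄, hcK⟩, k, hcp⟩
  have hgK : Subgroup.closure gens ≤ modSub 𝔄 H := by
    rw [Subgroup.closure_le]
    intro α hα
    rw [hgens] at hα
    exact hα.1
  have hY𝔄 : Subgroup.closure gens ≤ 𝔄 := fun x hx => (hgK hx).1
  have hYnorm : ∀ a ∈ 𝔄, ∀ φ ∈ Subgroup.closure gens, a * φ * a⁻¹ ∈ Subgroup.closure gens := by
    intro a ha φ hφ
    refine Subgroup.closure_induction
      (p := fun φ _ => a * φ * a⁻¹ ∈ Subgroup.closure gens) ?_ ?_ ?_ ?_ hφ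
    · intro α hα
      apply Subgroup.subset_closure
      rw [hgens] at hα ⊢
      obtain ⟨h1, n, hn⟩ := hα
      refine ⟨conj_mem_modSub C.hst ha h1, n, ?_⟩
      rw [conj_pow, hn, mul_one, mul_inv_cancel]
    · rw [mul_one, mul_inv_cancel]; exact Subgroup.one_mem _
    · intro x y _ _ hx hy
      have e : a * (x * y) * a⁻¹ = (a * x * a⁻¹) * (a * y * a⁻¹) := by group
      rw [e]; exact Subgroup.mul_mem _ hx hy
    · intro x _ hx
      have e : a * x⁻¹ * a⁻¹ = (a * x * a⁻¹)⁻¹ := by group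
      rw [e]; exact Subgroup.inv_mem _ hx
  -- the closure is not a `p`-group
  have hYnot : ¬ IsPGroup p ↥(Subgroup.closure gens) := by
    intro hY
    exact hcinn (C.hOp _ hY𝔄 hY hYnorm c (Subgroup.subset_closure hcg))
  have hbarpow : ∀ α ∈ gens, ∃ n : ℕ, barW H α ^ (p ^ n) = 1 := by
    intro α hα
    rw [hgens] at hα
    obtain ⟨h1, n, hn⟩ := hα
    refine ⟨n, ?_⟩
    rw [← barW_pow (C.hst h1.1), hn, barW_one]
  -- Step A: the Frattini quotient has order `p²`
  have hcardW : Nat.card (↥H ⧸ frattini ↥H) = p ^ 2 := by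
    have h1 := C.hW
    rw [Subgroup.index_eq_card] at h1
    obtain ⟨r, hr2, hr⟩ := (Nat.dvd_prime_pow hp.out).mp h1
    interval_cases r
    · exfalso
      apply hYnot
      apply C.kerW_isPGroup.to_le
      rw [Subgroup.closure_le]
      intro α hα
      obtain ⟨n, hn⟩ := hbarpow α hα
      rw [hgens] at hα
      refine ⟨hα.1, ?_⟩
      exact aut_eq_one_of_card_dvd_prime (p := p) (by rw [hr, pow_zero]; exact one_dvd _) _ n hn
    · exfalso
      apply hYnot
      apply C.kerW_isPGroup.to_le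
      rw [Subgroup.closure_le]
      intro α hα
      obtain ⟨n, hn⟩ := hbarpow α hα
      rw [hgens] at hα
      refine ⟨hα.1, ?_⟩
      exact aut_eq_one_of_card_dvd_prime (p := p) (by rw [hr, pow_one]) _ n hn
    · exact hr
  refine ⟨by rw [Subgroup.index_eq_card]; exact hcardW, ?_⟩
  -- Step B
  have hcbar : barW H c ≠ 1 := by
    intro h
    exact hcinn (C.kerW_inner ⟨⟨hc𝔄, hcK⟩, h⟩)
  obtain ⟨kc, hkc⟩ := hbarpow c hcg
  have hℓcard := card_fixSub_eq hcardW (barW H c) kc hkc hcbar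
  -- Step C
  have hexists : ∃ t ∈ gens, barW H t ≠ 1 ∧ fixSub (barW H t) ≠ fixSub (barW H c) := by
    by_contra hcon
    push Not at hcon
    apply hYnot
    -- the stabiliser of the chain
    have hSt : ∀ α ∈ gens, barW H α ∈ chainStabW (fixSub (barW H c)) := by
      intro α hα
      by_cases h1 : barW H α = 1
      · rw [h1]; exact Subgroup.one_mem _
      · have h2 := hcon α hα h1
        obtain ⟨n, hn⟩ := hbarpow α hα
        refine ⟨fun w hw => ?_, fun w => ?_⟩
        · rw [← h2] at hw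
          exact hw
        · rw [← h2]
          exact aut_comm_fixed hWcomm hcardW (barW H α) n hn w
    have hSt' : ∀ α ∈ Subgroup.closure gens, barW H α ∈ chainStabW (fixSub (barW H c)) := by
      intro α hα
      refine Subgroup.closure_induction
        (p := fun α _ => α ∈ 𝔄 ∧ barW H α ∈ chainStabW (fixSub (barW H c))) ?_ ?_ ?_ ?_ hα |>.2
      · intro x hx
        exact ⟨hY𝔄 (Subgroup.subset_closure hx), hSt x hx⟩
      · exact ⟨𝔄.one_mem, by rw [barW_one]; exact Subgroup.one_mem _⟩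
      · rintro x y _ _ ⟨hx1, hx2⟩ ⟨hy1, hy2⟩
        refine ⟨𝔄.mul_mem hx1 hy1, ?_⟩
        rw [barW_mul (C.hst hx1) (C.hst hy1)]
        exact Subgroup.mul_mem _ hx2 hy2
      · rintro x _ ⟨hx1, hx2⟩
        refine ⟨𝔄.inv_mem hx1, ?_⟩
        rw [barW_inv (C.hst hx1)]
        exact Subgroup.inv_mem _ hx2
    rintro ⟨α, hα⟩
    have h1 := pow_eq_one_of_mem_chainStabW (hSt' α hα) p hWexp
    rw [← barW_pow (C.hst (hY𝔄 hα))] at h1
    have h2 : α ^ p ∈ C.kerW := ⟨(modSub 𝔄 H).pow_mem (hgK hα) p, h1⟩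
    obtain ⟨n, hn⟩ := C.kerW_pow h2
    refine ⟨n + 1, Subtype.ext ?_⟩
    show α ^ (p ^ (n + 1)) = 1
    rw [pow_succ', pow_mul]
    exact hn
  obtain ⟨t, htg, htbar, htfix⟩ := hexists
  obtain ⟨kt, hkt⟩ := hbarpow t htg
  have hEcard := card_fixSub_eq hcardW (barW H t) kt hkt htbar
  have htK : t ∈ modSub 𝔄 H := by
    rw [hgens] at htg; exact htg.1
  -- Step D
  have hne1 : ∃ e ∈ fixSub (barW H t), barW H c e ≠ e := by
    by_contra hcon
    push Not at hcon
    apply htfix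
    apply Subgroup.eq_of_le_of_card_ge
    · intro e he
      exact hcon e he
    · rw [hℓcard, hEcard]
  have hne2 : ∃ f ∈ fixSub (barW H c), barW H t f ≠ f := by
    by_contra hcon
    push Not at hcon
    apply htfix
    symm
    apply Subgroup.eq_of_le_of_card_ge
    · intro e he
      exact hcon e he
    · rw [hℓcard, hEcard]
  obtain ⟨τb, hτbcl, hτb1, hτb2⟩ := sl2_trick_inv hWcomm hℓcard hEcard
    (fun y => aut_comm_fixed hWcomm hcardW (barW H c) kc hkc y)
    (fun y => aut_comm_fixed hWcomm hcardW (barW H t) kt hkt y)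
    (fun y hy => hy) (fun y hy => hy) hne1 hne2
  -- Step E: `τb` inverts everything
  have hinvall : ∀ w : ↥H ⧸ frattini ↥H, τb w = w⁻¹ := by
    obtain ⟨Inv, hInv⟩ : ∃ Inv : Subgroup (↥H ⧸ frattini ↥H), ∀ w, w ∈ Inv ↔ τb w = w⁻¹ := by
      refine ⟨{ carrier := {w | τb w = w⁻¹}
                one_mem' := by simp
                mul_mem' := ?_
                inv_mem' := ?_ }, fun w => Iff.rfl⟩
      · intro a b ha hb
        show τb (a * b) = (a * b)⁻¹
        rw [map_mul, ha, hb, mul_inv_rev, hWcomm]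
      · intro a ha
        show τb a⁻¹ = a⁻¹⁻¹
        rw [map_inv, ha]
    have hle : fixSub (barW H c) ⊔ fixSub (barW H t) ≤ Inv :=
      sup_le (fun w hw => (hInv w).mpr (hτb1 w hw)) (fun w hw => (hInv w).mpr (hτb2 w hw))
    have htop : fixSub (barW H c) ⊔ fixSub (barW H t) = ⊤ := by
      have h1 : Nat.card ↥(fixSub (barW H c) ⊔ fixSub (barW H t)) ∣ p ^ 2 :=
        hcardW ▸ Subgroup.card_subgroup_dvd_card _
      obtain ⟨r, hr2, hr⟩ := (Nat.dvd_prime_pow hp.out).mp h1
      have hr' : r = 2 := by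
        by_contra hne
        have hr1 : r ≤ 1 := by omega
        apply htfix
        have h2 : fixSub (barW H c) = fixSub (barW H c) ⊔ fixSub (barW H t) := by
          apply Subgroup.eq_of_le_of_card_ge le_sup_left
          rw [hr, hℓcard]
          calc p ^ r ≤ p ^ 1 := Nat.pow_le_pow_right hp.out.pos hr1
            _ = p := pow_one p
        apply Subgroup.eq_of_le_of_card_ge
        · rw [h2]; exact (le_sup_right : fixSub (barW H t) ≤ fixSub (barW H c) ⊔ fixSub (barW H t))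
        · rw [hℓcard, hEcard]
      apply Subgroup.eq_top_of_card_eq
      rw [hr, hr', hcardW]
    intro w
    apply (hInv w).mp
    apply hle
    rw [htop]
    exact Subgroup.mem_top w
  -- Step F: lift
  obtain ⟨τ, hτcl, hτbar⟩ := exists_lift_closure (C.hst hc𝔄) (C.hst htK.1) hτbcl
  have hτK : τ ∈ modSub 𝔄 H := by
    have hle : Subgroup.closure ({c, t} : Set (MulAut G)) ≤ modSub 𝔄 H := by
      rw [Subgroup.closure_le]
      rintro x (rfl | rfl)
      · exact ⟨hc𝔄, hcK⟩
      · exact htK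
    exact hle hτcl
  exact ⟨τ, hτK, fun w => by rw [hτbar]; exact hinvall w⟩

/-- elementwise form of inversion on the Frattini quotient -/
theorem apply_mul_mem_frSub {τ : MulAut G} (hst : τ ∈ stabSubgroup H)
    (hinv : ∀ w : ↥H ⧸ frattini ↥H, barW H τ w = w⁻¹) (h : G) (hh : h ∈ H) :
    τ h * h ∈ frSub H := by
  have h1 := hinv ((⟨h, hh⟩ : ↥H) : ↥H ⧸ frattini ↥H)
  rw [barW_mk hst] at h1
  have hmem : τ h * h ∈ H := H.mul_mem ((hst h).mpr hh) hh
  rw [mem_frSub hmem]
  have h2 : ((⟨τ h, (hst h).mpr hh⟩ * ⟨h, hh⟩ : ↥H) : ↥H ⧸ frattini ↥H) = 1 := by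
    rw [QuotientGroup.mk_mul, h1, inv_mul_cancel]
  exact (QuotientGroup.eq_one_iff _).mp h2

/-- an automorphism inverting the (abelian) Frattini quotient commutes there with everything -/
theorem barW_comm_of_inv {τ β : MulAut G} (hτ : τ ∈ stabSubgroup H) (hβ : β ∈ stabSubgroup H)
    (hinv : ∀ w : ↥H ⧸ frattini ↥H, barW H τ w = w⁻¹) :
    barW H (τ * β * τ⁻¹ * β⁻¹) = 1 := by
  rw [barW_mul ((stabSubgroup H).mul_mem ((stabSubgroup H).mul_mem hτ hβ)
    ((stabSubgroup H).inv_mem hτ)) ((stabSubgroup H).inv_mem hβ),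
    barW_mul ((stabSubgroup H).mul_mem hτ hβ) ((stabSubgroup H).inv_mem hτ),
    barW_mul hτ hβ, barW_inv hτ, barW_inv hβ]
  have hcomm : barW H τ * barW H β = barW H β * barW H τ := by
    ext w
    show barW H τ (barW H β w) = barW H β (barW H τ w)
    rw [hinv, hinv, map_inv]
  rw [hcomm]
  group

end main

end Cfsg.Agent.Lib.Helper87
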