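import Cfsg.Agent.Lib.Helper87.MetaCoreA
import Cfsg.Agent.Lib.Helper87.AbelianSupersoluble
import Cfsg.Agent.Lib.Helper87.SupersolubleBwd
import Cfsg.Agent.S5212
import Cfsg.Agent.S5234
import Cfsg.Agent.S1896

/-!
# Backward direction of the metacyclic supersoluble-type criterion
-/

set_option autoImplicit false

namespace Cfsg.Agent.Lib.Helper87.MetaSS

open Cfsg Cfsg.FusionSystem Cfsg.Agent.Lib.Helper87

universe u



theorem pow_eq_one_of_mem_zpowers {X : Type*} [Group X] {x : X} {p : ℕ} (hx : orderOf x = p)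
    {t : X} (ht : t ∈ Subgroup.zpowers x) : t ^ p = 1 := by
  obtain ⟨k, rfl⟩ := Subgroup.mem_zpowers_iff.mp ht
  rw [← zpow_natCast, ← zpow_mul, mul_comm, zpow_mul, zpow_natCast, ← hx, pow_orderOf_eq_one,
    one_zpow]

/-- A product of three groups each containing an element of order `p` is not metacyclic. -/
theorem not_isMetacyclic_prod_three {A B D : Type*} [Group A] [Group B] [Group D] [Finite A]
    [Finite B] [Finite D] {p : ℕ} (hp : p.Prime) {a : A} {b : B} {d : D} (ha : orderOf a = p)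
    (hb : orderOf b = p) (hd : orderOf d = p) : ¬ Cfsg.IsMetacyclic ((A × B) × D) := by
  intro hm
  let K : Subgroup ((A × B) × D) :=
    ((Subgroup.zpowers a).prod (Subgroup.zpowers b)).prod (Subgroup.zpowers d)
  have hK : Cfsg.IsMetacyclic ↥K := isMetacyclic_subgroup hm K
  have hexp : ∀ t : ↥K, t ^ p = 1 := by
    rintro ⟨⟨⟨t1, t2⟩, t3⟩, ⟨h1, h2⟩, h3⟩
    apply Subtype.ext
    show ((t1, t2), t3) ^ p = 1
    rw [Prod.pow_mk, Prod.pow_mk, pow_eq_one_of_mem_zpowers ha h1,
      pow_eq_one_of_mem_zpowers hb h2, pow_eq_one_of_mem_zpowers hd h3]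
    rfl
  have hle := card_le_of_isMetacyclic_of_pow hK p hp.pos hexp
  have hcard : Nat.card ↥K = p * p * p := by
    rw [Nat.card_congr (Subgroup.prodEquiv _ _).toEquiv, Nat.card_prod,
      Nat.card_congr (Subgroup.prodEquiv _ _).toEquiv, Nat.card_prod, Nat.card_zpowers,
      Nat.card_zpowers, Nat.card_zpowers, ha, hb, hd]
  rw [hcard] at hle
  have h2 := hp.two_le
  nlinarith


theorem isMulCommutative_of_mulEquiv {A B : Type*} [Group A] [Group B] (e : A ≃* B)
    (h : ∀ x y : B, x * y = y * x) : IsMulCommutative A :=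
  ⟨⟨fun a b => e.injective (by rw [map_mul, map_mul, h])⟩⟩

section

variable {Ω : Type u} [Group Ω] {S : Subgroup Ω} [Finite S] {p : ℕ} [Fact p.Prime]

/-- The abelian case. -/
theorem abelian_case (hS : IsPGroup p S) (hm : Cfsg.IsMetacyclic ↥S) (hab : IsMulCommutative S)
    (hne : ¬ ∃ n : ℕ, 0 < n ∧
      Nonempty (↥S ≃* Multiplicative (ZMod (p ^ n)) × Multiplicative (ZMod (p ^ n))))
    (F : FusionSystem S) (hF : F.IsSaturated p) :
    ∃ (m : ℕ) (c : Fin (m + 1) → Subgroup Ω), IsSSChain F m c := by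
  refine (abelian_supersoluble_iff hS hab).mpr ?_ F hF
  rintro ⟨n, H, _, hn, ⟨ψ⟩⟩
  have hp : p.Prime := Fact.out
  by_cases hH : Subsingleton H
  · have : Unique H := uniqueOfSubsingleton 1
    exact hne ⟨n, hn, ⟨ψ.trans MulEquiv.prodUnique⟩⟩
  · rw [not_subsingleton_iff_nontrivial] at hH
    have hne0 : NeZero (p ^ n) := ⟨(pow_pos hp.pos n).ne'⟩
    have hfinC : Finite (Multiplicative (ZMod (p ^ n))) :=
      inferInstanceAs (Finite (ZMod (p ^ n)))
    let ι : H →* ↥S := ψ.symm.toMonoidHom.comp (MonoidHom.inr _ H)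
    have hι : Function.Injective ι := by
      intro x y hxy
      have h1 : (MonoidHom.inr (Multiplicative (ZMod (p ^ n)) × Multiplicative (ZMod (p ^ n))) H) x
          = MonoidHom.inr _ H y := ψ.symm.injective hxy
      exact (Prod.mk.inj h1).2
    have hfinH : Finite H := Finite.of_injective ι hι
    have hHp : IsPGroup p H := hS.of_injective ι hι
    have hdH : p ∣ Nat.card H := by
      rcases hHp.card_eq_or_dvd with h1 | h1
      · exact absurd ((Nat.card_eq_one_iff_unique.mp h1).1) (not_subsingleton H)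
      · exact h1
    obtain ⟨d, hd⟩ := exists_prime_orderOf_dvd_card' p hdH
    have hdC : p ∣ Nat.card (Multiplicative (ZMod (p ^ n))) := by
      have : Nat.card (Multiplicative (ZMod (p ^ n))) = p ^ n := Nat.card_zmod (p ^ n)
      rw [this]
      exact dvd_pow_self p hn.ne'
    obtain ⟨a, ha⟩ := exists_prime_orderOf_dvd_card' p hdC
    have hmT : Cfsg.IsMetacyclic
        ((Multiplicative (ZMod (p ^ n)) × Multiplicative (ZMod (p ^ n))) × H) :=
      isMetacyclic_of_injective ψ.symm.toMonoidHom ψ.symm.injective hm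
    exact not_isMetacyclic_prod_three hp ha ha hd hmT

/-- The nonabelian case for odd `p`, given the automorphism property. -/
theorem odd_case (hp2 : p ≠ 2) (hS : IsPGroup p S) (hm : Cfsg.IsMetacyclic ↥S)
    (hprop : PPrimeAutProp p S) (F : FusionSystem S) (hF : F.IsSaturated p) :
    ∃ (m : ℕ) (c : Fin (m + 1) → Subgroup Ω), IsSSChain F m c := by
  have hN : F.IsNormal S := Cfsg.Agent.S5234.result p hS F hF S
    ⟨le_rfl, fun R _ φ hφ x => (F.le_of_mem hφ).2 x⟩ hp2 hm
  exact supersoluble_of_resistant hS F hF hN hprop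

end

section two

variable {Ω : Type u} [Group Ω] {S : Subgroup Ω} [Finite S]

/-- The nonabelian case for `p = 2`. -/
theorem two_case (hS : IsPGroup 2 S) (hm : Cfsg.IsMetacyclic ↥S) (hna : ¬ IsMulCommutative S)
    (hd : ¬ ∃ n : ℕ, 2 ≤ n ∧ Nonempty (↥S ≃* DihedralGroup n))
    (hq : ¬ ∃ n : ℕ, 2 ≤ n ∧ Nonempty (↥S ≃* QuaternionGroup n))
    (hsd : ¬ Cfsg.IsQuasiDihedral ↥S)
    (F : FusionSystem S) (hF : F.IsSaturated 2) :
    ∃ (m : ℕ) (c : Fin (m + 1) → Subgroup Ω), IsSSChain F m c := by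
  have : Fact (Nat.Prime 2) := ⟨Nat.prime_two⟩
  have hh : ¬ ∃ n k : ℕ, Nonempty (↥S ≃* Multiplicative (Fin k → ZMod (2 ^ n))) := by
    rintro ⟨n, k, ⟨e⟩⟩
    exact hna (isMulCommutative_of_mulEquiv e (fun x y => mul_comm x y))
  have hd' : ¬ ∃ m : ℕ, Nonempty (↥S ≃* DihedralGroup m) := by
    rintro ⟨m, ⟨e⟩⟩
    rcases Nat.lt_or_ge m 2 with h2 | h2
    · interval_cases m
      · have : Finite (DihedralGroup 0) := Finite.of_equiv _ e.toEquiv
        exact not_finite (DihedralGroup 0)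
      · have h1 : IsMulCommutative (DihedralGroup 1) :=
          DihedralGroup.commutative_iff.mpr (Or.inl rfl)
        exact hna (isMulCommutative_of_mulEquiv e h1.is_comm.comm)
    · exact hd ⟨m, h2, ⟨e⟩⟩
  have hq' : ¬ ∃ m : ℕ, Nonempty (↥S ≃* QuaternionGroup m) := by
    rintro ⟨m, ⟨e⟩⟩
    rcases Nat.lt_or_ge m 2 with h2 | h2
    · interval_cases m
      · have hfin : Finite (QuaternionGroup 0) := Finite.of_equiv _ e.toEquiv
        have hinj : Function.Injective (QuaternionGroup.a : ZMod (2 * 0) → QuaternionGroup 0) :=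
          fun i j h => by injection h
        have : Infinite (ZMod (2 * 0)) := inferInstanceAs (Infinite ℤ)
        have : Finite (ZMod (2 * 0)) := Finite.of_injective _ hinj
        exact not_finite (ZMod (2 * 0))
      · have hc : IsCyclic (QuaternionGroup 1) := QuaternionGroup.quaternionGroup_one_isCyclic
        have h1 : IsMulCommutative (QuaternionGroup 1) := IsCyclic.isMulCommutative
        exact hna (isMulCommutative_of_mulEquiv e h1.is_comm.comm)
    · exact hq ⟨m, h2, ⟨e⟩⟩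
  have hinner := Cfsg.Agent.S5212.result hS F hF hm hh hd' hq' hsd
  have hA : IsPGroup 2 (MulAut ↥S) := by
    by_contra hA
    rcases Cfsg.Agent.S1896.result hS hm hA with ⟨⟨e⟩⟩ | ⟨n, ⟨e⟩⟩
    · exact hq ⟨2, le_rfl, ⟨e⟩⟩
    · exact hna (isMulCommutative_of_mulEquiv e (fun x y => mul_comm x y))
  have hN : F.IsNormal S := by
    apply Cfsg.Agent.Lib.Helper88.isNormal_top_of_extends
    intro P φ hφ
    rw [hinner P] at hφ
    obtain ⟨hPS, g, hg, hφg⟩ := hφ
    refine ⟨MulAut.conj (⟨g, hg⟩ : S), ?_, fun x hx => ?_⟩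
    · rw [Cfsg.Agent.Lib.Helper88.mem_autGroup_iff F le_rfl, hinner S]
      exact ⟨le_rfl, g, hg, fun x => rfl⟩
    · rw [hφg x]
      rfl
  refine supersoluble_of_resistant hS F hF hN ?_
  intro H hH
  have hHp : IsPGroup 2 H := hA.to_subgroup H
  obtain ⟨k, hk⟩ := IsPGroup.iff_card.mp hHp
  have hk0 : k = 0 := by
    by_contra hk0
    rw [hk] at hH
    have h2 : 2 ∣ Nat.gcd (2 ^ k) 2 := Nat.dvd_gcd (dvd_pow_self 2 hk0) dvd_rfl
    rw [Nat.Coprime] at hH
    rw [hH] at h2
    omega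
  rw [hk0, pow_zero] at hk
  have hsub : Subsingleton H := (Nat.card_eq_one_iff_unique.mp hk).1
  refine ⟨⟨⟨fun a b => Subsingleton.elim _ _⟩⟩, fun h hh => ?_⟩
  have : (⟨h, hh⟩ : H) = 1 := Subsingleton.elim _ _
  have h1 : h = 1 := congrArg (fun w : H => (w : MulAut ↥S)) this
  rw [h1, one_pow]

end two

end Cfsg.Agent.Lib.Helper87.MetaSS
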