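import Cfsg.Agent.Lib.Helper85.Iso4
import Cfsg.Agent.Lib.Helper85.Saturated
import Cfsg.Agent.Lib.Helper87.SupersolubleFwd
import Cfsg.Agent.Lib.Helper87.SupersolubleBwd

/-!
# Forward direction tools for the metacyclic supersoluble-type criterion

If every saturated fusion system over a `2`-group `S` has a supersoluble chain, then for every
finite group `G` with a Sylow `2`-subgroup `P ≅ S`, `G`-conjugate elements of `P` are
`P`-conjugate.
-/

set_option autoImplicit false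

namespace Cfsg.Agent.Lib.Helper87.MetaSS

open Cfsg Cfsg.FusionSystem Cfsg.Agent.Lib.Helper85 Cfsg.Agent.Lib.Helper87

universe u v

/-- Under the hypothesis that all saturated fusion systems over the `2`-group `S` are supersoluble,
fusion in any finite group with Sylow `2`-subgroup isomorphic to `S` is controlled by the Sylow
subgroup itself. -/
theorem conj_in_sylow_of_all_supersoluble {Ω : Type u} [Group Ω] {S : Subgroup Ω} [Finite S]
    (hS : IsPGroup 2 S)
    (hall : ∀ F : FusionSystem S, F.IsSaturated 2 →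
      ∃ (m : ℕ) (c : Fin (m + 1) → Subgroup Ω), IsSSChain F m c)
    {G : Type v} [Group G] [Finite G] (P : Sylow 2 G) (e : ↥(P : Subgroup G) ≃* S)
    (a b : ↥(P : Subgroup G)) (g : G) (hg : g * (a : G) * g⁻¹ = (b : G)) :
    ∃ s : ↥(P : Subgroup G), s * a * s⁻¹ = b := by
  have : Fact (Nat.Prime 2) := ⟨Nat.prime_two⟩
  have hF'sat := Cfsg.Agent.Lib.Helper85.groupFusionSystem_isSaturated P
  obtain ⟨F, hcor⟩ := Iso.exists_transport_top e (Cfsg.groupFusionSystem (P : Subgroup G))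
  have hFsat : F.IsSaturated 2 := hcor.isSaturated le_rfl (Iso.imE_top e) hF'sat
  obtain ⟨m, c, hc⟩ := hall F hFsat
  have hN : F.IsNormal S := isNormal_top_of_chain hS F hFsat hc
  have hprop := pprime_aut_of_supersoluble hS hall
  obtain ⟨H, hHcop, hdec⟩ := exists_pprime_complement F hFsat
  have hH1 : ∀ h ∈ H, h = 1 := fun h hh => by simpa using (hprop H hHcop).2 h hh
  -- the conjugation map on `⟨a⟩`
  have hQP : Subgroup.zpowers (a : G) ≤ (P : Subgroup G) := Subgroup.zpowers_le.mpr a.2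
  let φ' : ↥(Subgroup.zpowers (a : G)) →* G :=
    ((MulAut.conj g).toMonoidHom).comp (Subgroup.zpowers (a : G)).subtype
  have hφ'x : ∀ x : ↥(Subgroup.zpowers (a : G)), φ' x = g * (x : G) * g⁻¹ := fun x => rfl
  have hφ'mem : ∀ x : ↥(Subgroup.zpowers (a : G)), φ' x ∈ (P : Subgroup G) := by
    intro x
    obtain ⟨k, hk⟩ := Subgroup.mem_zpowers_iff.mp x.2
    rw [hφ'x, ← hk]
    have h1 : g * (a : G) ^ k * g⁻¹ = (g * (a : G) * g⁻¹) ^ k := by
      rw [conj_zpow]
    rw [h1, hg]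
    exact Subgroup.zpow_mem _ b.2 k
  have hφ' : φ' ∈ (Cfsg.groupFusionSystem (P : Subgroup G)).Hom (Subgroup.zpowers (a : G)) :=
    ⟨hQP, hφ'mem, g, fun x => rfl⟩
  have hφ := (hcor.corresp _ hQP φ' hφ'mem).mp hφ'
  obtain ⟨α, hα, hαx⟩ := exists_aut_of_isNormal_top F hN hφ
  obtain ⟨s0, h, hh, rfl⟩ := hdec α hα
  rw [hH1 h hh, mul_one] at hαx
  have ha0 : (a : G) ∈ Subgroup.zpowers (a : G) := Subgroup.mem_zpowers _
  have h2 := hαx (isoE e hQP ⟨(a : G), ha0⟩) (by rw [isoE_coe]; exact (e _).2)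
  rw [pushE_apply] at h2
  refine ⟨e.symm s0, ?_⟩
  apply e.injective
  apply Subtype.ext
  rw [map_mul, map_mul, map_inv, MulEquiv.apply_symm_apply]
  have h3 : (⟨((isoE e hQP ⟨(a : G), ha0⟩ : ↥(imE e (Subgroup.zpowers (a : G)))) : Ω), by
      rw [isoE_coe]; exact (e _).2⟩ : S) = e a := by
    apply Subtype.ext
    rw [isoE_coe]
  rw [h3] at h2
  have h4 : (⟨φ' ⟨(a : G), ha0⟩, hφ'mem _⟩ : ↥(P : Subgroup G)) = b := Subtype.ext (by
    show g * (a : G) * g⁻¹ = b
    exact hg)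
  rw [h4] at h2
  rw [← h2]
  rfl


/-- the element of order `4` in the cyclic maximal subgroup of a generalized quaternion group -/
theorem quaternion_orderOf_pow (j : ℕ) :
    orderOf ((QuaternionGroup.a 1 : QuaternionGroup (2 ^ (j + 1))) ^ (2 ^ j)) = 4 := by
  rw [orderOf_pow_of_dvd (pow_ne_zero _ two_ne_zero), QuaternionGroup.orderOf_a_one]
  · have : 2 * 2 ^ (j + 1) = 2 ^ j * 4 := by ring
    rw [this, Nat.mul_div_cancel_left _ (pow_pos two_pos j)]
  · rw [QuaternionGroup.orderOf_a_one]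
    exact ⟨4, by ring⟩

theorem quaternion_not_conj (n : ℕ) (i : ZMod (2 * n)) (s : QuaternionGroup n) :
    s * QuaternionGroup.a i * s⁻¹ ≠ QuaternionGroup.xa 0 := by
  intro hs
  have h1 : s * QuaternionGroup.a i = QuaternionGroup.xa 0 * s := by
    rw [← hs]; group
  cases s with
  | a j => simp at h1
  | xa j => simp at h1

theorem dihedral_orderOf_pow (j : ℕ) :
    orderOf ((DihedralGroup.r 1 : DihedralGroup (2 ^ (j + 1))) ^ (2 ^ j)) = 2 := by
  rw [orderOf_pow_of_dvd (pow_ne_zero _ two_ne_zero), DihedralGroup.orderOf_r_one]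
  · have : 2 ^ (j + 1) = 2 ^ j * 2 := by ring
    rw [this, Nat.mul_div_cancel_left _ (pow_pos two_pos j)]
  · rw [DihedralGroup.orderOf_r_one]
    exact ⟨2, by ring⟩

theorem dihedral_not_conj (n : ℕ) (i : ZMod n) (s : DihedralGroup n) :
    s * DihedralGroup.r i * s⁻¹ ≠ DihedralGroup.sr 0 := by
  intro hs
  have h1 : s * DihedralGroup.r i = DihedralGroup.sr 0 * s := by
    rw [← hs]; group
  cases s with
  | r j => simp at h1
  | sr j => simp at h1



section QD

variable {A : Type*} [Group A]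

theorem qd_orderOf_pow {j : ℕ} {x : A} (hx : orderOf x = 2 ^ (j + 2)) :
    orderOf (x ^ (2 ^ j)) = 4 := by
  rw [orderOf_pow_of_dvd (pow_ne_zero _ two_ne_zero), hx]
  · have : 2 ^ (j + 2) = 2 ^ j * 4 := by ring
    rw [this, Nat.mul_div_cancel_left _ (pow_pos two_pos j)]
  · rw [hx]
    exact ⟨4, by ring⟩

theorem qd_sq {n : ℕ} {x y : A} (hy : orderOf y = 2)
    (hxy : y * x * y⁻¹ = x ^ (2 ^ (n - 1) - 1)) : (x * y) ^ 2 = x ^ (2 ^ (n - 1)) := by
  have hy2 : y ^ 2 = 1 := by rw [← hy]; exact pow_orderOf_eq_one y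
  have hyinv : y⁻¹ = y := by
    rw [inv_eq_iff_mul_eq_one, ← pow_two, hy2]
  have h1 : y * x = x ^ (2 ^ (n - 1) - 1) * y := by
    rw [← hxy, hyinv, mul_assoc, mul_assoc, ← pow_two, hy2, mul_one]
  have hpos : 1 ≤ 2 ^ (n - 1) := Nat.one_le_two_pow
  calc (x * y) ^ 2 = x * (y * x) * y := by rw [pow_two]; group
    _ = x * (x ^ (2 ^ (n - 1) - 1) * y) * y := by rw [h1]
    _ = x ^ (1 + (2 ^ (n - 1) - 1)) * (y ^ 2) := by rw [pow_add, pow_one, pow_two]; group
    _ = x ^ (2 ^ (n - 1)) := by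
        rw [hy2, mul_one]
        congr 1
        omega

theorem qd_orderOf_mul {n : ℕ} {x y : A} (hx : orderOf x = 2 ^ n) (hy : orderOf y = 2)
    (hxy : y * x * y⁻¹ = x ^ (2 ^ (n - 1) - 1)) (hn : 1 ≤ n) : orderOf (x * y) = 4 := by
  have h2 := qd_sq hy hxy
  have h4 : orderOf (x * y) = 2 ^ (1 + 1) := by
    apply orderOf_eq_prime_pow
    · rw [pow_one, h2]
      intro h
      have h3 := orderOf_dvd_of_pow_eq_one h
      rw [hx] at h3
      have h5 := Nat.le_of_dvd (pow_pos two_pos _) h3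
      have h6 : 2 ^ (n - 1) < 2 ^ n := Nat.pow_lt_pow_right (by norm_num) (by omega)
      omega
    · have : (x * y) ^ 2 ^ (1 + 1) = ((x * y) ^ 2) ^ 2 := by rw [← pow_mul]; norm_num
      rw [this, h2, ← pow_mul]
      have h7 : 2 ^ (n - 1) * 2 = 2 ^ n := by
        obtain ⟨k, rfl⟩ : ∃ k, n = k + 1 := ⟨n - 1, by omega⟩
        simp [pow_succ]
      rw [h7, ← hx]
      exact pow_orderOf_eq_one x
  rw [h4]; norm_num

theorem qd_not_conj [Finite A] {n : ℕ} (hn : 3 ≤ n) (hcard : Nat.card A = 2 ^ (n + 1)) {x y : A}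
    (hx : orderOf x = 2 ^ n)
    (hxy : y * x * y⁻¹ = x ^ (2 ^ (n - 1) - 1)) (k : ℕ) (s : A) :
    s * x ^ k * s⁻¹ ≠ x * y := by
  intro hs
  have hidx : (Subgroup.zpowers x).index = 2 := by
    have h1 := (Subgroup.zpowers x).card_mul_index
    rw [Nat.card_zpowers, hx, hcard, pow_succ] at h1
    exact Nat.eq_of_mul_eq_mul_left (pow_pos two_pos n) h1
  have hnorm : (Subgroup.zpowers x).Normal := Subgroup.normal_of_index_eq_two hidx
  have h1 : x * y ∈ Subgroup.zpowers x := by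
    rw [← hs]
    exact hnorm.conj_mem _ (Subgroup.pow_mem _ (Subgroup.mem_zpowers x) k) s
  have h2 : y ∈ Subgroup.zpowers x := by
    have := (Subgroup.zpowers x).mul_mem ((Subgroup.zpowers x).inv_mem (Subgroup.mem_zpowers x)) h1
    rwa [inv_mul_cancel_left] at this
  obtain ⟨i, hi⟩ := Subgroup.mem_zpowers_iff.mp h2
  have h3 : y * x * y⁻¹ = x := by
    rw [← hi, ← zpow_neg, ← zpow_add_one, ← zpow_add]
    simp
  rw [h3] at hxy
  have h4 : 2 ^ (n - 1) - 1 = 1 + (2 ^ (n - 1) - 2) := by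
    have : 4 ≤ 2 ^ (n - 1) := by
      calc 4 = 2 ^ 2 := by norm_num
        _ ≤ 2 ^ (n - 1) := Nat.pow_le_pow_right (by norm_num) (by omega)
    omega
  rw [h4, pow_add, pow_one] at hxy
  have h5 : x ^ (2 ^ (n - 1) - 2) = 1 := by
    have := hxy.symm
    rwa [mul_eq_left] at this
  have h6 := orderOf_dvd_of_pow_eq_one h5
  rw [hx] at h6
  have h7 : 4 ≤ 2 ^ (n - 1) := by
    calc 4 = 2 ^ 2 := by norm_num
      _ ≤ 2 ^ (n - 1) := Nat.pow_le_pow_right (by norm_num) (by omega)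
  have h8 : 2 ^ (n - 1) < 2 ^ n := Nat.pow_lt_pow_right (by norm_num) (by omega)
  have h9 := Nat.le_of_dvd (by omega) h6
  omega

end QD


/-- The generic contradiction: a model group `Q` of `S`, realised as a Sylow `2`-subgroup of a finite
group in which all elements of order `d` are conjugate, with two elements of order `d` that are not
conjugate in `Q`. -/
theorem false_of_model {Ω : Type u} [Group Ω] {S : Subgroup Ω} [Finite S] (hS : IsPGroup 2 S)
    (hall : ∀ F : FusionSystem S, F.IsSaturated 2 →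
      ∃ (m : ℕ) (c : Fin (m + 1) → Subgroup Ω), IsSSChain F m c)
    {Q : Type*} [Group Q] (eS : S ≃* Q)
    {G : Type v} [Group G] [Finite G] (P : Sylow 2 G) (e0 : ↥(P : Subgroup G) ≃* Q) (d : ℕ)
    (hconj : ∀ x y : G, orderOf x = d → orderOf y = d → IsConj x y)
    (w z : Q) (hw : orderOf w = d) (hz : orderOf z = d) (hnc : ∀ s : Q, s * w * s⁻¹ ≠ z) :
    False := by
  have h1 : orderOf ((e0.symm w : ↥(P : Subgroup G)) : G) = d := by
    rw [Subgroup.orderOf_coe, MulEquiv.orderOf_eq, hw]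
  have h2 : orderOf ((e0.symm z : ↥(P : Subgroup G)) : G) = d := by
    rw [Subgroup.orderOf_coe, MulEquiv.orderOf_eq, hz]
  obtain ⟨g, hg⟩ := isConj_iff.mp (hconj _ _ h1 h2)
  obtain ⟨s, hs⟩ := conj_in_sylow_of_all_supersoluble hS hall P (e0.trans eS.symm)
    (e0.symm w) (e0.symm z) g hg
  apply hnc (e0 s)
  have := congrArg e0 hs
  rwa [map_mul, map_mul, map_inv, MulEquiv.apply_symm_apply, MulEquiv.apply_symm_apply] at this

section families

variable {Ω : Type u} [Group Ω] {S : Subgroup Ω} [Finite S]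

/-- generalized quaternion `S` -/
theorem false_of_quaternion (hS : IsPGroup 2 S)
    (hall : ∀ F : FusionSystem S, F.IsSaturated 2 →
      ∃ (m : ℕ) (c : Fin (m + 1) → Subgroup Ω), IsSSChain F m c)
    (j : ℕ) (eS : S ≃* QuaternionGroup (2 ^ (j + 1)))
    (hM : ∃ (G : Type) (_ : Group G) (_ : Finite G) (P : Sylow 2 G),
      Nonempty (↥(P : Subgroup G) ≃* QuaternionGroup (2 ^ (j + 1))) ∧
      ∀ x y : G, orderOf x = 4 → orderOf y = 4 → IsConj x y) : False := by
  obtain ⟨G, _, _, P, ⟨e0⟩, hconj⟩ := hM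
  have : NeZero (2 ^ (j + 1)) := ⟨pow_ne_zero _ two_ne_zero⟩
  refine false_of_model hS hall eS P e0 4 hconj
    ((QuaternionGroup.a 1 : QuaternionGroup (2 ^ (j + 1))) ^ (2 ^ j)) (QuaternionGroup.xa 0)
    (quaternion_orderOf_pow j) (QuaternionGroup.orderOf_xa 0) ?_
  intro s
  rw [QuaternionGroup.a_one_pow]
  exact quaternion_not_conj _ _ s

/-- dihedral `S` of order at least `8` -/
theorem false_of_dihedral (hS : IsPGroup 2 S)
    (hall : ∀ F : FusionSystem S, F.IsSaturated 2 →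
      ∃ (m : ℕ) (c : Fin (m + 1) → Subgroup Ω), IsSSChain F m c)
    (j : ℕ) (eS : S ≃* DihedralGroup (2 ^ (j + 1)))
    (hM : ∃ (G : Type) (_ : Group G) (_ : Finite G) (P : Sylow 2 G),
      Nonempty (↥(P : Subgroup G) ≃* DihedralGroup (2 ^ (j + 1))) ∧
      ∀ x y : G, orderOf x = 2 → orderOf y = 2 → IsConj x y) : False := by
  obtain ⟨G, _, _, P, ⟨e0⟩, hconj⟩ := hM
  refine false_of_model hS hall eS P e0 2 hconj
    ((DihedralGroup.r 1 : DihedralGroup (2 ^ (j + 1))) ^ (2 ^ j)) (DihedralGroup.sr 0)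
    (dihedral_orderOf_pow j) (DihedralGroup.orderOf_sr 0) ?_
  intro s
  rw [DihedralGroup.r_one_pow]
  exact dihedral_not_conj _ _ s

/-- quasi-dihedral `S` -/
theorem false_of_quasiDihedral (hS : IsPGroup 2 S)
    (hall : ∀ F : FusionSystem S, F.IsSaturated 2 →
      ∃ (m : ℕ) (c : Fin (m + 1) → Subgroup Ω), IsSSChain F m c)
    {G : Type v} [Group G] [Finite G] (P : Sylow 2 G)
    (hQD : Cfsg.IsQuasiDihedral ↥(P : Subgroup G)) (e : ↥(P : Subgroup G) ≃* S)
    (hconj : ∀ x y : G, orderOf x = 4 → orderOf y = 4 → IsConj x y) : False := by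
  obtain ⟨n, hn, hcard, x, y, hx, hy, hxy⟩ := hQD
  obtain ⟨i, rfl⟩ : ∃ i, n = i + 2 := ⟨n - 2, by omega⟩
  refine false_of_model hS hall e.symm P (MulEquiv.refl _) 4 hconj (x ^ (2 ^ i)) (x * y)
    (qd_orderOf_pow hx) (qd_orderOf_mul hx hy hxy (by omega)) ?_
  intro s
  exact qd_not_conj hn hcard hx hxy _ s

end families

end Cfsg.Agent.Lib.Helper87.MetaSS
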