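import Cfsg.Agent.Lib.Helper87.Lemma26
import Cfsg.Agent.Lib.Helper87.Inner
import Cfsg.Agent.Lib.Helper88.Centric

/-!
# Automorphisms of `T` normalizing a saturated system and restricting into it

Let `D` be a saturated fusion system over the finite `p`-group `T`, and `α` an automorphism of `T`
lying in a group `A` of automorphisms under which `D` is invariant, such that some power `α ^ n`
with `n` prime to `p` is inner.  If the restriction of `α` to a subgroup `P` with `α(P)` centric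
in `D` is a map of `D`, then `α` is a map of `D`.

The key step ("twisting"): if `f ∈ Hom_D(N, T)` and `f = α ∘ ω` with `ω` an automorphism of `N` of
order prime to `n`, then `α^i ∘ ω^i` is a map of `D` for every `i`, so `ω ^ n` is, hence `ω` is,
hence `α|_N = f ∘ ω⁻¹` is.
-/

set_option autoImplicit false

namespace Cfsg.Agent.Lib.Helper87.NR

open Cfsg Cfsg.FusionSystem Cfsg.Agent.Lib.Helper87

variable {Ω : Type*} [Group Ω] {T : Subgroup Ω}

/-- `D` is invariant under the group `A` of automorphisms of `T` (the invariance clause of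
`IsInvariantIn`, for an arbitrary group of automorphisms). -/
def InvUnder (D : FusionSystem T) (A : Subgroup (MulAut T)) : Prop :=
  ∀ (P : Subgroup Ω) (hPT : P ≤ T) (φ : P →* Ω), φ ∈ D.Hom P → ∀ α ∈ A,
    ∃ χ ∈ D.Hom ((P.subgroupOf T).map (T.subtype.comp α.toMonoidHom)),
      ∀ (x : P) (hφx : φ x ∈ T)
        (hαx : ((α ⟨x, hPT x.2⟩ : T) : Ω) ∈ (P.subgroupOf T).map (T.subtype.comp α.toMonoidHom)),
        χ ⟨(α ⟨x, hPT x.2⟩ : T), hαx⟩ = ((α ⟨φ x, hφx⟩ : T) : Ω)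

theorem mem_imgAut {α : MulAut T} {P : Subgroup Ω} {y : Ω} :
    y ∈ (P.subgroupOf T).map (T.subtype.comp α.toMonoidHom) ↔
      ∃ x : T, (x : Ω) ∈ P ∧ ((α x : T) : Ω) = y := by
  constructor
  · rintro ⟨x, hx, rfl⟩
    exact ⟨x, Subgroup.mem_subgroupOf.mp hx, rfl⟩
  · rintro ⟨x, hx, rfl⟩
    exact ⟨x, Subgroup.mem_subgroupOf.mpr hx, rfl⟩

theorem imgAut_le (α : MulAut T) (P : Subgroup Ω) :
    (P.subgroupOf T).map (T.subtype.comp α.toMonoidHom) ≤ T := by
  rintro _ ⟨x, -, rfl⟩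
  exact (α x).2

theorem imgAut_mono (α : MulAut T) {P Q : Subgroup Ω} (h : P ≤ Q) :
    (P.subgroupOf T).map (T.subtype.comp α.toMonoidHom) ≤
      (Q.subgroupOf T).map (T.subtype.comp α.toMonoidHom) := by
  intro y hy
  obtain ⟨x, hx, rfl⟩ := mem_imgAut.mp hy
  exact mem_imgAut.mpr ⟨x, h hx, rfl⟩

/-- the powers `α^i ∘ ω^i` -/
theorem twist_pow_mem (D : FusionSystem T) (A : Subgroup (MulAut T)) (hinv : InvUnder D A)
    {α : MulAut T} (hα : α ∈ A) {N : Subgroup Ω} (hNT : N ≤ T) {f : N →* Ω} (hf : f ∈ D.Hom N)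
    (ω : MulAut N) (hω : ∀ x : N, f x = ((α ⟨ω x, hNT (ω x).2⟩ : T) : Ω)) (i : ℕ) :
    (T.subtype.comp (α ^ i).toMonoidHom).comp
      ((Subgroup.inclusion hNT).comp (ω ^ i).toMonoidHom) ∈ D.Hom N := by
  induction i with
  | zero =>
    have e : (T.subtype.comp (α ^ 0).toMonoidHom).comp
        ((Subgroup.inclusion hNT).comp (ω ^ 0).toMonoidHom) = N.subtype := by
      ext x
      simp
    rw [e]
    exact subtype_mem D hNT
  | succ i ih =>
    have ha : α ^ i ∈ A := A.pow_mem hα i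
    obtain ⟨χ, hχ, hχe⟩ := hinv N hNT f hf (α ^ i) ha
    have hm : ∀ x : N, ((T.subtype.comp (α ^ i).toMonoidHom).comp
        ((Subgroup.inclusion hNT).comp (ω ^ i).toMonoidHom)) x ∈
        (N.subgroupOf T).map (T.subtype.comp (α ^ i).toMonoidHom) := by
      intro x
      exact mem_imgAut.mpr ⟨⟨(ω ^ i) x, hNT ((ω ^ i) x).2⟩, ((ω ^ i) x).2, rfl⟩
    have hc := D.comp_mem ih hχ hm
    have e : χ.comp (((T.subtype.comp (α ^ i).toMonoidHom).comp
        ((Subgroup.inclusion hNT).comp (ω ^ i).toMonoidHom)).codRestrict _ hm) =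
        (T.subtype.comp (α ^ (i + 1)).toMonoidHom).comp
          ((Subgroup.inclusion hNT).comp (ω ^ (i + 1)).toMonoidHom) := by
      ext x
      have hfT : f ((ω ^ i) x) ∈ T := hom_mem_S D hf _
      have h1 := hχe ((ω ^ i) x) hfT (hm x)
      show χ ⟨(((α ^ i) ⟨(ω ^ i) x, hNT ((ω ^ i) x).2⟩ : T) : Ω), hm x⟩ =
        (((α ^ (i + 1)) ⟨(ω ^ (i + 1)) x, hNT ((ω ^ (i + 1)) x).2⟩ : T) : Ω)
      rw [h1]
      have h2 : (⟨f ((ω ^ i) x), hfT⟩ : T) = α ⟨ω ((ω ^ i) x), hNT (ω ((ω ^ i) x)).2⟩ :=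
        Subtype.ext (hω _)
      rw [h2]
      have h3 : (ω ^ (i + 1)) x = ω ((ω ^ i) x) := by
        rw [pow_succ']
        rfl
      have h4 : ∀ y : T, (α ^ (i + 1)) y = (α ^ i) (α y) := by
        intro y
        rw [pow_succ]
        rfl
      rw [h4]
      congr 3
      exact Subtype.ext (by rw [h3])
    rw [e] at hc
    exact hc

/-- the twisting lemma: if `f = α ∘ ω` is a map of `D`, `ω` has order prime to `n` and `α ^ n` is
inner, then the restriction of `α` is a map of `D` -/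
theorem restrict_mem_of_twist (D : FusionSystem T) (A : Subgroup (MulAut T)) (hinv : InvUnder D A)
    {α : MulAut T} (hα : α ∈ A) {n : ℕ} {t : T} (hαn : α ^ n = MulAut.conj t)
    {q : ℕ} (hnq : Nat.Coprime n q)
    {N : Subgroup Ω} (hNT : N ≤ T) {f : N →* Ω} (hf : f ∈ D.Hom N)
    (ω : MulAut N) (hω : ∀ x : N, f x = ((α ⟨ω x, hNT (ω x).2⟩ : T) : Ω)) (hωq : ω ^ q = 1) :
    (T.subtype.comp α.toMonoidHom).comp (Subgroup.inclusion hNT) ∈ D.Hom N := by
  -- `α^n ∘ ω^n` is a map of `D`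
  have h1 := twist_pow_mem D A hinv hα hNT hf ω hω n
  -- hence `ω ^ n` is
  have h2 : ω ^ n ∈ D.autGroup N := by
    rw [mem_autGroup_iff D hNT]
    set g := (T.subtype.comp (α ^ n).toMonoidHom).comp
      ((Subgroup.inclusion hNT).comp (ω ^ n).toMonoidHom) with hg
    have hQT : g.range ≤ T := range_le D h1
    have hc := D.conj_mem (g := ((t⁻¹ : T) : Ω)) hQT (t⁻¹).2
    have hm : ∀ x : N, g x ∈ g.range := fun x => ⟨x, rfl⟩
    have hcomp := D.comp_mem h1 hc hm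
    have e : (conjHom g.range ((t⁻¹ : T) : Ω)).comp (g.codRestrict _ hm) =
        N.subtype.comp (ω ^ n).toMonoidHom := by
      ext x
      show ((t⁻¹ : T) : Ω) * g x * ((t⁻¹ : T) : Ω)⁻¹ = (((ω ^ n) x : N) : Ω)
      have h3 : g x = (((α ^ n) ⟨(ω ^ n) x, hNT ((ω ^ n) x).2⟩ : T) : Ω) := rfl
      rw [h3, hαn]
      simp only [MulAut.conj_apply, Subgroup.coe_mul, Subgroup.coe_inv]
      group
    rw [e] at hcomp
    exact hcomp
  -- hence `ω` is
  have h3 : ω ∈ D.autGroup N := by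
    have hc : IsCoprime (n : ℤ) (q : ℤ) := Nat.isCoprime_iff_coprime.mpr hnq
    obtain ⟨a, b, hab⟩ := hc
    have e : ω = (ω ^ n) ^ a := by
      calc ω = ω ^ (1 : ℤ) := (zpow_one ω).symm
        _ = ω ^ (a * (n : ℤ) + b * (q : ℤ)) := by rw [hab]
        _ = (ω ^ n) ^ a * (ω ^ q) ^ b := by
            rw [zpow_add, zpow_mul', zpow_mul', zpow_natCast, zpow_natCast]
        _ = (ω ^ n) ^ a := by rw [hωq, one_zpow, mul_one]
    rw [e]
    exact (D.autGroup N).zpow_mem h2 a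
  have h4 : ω⁻¹ ∈ D.autGroup N := (D.autGroup N).inv_mem h3
  rw [mem_autGroup_iff D hNT] at h4
  have hm : ∀ x : N, (N.subtype.comp (ω⁻¹).toMonoidHom) x ∈ N := fun x => ((ω⁻¹) x).2
  have hcomp := D.comp_mem h4 hf hm
  have e : f.comp ((N.subtype.comp (ω⁻¹).toMonoidHom).codRestrict N hm) =
      (T.subtype.comp α.toMonoidHom).comp (Subgroup.inclusion hNT) := by
    ext x
    show f ((ω⁻¹) x) = ((α ⟨x, hNT x.2⟩ : T) : Ω)
    rw [hω]
    have h5 : ω ((ω⁻¹) x) = x := by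
      show ω (ω.symm x) = x
      simp
    congr 3
    rw [h5]
  rw [e] at hcomp
  exact hcomp

/-- construction of the twisting automorphism `ω` from an extension `f` of `α|_P` -/
theorem exists_twist [Finite T] (D : FusionSystem T) (α : MulAut T) {P N : Subgroup Ω}
    (hPN : P ≤ N) (hNT : N ≤ T) (hnorm : N ≤ Subgroup.normalizer (P : Set Ω))
    (hcent : ∀ c : T, (∀ x : T, (x : Ω) ∈ P → c * α x = α x * c) →
      ∃ z : T, (z : Ω) ∈ P ∧ c = α z)
    {f : N →* Ω} (hf : f ∈ D.Hom N)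
    (hfP : ∀ x : N, (x : Ω) ∈ P → f x = ((α ⟨x, hNT x.2⟩ : T) : Ω)) :
    ∃ ω : MulAut N, (∀ x : N, f x = ((α ⟨ω x, hNT (ω x).2⟩ : T) : Ω)) ∧
      ω ^ (Nat.card T) = 1 := by
  have hfT : ∀ g : N, f g ∈ T := fun g => hom_mem_S D hf g
  have hNfin : Finite N := Finite.of_injective _ (Subgroup.inclusion_injective hNT)
  -- for every `g` there is `z ∈ P` with `f g = α (g z)`
  have key : ∀ g : N, ∃ z : T, (z : Ω) ∈ P ∧
      (⟨f g, hfT g⟩ : T) = α (⟨g, hNT g.2⟩ * z) := by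
    intro g
    have hc := hcent ((α ⟨g, hNT g.2⟩)⁻¹ * ⟨f g, hfT g⟩) (by
      intro x hx
      have hy : (g : Ω) * x * (g : Ω)⁻¹ ∈ P :=
        (Subgroup.mem_normalizer_iff.mp (hnorm g.2) x).mp hx
      have hyN : (g : Ω) * x * (g : Ω)⁻¹ ∈ N := hPN hy
      have h1 := hfP ⟨(g : Ω) * x * (g : Ω)⁻¹, hyN⟩ hy
      have hα1 : (α ⟨(g : Ω) * x * (g : Ω)⁻¹, hNT hyN⟩ : T) =
          α ⟨g, hNT g.2⟩ * α x * (α ⟨g, hNT g.2⟩)⁻¹ := by
        rw [← map_inv, ← map_mul, ← map_mul]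
        rfl
      have hf1 : f ⟨(g : Ω) * x * (g : Ω)⁻¹, hyN⟩ = f g * f ⟨x, hPN hx⟩ * (f g)⁻¹ := by
        rw [← map_inv, ← map_mul, ← map_mul]
        rfl
      have hx2 : f ⟨x, hPN hx⟩ = ((α x : T) : Ω) := hfP ⟨x, hPN hx⟩ hx
      have h3 : (⟨f g, hfT g⟩ : T) * α x * (⟨f g, hfT g⟩ : T)⁻¹ =
          α ⟨g, hNT g.2⟩ * α x * (α ⟨g, hNT g.2⟩)⁻¹ := by
        apply Subtype.ext
        rw [← hα1]
        simp only [Subgroup.coe_mul, Subgroup.coe_inv]
        rw [← hx2, ← hf1, h1]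
      calc (α ⟨g, hNT g.2⟩)⁻¹ * ⟨f g, hfT g⟩ * α x
          = (α ⟨g, hNT g.2⟩)⁻¹ * ((⟨f g, hfT g⟩ : T) * α x * (⟨f g, hfT g⟩ : T)⁻¹) *
              ⟨f g, hfT g⟩ := by group
        _ = α x * ((α ⟨g, hNT g.2⟩)⁻¹ * ⟨f g, hfT g⟩) := by rw [h3]; group)
    obtain ⟨z, hz, hze⟩ := hc
    refine ⟨z, hz, ?_⟩
    rw [map_mul, ← hze]
    group
  -- the homomorphism `ω₀ = α⁻¹ ∘ f`
  let ω₀ : N →* T := (α.symm.toMonoidHom).comp (f.codRestrict T hfT)
  have hω₀N : ∀ g : N, ((ω₀ g : T) : Ω) ∈ N := by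
    intro g
    obtain ⟨z, hz, hze⟩ := key g
    have : ω₀ g = ⟨g, hNT g.2⟩ * z := by
      show α.symm ⟨f g, hfT g⟩ = _
      rw [hze]
      simp
    rw [this]
    exact N.mul_mem g.2 (hPN hz)
  let ω₁ : N →* N := (T.subtype.comp ω₀).codRestrict N hω₀N
  have hω₁inj : Function.Injective ω₁ := by
    intro x y hxy
    have h1 : ω₀ x = ω₀ y := by
      apply Subtype.ext
      exact congrArg (fun u : N => (u : Ω)) hxy
    have h2 : (⟨f x, hfT x⟩ : T) = ⟨f y, hfT y⟩ := α.symm.injective h1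
    exact D.injective_of_mem hf (congrArg (fun u : T => (u : Ω)) h2)
  have hω₁bij : Function.Bijective ω₁ := Finite.injective_iff_bijective.mp hω₁inj
  let ω : MulAut N := MulEquiv.ofBijective ω₁ hω₁bij
  have hωapp : ∀ x : N, (⟨ω x, hNT (ω x).2⟩ : T) = α.symm ⟨f x, hfT x⟩ := fun x => rfl
  have hωf : ∀ x : N, f x = ((α ⟨ω x, hNT (ω x).2⟩ : T) : Ω) := by
    intro x
    rw [hωapp]
    simp
  refine ⟨ω, hωf, ?_⟩
  -- `ω` fixes `P` pointwise
  have hωP : ∀ x : N, (x : Ω) ∈ P → ω x = x := by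
    intro x hx
    apply Subtype.ext
    have h1 := hωapp x
    have h2 : (⟨f x, hfT x⟩ : T) = α ⟨x, hNT x.2⟩ := Subtype.ext (hfP x hx)
    rw [h2] at h1
    have h3 : α.symm (α ⟨x, hNT x.2⟩) = ⟨x, hNT x.2⟩ := by simp
    rw [h3] at h1
    exact congrArg (fun u : T => (u : Ω)) h1
  -- `ω g = g z` with `z ∈ P`
  have hωz : ∀ g : N, ∃ z : N, (z : Ω) ∈ P ∧ ω g = g * z := by
    intro g
    obtain ⟨z, hz, hze⟩ := key g
    refine ⟨⟨z, hPN hz⟩, hz, ?_⟩
    apply Subtype.ext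
    have h1 := hωapp g
    rw [hze] at h1
    have h3 : α.symm (α (⟨g, hNT g.2⟩ * z)) = ⟨g, hNT g.2⟩ * z := by simp
    rw [h3] at h1
    exact congrArg (fun u : T => (u : Ω)) h1
  ext g
  obtain ⟨z, hz, hgz⟩ := hωz g
  have hpow : ∀ m : ℕ, (ω ^ m) g = g * z ^ m := by
    intro m
    induction m with
    | zero => simp
    | succ m ih =>
      have : (ω ^ (m + 1)) g = ω ((ω ^ m) g) := by
        rw [pow_succ']
        rfl
      rw [this, ih, map_mul, map_pow, hgz, hωP z hz, pow_succ']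
      group
  have hz1 : z ^ (Nat.card T) = 1 := by
    have h1 : (⟨z, hNT z.2⟩ : T) ^ (Nat.card T) = 1 := pow_card_eq_one'
    have h2 : ((z : Ω)) ^ (Nat.card T) = 1 := congrArg (fun u : T => (u : Ω)) h1
    apply Subtype.ext
    rw [Subgroup.coe_pow, h2]
    rfl
  show ((ω ^ (Nat.card T)) g : Ω) = ((1 : MulAut N) g : Ω)
  rw [hpow, hz1]
  simp

/-- centric subgroups are fully centralized -/
theorem isFullyCentralized_of_isCentric [Finite T] (D : FusionSystem T) {P : Subgroup Ω}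
    (hP : D.IsCentric P) : D.IsFullyCentralized P := by
  refine ⟨hP.1, fun Q hQ => ?_⟩
  obtain ⟨φ, hφ, hr⟩ := hQ
  have hQc : centralizerIn T Q ≤ Q := hP.2 Q ⟨φ, hφ, hr⟩
  have hfin : Finite (centralizerIn T P) :=
    Finite.of_injective _ (Subgroup.inclusion_injective (centralizerIn_le T P))
  -- every element of `C_T(Q)` is `φ x` for some `x ∈ C_T(P)`
  have key : ∀ y : centralizerIn T Q, ∃ x : centralizerIn T P,
      ∃ hx : (x : Ω) ∈ P, φ ⟨x, hx⟩ = y := by
    intro y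
    have hyQ : (y : Ω) ∈ φ.range := by
      have : (y : Ω) ∈ Q := hQc y.2
      rw [hr]
      exact this
    obtain ⟨x, hx⟩ := hyQ
    have hxc : (x : Ω) ∈ centralizerIn T P := by
      refine ⟨hP.1 x.2, Subgroup.mem_centralizer_iff.mpr fun x' hx' => ?_⟩
      have h1 : φ ⟨x', hx'⟩ ∈ Q := hr ▸ ⟨_, rfl⟩
      have h2 := Subgroup.mem_centralizer_iff.mp y.2.2 _ h1
      rw [← hx, ← map_mul, ← map_mul] at h2
      have h3 := D.injective_of_mem hφ h2
      exact congrArg (fun u : P => (u : Ω)) h3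
    exact ⟨⟨x, hxc⟩, x.2, hx⟩
  choose g hg using key
  have hinj : Function.Injective g := by
    intro y y' h
    obtain ⟨hx, hxe⟩ := hg y
    obtain ⟨hx', hxe'⟩ := hg y'
    apply Subtype.ext
    rw [← hxe, ← hxe']
    congr 2
    exact congrArg (fun u : centralizerIn T P => (u : Ω)) h
  exact Nat.card_le_card_of_injective g hinj

/-- the restriction of `α` to `P`, and its range -/
theorem range_resAut (α : MulAut T) {P : Subgroup Ω} (hPT : P ≤ T) :
    ((T.subtype.comp α.toMonoidHom).comp (Subgroup.inclusion hPT)).range =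
      (P.subgroupOf T).map (T.subtype.comp α.toMonoidHom) := by
  ext y
  rw [mem_imgAut]
  constructor
  · rintro ⟨x, rfl⟩
    exact ⟨⟨x, hPT x.2⟩, x.2, rfl⟩
  · rintro ⟨x, hx, rfl⟩
    exact ⟨⟨x, hx⟩, rfl⟩

/-- one step: from `α|_P ∈ D` to `α|_{N_T(P)} ∈ D` -/
theorem restrict_normalizer_mem [Finite T] {p : ℕ} [Fact p.Prime] (hT : IsPGroup p T)
    (D : FusionSystem T) (hD : D.IsSaturated p) (A : Subgroup (MulAut T)) (hinv : InvUnder D A)
    {α : MulAut T} (hα : α ∈ A) {n : ℕ} {t : T} (hαn : α ^ n = MulAut.conj t)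
    (hnp : Nat.Coprime n p) {P : Subgroup Ω} (hPT : P ≤ T)
    (hc : D.IsCentric ((P.subgroupOf T).map (T.subtype.comp α.toMonoidHom)))
    (hres : (T.subtype.comp α.toMonoidHom).comp (Subgroup.inclusion hPT) ∈ D.Hom P) :
    (T.subtype.comp α.toMonoidHom).comp (Subgroup.inclusion (normalizerIn_le T P)) ∈
      D.Hom (normalizerIn T P) := by
  have hrec : D.IsReceptive ((P.subgroupOf T).map (T.subtype.comp α.toMonoidHom)) :=
    receptive_of_fullyCentralized hT D hD (isFullyCentralized_of_isCentric D hc)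
  obtain ⟨ψ, hψ, hψe⟩ := extend_to_normalizer D hres (range_resAut α hPT) hrec (by
    intro g hg
    refine ⟨((α ⟨g, hg.1⟩ : T) : Ω), (α ⟨g, hg.1⟩).2, fun x hx => ?_⟩
    show ((α ⟨g * x * g⁻¹, hPT hx⟩ : T) : Ω) =
      ((α ⟨g, hg.1⟩ : T) : Ω) * ((α ⟨x, hPT x.2⟩ : T) : Ω) * ((α ⟨g, hg.1⟩ : T) : Ω)⁻¹
    have e : (⟨g * x * g⁻¹, hPT hx⟩ : T) = ⟨g, hg.1⟩ * ⟨x, hPT x.2⟩ * (⟨g, hg.1⟩ : T)⁻¹ := rfl
    rw [e, map_mul, map_mul, map_inv]
    rfl)
  have hPN : P ≤ normalizerIn T P := le_normalizerIn hPT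
  obtain ⟨ω, hω, hωq⟩ := exists_twist D α hPN (normalizerIn_le T P)
    (fun g hg => hg.2) (by
      intro c hcx
      have hcc : (c : Ω) ∈ centralizerIn T ((P.subgroupOf T).map (T.subtype.comp α.toMonoidHom)) := by
        refine ⟨c.2, Subgroup.mem_centralizer_iff.mpr fun y hy => ?_⟩
        obtain ⟨x, hx, rfl⟩ := mem_imgAut.mp hy
        have := hcx x hx
        exact (congrArg (fun u : T => (u : Ω)) this).symm
      have h1 := hc.2 _ (isConj_refl D (imgAut_le α P)) hcc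
      obtain ⟨z, hz, hze⟩ := mem_imgAut.mp h1
      exact ⟨z, hz, Subtype.ext hze.symm⟩) hψ (by
      intro x hx
      exact hψe ⟨x, hx⟩ x.2)
  obtain ⟨k, hk⟩ := IsPGroup.iff_card.mp hT
  have hnq : Nat.Coprime n (Nat.card T) := by
    rw [hk]
    exact Nat.Coprime.pow_right k hnp
  exact restrict_mem_of_twist D A hinv hα hαn hnq (normalizerIn_le T P) hψ ω hω hωq

/-- **Main lemma.**  If `α|_P` is a map of the saturated system `D` for some `P` with `α(P)` centric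
in `D`, then `α ∈ Aut_D(T)`. -/
theorem mem_autGroup_of_restrict_mem [Finite T] {p : ℕ} [Fact p.Prime] (hT : IsPGroup p T)
    (D : FusionSystem T) (hD : D.IsSaturated p) (A : Subgroup (MulAut T)) (hinv : InvUnder D A)
    {α : MulAut T} (hα : α ∈ A) {n : ℕ} {t : T} (hαn : α ^ n = MulAut.conj t)
    (hnp : Nat.Coprime n p) :
    ∀ (k : ℕ) (P : Subgroup Ω) (hPT : P ≤ T), Nat.card T - Nat.card P = k →
      D.IsCentric ((P.subgroupOf T).map (T.subtype.comp α.toMonoidHom)) →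
      (T.subtype.comp α.toMonoidHom).comp (Subgroup.inclusion hPT) ∈ D.Hom P →
      α ∈ D.autGroup T := by
  intro k
  induction k using Nat.strong_induction_on with
  | _ k ih =>
    intro P hPT hk hc hres
    by_cases hPeq : P = T
    · subst hPeq
      rw [mem_autGroup_iff D le_rfl]
      have e : (P.subtype.comp α.toMonoidHom).comp (Subgroup.inclusion hPT) =
          P.subtype.comp α.toMonoidHom := by
        ext x
        rfl
      rw [← e]
      exact hres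
    · have hlt := card_lt_card_normalizerIn hT hPT hPeq
      have hN := restrict_normalizer_mem hT D hD A hinv hα hαn hnp hPT hc hres
      have hle : Nat.card (normalizerIn T P) ≤ Nat.card T :=
        Subgroup.card_le_of_le (normalizerIn_le T P)
      have hPle : Nat.card P ≤ Nat.card T := Subgroup.card_le_of_le hPT
      refine ih (Nat.card T - Nat.card (normalizerIn T P)) (by omega) (normalizerIn T P)
        (normalizerIn_le T P) rfl ?_ hN
      exact Cfsg.Agent.Lib.Helper88.isCentric_of_le D hc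
        (imgAut_mono α (le_normalizerIn hPT)) (imgAut_le α _)

end Cfsg.Agent.Lib.Helper87.NR
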