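import Mathlib
import Cfsg.Agent.Lib.Helper22.CgDefs
import Cfsg.Agent.Lib.Helper12.PsDefs
import Cfsg.Agent.Lib.Helper87.PsNC
import Cfsg.Agent.Lib.Helper11.CgCG0
import Cfsg.Agent.Lib.Helper49.CgCG8c

/-! Ps hive (S4321): core of the leaf PSK1 (`psCore` as an explicit hypothesis). -/

set_option autoImplicit false

namespace Cfsg.Agent.Lib.Helper12.Ps

open Subgroup Cfsg.Agent.Lib.Helper22.Cg

universe u

/-- PSK1 with the statement of `psCore` as an explicit hypothesis. -/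
theorem psK1_core {G : Type u} [Group G] [Finite G] (p : ℕ) [Fact p.Prime]
    (hCore : ∀ (a b : G), (∃ n : ℕ, orderOf a = p ^ n) → (∃ n : ℕ, orderOf b = p ^ n) →
      1 < cs a → 1 < cs b → Bad p a b → ¬ p ∣ cs b →
      ∀ P : Sylow p G, a ∈ P → (∀ y ∈ P, b * y = y * b) → False)
    (hZ : ¬ p ∣ Nat.card (center G)) (a b : G)
    (ha : ∃ n : ℕ, orderOf a = p ^ n) (ha1 : a ≠ 1) (hb : ∃ n : ℕ, orderOf b = p ^ n) (hb1 : b ≠ 1)
    (hbad : Bad p a b) (hpb : ¬ p ∣ cs b) : False := by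
  classical
  have hca : 1 < cs a := psNC p hZ a ha ha1
  have hcb : 1 < cs b := psNC p hZ b hb hb1
  obtain ⟨P, hP⟩ := cg8c p b hpb
  -- `a` lies in some Sylow `p`-subgroup
  have hpa : IsPGroup p (Subgroup.zpowers a) := by
    obtain ⟨n, hn⟩ := ha
    apply IsPGroup.of_card (n := n)
    rw [Nat.card_zpowers, hn]
  obtain ⟨P', hP'⟩ := hpa.exists_le_sylow
  have haP' : a ∈ (P' : Subgroup G) := hP' (Subgroup.mem_zpowers a)
  obtain ⟨k, hk⟩ := MulAction.exists_smul_eq G P' P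
  -- `k * a * k⁻¹ ∈ P`
  have hkaP : k * a * k⁻¹ ∈ (P : Subgroup G) := by
    rw [← hk, Sylow.coe_subgroup_smul, Subgroup.mem_pointwise_smul_iff_inv_smul_mem]
    have : (MulAut.conj k)⁻¹ • (k * a * k⁻¹) = a := by
      simp [MulAut.smul_def, mul_assoc]
    rw [this]; exact haP'
  have hcs : cs (k * a * k⁻¹) = cs a := cg0 a k
  have ha' : ∃ n : ℕ, orderOf (k * a * k⁻¹) = p ^ n := by
    obtain ⟨n, hn⟩ := ha
    refine ⟨n, ?_⟩
    have h1 : k * a * k⁻¹ = MulAut.conj k a := by simp [MulAut.conj_apply]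
    rw [h1, MulEquiv.orderOf_eq]; exact hn
  have hbad' : Bad p (k * a * k⁻¹) b := by
    intro t u ht hu hta hub
    rw [hcs] at hta
    exact hbad t u ht hu hta hub
  exact hCore (k * a * k⁻¹) b ha' hb (by rw [hcs]; exact hca) hcb hbad' hpb P hkaP hP

end Cfsg.Agent.Lib.Helper12.Ps
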