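import Mathlib
import Cfsg.Agent.Lib.Helper22.CgDefs
import Cfsg.Agent.Lib.Helper12.PsDefs
import Cfsg.Agent.Lib.Helper87.PsNC
import Cfsg.Agent.Lib.Helper15.PsP

/-! Ps hive (S4321): cores of the leaves PSK and PSMAIN (later leaves as explicit hypotheses). -/

set_option autoImplicit false

namespace Cfsg.Agent.Lib.Helper12.Ps

open Subgroup Cfsg.Agent.Lib.Helper22.Cg

universe u

/-- `Bad` is symmetric. -/
theorem psK_bad_symm {G : Type u} [Group G] (p : ℕ) (a b : G) (h : Bad p a b) : Bad p b a := by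
  intro t u ht hu hta hub
  obtain ⟨hne, hno⟩ := h u t hu ht hub hta
  refine ⟨fun e => hne e.symm, fun z hz hd => hno z hz ?_⟩
  rwa [mul_comm]

/-- PSK with the statement of `psK1` as an explicit hypothesis. -/
theorem psK_core {G : Type u} [Group G] [Finite G] (p : ℕ) [Fact p.Prime]
    (hK1 : ∀ (a b : G), (∃ n : ℕ, orderOf a = p ^ n) → a ≠ 1 → (∃ n : ℕ, orderOf b = p ^ n) →
      b ≠ 1 → Bad p a b → ¬ p ∣ cs b → False)
    (a b : G)
    (ha : ∃ n : ℕ, orderOf a = p ^ n) (ha1 : a ≠ 1) (hb : ∃ n : ℕ, orderOf b = p ^ n) (hb1 : b ≠ 1) :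
    ∃ t u : ℕ, t.Prime ∧ u.Prime ∧ t ∣ cs a ∧ u ∣ cs b ∧
      (t = u ∨ ∃ z : G, p ∣ orderOf z ∧ t * u ∣ cs z) := by
  classical
  by_contra hcon
  have hbad : Bad p a b := by
    intro t u ht hu hta hub
    refine ⟨fun e => hcon ⟨t, u, ht, hu, hta, hub, Or.inl e⟩, fun z hz hd => ?_⟩
    exact hcon ⟨t, u, ht, hu, hta, hub, Or.inr ⟨z, hz, hd⟩⟩
  have hp : p.Prime := Fact.out
  by_cases hpb : p ∣ cs b
  · have hpa : ¬ p ∣ cs a := fun hpa => (hbad p p hp hp hpa hpb).1 rfl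
    exact hK1 b a hb hb1 ha ha1 (psK_bad_symm p a b hbad) hpa
  · exact hK1 a b ha ha1 hb hb1 hbad hpb

/-- PSMAIN with the statement of `psK` as an explicit hypothesis. -/
theorem psMain_core {G : Type u} [Group G] [Finite G] (p : ℕ) [Fact p.Prime]
    (hK : ∀ (a b : G), (∃ n : ℕ, orderOf a = p ^ n) → a ≠ 1 → (∃ n : ℕ, orderOf b = p ^ n) →
      b ≠ 1 → ∃ t u : ℕ, t.Prime ∧ u.Prime ∧ t ∣ cs a ∧ u ∣ cs b ∧
        (t = u ∨ ∃ z : G, p ∣ orderOf z ∧ t * u ∣ cs z))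
    (r s : ℕ) (hr : (r.Prime ∧ ∃ x : G, p ∣ orderOf x ∧ r ∣ (Subgroup.centralizer ({x} : Set G)).index)) (hs : (s.Prime ∧ ∃ x : G, p ∣ orderOf x ∧ s ∣ (Subgroup.centralizer ({x} : Set G)).index)) (hrs : r ≠ s) :
    (∃ x : G, p ∣ orderOf x ∧ r * s ∣ (Subgroup.centralizer ({x} : Set G)).index) ∨ (∃ t : ℕ, (t.Prime ∧ ∃ x : G, p ∣ orderOf x ∧ t ∣ (Subgroup.centralizer ({x} : Set G)).index) ∧ t ≠ r ∧ t ≠ s ∧ (∃ x : G, p ∣ orderOf x ∧ r * t ∣ (Subgroup.centralizer ({x} : Set G)).index) ∧ (∃ x : G, p ∣ orderOf x ∧ t * s ∣ (Subgroup.centralizer ({x} : Set G)).index)) ∨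
      (∃ t u : ℕ, (t.Prime ∧ ∃ x : G, p ∣ orderOf x ∧ t ∣ (Subgroup.centralizer ({x} : Set G)).index) ∧ (u.Prime ∧ ∃ x : G, p ∣ orderOf x ∧ u ∣ (Subgroup.centralizer ({x} : Set G)).index) ∧ t ≠ r ∧ u ≠ s ∧ t ≠ u ∧ (∃ x : G, p ∣ orderOf x ∧ r * t ∣ (Subgroup.centralizer ({x} : Set G)).index) ∧ (∃ x : G, p ∣ orderOf x ∧ t * u ∣ (Subgroup.centralizer ({x} : Set G)).index) ∧ (∃ x : G, p ∣ orderOf x ∧ u * s ∣ (Subgroup.centralizer ({x} : Set G)).index)) := by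
  classical
  obtain ⟨hrp, xr, hxr, hrx⟩ := hr
  obtain ⟨hsp, xs, hxs, hsx⟩ := hs
  obtain ⟨a, ha, ha1, hax⟩ := psP p xr hxr
  obtain ⟨b, hb, hb1, hbx⟩ := psP p xs hxs
  obtain ⟨t, u, ht, hu, hta, hub, htu⟩ := hK a b ha ha1 hb hb1
  have htx : t ∣ cs xr := hta.trans hax
  have hux : u ∣ cs xs := hub.trans hbx
  -- product of two distinct primes dividing `n` divides `n`
  have hmul : ∀ {m n k : ℕ}, m.Prime → n.Prime → m ≠ n → m ∣ k → n ∣ k → m * n ∣ k := by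
    intro m n k hm hn hne h1 h2
    exact Nat.Coprime.mul_dvd_of_dvd_of_dvd ((Nat.coprime_primes hm hn).2 hne) h1 h2
  rcases htu with rfl | ⟨z, hz, hzd⟩
  · -- t = u
    by_cases htr : t = r
    · subst htr
      exact Or.inl ⟨xs, hxs, hmul ht hsp hrs hux hsx⟩
    · by_cases hts : t = s
      · subst hts
        exact Or.inl ⟨xr, hxr, hmul hrp ht hrs hrx htx⟩
      · refine Or.inr (Or.inl ⟨t, ⟨ht, xr, hxr, htx⟩, htr, hts, ⟨xr, hxr, ?_⟩, ⟨xs, hxs, ?_⟩⟩)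
        · exact hmul hrp ht (fun e => htr e.symm) hrx htx
        · exact hmul ht hsp hts hux hsx
  · by_cases htr : t = r
    · subst htr
      by_cases hus : u = s
      · subst hus
        exact Or.inl ⟨z, hz, hzd⟩
      · by_cases hut : u = t
        · subst hut
          -- t = u : then t * t ∣ cs z, still fine: use the `t = u` style answer
          exact Or.inl ⟨xs, hxs, hmul ht hsp hrs hux hsx⟩
        · refine Or.inr (Or.inl ⟨u, ⟨hu, xs, hxs, hux⟩, hut, hus, ⟨z, hz, hzd⟩, ⟨xs, hxs, ?_⟩⟩)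
          exact hmul hu hsp hus hux hsx
    · by_cases hus : u = s
      · subst hus
        by_cases hut : t = u
        · subst hut
          exact Or.inl ⟨xr, hxr, hmul hrp ht hrs hrx htx⟩
        · refine Or.inr (Or.inl ⟨t, ⟨ht, xr, hxr, htx⟩, htr, hut, ⟨xr, hxr, ?_⟩, ⟨z, hz, hzd⟩⟩)
          exact hmul hrp ht (fun e => htr e.symm) hrx htx
      · by_cases hut : t = u
        · subst hut
          by_cases hts : t = s
          · exact absurd hts hus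
          · refine Or.inr (Or.inl ⟨t, ⟨ht, xr, hxr, htx⟩, htr, hts, ⟨xr, hxr, ?_⟩, ⟨xs, hxs, ?_⟩⟩)
            · exact hmul hrp ht (fun e => htr e.symm) hrx htx
            · exact hmul ht hsp hts hux hsx
        · refine Or.inr (Or.inr ⟨t, u, ⟨ht, xr, hxr, htx⟩, ⟨hu, xs, hxs, hux⟩, htr, hus, hut,
            ⟨xr, hxr, ?_⟩, ⟨z, hz, hzd⟩, ⟨xs, hxs, ?_⟩⟩)
          · exact hmul hrp ht (fun e => htr e.symm) hrx htx
          · exact hmul hu hsp hus hux hsx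

end Cfsg.Agent.Lib.Helper12.Ps
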