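import Mathlib
import Cfsg.Agent.Lib.Helper22.CgDefs
import Cfsg.Agent.Lib.Helper12.PsDefs

/-! Ps hive (S4321): leaf PSMIX. -/

set_option autoImplicit false

namespace Cfsg.Agent.Lib.Helper12.Ps

open Subgroup Cfsg.Agent.Lib.Helper22.Cg

universe u

/-- PSMIX. a `p`-singular class size dividing `cs a * cs b` for a bad pair divides one of them. -/
theorem psMix {G : Type u} [Group G] [Finite G] (p : ℕ) (a b : G) (hbad : Bad p a b) (z : G)
    (hz : p ∣ orderOf z) (hd : cs z ∣ cs a * cs b) : cs z ∣ cs a ∨ cs z ∣ cs b := by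
  classical
  by_cases h1 : Nat.gcd (cs z) (cs a) = 1
  · right
    exact Nat.Coprime.dvd_of_dvd_mul_left h1 hd
  · by_cases h2 : Nat.gcd (cs z) (cs b) = 1
    · left
      exact Nat.Coprime.dvd_of_dvd_mul_right h2 hd
    · exfalso
      obtain ⟨t, ht, htd⟩ := Nat.exists_prime_and_dvd h1
      obtain ⟨u, hu, hud⟩ := Nat.exists_prime_and_dvd h2
      have hta : t ∣ cs a := htd.trans (Nat.gcd_dvd_right _ _)
      have htz : t ∣ cs z := htd.trans (Nat.gcd_dvd_left _ _)
      have hub : u ∣ cs b := hud.trans (Nat.gcd_dvd_right _ _)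
      have huz : u ∣ cs z := hud.trans (Nat.gcd_dvd_left _ _)
      obtain ⟨hne, hno⟩ := hbad t u ht hu hta hub
      have hcop : Nat.Coprime t u := (Nat.coprime_primes ht hu).2 hne
      exact hno z hz (Nat.Coprime.mul_dvd_of_dvd_of_dvd hcop htz huz)

end Cfsg.Agent.Lib.Helper12.Ps
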