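import Mathlib
import Cfsg.Prelude.Def_EvenType
import Cfsg.Prelude.Def_LieTypeChar
import Cfsg.Agent.Lib.Helper76.RkIso
import Cfsg.Agent.Lib.Helper45.OmBN_ROOTOM

/-!
# Rk hive (S1788, owner helper76): leaf RK-OM `rk_om` (helper87)

`PΩ⁻_{2m}(F)`, `m ≥ 4`, characteristic 2, has 2-rank at least 3: the Eichler transformations
`E(e_0, w)`, `w ∈ ⟨e_1, e_2, f_1⟩_{F_2}`, lie in `Ω` (helper45 `eichler_mem_omega`), form an
elementary abelian group of order 8 and meet the centre of `Ω` trivially.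
-/

set_option autoImplicit false
set_option linter.unusedSectionVars false
set_option linter.unusedVariables false
set_option linter.unusedSimpArgs false

namespace Cfsg.Agent.Lib.Helper76.Rk

open Cfsg Matrix Cfsg.Agent.Lib.Helper8 Cfsg.Agent.Lib.Helper43 Cfsg.Agent.Lib.Helper41.OmBN

variable {F : Type} [Field F]

/-- the commutation test: if `E(f_0, y)` commutes with `E(e_0, w)` then `B(w, y) = 0` -/
theorem om_test {M : ℕ} {a b : F} (hQ : (QuadraticMap.polarBilin (minusForm M F a b)).Nondegenerate)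
    (k0 : Fin M) (w y : MIdx M → F)
    (hw : QuadraticMap.polar (⇑(minusForm M F a b)) (ve F k0) w = 0)
    (hy0 : minusForm M F a b y = 0)
    (hy1 : QuadraticMap.polar (⇑(minusForm M F a b)) (vf F k0) y = 0)
    (hy2 : QuadraticMap.polar (⇑(minusForm M F a b)) (ve F k0) y = 0)
    (he0 : minusForm M F a b (ve F k0) = 0) (hf0 : minusForm M F a b (vf F k0) = 0)
    (hcomm : eichlerElt (minusForm M F a b) hQ (vf F k0) y hf0 hy1 *
        eichlerElt (minusForm M F a b) hQ (ve F k0) w he0 hw =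
      eichlerElt (minusForm M F a b) hQ (ve F k0) w he0 hw *
        eichlerElt (minusForm M F a b) hQ (vf F k0) y hf0 hy1) :
    QuadraticMap.polar (⇑(minusForm M F a b)) w y = 0 := by
  have hee : QuadraticMap.polar (⇑(minusForm M F a b)) (ve F k0) (ve F k0) = 0 := by
    rw [QuadraticMap.polar_self, he0, smul_zero]
  have hfe : QuadraticMap.polar (⇑(minusForm M F a b)) (vf F k0) (ve F k0) = 1 := by
    unfold vf ve
    rw [polar_minusForm_inr]
    simp
  have hwe : QuadraticMap.polar (⇑(minusForm M F a b)) w (ve F k0) = 0 := by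
    rw [QuadraticMap.polar_comm]; exact hw
  have hye : QuadraticMap.polar (⇑(minusForm M F a b)) y (ve F k0) = 0 := by
    rw [QuadraticMap.polar_comm]; exact hy2
  have h1 := congrArg (fun g : ↥(Cfsg.isometryGroup F ⇑(minusForm M F a b)) =>
    ((g : Matrix.GeneralLinearGroup (MIdx M) F) : Matrix (MIdx M) (MIdx M) F) *ᵥ (ve F k0)) hcomm
  rw [coe_mul_mulVec, coe_mul_mulVec] at h1
  -- a e_0 = e_0
  have ha : ((eichlerElt (minusForm M F a b) hQ (ve F k0) w he0 hw :
      ↥(Cfsg.isometryGroup F ⇑(minusForm M F a b))) : Matrix.GeneralLinearGroup (MIdx M) F).1 *ᵥ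
      (ve F k0) = ve F k0 := by
    rw [eichlerElt_mulVec, hee, hwe]
    simp
  -- h e_0 = e_0 + y
  have hh : ((eichlerElt (minusForm M F a b) hQ (vf F k0) y hf0 hy1 :
      ↥(Cfsg.isometryGroup F ⇑(minusForm M F a b))) : Matrix.GeneralLinearGroup (MIdx M) F).1 *ᵥ
      (ve F k0) = ve F k0 + y := by
    rw [eichlerElt_mulVec, hfe, hye, hy0]
    simp
  rw [ha, hh, eichlerElt_mulVec] at h1
  rw [QuadraticMap.polar_add_right, hee, hy2, QuadraticMap.polar_add_right, hwe] at h1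
  simp only [zero_add, zero_smul, sub_zero, mul_zero, add_zero] at h1
  -- h1 : e_0 + y = e_0 + y - polar w y • e_0
  have h2 := congrFun h1 (Sum.inl (Sum.inl k0))
  simp only [Pi.add_apply, Pi.sub_apply, Pi.smul_apply, smul_eq_mul] at h2
  have h3 : (ve F k0 : MIdx M → F) (Sum.inl (Sum.inl k0)) = 1 := by
    unfold ve; simp
  rw [h3, mul_one] at h2
  linear_combination h2


section main

variable [Fintype F] [CharP F 2]

/-- the cast `ZMod 2 → F` -/
noncomputable def om_c (x : ZMod 2) : F := ZMod.castHom (dvd_refl 2) F x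

theorem om_c_add (x y : ZMod 2) : (om_c (x + y) : F) = om_c x + om_c y := by
  unfold om_c; rw [map_add]

theorem om_c_zero : (om_c (0 : ZMod 2) : F) = 0 := by
  unfold om_c; rw [map_zero]

theorem om_c_eq_zero {x : ZMod 2} (h : (om_c x : F) = 0) : x = 0 := by
  unfold om_c at h
  exact (map_eq_zero_iff _ (RingHom.injective (ZMod.castHom (dvd_refl 2) F))).mp h

/-- the vector `w(ε) = ε₀ e₁ + ε₁ e₂ + ε₂ f₁` -/
noncomputable def om_w {M : ℕ} (k1 k2 : Fin M) (ε : Fin 3 → ZMod 2) : MIdx M → F :=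
  (om_c (ε 0) : F) • ve F k1 + (om_c (ε 1) : F) • ve F k2 + (om_c (ε 2) : F) • vf F k1

theorem om_w_add {M : ℕ} (k1 k2 : Fin M) (ε ε' : Fin 3 → ZMod 2) :
    (om_w k1 k2 (ε + ε') : MIdx M → F) = om_w k1 k2 ε + om_w k1 k2 ε' := by
  unfold om_w
  simp only [Pi.add_apply, om_c_add, add_smul]
  abel

theorem om_w_zero {M : ℕ} (k1 k2 : Fin M) : (om_w k1 k2 0 : MIdx M → F) = 0 := by
  unfold om_w
  simp [om_c_zero]

variable {M : ℕ} {a b : F}

theorem om_w_inl (k1 k2 : Fin M) (h12 : k1 ≠ k2) (ε : Fin 3 → ZMod 2) :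
    (om_w k1 k2 ε : MIdx M → F) (Sum.inl (Sum.inl k1)) = om_c (ε 0) ∧
    (om_w k1 k2 ε : MIdx M → F) (Sum.inl (Sum.inl k2)) = om_c (ε 1) ∧
    (om_w k1 k2 ε : MIdx M → F) (Sum.inl (Sum.inr k1)) = om_c (ε 2) := by
  unfold om_w ve vf
  refine ⟨?_, ?_, ?_⟩
  · simp [Pi.single_apply, h12, h12.symm]
  · simp [Pi.single_apply, h12, h12.symm]
  · simp [Pi.single_apply, h12, h12.symm]

theorem om_polar_e0 (k0 k1 k2 : Fin M) (h10 : k1 ≠ k0) (ε : Fin 3 → ZMod 2) :
    QuadraticMap.polar (⇑(minusForm M F a b)) (ve F k0) (om_w k1 k2 ε) = 0 := by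
  unfold ve
  rw [polar_minusForm_inl]
  unfold om_w ve vf
  simp [Pi.single_apply, h10, h10.symm]

theorem om_Qe (k : Fin M) : minusForm M F a b (ve F k) = 0 := (minusForm_hyp M F a b).qe k

theorem om_Qf (k : Fin M) : minusForm M F a b (vf F k) = 0 := (minusForm_hyp M F a b).qf k

/-- the elements `E(e_0, w(ε))` of `Ω` -/
noncomputable def om_psi (hab : Aniso a b) (k0 k1 k2 : Fin M) (h10 : k1 ≠ k0)
    (ε : Fin 3 → ZMod 2) : ↥(Cfsg.Omega F ⇑(minusForm M F a b)) :=
  ⟨eichlerElt (minusForm M F a b) (nondeg hab) (ve F k0) (om_w k1 k2 ε) (om_Qe k0)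
      (om_polar_e0 k0 k1 k2 h10 ε),
    eichler_mem_omega hab k0 (ve F k0) (om_w k1 k2 ε) (Or.inl rfl) (om_polar_e0 k0 k1 k2 h10 ε) _
      (actsAs_eichlerElt hab _ _ _ _)⟩

theorem om_psi_add (hab : Aniso a b) (k0 k1 k2 : Fin M) (h10 : k1 ≠ k0) (ε ε' : Fin 3 → ZMod 2) :
    om_psi hab k0 k1 k2 h10 (ε + ε') = om_psi hab k0 k1 k2 h10 ε * om_psi hab k0 k1 k2 h10 ε' := by
  apply Subtype.ext
  show eichlerElt (minusForm M F a b) (nondeg hab) (ve F k0) (om_w k1 k2 (ε + ε')) (om_Qe k0)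
      (om_polar_e0 k0 k1 k2 h10 (ε + ε')) =
    eichlerElt (minusForm M F a b) (nondeg hab) (ve F k0) (om_w k1 k2 ε) (om_Qe k0)
      (om_polar_e0 k0 k1 k2 h10 ε) *
    eichlerElt (minusForm M F a b) (nondeg hab) (ve F k0) (om_w k1 k2 ε') (om_Qe k0)
      (om_polar_e0 k0 k1 k2 h10 ε')
  rw [eichlerElt_mul]
  exact eichlerElt_congr _ _ _ _ _ _ _ _ _ _ rfl (om_w_add k1 k2 ε ε')

/-- the homomorphism `(ZMod 2)^3 → Ω` -/
noncomputable def om_hom (hab : Aniso a b) (k0 k1 k2 : Fin M) (h10 : k1 ≠ k0) :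
    Multiplicative (Fin 3 → ZMod 2) →* ↥(Cfsg.Omega F ⇑(minusForm M F a b)) :=
  MonoidHom.mk' (fun ε => om_psi hab k0 k1 k2 h10 (Multiplicative.toAdd ε))
    (fun ε ε' => by
      show om_psi hab k0 k1 k2 h10 (Multiplicative.toAdd ε + Multiplicative.toAdd ε') = _
      exact om_psi_add hab k0 k1 k2 h10 _ _)

/-- a central `E(e_0, w(ε))` is trivial -/
theorem om_central (hab : Aniso a b) (k0 k1 k2 : Fin M) (h10 : k1 ≠ k0) (h20 : k2 ≠ k0)
    (h12 : k1 ≠ k2) (ε : Fin 3 → ZMod 2)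
    (hc : om_psi hab k0 k1 k2 h10 ε ∈ Subgroup.center ↥(Cfsg.Omega F ⇑(minusForm M F a b))) :
    ε = 0 := by
  have hQ := nondeg (m := M) hab
  obtain ⟨hw1, hw2, hw3⟩ := om_w_inl (F := F) k1 k2 h12 ε
  -- the general test
  have test : ∀ y : MIdx M → F, minusForm M F a b y = 0 →
      ∀ hy1 : QuadraticMap.polar (⇑(minusForm M F a b)) (vf F k0) y = 0,
      QuadraticMap.polar (⇑(minusForm M F a b)) (ve F k0) y = 0 →
      QuadraticMap.polar (⇑(minusForm M F a b)) (om_w k1 k2 ε) y = 0 := by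
    intro y hy0 hy1 hy2
    have hmem : eichlerElt (minusForm M F a b) hQ (vf F k0) y (om_Qf k0) hy1 ∈
        Cfsg.Omega F ⇑(minusForm M F a b) :=
      eichler_mem_omega hab k0 (vf F k0) y (Or.inr rfl) hy1 _ (actsAs_eichlerElt hab _ _ _ _)
    have h1 := Subgroup.mem_center_iff.mp hc ⟨_, hmem⟩
    have h2 := congrArg Subtype.val h1
    exact om_test hQ k0 _ y (om_polar_e0 k0 k1 k2 h10 ε) hy0 hy1 hy2 (om_Qe k0) (om_Qf k0) h2
  -- y = f_1
  have t1 := test (vf F k1) (om_Qf k1)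
    (by unfold vf; rw [polar_minusForm_inr]; simp [Pi.single_apply])
    (by unfold ve vf; rw [polar_minusForm_inl]; simp [Pi.single_apply, h10, h10.symm])
  -- y = f_2
  have t2 := test (vf F k2) (om_Qf k2)
    (by unfold vf; rw [polar_minusForm_inr]; simp [Pi.single_apply])
    (by unfold ve vf; rw [polar_minusForm_inl]; simp [Pi.single_apply, h20, h20.symm])
  -- y = e_1
  have t3 := test (ve F k1) (om_Qe k1)
    (by unfold vf ve; rw [polar_minusForm_inr]; simp [Pi.single_apply, h10, h10.symm])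
    (by unfold ve; rw [polar_minusForm_inl]; simp [Pi.single_apply])
  rw [QuadraticMap.polar_comm] at t1 t2 t3
  unfold vf at t1 t2
  unfold ve at t3
  rw [polar_minusForm_inr, hw1] at t1
  rw [polar_minusForm_inr, hw2] at t2
  rw [polar_minusForm_inl, hw3] at t3
  funext i
  fin_cases i
  · exact om_c_eq_zero t1
  · exact om_c_eq_zero t2
  · exact om_c_eq_zero t3

/-- the core statement for `minusForm` -/
theorem om_core (hab : Aniso a b) (hM : 3 ≤ M) :
    PRankAtLeast 2 3 (Cfsg.POmega F ⇑(minusForm M F a b)) := by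
  set k0 : Fin M := ⟨0, by omega⟩ with hk0
  set k1 : Fin M := ⟨1, by omega⟩ with hk1
  set k2 : Fin M := ⟨2, by omega⟩ with hk2
  have h10 : k1 ≠ k0 := by rw [hk0, hk1]; intro h; simp [Fin.ext_iff] at h
  have h20 : k2 ≠ k0 := by rw [hk0, hk2]; intro h; simp [Fin.ext_iff] at h
  have h12 : k1 ≠ k2 := by rw [hk1, hk2]; intro h; simp [Fin.ext_iff] at h
  set f : Multiplicative (Fin 3 → ZMod 2) →* Cfsg.POmega F ⇑(minusForm M F a b) :=
    (QuotientGroup.mk' (Subgroup.center ↥(Cfsg.Omega F ⇑(minusForm M F a b)))).comp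
      (om_hom hab k0 k1 k2 h10) with hf
  have hinj : Function.Injective f := by
    rw [injective_iff_map_eq_one]
    intro ε hε
    have h1 : om_hom hab k0 k1 k2 h10 ε ∈
        Subgroup.center ↥(Cfsg.Omega F ⇑(minusForm M F a b)) := by
      rw [← QuotientGroup.eq_one_iff]
      exact hε
    have h2 := om_central hab k0 k1 k2 h10 h20 h12 (Multiplicative.toAdd ε) h1
    exact Multiplicative.toAdd.injective (by rw [h2]; rfl)
  refine ⟨f.range, ?_, ?_, ?_⟩
  · constructor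
    constructor
    rintro ⟨_, x, rfl⟩ ⟨_, y, rfl⟩
    apply Subtype.ext
    show f x * f y = f y * f x
    rw [← map_mul, ← map_mul, mul_comm]
  · rintro _ ⟨x, rfl⟩
    rw [← map_pow]
    have : x ^ 2 = 1 := by
      apply Multiplicative.toAdd.injective
      show (2 : ℕ) • Multiplicative.toAdd x = 0
      funext i
      show (2 : ℕ) • (Multiplicative.toAdd x i) = 0
      rw [two_nsmul]
      exact CharTwo.add_self_eq_zero _
    rw [this, map_one]
  · have h1 : Nat.card f.range = Nat.card (Multiplicative (Fin 3 → ZMod 2)) :=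
      (Nat.card_congr (MonoidHom.ofInjective hinj).toEquiv).symm
    rw [h1]
    have h2 : Nat.card (Multiplicative (Fin 3 → ZMod 2)) = 8 := by
      rw [Nat.card_eq_fintype_card]
      rfl
    rw [h2]; norm_num

end main

open Cfsg.Agent.Lib.Helper8 in
/-- **RK-OM**. -/
theorem rk_om {F : Type} [Field F] [Fintype F] [CharP F 2] (m : ℕ) (hm : 4 ≤ m) (a b : F)
    (hab : ∀ z₁ z₂ : F, z₁ ^ 2 + a * z₁ * z₂ + b * z₂ ^ 2 = 0 → z₁ = 0 ∧ z₂ = 0) :
    PRankAtLeast 2 3 (POmega F (quadFormMinus (m - 1) F a b)) := by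
  rw [minusForm_coe]
  exact om_core (M := m - 1) hab (by omega)

end Cfsg.Agent.Lib.Helper76.Rk
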