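import Cfsg.Agent.Lib.Helper87.IndexPGlobal2

set_option autoImplicit false
set_option linter.unusedSectionVars false
open Cfsg Cfsg.FusionSystem

namespace Cfsg.Agent.Lib.Helper87

variable {Ω : Type*} [Group Ω] {S : Subgroup Ω}

theorem ZZ_eq_map_center : ZZ S = (Subgroup.center ↥S).map S.subtype := by
  ext z
  constructor
  · intro hz
    exact ⟨⟨z, hz.1⟩, (mem_ZZ_iff_center ⟨z, hz.1⟩).mp hz, rfl⟩
  · rintro ⟨z', hz', rfl⟩
    exact (mem_ZZ_iff_center z').mpr hz'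

theorem card_ZZ_eq : Nat.card ↥(ZZ S) = Nat.card ↥(Subgroup.center ↥S) := by
  rw [ZZ_eq_map_center, Subgroup.card_map_of_injective S.subtype_injective]

section

variable [Finite S] {p : ℕ} [hp : Fact p.Prime]

/-- A nonabelian `p`-group whose centre has index at most `p²` has centre of index exactly `p²`. -/
theorem si_index_eq (hS : IsPGroup p S) (hna : ∃ s ∈ S, ∃ t ∈ S, s * t ≠ t * s)
    (hZ : (Subgroup.center ↥S).index ≤ p ^ 2) : (Subgroup.center ↥S).index = p ^ 2 := by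
  obtain ⟨n, hn⟩ := (IsPGroup.iff_card).mp hS
  have hdvd : (Subgroup.center ↥S).index ∣ p ^ n := hn ▸ Subgroup.index_dvd_card _
  obtain ⟨k, hk, hidx⟩ := (Nat.dvd_prime_pow hp.1).mp hdvd
  obtain ⟨s, hs, t, ht, hst⟩ := hna
  have hk2 : k ≤ 2 := by
    rw [hidx] at hZ
    exact (Nat.pow_le_pow_iff_right hp.1.one_lt).mp hZ
  interval_cases k
  · exfalso
    rw [pow_zero, Subgroup.index_eq_one] at hidx
    have h1 : (⟨s, hs⟩ : S) ∈ Subgroup.center ↥S := hidx ▸ Subgroup.mem_top _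
    have h2 := Subgroup.mem_center_iff.mp h1 ⟨t, ht⟩
    exact hst (congrArg Subtype.val h2).symm
  · exfalso
    rw [pow_one] at hidx
    have hcard : Nat.card (↥S ⧸ Subgroup.center ↥S) = p := by
      rw [← Subgroup.index_eq_card, hidx]
    have : IsCyclic (↥S ⧸ Subgroup.center ↥S) := isCyclic_of_prime_card hcard
    have h2 := (MonoidHom.isMulCommutative_of_isCyclic_of_ker_le_center
      (QuotientGroup.mk' (Subgroup.center ↥S))
      (QuotientGroup.ker_mk' (Subgroup.center ↥S)).le).is_comm.comm ⟨s, hs⟩ ⟨t, ht⟩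
    exact hst (congrArg Subtype.val h2)
  · exact hidx

theorem si_card (hS : IsPGroup p S) (hna : ∃ s ∈ S, ∃ t ∈ S, s * t ≠ t * s)
    (hZ : (Subgroup.center ↥S).index ≤ p ^ 2) : Nat.card ↥S = p ^ 2 * Nat.card ↥(ZZ S) := by
  rw [card_ZZ_eq, ← si_index_eq hS hna hZ, mul_comm]
  exact (Subgroup.card_mul_index _).symm

/-- A subgroup strictly between `Z(S)` and `S` has order `p|Z(S)|`. -/
theorem si_card_mid (hS : IsPGroup p S) (hcard : Nat.card ↥S = p ^ 2 * Nat.card ↥(ZZ S))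
    {H : Subgroup Ω} (hZH : ZZ S ≤ H) (hHS : H ≤ S) (hHZ : H ≠ ZZ S) (hHne : H ≠ S) :
    Nat.card ↥H = p * Nat.card ↥(ZZ S) := by
  have hfinH : Finite H := finite_of_le hHS
  have hfinZ : Finite ↥(ZZ S) := finite_of_le inf_le_left
  obtain ⟨a, ha⟩ := (IsPGroup.iff_card).mp (hS.to_le (inf_le_left : ZZ S ≤ S))
  obtain ⟨b, hb⟩ := (IsPGroup.iff_card).mp (hS.to_le hHS)
  have h1 : Nat.card ↥(ZZ S) < Nat.card ↥H :=
    card_lt_card_of_lt' hHS (lt_of_le_of_ne hZH (Ne.symm hHZ))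
  have h2 : Nat.card ↥H < Nat.card ↥S := card_lt_card_of_lt' le_rfl (lt_of_le_of_ne hHS hHne)
  rw [hcard, ha, hb, ← pow_add] at h2
  rw [ha, hb] at h1
  have h3 := (Nat.pow_lt_pow_iff_right hp.1.one_lt).mp h1
  have h4 := (Nat.pow_lt_pow_iff_right hp.1.one_lt).mp h2
  have h5 : b = a + 1 := by omega
  rw [hb, ha, h5, pow_succ, mul_comm]

/-- `Z(S)⟨x⟩` is abelian. -/
theorem si_abelian_gen {x : Ω} (hx : x ∈ S) :
    ∀ y ∈ ZZ S ⊔ Subgroup.zpowers x, ∀ z ∈ ZZ S ⊔ Subgroup.zpowers x, y * z = z * y := by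
  have hle : ZZ S ⊔ Subgroup.zpowers x ≤ S := sup_le inf_le_left (Subgroup.zpowers_le.mpr hx)
  have h1 : ZZ S ⊔ Subgroup.zpowers x ≤ Subgroup.centralizer ({x} : Set Ω) := by
    apply sup_le
    · intro z hz
      rw [Subgroup.mem_centralizer_iff]
      intro y hy
      rw [Set.mem_singleton_iff] at hy
      rw [hy]
      exact (((mem_center_iff' z).mp hz).2 x hx).symm
    · rw [Subgroup.zpowers_le]
      rw [Subgroup.mem_centralizer_iff]
      intro y hy
      rw [Set.mem_singleton_iff] at hy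
      rw [hy]
  have h2 : ZZ S ⊔ Subgroup.zpowers x ≤
      Subgroup.centralizer ((ZZ S ⊔ Subgroup.zpowers x : Subgroup Ω) : Set Ω) := by
    apply sup_le
    · intro z hz
      rw [Subgroup.mem_centralizer_iff]
      intro y hy
      exact (((mem_center_iff' z).mp hz).2 y (hle hy)).symm
    · rw [Subgroup.zpowers_le, Subgroup.mem_centralizer_iff]
      intro y hy
      have := Subgroup.mem_centralizer_iff.mp (h1 hy) x (Set.mem_singleton x)
      exact this.symm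
  intro y hy z hz
  exact Subgroup.mem_centralizer_iff.mp (h2 hz) y hy

/-- Every subgroup of order `p|Z(S)|` containing `Z(S)` is abelian. -/
theorem si_abelian_mid (hS : IsPGroup p S) (hcard : Nat.card ↥S = p ^ 2 * Nat.card ↥(ZZ S))
    (hna : ∃ s ∈ S, ∃ t ∈ S, s * t ≠ t * s)
    {H : Subgroup Ω} (hZH : ZZ S ≤ H) (hHS : H ≤ S) (hHZ : H ≠ ZZ S) (hHne : H ≠ S) :
    ∀ y ∈ H, ∀ z ∈ H, y * z = z * y := by
  have hfinH : Finite H := finite_of_le hHS
  obtain ⟨x, hxH, hxZ⟩ : ∃ x ∈ H, x ∉ ZZ S := by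
    by_contra hcon
    push Not at hcon
    exact hHZ (le_antisymm hcon hZH)
  have hle : ZZ S ⊔ Subgroup.zpowers x ≤ H := sup_le hZH (Subgroup.zpowers_le.mpr hxH)
  have hne1 : ZZ S ⊔ Subgroup.zpowers x ≠ ZZ S := by
    intro h
    apply hxZ
    rw [← h]
    exact Subgroup.mem_sup_right (Subgroup.mem_zpowers x)
  have hab := si_abelian_gen (hHS hxH)
  have hne2 : ZZ S ⊔ Subgroup.zpowers x ≠ S := by
    intro h
    obtain ⟨s, hs, t, ht, hst⟩ := hna
    exact hst (hab s (h.ge hs) t (h.ge ht))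
  have h1 := si_card_mid hS hcard le_sup_left (hle.trans hHS) hne1 hne2
  have h2 := si_card_mid hS hcard hZH hHS hHZ hHne
  have heq : ZZ S ⊔ Subgroup.zpowers x = H :=
    Subgroup.eq_of_le_of_card_ge hle (by rw [h1, h2])
  rw [← heq]
  exact hab

/-- Commutators are central when `|S : Z(S)| = p²`. -/
theorem si_comm_le (hcard : Nat.card ↥S = p ^ 2 * Nat.card ↥(ZZ S)) : ⁅S, S⁆ ≤ ZZ S := by
  have hidx : (Subgroup.center ↥S).index = p ^ 2 := by
    have h1 := Subgroup.card_mul_index (Subgroup.center ↥S)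
    rw [hcard, card_ZZ_eq, mul_comm] at h1
    have hpos : 0 < Nat.card ↥(Subgroup.center ↥S) := Nat.card_pos
    exact Nat.eq_of_mul_eq_mul_right hpos h1
  have hq : Nat.card (↥S ⧸ Subgroup.center ↥S) = p ^ 2 := by
    rw [← Subgroup.index_eq_card, hidx]
  have hcomm := (IsPGroup.isMulCommutative_of_card_eq_prime_sq hq).is_comm.comm
  rw [Subgroup.commutator_le]
  intro s hs t ht
  rw [commutatorElement_def]
  have h1 : (QuotientGroup.mk ((⟨s, hs⟩ : S) * ⟨t, ht⟩ * (⟨s, hs⟩ : S)⁻¹ * (⟨t, ht⟩ : S)⁻¹) :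
      ↥S ⧸ Subgroup.center ↥S) = 1 := by
    rw [QuotientGroup.mk_mul, QuotientGroup.mk_mul, QuotientGroup.mk_mul,
      QuotientGroup.mk_inv, QuotientGroup.mk_inv,
      hcomm (QuotientGroup.mk ⟨s, hs⟩) (QuotientGroup.mk ⟨t, ht⟩)]
    group
  have h2 := (QuotientGroup.eq_one_iff _).mp h1
  have h3 := (mem_ZZ_iff_center _).mpr h2
  exact h3


/-- For a subgroup `P` strictly between `Z(S)` and `S` there is an abelian subgroup `A` of index
`p` with `P ∩ A = Z(S)`; moreover `Z(S) ∩ [S,S]` has order `p`. -/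
theorem si_data (hS : IsPGroup p S) (hcard : Nat.card ↥S = p ^ 2 * Nat.card ↥(ZZ S))
    (hna : ∃ s ∈ S, ∃ t ∈ S, s * t ≠ t * s)
    {P : Subgroup Ω} (hZP : ZZ S ≤ P) (hPS : P ≤ S) (hPZ : P ≠ ZZ S) (hPne : P ≠ S) :
    ∃ A : Subgroup Ω, A ≤ S ∧ (∀ a ∈ A, ∀ b ∈ A, a * b = b * a) ∧ (A.subgroupOf S).index = p ∧
      P ⊓ A = ZZ S ∧ (∃ x ∈ P, x ∉ A) ∧ Nat.card ↥(ZZ₀ S) = p := by
  have hfinP : Finite P := finite_of_le hPS
  have hn0 : 0 < Nat.card ↥(ZZ S) := card_ZZ_pos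
  obtain ⟨y, hyS, hyP⟩ : ∃ y ∈ S, y ∉ P := by
    by_contra hcon
    push Not at hcon
    exact hPne (le_antisymm hPS hcon)
  obtain ⟨A, hAdef⟩ : ∃ A : Subgroup Ω, A = ZZ S ⊔ Subgroup.zpowers y := ⟨_, rfl⟩
  have hyA : y ∈ A := hAdef ▸ Subgroup.mem_sup_right (Subgroup.mem_zpowers y)
  have hZA : ZZ S ≤ A := hAdef ▸ le_sup_left
  have hAS : A ≤ S := hAdef ▸ sup_le inf_le_left (Subgroup.zpowers_le.mpr hyS)
  have hfinA : Finite A := finite_of_le hAS
  have hAc : ∀ a ∈ A, ∀ b ∈ A, a * b = b * a := hAdef ▸ si_abelian_gen hyS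
  have hAZ : A ≠ ZZ S := by
    intro h
    exact hyP (hZP (h ▸ hyA))
  have hAne : A ≠ S := by
    intro h
    obtain ⟨s, hs, t, ht, hst⟩ := hna
    exact hst (hAc s (h.ge hs) t (h.ge ht))
  have hcardA := si_card_mid hS hcard hZA hAS hAZ hAne
  have hcardP := si_card_mid hS hcard hZP hPS hPZ hPne
  have hAi : (A.subgroupOf S).index = p := by
    have h1 := Subgroup.card_mul_index (A.subgroupOf S)
    rw [Nat.card_congr (Subgroup.subgroupOfEquivOfLe hAS).toEquiv, hcardA, hcard] at h1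
    have h2 : p * Nat.card ↥(ZZ S) * (A.subgroupOf S).index = p * Nat.card ↥(ZZ S) * p := by
      rw [h1]; ring
    exact Nat.eq_of_mul_eq_mul_left (Nat.mul_pos hp.1.pos hn0) h2
  have hPA : P ⊓ A = ZZ S := by
    by_contra hne
    have hne2 : P ⊓ A ≠ S := by
      intro h
      exact hPne (le_antisymm hPS (h ▸ inf_le_left))
    have h1 := si_card_mid hS hcard (le_inf hZP hZA) (inf_le_left.trans hPS) hne hne2
    have h2 : P ⊓ A = A := Subgroup.eq_of_le_of_card_ge inf_le_right (by rw [h1, hcardA])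
    exact hyP ((h2.ge hyA : y ∈ P ⊓ A).1)
  have hex : ∃ x ∈ P, x ∉ A := by
    by_contra hcon
    push Not at hcon
    have h2 : P = A := Subgroup.eq_of_le_of_card_ge hcon (by rw [hcardP, hcardA])
    exact hyP (h2 ▸ hyA)
  refine ⟨A, hAS, hAc, hAi, hPA, hex, ?_⟩
  obtain ⟨x, hxP, hxA⟩ := hex
  have hxS : x ∈ S := hPS hxP
  have h1 := commutator_eq_commRange hS hAS hAc hAi hxS hxA
  have h2 : ZZ₀ S = ⁅S, S⁆ := inf_eq_right.mpr (si_comm_le hcard)
  have h3 : Nat.card ↥(ZZ₀ S) = Nat.card ↥(⁅S, S⁆) :=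
    congrArg (fun H : Subgroup Ω => Nat.card ↥H) h2
  rw [h3]
  have h4 : Nat.card ↥(⁅S, S⁆) = Nat.card ↥((commHom hS hAS hAc hAi hxS).range.map A.subtype) :=
    congrArg (fun H : Subgroup Ω => Nat.card ↥H) h1
  rw [h4, Subgroup.card_map_of_injective A.subtype_injective, ← Subgroup.index_ker,
    commHom_ker hS hAS hAc hAi hxS hxA]
  have h5 := Subgroup.card_mul_index ((ZZ S).subgroupOf A)
  rw [Nat.card_congr (Subgroup.subgroupOfEquivOfLe hZA).toEquiv, hcardA] at h5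
  have h6 : Nat.card ↥(ZZ S) * ((ZZ S).subgroupOf A).index = Nat.card ↥(ZZ S) * p := by
    rw [h5]; ring
  exact Nat.eq_of_mul_eq_mul_left hn0 h6

end

end Cfsg.Agent.Lib.Helper87
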