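import Cfsg.Agent.Lib.Helper87.SmallIndexTwoG
import Cfsg.Agent.Lib.Helper88.Thompson
import Cfsg.Agent.Lib.Helper24.Omega1
import Cfsg.Agent.Lib.Helper47.Frattini
import Cfsg.Agent.Lib.Helper2.ClassTwo

set_option autoImplicit false
set_option linter.unusedSectionVars false
open Cfsg Cfsg.FusionSystem
open scoped commutatorElement

namespace Cfsg.Agent.Lib.Helper87

/-- A group of order 8 generated by an involution `s` and an element `x` of order 4 inverted by
`s` is dihedral. -/
theorem dihedral_of_card_eight {G : Type*} [Group G] (hG : Nat.card G = 8) {s x c : G}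
    (hs : s * s = 1) (hsx : s * x * s = x⁻¹) (hxx : x * x = c) (hc1 : c ≠ 1) (hcc : c * c = 1)
    (hns : s ∉ Subgroup.zpowers x) : Nonempty (G ≃* DihedralGroup 4) := by
  have hfin : Finite G := Nat.finite_of_card_ne_zero (by omega)
  have hord : orderOf x = 4 := by
    have h1 : ¬ x ^ 2 ^ 1 = 1 := by
      rw [pow_one, pow_two, hxx]
      exact hc1
    have h2 : x ^ 2 ^ (1 + 1) = 1 := by
      have : x ^ 2 ^ (1 + 1) = (x * x) * (x * x) := by
        rw [show (2 : ℕ) ^ (1 + 1) = 2 + 2 from rfl, pow_add, pow_two]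
      rw [this, hxx, hcc]
    have := orderOf_eq_prime_pow h1 h2
    rw [this]
    rfl
  have hgen : Subgroup.closure ({s, x} : Set G) = ⊤ := by
    obtain ⟨H, hH⟩ : ∃ H, H = Subgroup.closure ({s, x} : Set G) := ⟨_, rfl⟩
    have hsH : s ∈ H := hH ▸ Subgroup.subset_closure (Set.mem_insert _ _)
    have hxH : x ∈ H := hH ▸ Subgroup.subset_closure (Set.mem_insert_of_mem _ rfl)
    rw [← hH]
    have hle : Subgroup.zpowers x ≤ H := Subgroup.zpowers_le.mpr hxH
    have h1 : Nat.card ↥(Subgroup.zpowers x) = 4 := by rw [Nat.card_zpowers, hord]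
    have h2 : Nat.card ↥(Subgroup.zpowers x) ∣ Nat.card ↥H := Subgroup.card_dvd_of_le hle
    have h3 : Nat.card ↥H ∣ Nat.card G := Subgroup.card_subgroup_dvd_card H
    rw [h1] at h2
    rw [hG] at h3
    have h4 : Nat.card ↥H ≠ 4 := by
      intro h
      have : Subgroup.zpowers x = H := Subgroup.eq_of_le_of_card_ge hle (by rw [h, h1])
      exact hns (this ▸ hsH)
    have h5 : Nat.card ↥H = 8 := by
      have h8 := Nat.le_of_dvd (by norm_num) h3
      obtain ⟨k, hk⟩ := h2
      rw [hk] at h3 h4 h8 ⊢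
      have hk2 : k ≤ 2 := by omega
      interval_cases k
      · simp at h3
      · simp at h4
      · rfl
    rw [← Subgroup.card_eq_iff_eq_top, h5, hG]
  have e := Cfsg.Agent.Lib.Helper61.dihedralEquiv s x hs hsx hns hgen
  rw [hord] at e
  exact ⟨e.symm⟩

variable {Ω : Type*} [Group Ω] {S : Subgroup Ω}

theorem focal_le_top (F : FusionSystem S) : F.focalSubgroup ≤ S := by
  unfold focalSubgroup
  rw [Subgroup.closure_le]
  rintro _ ⟨P, φ, x, hφ, rfl⟩
  exact S.mul_mem (S.inv_mem (hom_le F hφ x.2)) (hom_mem_S F hφ x)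

section ctx

variable [Finite S] {p : ℕ} [hp : Fact p.Prime]

/-- If `O_p(F) = 1` and `S ≠ 1` then `S` is nonabelian. -/
theorem si_nonabelian (hS : IsPGroup p S) (F : FusionSystem S) (hF : F.IsSaturated p)
    (hS1 : S ≠ ⊥) (hcore : F.core = ⊥) : ∃ s ∈ S, ∃ t ∈ S, s * t ≠ t * s := by
  by_contra hcon
  push Not at hcon
  have hnoess : ∀ R, ¬ F.IsEssential p R := by
    intro R hR
    have hRS : R ≤ S := hR.2.1.1
    have hcen : centralizerIn S R ≤ R := hR.1.2 R (isConj_refl F hRS)
    apply Cfsg.Agent.Lib.Helper88.essential_ne_top hS F hF hR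
    apply le_antisymm hRS
    intro s hs
    apply hcen
    exact ⟨hs, Subgroup.mem_centralizer_iff.mpr fun r hr => hcon r (hRS hr) s hs⟩
  have hnorm : F.IsNormal S := by
    apply isNormal_of_AG_invariant hS F hF
    · intro R hR
      rcases hR with rfl | hR
      · exact le_rfl
      · exact absurd hR (hnoess R)
    · intro R hR α hα y hy
      rcases hR with rfl | hR
      · exact (α y).2
      · exact absurd hR (hnoess R)
  have hle : S ≤ F.core := le_sSup hnorm
  rw [hcore] at hle
  exact hS1 (le_bot_iff.mp hle)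

variable {F : FusionSystem S}

/-- `S` is extraspecial once `|Z(S)| = p` (and `|S : Z(S)| = p²`, `S` nonabelian). -/
theorem SICtx.extraspecial (C : SICtx S p F) (hZp : Nat.card ↥(ZZ S) = p) :
    IsExtraspecial p ↥S := by
  have hcenter : Nat.card ↥(Subgroup.center ↥S) = p := card_ZZ_eq (S := S) ▸ hZp
  have hcomm_mem : ∀ x y : ↥S, ⁅x, y⁆ ∈ Subgroup.center ↥S := by
    intro x y
    rw [← mem_ZZ_iff_center]
    apply si_comm_le C.hcard
    exact Subgroup.commutator_mem_commutator x.2 y.2
  have hcomm_le : commutator ↥S ≤ Subgroup.center ↥S := by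
    rw [commutator_def, Subgroup.commutator_le]
    intro x _ y _
    exact hcomm_mem x y
  have hcomm_ne : commutator ↥S ≠ ⊥ := by
    intro h
    obtain ⟨s, hs, t, ht, hst⟩ := C.hna
    have h1 : ⁅(⟨s, hs⟩ : ↥S), ⟨t, ht⟩⁆ ∈ commutator ↥S := by
      rw [commutator_def]
      exact Subgroup.commutator_mem_commutator (Subgroup.mem_top _) (Subgroup.mem_top _)
    rw [h, Subgroup.mem_bot, commutatorElement_eq_one_iff_mul_comm] at h1
    exact hst (congrArg Subtype.val h1)
  have hcomm_eq : commutator ↥S = Subgroup.center ↥S := by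
    have h1 : Nat.card ↥(commutator ↥S) ∣ p := hcenter ▸ Subgroup.card_dvd_of_le hcomm_le
    rcases (Nat.dvd_prime hp.1).mp h1 with h2 | h2
    · exact absurd (Subgroup.card_eq_one.mp h2) hcomm_ne
    · exact Subgroup.eq_of_le_of_card_ge hcomm_le (by rw [h2, hcenter])
  have hidx : (Subgroup.center ↥S).index = p ^ 2 := by
    have h1 := Subgroup.card_mul_index (Subgroup.center ↥S)
    rw [C.hcard, card_ZZ_eq, mul_comm] at h1
    have hpos : 0 < Nat.card ↥(Subgroup.center ↥S) := Nat.card_pos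
    exact Nat.eq_of_mul_eq_mul_right hpos h1
  have hq : Nat.card (↥S ⧸ Subgroup.center ↥S) = p ^ 2 := by
    rw [← Subgroup.index_eq_card, hidx]
  have hpow : ∀ x : ↥S, x ^ p ∈ Subgroup.center ↥S := by
    intro x
    obtain ⟨k, hk, hord⟩ := (Nat.dvd_prime_pow hp.1).mp
      (hq ▸ orderOf_dvd_natCard (QuotientGroup.mk x : ↥S ⧸ Subgroup.center ↥S))
    have hk1 : k ≤ 1 := by
      by_contra hcon
      have hk2 : k = 2 := by omega
      rw [hk2, ← hq] at hord
      have hfinq : Finite (↥S ⧸ Subgroup.center ↥S) := inferInstance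
      have hcyc : IsCyclic (↥S ⧸ Subgroup.center ↥S) := isCyclic_of_orderOf_eq_card _ hord
      obtain ⟨s, hs, t, ht, hst⟩ := C.hna
      have h2 := (MonoidHom.isMulCommutative_of_isCyclic_of_ker_le_center
        (QuotientGroup.mk' (Subgroup.center ↥S))
        (QuotientGroup.ker_mk' (Subgroup.center ↥S)).le).is_comm.comm ⟨s, hs⟩ ⟨t, ht⟩
      exact hst (congrArg Subtype.val h2)
    have h1 : orderOf (QuotientGroup.mk x : ↥S ⧸ Subgroup.center ↥S) ∣ p := by
      rw [hord]
      exact (pow_dvd_pow p hk1).trans (by rw [pow_one])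
    have h2 := orderOf_dvd_iff_pow_eq_one.mp h1
    rw [← QuotientGroup.mk_pow] at h2
    exact (QuotientGroup.eq_one_iff _).mp h2
  have hfrat : frattini ↥S = Subgroup.center ↥S := by
    apply le_antisymm
    · exact Cfsg.Agent.Lib.Helper47.frattini_le_of_elementary_abelian_quotient p
        (Subgroup.center ↥S) hcomm_mem hpow
    · rw [← hcomm_eq]
      exact Cfsg.Agent.Lib.Helper24.commutator_le_frattini_of_isPGroup C.hS
  exact ⟨⟨C.hS, hfrat, hcomm_eq⟩, hcenter⟩

end ctx

end Cfsg.Agent.Lib.Helper87
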