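import Cfsg.Agent.Lib.Helper87.SmallIndexFinal

set_option autoImplicit false
set_option linter.unusedSectionVars false
open Cfsg Cfsg.FusionSystem
open scoped commutatorElement

namespace Cfsg.Agent.Lib.Helper87

variable {Ω : Type*} [Group Ω] {S : Subgroup Ω}

section ctx

variable [Finite S] {p : ℕ} [hp : Fact p.Prime] {F : FusionSystem S}

/-- A good automorphism moves some element of `Z(S) ∩ [S,S]` out of `Z(S)`. -/
theorem SICtx.good_elt (C : SICtx S p F) {P : Subgroup Ω} (M : Mid S P) {g : MulAut P}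
    (hg : g ∈ F.autGroup P) (hgood : IsGood S g) :
    ∃ f : P, (f : Ω) ∈ ZZ₀ S ∧ ((g f : P) : Ω) ∉ ZZ S := by
  by_contra hcon
  push Not at hcon
  obtain ⟨y, hy, hyP⟩ := M.exists_not_mem
  obtain ⟨-, -, hSN, -⟩ := C.mid_ab M
  have hyN : y ∈ Subgroup.normalizer (P : Set Ω) := (hSN hy).2
  have hfinP : Finite P := finite_of_le M.hPS
  have h1 := C.mid_gp M hy hyP hyN hg (fun f hf => Subtype.ext (by
    rw [conjAut_coe]
    exact mem_ZZ_comm (hcon f hf) hy))
  obtain ⟨s, hs, hcs⟩ := (mem_autInducedBy_iff S P _).mp h1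
  apply hgood
  have h2 : ∀ z : P, (z : Ω) ∈ ZZ S → ((g⁻¹ z : P) : Ω) ∈ ZZ S := by
    intro z hz
    have h3 : (g * conjAut P y hyN * g⁻¹) z = z :=
      Subtype.ext (by rw [hcs]; exact mem_ZZ_comm hz hs)
    have h4 : g (conjAut P y hyN (g⁻¹ z)) = z := h3
    have h5 := congrArg (⇑g⁻¹) h4
    rw [TvCtx.inv_apply_self] at h5
    exact C.mid_fix M hy hyP (g⁻¹ z).2 (by rw [← conjAut_coe P y hyN, h5])
  have h6 := aut_inv_preserves_ZZ h2
  rwa [inv_inv] at h6

/-- For `p` odd, `O_p(F) = 1` and `|Z(S)| = p`, the group `S` has exponent `p`. -/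
theorem SICtx.exponent_odd (C : SICtx S p F) (hp2 : p ≠ 2) (hcore : F.core = ⊥)
    (hZp : Nat.card ↥(ZZ S) = p) : Monoid.exponent ↥S = p := by
  have hfinZ : Finite ↥(ZZ S) := finite_of_le inf_le_left
  have hZpow : ∀ z ∈ ZZ S, z ^ p = 1 := by
    intro z hz
    have h1 : (⟨z, hz⟩ : ↥(ZZ S)) ^ Nat.card ↥(ZZ S) = 1 := pow_card_eq_one'
    rw [hZp] at h1
    exact congrArg Subtype.val h1
  have hmulpow : ∀ x ∈ S, ∀ y ∈ S, (x * y) ^ p = x ^ p * y ^ p := by
    intro x hx y hy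
    have hc : ⁅y, x⁆ ∈ ZZ S := si_comm_le C.hcard (Subgroup.commutator_mem_commutator hy hx)
    have hcc := ((mem_center_iff' _).mp hc).2
    exact Cfsg.Agent.Lib.Helper2.mul_pow_prime_of_commutator_central hp.1 hp2 x y
      (hcc x hx) (hcc y hy) (hZpow _ hc)
  obtain ⟨K, hKdef⟩ : ∃ K : Subgroup Ω, ∀ x, x ∈ K ↔ x ∈ S ∧ x ^ p = 1 :=
    ⟨{ carrier := {x | x ∈ S ∧ x ^ p = 1}
       mul_mem' := fun {a b} ha hb => ⟨S.mul_mem ha.1 hb.1, by
         rw [hmulpow a ha.1 b hb.1, ha.2, hb.2, one_mul]⟩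
       one_mem' := ⟨S.one_mem, one_pow p⟩
       inv_mem' := fun {a} ha => ⟨S.inv_mem ha.1, by rw [inv_pow, ha.2, inv_one]⟩ },
      fun x => Iff.rfl⟩
  have hKS : K ≤ S := fun x hx => ((hKdef x).mp hx).1
  have hZK : ZZ S ≤ K := fun z hz => (hKdef z).mpr ⟨hz.1, hZpow z hz⟩
  have hleK : ∀ R, Mid S R → ∀ e ∈ R, e ∈ K → e ∉ ZZ S → R ≤ K := by
    intro R MR e heR heK heZ
    have hfinR : Finite R := finite_of_le MR.hPS
    have hcardR := (C.mid_ab MR).2.1
    have hne1 : K ⊓ R ≠ ZZ S := fun h => heZ (h.le ⟨heK, heR⟩)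
    have hne2 : K ⊓ R ≠ S := fun h => MR.hPne (le_antisymm MR.hPS (h.ge.trans inf_le_right))
    have h1 := si_card_mid C.hS C.hcard (le_inf hZK MR.hZP) (inf_le_left.trans hKS) hne1 hne2
    have h2 : K ⊓ R = R := Subgroup.eq_of_le_of_card_ge inf_le_right (by rw [h1, hcardR])
    exact h2.ge.trans inf_le_left
  have hgoodK : ∀ R (_ : Mid S R) (g : MulAut R), g ∈ F.autGroup R → IsGood S g → R ≤ K := by
    intro R MR g hg hgood
    obtain ⟨f, hf, hgf⟩ := C.good_elt MR hg hgood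
    apply hleK R MR _ (g f).2 _ hgf
    rw [hKdef]
    refine ⟨MR.hPS (g f).2, ?_⟩
    have h1 : f ^ p = 1 := Subtype.ext (hZpow _ hf.1)
    have h2 : (g f) ^ p = 1 := by rw [← map_pow, h1, map_one]
    exact congrArg Subtype.val h2
  obtain ⟨P, hP, g, hg, hg1, -⟩ := C.exists_good hcore
  have M := C.mid_of_ess hP
  have hPK := hgoodK P M g hg hg1
  by_cases hK : K = S
  · have h1 : ∀ x : ↥S, x ^ p = 1 := fun x => Subtype.ext (((hKdef x).mp (hK.ge x.2)).2)
    have h2 : Monoid.exponent ↥S ∣ p := Monoid.exponent_dvd_of_forall_pow_eq_one h1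
    rcases (Nat.dvd_prime hp.1).mp h2 with h3 | h3
    · exfalso
      rw [Monoid.exp_eq_one_iff] at h3
      obtain ⟨s, hs, t, ht, hst⟩ := C.hna
      have := Subsingleton.elim (⟨s, hs⟩ : ↥S) ⟨t, ht⟩
      have h4 : s = t := congrArg Subtype.val this
      exact hst (by rw [h4])
    · exact h3
  · exfalso
    have hfinP : Finite P := finite_of_le M.hPS
    have hfinK : Finite K := finite_of_le hKS
    have hcardP := (C.mid_ab M).2.1
    obtain ⟨x, hxP, hxZ⟩ := M.exists_mem_not_center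
    have hKZ : K ≠ ZZ S := fun h => hxZ (h.le (hPK hxP))
    have hcardK := si_card_mid C.hS C.hcard hZK hKS hKZ hK
    have hPeq : P = K := Subgroup.eq_of_le_of_card_ge hPK (by rw [hcardK, hcardP])
    have hess : ∀ R, F.IsEssential p R → R = P := by
      intro R hR
      obtain ⟨gR, hgR, hgoodR⟩ := C.ess_good hR
      have MR := C.mid_of_ess hR
      have h1 : R ≤ P := hPeq ▸ hgoodK R MR gR hgR hgoodR
      have hfinR : Finite R := finite_of_le MR.hPS
      exact Subgroup.eq_of_le_of_card_ge h1 (by rw [hcardP, (C.mid_ab MR).2.1])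
    have hnorm : F.IsNormal P := by
      apply isNormal_of_AG_invariant C.hS F C.hF
      · intro R hR
        rcases hR with hR | hR
        · rw [hR]
          exact M.hPS
        · exact (hess R hR).ge
      · intro R hR α hα y hy
        rcases hR with hR | hR
        · subst hR
          have hy' := (hKdef _).mp (hPeq.le hy)
          apply hPeq.ge
          rw [hKdef]
          refine ⟨(α y).2, ?_⟩
          have h1 : y ^ p = 1 := Subtype.ext hy'.2
          have h2 : (α y) ^ p = 1 := by rw [← map_pow, h1, map_one]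
          exact congrArg Subtype.val h2
        · have := hess R hR
          subst this
          exact (α y).2
    have hle : P ≤ F.core := le_sSup hnorm
    rw [hcore] at hle
    apply hxZ
    have := hle hxP
    rw [Subgroup.mem_bot] at this
    rw [this]
    exact (ZZ S).one_mem

end ctx

section two

variable [Finite S] {F : FusionSystem S} {z₀ : Ω}

/-- For `p = 2`: if `Z(S) = {1, z₀}` and `O_2(F) = 1` then `S` is dihedral of order 8. -/
theorem SI2.dihedral (T : SI2 S F z₀) (hcore : F.core = ⊥)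
    (hZ2 : ∀ z ∈ ZZ S, z = 1 ∨ z = z₀) (hcard2 : Nat.card ↥(ZZ S) = 2) :
    Nonempty (↥S ≃* DihedralGroup 4) := by
  obtain ⟨P, hP, g, hg, hg1, -⟩ := T.C.exists_good hcore
  have M := T.C.mid_of_ess hP
  obtain ⟨e, hedef⟩ : ∃ e : Ω, e = ((g ⟨z₀, M.hZP T.hz₀.1⟩ : P) : Ω) := ⟨_, rfl⟩
  have heP : e ∈ P := hedef ▸ (g _).2
  have heZ : e ∉ ZZ S := hedef ▸ T.good_center M hg hg1
  have hee : e * e = 1 := hedef ▸ T.center_sq M g
  have he' : e⁻¹ = e := inv_eq_of_mul_eq_one_right hee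
  obtain ⟨y, hy, hyP⟩ := M.exists_not_mem
  have heS : e ∈ S := M.hPS heP
  have hye : y * e * y⁻¹ * e⁻¹ = z₀ := by
    rcases T.hZ0 _ (T.C.mid_comm hy heS) with h | h
    · exfalso
      apply heZ
      apply T.C.mid_fix M hy hyP heP
      calc y * e * y⁻¹ = (y * e * y⁻¹ * e⁻¹) * e := by group
        _ = e := by rw [h, one_mul]
    · exact h
  have hye' : y * e = z₀ * e * y := by
    calc y * e = (y * e * y⁻¹ * e⁻¹) * e * y := by group
      _ = z₀ * e * y := by rw [hye]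
  have hncomm : e * y ≠ y * e := by
    intro h
    apply T.hz₀1
    rw [← hye, ← h]
    group
  have hyyP : y * y ∈ P := T.mul_mem_mid M hy hy hyP hyP
  have hyyZ : y * y ∈ ZZ S := T.C.mid_fix M hy hyP hyyP (by group)
  have hcardS : Nat.card ↥S = 8 := by rw [T.C.hcard, hcard2]; rfl
  have hez : e * z₀ = z₀ * e := (T.comm heS).symm
  have hc1 : (⟨z₀, T.hz₀.1.1⟩ : ↥S) ≠ 1 := fun h => T.hz₀1 (congrArg Subtype.val h)
  have hcc : (⟨z₀, T.hz₀.1.1⟩ : ↥S) * ⟨z₀, T.hz₀.1.1⟩ = 1 := Subtype.ext T.sq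
  have hs : (⟨e, heS⟩ : ↥S) * ⟨e, heS⟩ = 1 := Subtype.ext hee
  rcases hZ2 _ hyyZ with hyy | hyy
  · -- `y` is an involution: take `x = e y`
    have hy' : y⁻¹ = y := inv_eq_of_mul_eq_one_right hyy
    have heyS : e * y ∈ S := S.mul_mem heS hy
    have hxx : (⟨e * y, heyS⟩ : ↥S) * ⟨e * y, heyS⟩ = ⟨z₀, T.hz₀.1.1⟩ := by
      apply Subtype.ext
      show e * y * (e * y) = z₀
      calc e * y * (e * y) = e * (y * e) * y := by group
        _ = e * (z₀ * e * y) * y := by rw [hye']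
        _ = (e * z₀) * e * (y * y) := by group
        _ = (z₀ * e) * e * (y * y) := by rw [hez]
        _ = z₀ * (e * e) * (y * y) := by group
        _ = z₀ := by rw [hee, hyy, mul_one, mul_one]
    have hsx : (⟨e, heS⟩ : ↥S) * ⟨e * y, heyS⟩ * ⟨e, heS⟩ = (⟨e * y, heyS⟩ : ↥S)⁻¹ := by
      apply Subtype.ext
      show e * (e * y) * e = (e * y)⁻¹
      rw [mul_inv_rev, he', hy']
      calc e * (e * y) * e = (e * e) * y * e := by group
        _ = y * e := by rw [hee, one_mul]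
    have hns : (⟨e, heS⟩ : ↥S) ∉ Subgroup.zpowers (⟨e * y, heyS⟩ : ↥S) := by
      intro h
      obtain ⟨k, hk⟩ := Subgroup.mem_zpowers_iff.mp h
      have h1 : Commute (⟨e, heS⟩ : ↥S) ⟨e * y, heyS⟩ := by
        rw [← hk]
        exact (Commute.refl _).zpow_left k
      have h2 : e * (e * y) = (e * y) * e := congrArg Subtype.val h1.eq
      apply hncomm
      calc e * y = e⁻¹ * (e * (e * y)) := by group
        _ = e⁻¹ * ((e * y) * e) := by rw [h2]
        _ = y * e := by group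
    exact dihedral_of_card_eight hcardS hs hsx hxx hc1 hcc hns
  · -- `y` has order 4: take `x = y`
    have hxx : (⟨y, hy⟩ : ↥S) * ⟨y, hy⟩ = ⟨z₀, T.hz₀.1.1⟩ := Subtype.ext hyy
    have hyinv : y⁻¹ = z₀ * y := by
      apply inv_eq_of_mul_eq_one_right
      calc y * (z₀ * y) = (y * z₀) * y := by group
        _ = (z₀ * y) * y := by rw [T.comm hy]
        _ = z₀ * (y * y) := by group
        _ = 1 := by rw [hyy, T.sq]
    have hsx : (⟨e, heS⟩ : ↥S) * ⟨y, hy⟩ * ⟨e, heS⟩ = (⟨y, hy⟩ : ↥S)⁻¹ := by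
      apply Subtype.ext
      show e * y * e = y⁻¹
      rw [hyinv]
      calc e * y * e = e * (y * e) := by group
        _ = e * (z₀ * e * y) := by rw [hye']
        _ = (e * z₀) * e * y := by group
        _ = (z₀ * e) * e * y := by rw [hez]
        _ = z₀ * (e * e) * y := by group
        _ = z₀ * y := by rw [hee, mul_one]
    have hns : (⟨e, heS⟩ : ↥S) ∉ Subgroup.zpowers (⟨y, hy⟩ : ↥S) := by
      intro h
      obtain ⟨k, hk⟩ := Subgroup.mem_zpowers_iff.mp h
      have h1 : Commute (⟨e, heS⟩ : ↥S) ⟨y, hy⟩ := by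
        rw [← hk]
        exact (Commute.refl _).zpow_left k
      exact hncomm (congrArg Subtype.val h1.eq)
    exact dihedral_of_card_eight hcardS hs hsx hxx hc1 hcc hns

end two

end Cfsg.Agent.Lib.Helper87
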