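import Cfsg.Agent.Lib.Helper87.SmallIndex

set_option autoImplicit false
set_option linter.unusedSectionVars false
open Cfsg Cfsg.FusionSystem

namespace Cfsg.Agent.Lib.Helper87

variable {Ω : Type*} [Group Ω] {S : Subgroup Ω}

/-- Standing hypotheses: `S` nonabelian with `|S : Z(S)| = p²`, `F` saturated. -/
structure SICtx (S : Subgroup Ω) (p : ℕ) (F : FusionSystem S) : Prop where
  hS : IsPGroup p S
  hF : F.IsSaturated p
  hna : ∃ s ∈ S, ∃ t ∈ S, s * t ≠ t * s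
  hcard : Nat.card ↥S = p ^ 2 * Nat.card ↥(ZZ S)

/-- A map of the system defined on a subgroup containing `S` restricts to an element of
`Aut_F(S)`. -/
theorem exists_aut_of_hom_of_le [Finite S] (F : FusionSystem S) {Q : Subgroup Ω} (hSQ : S ≤ Q)
    {ψ : Q →* Ω} (hψ : ψ ∈ F.Hom Q) :
    ∃ β ∈ F.autGroup S, ∀ y : S, ((β y : S) : Ω) = ψ ⟨y, hSQ y.2⟩ := by
  have h1 := restrict_mem F hψ hSQ
  obtain ⟨α, hα⟩ := Cfsg.Agent.Lib.Helper88.aut_of_hom_top F h1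
  refine ⟨α, (mem_autGroup_iff F le_rfl α).mpr (hα ▸ h1), fun y => ?_⟩
  have h2 := congrArg (fun f : S →* Ω => f y) hα
  exact h2

section ctx

variable [Finite S] {p : ℕ} [hp : Fact p.Prime] {F : FusionSystem S}

theorem SICtx.ess (C : SICtx S p F) {R : Subgroup Ω} (hR : F.IsEssential p R) :
    ZZ S ≤ R ∧ R ≤ S ∧ R ≠ ZZ S ∧ R ≠ S := by
  have hRS : R ≤ S := hR.2.1.1
  have hcen : centralizerIn S R ≤ R := hR.1.2 R (isConj_refl F hRS)
  refine ⟨center_le_of_centric hRS hcen, hRS, ?_,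
    Cfsg.Agent.Lib.Helper88.essential_ne_top C.hS F C.hF hR⟩
  intro h
  obtain ⟨s, hs, t, ht, hst⟩ := C.hna
  have hsub : S ≤ ZZ S := by
    intro u hu
    rw [← h]
    apply hcen
    refine ⟨hu, Subgroup.mem_centralizer_iff.mpr fun z hz => ?_⟩
    rw [h] at hz
    exact ((mem_center_iff' z).mp hz).2 u hu
  exact hst (((mem_center_iff' s).mp (hsub hs)).2 t ht)

theorem SICtx.ess_ab (C : SICtx S p F) {R : Subgroup Ω} (hR : F.IsEssential p R) :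
    (∀ y ∈ R, ∀ z ∈ R, y * z = z * y) ∧ Nat.card ↥R = p * Nat.card ↥(ZZ S) ∧
      S ≤ normalizerIn S R := by
  obtain ⟨hZR, hRS, hRZ, hRne⟩ := C.ess hR
  have hfinR : Finite R := finite_of_le hRS
  have hcardR := si_card_mid C.hS C.hcard hZR hRS hRZ hRne
  refine ⟨si_abelian_mid C.hS C.hcard C.hna hZR hRS hRZ hRne, hcardR, ?_⟩
  have hn0 : 0 < Nat.card ↥(ZZ S) := card_ZZ_pos
  have hRi : (R.subgroupOf S).index = p := by
    have h1 := Subgroup.card_mul_index (R.subgroupOf S)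
    rw [Nat.card_congr (Subgroup.subgroupOfEquivOfLe hRS).toEquiv, hcardR, C.hcard] at h1
    have h2 : p * Nat.card ↥(ZZ S) * (R.subgroupOf S).index = p * Nat.card ↥(ZZ S) * p := by
      rw [h1]; ring
    exact Nat.eq_of_mul_eq_mul_left (Nat.mul_pos hp.1.pos hn0) h2
  intro s hs
  refine ⟨hs, ?_⟩
  apply Cfsg.Agent.Lib.Helper88.mem_normalizer_of_conj_mem_finite
  intro a ha
  exact aip_conj_mem C.hS hRS hRi hs ha

/-- From an essential subgroup `P` and `g ∈ Aut_F(P)` not preserving `Z(S)` we obtain a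
splitting automorphism of `S`. -/
theorem SICtx.exists_split (C : SICtx S p F) {P : Subgroup Ω} (hP : F.IsEssential p P)
    {g : MulAut P} (hg : g ∈ F.autGroup P)
    (hg1 : ¬ ∀ z : P, (z : Ω) ∈ ZZ S → ((g z : P) : Ω) ∈ ZZ S)
    (hg2 : ¬ ∀ z : P, (z : Ω) ∈ ZZ S → ((g⁻¹ z : P) : Ω) ∈ ZZ S) :
    ∃ β ∈ F.autGroup S, IsSplitW β
      (fun w => ∀ hwP : (w : Ω) ∈ P, ((g⁻¹ ⟨w, hwP⟩ : P) : Ω) ∈ ZZ S) := by
  obtain ⟨hZP, hPS, hPZ, hPne⟩ := C.ess hP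
  obtain ⟨hPab, -, hSN⟩ := C.ess_ab hP
  obtain ⟨A, hAS, hAc, hAi, hPA, ⟨x, hxP, hxA⟩, hZ0⟩ :=
    si_data C.hS C.hcard C.hna hZP hPS hPZ hPne
  obtain ⟨ψ, hψ, hψinv, hψdec⟩ :=
    ht_tau_extends C.hS F C.hF hAS hAc hAi hP hPab hPA hxP hxA hZ0 hg hg1 hg2
  obtain ⟨β, hβ, hβe⟩ := exists_aut_of_hom_of_le F hSN hψ
  refine ⟨β, hβ, ?_, ?_⟩
  · intro f hf
    apply Subtype.ext
    rw [hβe f, hψinv f (hSN f.2) hf]
    rfl
  · intro z hz
    obtain ⟨w, f, hw, hf, hzwf, hψw, hgw⟩ := hψdec z hz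
    refine ⟨⟨w, hw.1⟩, ⟨f, hf.1.1⟩, hw, hf, Subtype.ext hzwf, ?_, hgw⟩
    apply Subtype.ext
    rw [hβe ⟨w, hw.1⟩, hψw (hSN hw.1)]


/-- `Aut_F(S)` preserves the fixed-point subgroup of a splitting automorphism. -/
theorem splitFix_invariant' (F : FusionSystem S) (hF : F.IsSaturated p)
    (hZ0 : Nat.card ↥(ZZ₀ S) = p) {β₀ : MulAut S}
    (hβ₀ : β₀ ∈ F.autGroup S) {Q₀ : S → Prop} (hs₀ : IsSplitW β₀ Q₀) {γ : MulAut S}
    (hγ : γ ∈ F.autGroup S) (w : S) (hw : (w : Ω) ∈ splitFix β₀) :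
    ((γ w : S) : Ω) ∈ splitFix β₀ := by
  have eγ : ∀ y : S, γ (γ⁻¹ y) = y := fun y => by
    show γ (γ.symm y) = y
    simp
  have eγ' : ∀ y : S, γ⁻¹ (γ y) = y := fun y => by
    show γ.symm (γ y) = y
    simp
  have h0' : InvZ₀ (γ * β₀ * γ⁻¹) := by
    intro f hf
    show γ (β₀ (γ⁻¹ f)) = f⁻¹
    rw [hs₀.1 _ ((aut_mem_ZZ₀_iff γ⁻¹ f).mpr hf), map_inv, eγ]
  have h1' : StabZ (γ * β₀ * γ⁻¹) := by
    intro z hz
    have hz' : ((γ⁻¹ z : S) : Ω) ∈ ZZ S := (aut_mem_ZZ_iff γ⁻¹ z).mpr hz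
    have h2 := hs₀.stabZ (γ⁻¹ z) hz'
    have h3 := (aut_mem_ZZ₀_iff γ ((γ⁻¹ z)⁻¹ * β₀ (γ⁻¹ z))).mpr h2
    have e : γ ((γ⁻¹ z)⁻¹ * β₀ (γ⁻¹ z)) = z⁻¹ * (γ * β₀ * γ⁻¹) z := by
      rw [map_mul, map_inv, eγ]
      rfl
    rw [e] at h3
    exact h3
  have hmem : γ * β₀ * γ⁻¹ ∈ F.autGroup S :=
    (F.autGroup S).mul_mem ((F.autGroup S).mul_mem hγ hβ₀) ((F.autGroup S).inv_mem hγ)
  have huniq := split_unique F hF hZ0 hβ₀ hmem hs₀.1 hs₀.stabZ h0' h1'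
  obtain ⟨hwZ, hβw⟩ := (mem_splitFix_iff β₀ w).mp hw
  rw [mem_splitFix_iff]
  have hγwZ : ((γ w : S) : Ω) ∈ ZZ S := (aut_mem_ZZ_iff γ w).mpr hwZ
  refine ⟨hγwZ, ?_⟩
  rw [huniq (γ w) hγwZ]
  show γ (β₀ (γ⁻¹ (γ w))) = γ w
  rw [eγ', hβw]

/-- The fixed-point subgroup `W` of a splitting automorphism is invariant under `Aut_F(R)` for
every essential subgroup `R` (`p` odd). -/
theorem SICtx.invariant (C : SICtx S p F) (hp2 : p ≠ 2) (hZ0 : Nat.card ↥(ZZ₀ S) = p)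
    {β₀ : MulAut S} (hβ₀ : β₀ ∈ F.autGroup S) {Q₀ : S → Prop} (hs₀ : IsSplitW β₀ Q₀)
    {R : Subgroup Ω} (hR : F.IsEssential p R) :
    F.autGroup R ≤ stabSubW R (splitFix β₀) := by
  have hfn := hR.2.1
  obtain ⟨hZR, hRS, -, -⟩ := C.ess hR
  obtain ⟨-, -, hSN⟩ := C.ess_ab hR
  have hfinR : Finite R := finite_of_le hRS
  apply autGroup_le_of_frattini C.hS F C.hF hfn
  · intro g hg c hc
    apply mem_stabSubW_of_forall
    intro y hy
    have eg : g (g⁻¹ y) = y := by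
      show g (g.symm y) = y
      simp
    obtain ⟨hyZ, hβy⟩ := (mem_splitFix_iff β₀ ⟨y, hRS y.2⟩).mp hy
    have hgy : ((g⁻¹ y : R) : Ω) ∈ ZZ S := by
      by_cases hg2 : ∀ z : R, (z : Ω) ∈ ZZ S → ((g⁻¹ z : R) : Ω) ∈ ZZ S
      · exact hg2 y hyZ
      · by_cases hg1 : ∀ z : R, (z : Ω) ∈ ZZ S → ((g z : R) : Ω) ∈ ZZ S
        · exact absurd (aut_inv_preserves_ZZ hg1) hg2
        · obtain ⟨β, hβ, hsβ⟩ := C.exists_split hR hg hg1 hg2
          have huniq := split_unique F C.hF hZ0 hβ hβ₀ hsβ.1 hsβ.stabZ hs₀.1 hs₀.stabZ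
            ⟨y, hRS y.2⟩ hyZ
          rw [hβy] at huniq
          exact hsβ.of_fixed C.hS hp2 hyZ huniq y.2
    obtain ⟨s, hs, hcs⟩ := (mem_autInducedBy_iff S R c).mp hc
    have hcz : c (g⁻¹ y) = g⁻¹ y := Subtype.ext (by rw [hcs]; exact mem_ZZ_comm hgy hs)
    have e : (g * c * g⁻¹) y = y := by
      show g (c (g⁻¹ y)) = y
      rw [hcz, eg]
    rw [e]
    exact hy
  · rintro ν hν ⟨ψ, hψ, hψe⟩
    apply mem_stabSubW_of_forall
    intro y hy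
    obtain ⟨β, hβ, hβe⟩ := exists_aut_of_hom_of_le F hSN hψ
    have h1 := hβe ⟨y, hRS y.2⟩
    rw [hψe y (hSN (hRS y.2))] at h1
    rw [← h1]
    exact splitFix_invariant' F C.hF hZ0 hβ₀ hs₀ hβ ⟨y, hRS y.2⟩ hy

/-- The fixed-point subgroup of a splitting automorphism is normal in `F` (`p` odd). -/
theorem SICtx.splitFix_normal (C : SICtx S p F) (hp2 : p ≠ 2) (hZ0 : Nat.card ↥(ZZ₀ S) = p)
    {β₀ : MulAut S} (hβ₀ : β₀ ∈ F.autGroup S) {Q₀ : S → Prop} (hs₀ : IsSplitW β₀ Q₀) :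
    F.IsNormal (splitFix β₀) := by
  apply isNormal_of_AG_invariant C.hS F C.hF
  · intro R hR
    rcases hR with rfl | hR
    · exact (splitFix_le β₀).trans inf_le_left
    · exact (splitFix_le β₀).trans (C.ess hR).1
  · intro R hR α hα y hy
    rcases hR with rfl | hR
    · exact splitFix_invariant' F C.hF hZ0 hβ₀ hs₀ hα y hy
    · exact ((C.invariant hp2 hZ0 hβ₀ hs₀ hR hα) y).mpr hy

/-- If `O_p(F) = 1`, some essential subgroup has an automorphism not preserving `Z(S)`. -/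
theorem SICtx.exists_good (C : SICtx S p F) (hcore : F.core = ⊥) :
    ∃ P : Subgroup Ω, F.IsEssential p P ∧ ∃ g ∈ F.autGroup P,
      (¬ ∀ z : P, (z : Ω) ∈ ZZ S → ((g z : P) : Ω) ∈ ZZ S) ∧
      ¬ ∀ z : P, (z : Ω) ∈ ZZ S → ((g⁻¹ z : P) : Ω) ∈ ZZ S := by
  by_contra hcon0
  have hall : ∀ P : Subgroup Ω, F.IsEssential p P → ∀ g ∈ F.autGroup P,
      g ∈ stabSubW P (ZZ S) := by
    intro P hP g hg
    have hfinP : Finite P := finite_of_le hP.2.1.1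
    by_cases h1 : ∀ z : P, (z : Ω) ∈ ZZ S → ((g z : P) : Ω) ∈ ZZ S
    · exact mem_stabSubW_of_forall h1
    · have h2 : ∀ z : P, (z : Ω) ∈ ZZ S → ((g⁻¹ z : P) : Ω) ∈ ZZ S := by
        by_contra h2
        exact hcon0 ⟨P, hP, g, hg, h1, h2⟩
      have h3 : g⁻¹ ∈ stabSubW P (ZZ S) := mem_stabSubW_of_forall h2
      have h4 := (stabSubW P (ZZ S)).inv_mem h3
      rwa [inv_inv] at h4
  have hnorm : F.IsNormal (ZZ S) := by
    apply isNormal_of_AG_invariant C.hS F C.hF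
    · intro R hR
      rcases hR with rfl | hR
      · exact inf_le_left
      · exact (C.ess hR).1
    · intro R hR α hα y hy
      rcases hR with rfl | hR
      · exact (aut_mem_ZZ_iff α y).mpr hy
      · exact ((hall R hR α hα) y).mpr hy
  have hle : ZZ S ≤ F.core := le_sSup hnorm
  rw [hcore] at hle
  obtain ⟨s, hs, t, ht, hst⟩ := C.hna
  have : Nontrivial S := by
    refine ⟨⟨⟨s, hs⟩, ⟨t, ht⟩, fun h => hst ?_⟩⟩
    have h2 : s = t := congrArg Subtype.val h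
    rw [h2]
  have hnt := C.hS.center_nontrivial
  obtain ⟨z, hz⟩ := exists_ne (1 : Subgroup.center S)
  apply hz
  have h1 : ((z : S) : Ω) ∈ ZZ S := (mem_ZZ_iff_center (z : S)).mpr z.2
  have h2 := hle h1
  rw [Subgroup.mem_bot] at h2
  apply Subtype.ext
  apply Subtype.ext
  exact h2

/-- For `p` odd and `O_p(F) = 1` the centre of `S` has order `p`. -/
theorem SICtx.card_center_odd (C : SICtx S p F) (hp2 : p ≠ 2) (hcore : F.core = ⊥) :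
    Nat.card ↥(ZZ S) = p := by
  obtain ⟨P, hP, g, hg, hg1, hg2⟩ := C.exists_good hcore
  obtain ⟨hZP, hPS, hPZ, hPne⟩ := C.ess hP
  obtain ⟨A, -, -, -, -, -, hZ0⟩ := si_data C.hS C.hcard C.hna hZP hPS hPZ hPne
  obtain ⟨β₀, hβ₀, hs₀⟩ := C.exists_split hP hg hg1 hg2
  have hnorm := C.splitFix_normal hp2 hZ0 hβ₀ hs₀
  have hle : splitFix β₀ ≤ F.core := le_sSup hnorm
  rw [hcore] at hle
  have hZle : ZZ S ≤ ZZ₀ S := by
    intro z hz
    obtain ⟨w, f, hw, hf, hzwf, hβw, -⟩ := hs₀.2 ⟨z, hz.1⟩ hz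
    have hwW : (w : Ω) ∈ splitFix β₀ := (mem_splitFix_iff β₀ w).mpr ⟨hw, hβw⟩
    have hw1 := hle hwW
    rw [Subgroup.mem_bot] at hw1
    have e : z = (w : Ω) * (f : Ω) := congrArg Subtype.val hzwf
    rw [e, hw1, one_mul]
    exact hf
  have heq : ZZ S = ZZ₀ S := le_antisymm hZle inf_le_left
  have := congrArg (fun H : Subgroup Ω => Nat.card ↥H) heq
  exact this.trans hZ0

end ctx

end Cfsg.Agent.Lib.Helper87
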