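import Mathlib

set_option autoImplicit false

namespace Cfsg.Agent.Lib.Helper87

/-- An abelian group `P` with an "involutory transvection" `t` of centre `z₀` (`z₀² = 1`,
`t u ∈ {u, u z₀}`) inside a group `G` of automorphisms in which every conjugate of `t` is either
equal to `t` or in general position with it. -/
structure TvCtx {P : Type*} [Group P] (t : MulAut P) (z₀ : P) (G : Subgroup (MulAut P)) :
    Prop where
  hc : ∀ u v : P, u * v = v * u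
  hz : z₀ * z₀ = 1
  ht : ∀ u, t u = u ∨ t u = u * z₀
  htz : t z₀ = z₀
  htG : t ∈ G
  hGP : ∀ g ∈ G, g * t * g⁻¹ = t ∨ t (g z₀) ≠ g z₀

namespace TvCtx

variable {P : Type*} [Group P] {t : MulAut P} {z₀ : P} {G : Subgroup (MulAut P)}

theorem inv_apply_self (g : MulAut P) (u : P) : g⁻¹ (g u) = u := by
  show g.symm (g u) = u
  simp

theorem apply_inv_self (g : MulAut P) (u : P) : g (g⁻¹ u) = u := by
  show g (g.symm u) = u
  simp

theorem conj_apply (T : TvCtx t z₀ G) (g : MulAut P) (u : P) :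
    (g * t * g⁻¹) u = u ∨ (g * t * g⁻¹) u = u * g z₀ := by
  have e : (g * t * g⁻¹) u = g (t (g⁻¹ u)) := rfl
  rcases T.ht (g⁻¹ u) with h | h
  · left
    rw [e, h, apply_inv_self]
  · right
    rw [e, h, map_mul, apply_inv_self]

theorem comm4 (T : TvCtx t z₀ G) (a b c d : P) : a * b * (c * d) = a * c * (b * d) := by
  rw [mul_assoc, ← mul_assoc b, T.hc b c, mul_assoc c, ← mul_assoc a]

theorem sq (T : TvCtx t z₀ G) (g : MulAut P) : g z₀ * g z₀ = 1 := by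
  rw [← map_mul, T.hz, map_one]

theorem t_eq_one_of_z (T : TvCtx t z₀ G) (h : z₀ = 1) : t = 1 := by
  ext u
  rcases T.ht u with h1 | h1
  · rw [h1]; rfl
  · rw [h1, h, mul_one]; rfl

/-- General position: distinct conjugates move each other's centres. -/
theorem move₂ (T : TvCtx t z₀ G) {g h : MulAut P} (hg : g ∈ G) (hh : h ∈ G)
    (hne : g * t * g⁻¹ ≠ h * t * h⁻¹) : (h * t * h⁻¹) (g z₀) = g z₀ * h z₀ := by
  rcases T.hGP (h⁻¹ * g) (G.mul_mem (G.inv_mem hh) hg) with h1 | h1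
  · exfalso
    apply hne
    calc g * t * g⁻¹ = h * (h⁻¹ * g * t * (h⁻¹ * g)⁻¹) * h⁻¹ := by group
      _ = h * t * h⁻¹ := by rw [h1]
  · rcases T.conj_apply h (g z₀) with h2 | h2
    · exfalso
      apply h1
      have e : (h * t * h⁻¹) (g z₀) = h (t ((h⁻¹ * g) z₀)) := rfl
      rw [e] at h2
      have h3 := congrArg (⇑h⁻¹) h2
      rw [inv_apply_self] at h3
      exact h3
    · exact h2

theorem move_t (T : TvCtx t z₀ G) {g : MulAut P} (hg : g ∈ G) (hne : g * t * g⁻¹ ≠ t) :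
    t (g z₀) = g z₀ * z₀ := by
  have h := T.move₂ hg G.one_mem (h := 1) (by simpa using hne)
  simpa using h

theorem move_z (T : TvCtx t z₀ G) {g : MulAut P} (hg : g ∈ G) (hne : g * t * g⁻¹ ≠ t) :
    (g * t * g⁻¹) z₀ = z₀ * g z₀ := by
  have h := T.move₂ G.one_mem hg (g := 1) (by simpa using (Ne.symm hne))
  simpa using h

theorem z_ne_one (T : TvCtx t z₀ G) {g : MulAut P} (hne : g * t * g⁻¹ ≠ t) : z₀ ≠ 1 := by
  intro h
  apply hne
  rw [T.t_eq_one_of_z h]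
  group

/-- Three pairwise distinct conjugates `t, d₁, d₂` satisfy `d₂ = t d₁ t⁻¹`. -/
theorem three (T : TvCtx t z₀ G) {g₁ g₂ : MulAut P} (h₁ : g₁ ∈ G) (h₂ : g₂ ∈ G)
    (hne1 : g₁ * t * g₁⁻¹ ≠ t) (hne2 : g₂ * t * g₂⁻¹ ≠ t)
    (hne : g₁ * t * g₁⁻¹ ≠ g₂ * t * g₂⁻¹) :
    g₂ * t * g₂⁻¹ = t * (g₁ * t * g₁⁻¹) * t⁻¹ := by
  by_contra hcon
  have hne' : (t * g₁) * t * (t * g₁)⁻¹ ≠ g₂ * t * g₂⁻¹ := by
    intro h
    apply hcon
    rw [← h]
    group
  have m1 := T.move₂ (G.mul_mem T.htG h₁) h₂ hne'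
  have e1 : (t * g₁) z₀ = g₁ z₀ * z₀ := T.move_t h₁ hne1
  rw [e1, map_mul, T.move₂ h₁ h₂ hne, T.move_z h₂ hne2] at m1
  have e2 : g₁ z₀ * g₂ z₀ * (z₀ * g₂ z₀) = g₁ z₀ * z₀ * (g₂ z₀ * g₂ z₀) := T.comm4 _ _ _ _
  rw [e2, T.sq, mul_one] at m1
  have h3 : g₂ z₀ = 1 := mul_eq_left.mp m1.symm
  have h4 : z₀ = 1 := by
    have := congrArg (⇑g₂⁻¹) h3
    rwa [inv_apply_self, map_one] at this
  exact T.z_ne_one hne1 h4

/-- The centre of a conjugate is determined by the conjugate. -/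
theorem center_eq (T : TvCtx t z₀ G) {g h : MulAut P} (hg : g ∈ G) (hh : h ∈ G)
    (hne : g * t * g⁻¹ ≠ t) (heq : h * t * h⁻¹ = g * t * g⁻¹) : h z₀ = g z₀ := by
  have h1 := T.move_z hg hne
  have h2 := T.move_z hh (heq ▸ hne)
  rw [heq, h1] at h2
  exact (mul_left_cancel h2).symm

theorem center_eq_t (T : TvCtx t z₀ G) {g h : MulAut P} (hg : g ∈ G)
    (hne : g * t * g⁻¹ ≠ t) (heq : h * t * h⁻¹ = t) : h z₀ = z₀ := by
  have h1 := T.move_t hg hne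
  rcases T.conj_apply h (g z₀) with h2 | h2
  · rw [heq, h1] at h2
    exfalso
    exact T.z_ne_one hne (mul_eq_left.mp h2)
  · rw [heq, h1] at h2
    exact (mul_left_cancel h2).symm

/-- All centres of conjugates of `t` lie in `{z₀, e, e z₀}` for `e = g z₀` with `g t g⁻¹ ≠ t`. -/
theorem center_cases (T : TvCtx t z₀ G) {g h : MulAut P} (hg : g ∈ G) (hh : h ∈ G)
    (hne : g * t * g⁻¹ ≠ t) : h z₀ = z₀ ∨ h z₀ = g z₀ ∨ h z₀ = g z₀ * z₀ := by
  by_cases h1 : h * t * h⁻¹ = t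
  · exact Or.inl (T.center_eq_t hg hne h1)
  · by_cases h2 : h * t * h⁻¹ = g * t * g⁻¹
    · exact Or.inr (Or.inl (T.center_eq hg hh hne h2))
    · right; right
      have h3 := T.three hg hh hne h1 (Ne.symm h2)
      have hne' : (t * g) * t * (t * g)⁻¹ ≠ t := by
        intro h
        apply hne
        calc g * t * g⁻¹ = t⁻¹ * ((t * g) * t * (t * g)⁻¹) * t := by group
          _ = t := by rw [h]; group
      have h4 : h * t * h⁻¹ = (t * g) * t * (t * g)⁻¹ := by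
        rw [h3]; group
      have h5 := T.center_eq (G.mul_mem T.htG hg) hh hne' h4
      rw [h5]
      exact T.move_t hg hne

/-- The complement property: a fixed point `z` of `t` either stays fixed under all `g⁻¹`, or
`z z₀` does. -/
theorem complement (T : TvCtx t z₀ G) {z : P} (hz : t z = z) :
    (∀ g ∈ G, t (g⁻¹ z) = g⁻¹ z) ∨ (∀ g ∈ G, t (g⁻¹ (z * z₀)) = g⁻¹ (z * z₀)) := by
  by_contra hcon
  rw [not_or] at hcon
  obtain ⟨hc1, hc2⟩ := hcon
  push Not at hc1 hc2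
  obtain ⟨g₁, h₁, hm1⟩ := hc1
  obtain ⟨g₂, h₂, hm2⟩ := hc2
  have d1z : (g₁ * t * g₁⁻¹) z ≠ z := by
    intro h
    apply hm1
    have e : (g₁ * t * g₁⁻¹) z = g₁ (t (g₁⁻¹ z)) := rfl
    rw [e] at h
    have := congrArg (⇑g₁⁻¹) h
    rwa [inv_apply_self] at this
  have d2z : (g₂ * t * g₂⁻¹) (z * z₀) ≠ z * z₀ := by
    intro h
    apply hm2
    have e : (g₂ * t * g₂⁻¹) (z * z₀) = g₂ (t (g₂⁻¹ (z * z₀))) := rfl
    rw [e] at h
    have := congrArg (⇑g₂⁻¹) h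
    rwa [inv_apply_self] at this
  have hne1 : g₁ * t * g₁⁻¹ ≠ t := by
    intro h
    apply d1z
    rw [h, hz]
  have hne2 : g₂ * t * g₂⁻¹ ≠ t := by
    intro h
    apply d2z
    rw [h, map_mul, hz, T.htz]
  have e1 : (g₁ * t * g₁⁻¹) z = z * g₁ z₀ := by
    rcases T.conj_apply g₁ z with h | h
    · exact absurd h d1z
    · exact h
  have e2 : (g₂ * t * g₂⁻¹) (z * z₀) = z * z₀ * g₂ z₀ := by
    rcases T.conj_apply g₂ (z * z₀) with h | h
    · exact absurd h d2z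
    · exact h
  have f1 : (g₁ * t * g₁⁻¹) (z * z₀) = z * z₀ := by
    rw [map_mul, e1, T.move_z h₁ hne1]
    calc z * g₁ z₀ * (z₀ * g₁ z₀) = z * z₀ * (g₁ z₀ * g₁ z₀) := T.comm4 _ _ _ _
      _ = z * z₀ := by rw [T.sq, mul_one]
  have hne : g₁ * t * g₁⁻¹ ≠ g₂ * t * g₂⁻¹ := by
    intro h
    apply d2z
    rw [← h, f1]
  have f2 : (g₂ * t * g₂⁻¹) z = z := by
    have e : z = z * z₀ * z₀ := by rw [mul_assoc, T.hz, mul_one]
    conv_lhs => rw [e]
    rw [map_mul, e2, T.move_z h₂ hne2]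
    calc z * z₀ * g₂ z₀ * (z₀ * g₂ z₀) = z * z₀ * z₀ * (g₂ z₀ * g₂ z₀) := T.comm4 _ _ _ _
      _ = z := by rw [T.sq, mul_one, mul_assoc, T.hz, mul_one]
  have h3 := T.three h₁ h₂ hne1 hne2 hne
  rw [h3] at f2
  have e3 : (t * (g₁ * t * g₁⁻¹) * t⁻¹) z = t ((g₁ * t * g₁⁻¹) (t⁻¹ z)) := rfl
  have e4 : t⁻¹ z = z := by
    have := congrArg (⇑t⁻¹) hz
    rw [inv_apply_self] at this
    exact this.symm
  rw [e3, e4, e1, map_mul, hz, T.move_t h₁ hne1] at f2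
  have h5 : g₁ z₀ * z₀ = 1 := mul_eq_left.mp f2
  have h6 : g₁ z₀ = z₀ := by
    have : g₁ z₀ = z₀⁻¹ := eq_inv_of_mul_eq_one_left h5
    rw [this]
    exact inv_eq_of_mul_eq_one_right T.hz
  have h7 := T.move_t h₁ hne1
  rw [h6, T.htz] at h7
  exact T.z_ne_one hne1 (mul_eq_left.mp h7.symm)

end TvCtx

end Cfsg.Agent.Lib.Helper87
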