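import Cfsg.Agent.Lib.Helper87.SmallIndexFusion
import Cfsg.Agent.Lib.Helper87.Transvection2

set_option autoImplicit false
set_option linter.unusedSectionVars false
open Cfsg Cfsg.FusionSystem

namespace Cfsg.Agent.Lib.Helper87

variable {Ω : Type*} [Group Ω] {S : Subgroup Ω}

/-- `P` lies strictly between `Z(S)` and `S`. -/
structure Mid (S P : Subgroup Ω) : Prop where
  hZP : ZZ S ≤ P
  hPS : P ≤ S
  hPZ : P ≠ ZZ S
  hPne : P ≠ S

theorem Mid.exists_not_mem {P : Subgroup Ω} (M : Mid S P) : ∃ y ∈ S, y ∉ P := by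
  by_contra hcon
  push Not at hcon
  exact M.hPne (le_antisymm M.hPS hcon)

theorem Mid.exists_mem_not_center {P : Subgroup Ω} (M : Mid S P) : ∃ x ∈ P, x ∉ ZZ S := by
  by_contra hcon
  push Not at hcon
  exact M.hPZ (le_antisymm hcon M.hZP)

/-- `z` lies in the largest `Aut_F(P)`-invariant subgroup of `Z(S)`. -/
def InW (F : FusionSystem S) (P : Subgroup Ω) (z : Ω) : Prop :=
  z ∈ ZZ S ∧ ∀ g ∈ F.autGroup P, ∀ hz : z ∈ P, ((g ⟨z, hz⟩ : P) : Ω) ∈ ZZ S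

/-- `g` does not preserve `Z(S)`. -/
def IsGood (S : Subgroup Ω) {P : Subgroup Ω} (g : MulAut P) : Prop :=
  ¬ ∀ z : P, (z : Ω) ∈ ZZ S → ((g z : P) : Ω) ∈ ZZ S

theorem InW.one (F : FusionSystem S) (P : Subgroup Ω) : InW F P 1 := by
  refine ⟨(ZZ S).one_mem, fun g _ hz => ?_⟩
  have e : (⟨1, hz⟩ : P) = 1 := rfl
  rw [e, map_one]
  exact (ZZ S).one_mem

theorem InW.mul {F : FusionSystem S} {P : Subgroup Ω} {a b : Ω} (ha : InW F P a)
    (hb : InW F P b) (hZP : ZZ S ≤ P) : InW F P (a * b) := by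
  refine ⟨(ZZ S).mul_mem ha.1 hb.1, fun g hg hz => ?_⟩
  have e : (⟨a * b, hz⟩ : P) = ⟨a, hZP ha.1⟩ * ⟨b, hZP hb.1⟩ := rfl
  rw [e, map_mul]
  exact (ZZ S).mul_mem (ha.2 g hg _) (hb.2 g hg _)

theorem InW.inv {F : FusionSystem S} {P : Subgroup Ω} {a : Ω} (ha : InW F P a)
    (hZP : ZZ S ≤ P) : InW F P a⁻¹ := by
  refine ⟨(ZZ S).inv_mem ha.1, fun g hg hz => ?_⟩
  have e : (⟨a⁻¹, hz⟩ : P) = (⟨a, hZP ha.1⟩ : P)⁻¹ := rfl
  rw [e, map_inv]
  exact (ZZ S).inv_mem (ha.2 g hg _)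

/-- Images of elements of `W` under `Aut_F(P)` stay in `W`. -/
theorem InW.apply {F : FusionSystem S} {P : Subgroup Ω} {a : Ω} (ha : InW F P a)
    (hZP : ZZ S ≤ P) {h : MulAut P} (hh : h ∈ F.autGroup P) :
    InW F P ((h ⟨a, hZP ha.1⟩ : P) : Ω) := by
  refine ⟨ha.2 h hh _, fun g hg hz => ?_⟩
  have e : g ⟨((h ⟨a, hZP ha.1⟩ : P) : Ω), hz⟩ = (g * h) ⟨a, hZP ha.1⟩ := rfl
  rw [e]
  exact ha.2 (g * h) ((F.autGroup P).mul_mem hg hh) _

section ctx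

variable [Finite S] {p : ℕ} [hp : Fact p.Prime] {F : FusionSystem S}

theorem SICtx.mid_of_ess (C : SICtx S p F) {R : Subgroup Ω} (hR : F.IsEssential p R) :
    Mid S R := by
  obtain ⟨h1, h2, h3, h4⟩ := C.ess hR
  exact ⟨h1, h2, h3, h4⟩

theorem SICtx.mid_ab (C : SICtx S p F) {P : Subgroup Ω} (M : Mid S P) :
    (∀ y ∈ P, ∀ z ∈ P, y * z = z * y) ∧ Nat.card ↥P = p * Nat.card ↥(ZZ S) ∧
      S ≤ normalizerIn S P ∧ (P.subgroupOf S).index = p := by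
  obtain ⟨hZR, hRS, hRZ, hRne⟩ := M
  have hfinR : Finite P := finite_of_le hRS
  have hcardR := si_card_mid C.hS C.hcard hZR hRS hRZ hRne
  have hn0 : 0 < Nat.card ↥(ZZ S) := card_ZZ_pos
  have hRi : (P.subgroupOf S).index = p := by
    have h1 := Subgroup.card_mul_index (P.subgroupOf S)
    rw [Nat.card_congr (Subgroup.subgroupOfEquivOfLe hRS).toEquiv, hcardR, C.hcard] at h1
    have h2 : p * Nat.card ↥(ZZ S) * (P.subgroupOf S).index = p * Nat.card ↥(ZZ S) * p := by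
      rw [h1]; ring
    exact Nat.eq_of_mul_eq_mul_left (Nat.mul_pos hp.1.pos hn0) h2
  refine ⟨si_abelian_mid C.hS C.hcard C.hna hZR hRS hRZ hRne, hcardR, ?_, hRi⟩
  intro s hs
  refine ⟨hs, ?_⟩
  apply Cfsg.Agent.Lib.Helper88.mem_normalizer_of_conj_mem_finite
  intro a ha
  exact aip_conj_mem C.hS hRS hRi hs ha

theorem SICtx.mid_fn (C : SICtx S p F) {P : Subgroup Ω} (M : Mid S P) :
    F.IsFullyNormalized P := by
  obtain ⟨-, -, hSN, -⟩ := C.mid_ab M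
  refine ⟨M.hPS, fun Q _ => ?_⟩
  have h1 : normalizerIn S P = S := le_antisymm (normalizerIn_le S P) hSN
  have h2 : Nat.card ↥(normalizerIn S P) = Nat.card ↥S :=
    congrArg (fun H : Subgroup Ω => Nat.card ↥H) h1
  rw [h2]
  exact Subgroup.card_le_of_le (normalizerIn_le S Q)

/-- Two distinct intermediate subgroups meet in `Z(S)`. -/
theorem SICtx.mid_inf (C : SICtx S p F) {P₁ P₂ : Subgroup Ω} (M₁ : Mid S P₁) (M₂ : Mid S P₂)
    (hne : P₁ ≠ P₂) : P₁ ⊓ P₂ = ZZ S := by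
  by_contra hcon
  have hfin1 : Finite P₁ := finite_of_le M₁.hPS
  have hfin2 : Finite P₂ := finite_of_le M₂.hPS
  have hne2 : P₁ ⊓ P₂ ≠ S := by
    intro h
    exact M₁.hPne (le_antisymm M₁.hPS (h ▸ inf_le_left))
  have h1 := si_card_mid C.hS C.hcard (le_inf M₁.hZP M₂.hZP) (inf_le_left.trans M₁.hPS) hcon hne2
  have hc1 := (C.mid_ab M₁).2.1
  have hc2 := (C.mid_ab M₂).2.1
  have h2 : P₁ ⊓ P₂ = P₁ := Subgroup.eq_of_le_of_card_ge inf_le_left (by rw [h1, hc1])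
  have h3 : P₁ ≤ P₂ := h2 ▸ inf_le_right
  exact hne (Subgroup.eq_of_le_of_card_ge h3 (by rw [hc1, hc2]))

/-- Elements of `P` fixed by an element of `S` outside `P` are central. -/
theorem SICtx.mid_fix (C : SICtx S p F) {P : Subgroup Ω} (M : Mid S P) {y : Ω} (hy : y ∈ S)
    (hyP : y ∉ P) {u : Ω} (hu : u ∈ P) (h : y * u * y⁻¹ = u) : u ∈ ZZ S := by
  obtain ⟨hPab, hcardP, -, -⟩ := C.mid_ab M
  have hfinP : Finite P := finite_of_le M.hPS
  obtain ⟨H, hHdef⟩ : ∃ H : Subgroup Ω, H = S ⊓ Subgroup.centralizer ({u} : Set Ω) := ⟨_, rfl⟩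
  have hmemH : ∀ v, v ∈ H ↔ v ∈ S ∧ u * v = v * u := by
    intro v
    rw [hHdef, Subgroup.mem_inf, Subgroup.mem_centralizer_iff]
    constructor
    · rintro ⟨h1, h2⟩
      exact ⟨h1, h2 u rfl⟩
    · rintro ⟨h1, h2⟩
      refine ⟨h1, fun w hw => ?_⟩
      rw [Set.mem_singleton_iff] at hw
      rw [hw]
      exact h2
  have hPH : P ≤ H := fun v hv => (hmemH v).mpr ⟨M.hPS hv, hPab u hu v hv⟩
  have hyH : y ∈ H := (hmemH y).mpr ⟨hy, by
    calc u * y = (y * u * y⁻¹) * y := by rw [h]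
      _ = y * u := by group⟩
  have hZH : ZZ S ≤ H := M.hZP.trans hPH
  have hHS : H ≤ S := hHdef ▸ inf_le_left
  have hHZ : H ≠ ZZ S := fun h' => M.hPZ (le_antisymm (h' ▸ hPH) M.hZP)
  by_cases hHne : H = S
  · rw [mem_center_iff']
    exact ⟨M.hPS hu, fun s hs => ((hmemH s).mp (hHne.ge hs)).2⟩
  · exfalso
    have h1 := si_card_mid C.hS C.hcard hZH hHS hHZ hHne
    have hfinH : Finite H := finite_of_le hHS
    have h2 : P = H := Subgroup.eq_of_le_of_card_ge hPH (by rw [h1, hcardP])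
    exact hyP (h2 ▸ hyH)

theorem SICtx.mid_comm (C : SICtx S p F) {y u : Ω} (hy : y ∈ S) (hu : u ∈ S) :
    y * u * y⁻¹ * u⁻¹ ∈ ZZ₀ S := by
  have h4 : y * u * y⁻¹ * u⁻¹ ∈ ⁅S, S⁆ := by
    have := Subgroup.commutator_mem_commutator hy hu
    rwa [commutatorElement_def] at this
  exact ⟨si_comm_le C.hcard h4, h4⟩

/-- General position lemma: if `t = c_y` fixes `g(Z₀)` pointwise then `g t g⁻¹ ∈ Aut_S(P)`. -/
theorem SICtx.mid_gp (C : SICtx S p F) {P : Subgroup Ω} (M : Mid S P) {y : Ω} (hy : y ∈ S)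
    (hyP : y ∉ P) (hyN : y ∈ Subgroup.normalizer (P : Set Ω)) {g : MulAut P}
    (hg : g ∈ F.autGroup P)
    (h : ∀ f : P, (f : Ω) ∈ ZZ₀ S → conjAut P y hyN (g f) = g f) :
    g * conjAut P y hyN * g⁻¹ ∈ autInducedBy S P := by
  have hPS : P ≤ S := M.hPS
  have hfinP : Finite P := finite_of_le hPS
  have hfn := C.mid_fn M
  obtain ⟨-, R, hR⟩ := (fc_fa_of_fullyNormalized C.hS F C.hF hfn).2
  have hTle : autInducedBy S P ≤ F.autGroup P := autInducedBy_le_autGroup F hPS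
  have eg : ∀ u : P, g (g⁻¹ u) = u := fun u => by
    show g (g.symm u) = u
    simp
  have eg' : ∀ u : P, g⁻¹ (g u) = u := fun u => by
    show g.symm (g u) = u
    simp
  obtain ⟨t, htdef⟩ : ∃ t, t = conjAut P y hyN := ⟨_, rfl⟩
  have htcoe : ∀ u : P, ((t u : P) : Ω) = y * u * y⁻¹ := by
    intro u; rw [htdef]; rfl
  have htfix : ∀ u : P, t u = u → (u : Ω) ∈ ZZ S := fun u hu =>
    C.mid_fix M hy hyP u.2 (by rw [← htcoe, hu])
  have htZ : ∀ u : P, (u : Ω) ∈ ZZ S → t u = u := fun u hu =>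
    Subtype.ext (by rw [htcoe]; exact mem_ZZ_comm hu hy)
  have htcomm : ∀ u : P, ((t u : P) : Ω) * (u : Ω)⁻¹ ∈ ZZ₀ S := fun u => by
    rw [htcoe]; exact C.mid_comm hy (hPS u.2)
  rw [← htdef] at h ⊢
  obtain ⟨E', hE'def⟩ : ∃ E' : Subgroup Ω,
      E' = (((ZZ₀ S).subgroupOf P).map g.toMonoidHom).map P.subtype := ⟨_, rfl⟩
  have hE'mem : ∀ u : P, (u : Ω) ∈ E' ↔ ∃ f : P, (f : Ω) ∈ ZZ₀ S ∧ g f = u := by
    intro u
    rw [hE'def]
    constructor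
    · rintro ⟨y', ⟨f, hf, rfl⟩, hy'⟩
      exact ⟨f, Subgroup.mem_subgroupOf.mp hf, Subtype.ext hy'⟩
    · rintro ⟨f, hf, rfl⟩
      exact ⟨g f, ⟨f, Subgroup.mem_subgroupOf.mpr hf, rfl⟩, rfl⟩
  have hE'Z : ∀ u : P, (u : Ω) ∈ E' → (u : Ω) ∈ ZZ S := by
    intro u hu
    obtain ⟨f, hf, rfl⟩ := (hE'mem u).mp hu
    exact htfix _ (h f hf)
  obtain ⟨X, hXdef⟩ : ∃ X : Subgroup (MulAut P), X = chainStab P E' ⊓ F.autGroup P := ⟨_, rfl⟩
  have hXle : X ≤ F.autGroup P := hXdef ▸ inf_le_right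
  have hXp : IsPGroup p X := by
    rw [hXdef]
    exact (chainStab_isPGroup (C.hS.to_le hPS)).to_le inf_le_left
  have hN : ∀ c ∈ autInducedBy S P, ∀ φ ∈ X, c * φ * c⁻¹ ∈ X := by
    intro c hc φ hφ
    rw [hXdef] at hφ ⊢
    refine ⟨conj_mem_chainStab ?_ hφ.1, (F.autGroup P).mul_mem
      ((F.autGroup P).mul_mem (hTle hc) hφ.2) ((F.autGroup P).inv_mem (hTle hc))⟩
    obtain ⟨s, hs, hcs⟩ := (mem_autInducedBy_iff S P c).mp hc
    intro u
    constructor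
    · intro hu
      have h1 : ((c u : P) : Ω) ∈ ZZ S := hE'Z _ hu
      have h2 : c u = u := by
        apply Subtype.ext
        rw [hcs] at h1 ⊢
        have h3 := mem_ZZ_comm h1 (S.inv_mem hs)
        calc s * u * s⁻¹ = s⁻¹ * (s * u * s⁻¹) * s⁻¹⁻¹ := h3.symm
          _ = u := by group
      rwa [h2] at hu
    · intro hu
      have h2 : c u = u := Subtype.ext (by rw [hcs]; exact mem_ZZ_comm (hE'Z u hu) hs)
      rwa [h2]
  have hXT : X ≤ autInducedBy S P := le_of_normalizes_sylow R hR hTle hXle hXp hN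
  have ht' : g * t * g⁻¹ ∈ X := by
    rw [hXdef]
    refine ⟨⟨fun u hu => ?_, fun u => ?_⟩, ?_⟩
    · obtain ⟨f, hf, rfl⟩ := (hE'mem u).mp hu
      show g (t (g⁻¹ (g f))) = g f
      rw [eg', htZ f hf.1]
    · show ((g (t (g⁻¹ u)) : P) : Ω) * (u : Ω)⁻¹ ∈ E'
      have e : ((g (t (g⁻¹ u)) : P) : Ω) * (u : Ω)⁻¹ =
          ((g (t (g⁻¹ u) * (g⁻¹ u)⁻¹) : P) : Ω) := by
        rw [map_mul, map_inv, eg]; rfl
      rw [e, hE'mem]
      exact ⟨_, htcomm (g⁻¹ u), rfl⟩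
    · exact (F.autGroup P).mul_mem ((F.autGroup P).mul_mem hg
        (hTle (htdef ▸ conjAut_mem_autInducedBy hy hyN))) ((F.autGroup P).inv_mem hg)
  exact hXT ht'

/-- Conjugates of `Aut_S(P)` fix the elements of `W` pointwise. -/
theorem InW.fixed {P : Subgroup Ω} {w : Ω} (hw : InW F P w) (hZP : ZZ S ≤ P)
    {g : MulAut P} (hg : g ∈ F.autGroup P) {c : MulAut P} (hc : c ∈ autInducedBy S P) :
    (g * c * g⁻¹) ⟨w, hZP hw.1⟩ = ⟨w, hZP hw.1⟩ := by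
  have eg : ∀ u : P, g (g⁻¹ u) = u := fun u => by
    show g (g.symm u) = u
    simp
  have h1 := hw.2 g⁻¹ ((F.autGroup P).inv_mem hg) (hZP hw.1)
  obtain ⟨s, hs, hcs⟩ := (mem_autInducedBy_iff S P c).mp hc
  have h2 : c (g⁻¹ ⟨w, hZP hw.1⟩) = g⁻¹ ⟨w, hZP hw.1⟩ :=
    Subtype.ext (by rw [hcs]; exact mem_ZZ_comm h1 hs)
  show g (c (g⁻¹ ⟨w, hZP hw.1⟩)) = _
  rw [h2, eg]

end ctx

end Cfsg.Agent.Lib.Helper87
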