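import Cfsg.Agent.Lib.Helper87.SmallIndexTwo

set_option autoImplicit false
set_option linter.unusedSectionVars false
open Cfsg Cfsg.FusionSystem

namespace Cfsg.Agent.Lib.Helper87

variable {Ω : Type*} [Group Ω] {S : Subgroup Ω}

/-- Standing hypotheses for `p = 2`: `Z(S) ∩ [S,S] = {1, z₀}`. -/
structure SI2 (S : Subgroup Ω) (F : FusionSystem S) (z₀ : Ω) : Prop where
  C : SICtx S 2 F
  hz₀ : z₀ ∈ ZZ₀ S
  hz₀1 : z₀ ≠ 1
  hZ0 : ∀ f ∈ ZZ₀ S, f = 1 ∨ f = z₀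

theorem SI2.exists_of_card {F : FusionSystem S} (C : SICtx S 2 F)
    (h : Nat.card ↥(ZZ₀ S) = 2) : ∃ z₀, SI2 S F z₀ := by
  obtain ⟨z, hz1, huniq⟩ := (Nat.card_eq_two_iff' (1 : ↥(ZZ₀ S))).mp h
  refine ⟨(z : Ω), C, z.2, fun h' => hz1 (Subtype.ext h'), fun f hf => ?_⟩
  by_cases hf1 : f = 1
  · exact Or.inl hf1
  · right
    have := huniq ⟨f, hf⟩ (fun h' => hf1 (congrArg Subtype.val h'))
    exact congrArg Subtype.val this

/-- An automorphism whose fixed points are exactly `Z(S) ∩ P` is not centralised by a good `g`. -/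
theorem tv_good_ne {P : Subgroup Ω} {t : MulAut P} (hfix : ∀ u : P, t u = u ↔ (u : Ω) ∈ ZZ S)
    {g : MulAut P} (hgood : IsGood S g) : g * t * g⁻¹ ≠ t := by
  intro h
  apply hgood
  intro z hz
  have e : (g * t * g⁻¹) (g z) = g (t (g⁻¹ (g z))) := rfl
  rw [h, TvCtx.inv_apply_self, (hfix z).mpr hz] at e
  exact (hfix _).mp e

section ctx

variable [Finite S] {F : FusionSystem S} {z₀ : Ω}

theorem SI2.sq (T : SI2 S F z₀) : z₀ * z₀ = 1 := by
  rcases T.hZ0 _ ((ZZ₀ S).mul_mem T.hz₀ T.hz₀) with h | h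
  · exact h
  · exact absurd (mul_eq_left.mp h) T.hz₀1

theorem SI2.comm (T : SI2 S F z₀) {s : Ω} (hs : s ∈ S) : z₀ * s = s * z₀ :=
  ((mem_center_iff' z₀).mp T.hz₀.1).2 s hs

/-- The transvection context attached to an intermediate subgroup. -/
theorem SI2.exists_tv (T : SI2 S F z₀) {P : Subgroup Ω} (M : Mid S P) :
    ∃ t : MulAut P, TvCtx t ⟨z₀, M.hZP T.hz₀.1⟩ (F.autGroup P) ∧
      (∀ u : P, t u = u ↔ (u : Ω) ∈ ZZ S) ∧ t ∈ autInducedBy S P ∧
      ∀ c ∈ autInducedBy S P, c = 1 ∨ c = t := by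
  obtain ⟨y, hy, hyP⟩ := M.exists_not_mem
  obtain ⟨hPab, hcardP, hSN, hPi⟩ := T.C.mid_ab M
  have hyN : y ∈ Subgroup.normalizer (P : Set Ω) := (hSN hy).2
  have hPS := M.hPS
  have hTle := autInducedBy_le_autGroup F hPS
  obtain ⟨t, htdef⟩ : ∃ t, t = conjAut P y hyN := ⟨_, rfl⟩
  have htcoe : ∀ u : P, ((t u : P) : Ω) = y * u * y⁻¹ := by
    intro u; rw [htdef]; rfl
  have htfix : ∀ u : P, t u = u → (u : Ω) ∈ ZZ S := fun u hu =>
    T.C.mid_fix M hy hyP u.2 (by rw [← htcoe, hu])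
  have htZ : ∀ u : P, (u : Ω) ∈ ZZ S → t u = u := fun u hu =>
    Subtype.ext (by rw [htcoe]; exact mem_ZZ_comm hu hy)
  have htcomm : ∀ u : P, ((t u : P) : Ω) * (u : Ω)⁻¹ ∈ ZZ₀ S := fun u => by
    rw [htcoe]; exact T.C.mid_comm hy (hPS u.2)
  have htS : t ∈ autInducedBy S P := htdef ▸ conjAut_mem_autInducedBy hy hyN
  have hauts : ∀ c ∈ autInducedBy S P, c = 1 ∨ c = t := by
    intro c hc
    obtain ⟨s, hs, hcs⟩ := (mem_autInducedBy_iff S P c).mp hc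
    by_cases hsP : s ∈ P
    · left
      ext u
      rw [hcs]
      show s * u * s⁻¹ = u
      rw [hPab s hsP u u.2]; group
    · right
      have h2 := Subgroup.mul_mem_iff_of_index_two (H := P.subgroupOf S) hPi
        (a := ⟨s⁻¹, S.inv_mem hs⟩) (b := ⟨y, hy⟩)
      rw [Subgroup.mem_subgroupOf, Subgroup.mem_subgroupOf, Subgroup.mem_subgroupOf] at h2
      have h3 : s⁻¹ * y ∈ P := h2.mpr ⟨fun h => absurd (inv_inv s ▸ P.inv_mem h) hsP,
        fun h => absurd h hyP⟩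
      ext u
      rw [hcs, htcoe]
      have h4 := hPab (s⁻¹ * y) h3 u u.2
      calc s * u * s⁻¹ = s * (u * (s⁻¹ * y)) * (s⁻¹ * y)⁻¹ * s⁻¹ := by group
        _ = s * ((s⁻¹ * y) * u) * (s⁻¹ * y)⁻¹ * s⁻¹ := by rw [h4]
        _ = y * u * y⁻¹ := by group
  refine ⟨t, ⟨fun u v => Subtype.ext (hPab u u.2 v v.2), Subtype.ext T.sq, fun u => ?_,
    htZ _ T.hz₀.1, hTle htS, fun g hg => ?_⟩, fun u => ⟨htfix u, htZ u⟩, htS, hauts⟩
  · rcases T.hZ0 _ (htcomm u) with h | h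
    · left
      apply Subtype.ext
      exact mul_inv_eq_one.mp h
    · right
      apply Subtype.ext
      show ((t u : P) : Ω) = u * z₀
      have h1 : ((t u : P) : Ω) = z₀ * u := mul_inv_eq_iff_eq_mul.mp h
      rw [h1, T.comm (hPS u.2)]
  · by_cases hfix : t (g ⟨z₀, M.hZP T.hz₀.1⟩) = g ⟨z₀, M.hZP T.hz₀.1⟩
    · left
      have h1 : g * t * g⁻¹ ∈ autInducedBy S P := by
        rw [htdef]
        apply T.C.mid_gp M hy hyP hyN hg
        intro f hf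
        rcases T.hZ0 f hf with h | h
        · have : f = 1 := Subtype.ext h
          rw [this, map_one, map_one]
        · have : f = ⟨z₀, M.hZP T.hz₀.1⟩ := Subtype.ext h
          rw [this, ← htdef]
          exact hfix
      rcases hauts _ h1 with h2 | h2
      · exfalso
        have ht1 : t = 1 := by
          calc t = g⁻¹ * (g * t * g⁻¹) * g := by group
            _ = 1 := by rw [h2]; group
        obtain ⟨x, hxP, hxZ⟩ := M.exists_mem_not_center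
        apply hxZ
        apply htfix ⟨x, hxP⟩
        rw [ht1]; rfl
      · exact h2
    · right
      exact hfix

/-- `Z(S)` is the product of `Z₀ = {1, z₀}` and the `Aut_F(P)`-invariant part `W_P`. -/
theorem SI2.complement (T : SI2 S F z₀) {P : Subgroup Ω} (M : Mid S P) {z : Ω}
    (hz : z ∈ ZZ S) : InW F P z ∨ InW F P (z * z₀) := by
  obtain ⟨t, hTv, hfix, -, -⟩ := T.exists_tv M
  have ht : t ⟨z, M.hZP hz⟩ = ⟨z, M.hZP hz⟩ := (hfix _).mpr hz
  rcases hTv.complement ht with h | h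
  · left
    refine ⟨hz, fun g hg hzP => ?_⟩
    have h1 := h g⁻¹ ((F.autGroup P).inv_mem hg)
    rw [inv_inv] at h1
    exact (hfix _).mp h1
  · right
    refine ⟨(ZZ S).mul_mem hz T.hz₀.1, fun g hg hzP => ?_⟩
    have h1 := h g⁻¹ ((F.autGroup P).inv_mem hg)
    rw [inv_inv] at h1
    exact (hfix _).mp h1

theorem SI2.good_center (T : SI2 S F z₀) {P : Subgroup Ω} (M : Mid S P) {g : MulAut P}
    (hg : g ∈ F.autGroup P) (hgood : IsGood S g) :
    ((g ⟨z₀, M.hZP T.hz₀.1⟩ : P) : Ω) ∉ ZZ S := by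
  obtain ⟨t, hTv, hfix, -, -⟩ := T.exists_tv M
  have hne := tv_good_ne hfix hgood
  rcases hTv.hGP g hg with h | h
  · exact absurd h hne
  · intro hmem
    exact h ((hfix _).mpr hmem)

theorem SI2.center_sq (T : SI2 S F z₀) {P : Subgroup Ω} (M : Mid S P) (g : MulAut P) :
    ((g ⟨z₀, M.hZP T.hz₀.1⟩ : P) : Ω) * ((g ⟨z₀, M.hZP T.hz₀.1⟩ : P) : Ω) = 1 := by
  have h1 : g ⟨z₀, M.hZP T.hz₀.1⟩ * g ⟨z₀, M.hZP T.hz₀.1⟩ = 1 := by
    rw [← map_mul]
    have : (⟨z₀, M.hZP T.hz₀.1⟩ : P) * ⟨z₀, M.hZP T.hz₀.1⟩ = 1 := Subtype.ext T.sq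
    rw [this, map_one]
  exact congrArg Subtype.val h1

theorem SI2.center_cases (T : SI2 S F z₀) {P : Subgroup Ω} (M : Mid S P) {g h : MulAut P}
    (hg : g ∈ F.autGroup P) (hgood : IsGood S g) (hh : h ∈ F.autGroup P) :
    ((h ⟨z₀, M.hZP T.hz₀.1⟩ : P) : Ω) = z₀ ∨
      ((h ⟨z₀, M.hZP T.hz₀.1⟩ : P) : Ω) = ((g ⟨z₀, M.hZP T.hz₀.1⟩ : P) : Ω) ∨
      ((h ⟨z₀, M.hZP T.hz₀.1⟩ : P) : Ω) = ((g ⟨z₀, M.hZP T.hz₀.1⟩ : P) : Ω) * z₀ := by
  obtain ⟨t, hTv, hfix, -, -⟩ := T.exists_tv M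
  have hne := tv_good_ne hfix hgood
  rcases hTv.center_cases hg hh hne with h1 | h1 | h1
  · exact Or.inl (congrArg Subtype.val h1)
  · exact Or.inr (Or.inl (congrArg Subtype.val h1))
  · exact Or.inr (Or.inr (congrArg Subtype.val h1))

theorem SI2.not_inW (T : SI2 S F z₀) {P : Subgroup Ω} (M : Mid S P) {g : MulAut P}
    (hg : g ∈ F.autGroup P) (hgood : IsGood S g) : ¬ InW F P z₀ := by
  intro hW
  exact T.good_center M hg hgood (hW.2 g hg _)

end ctx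

end Cfsg.Agent.Lib.Helper87
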