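import Cfsg.Agent.Lib.Helper87.SmallIndexTwo
import Cfsg.Agent.Lib.Helper87.AutTransport

set_option autoImplicit false
set_option linter.unusedSectionVars false
open Cfsg Cfsg.FusionSystem

namespace Cfsg.Agent.Lib.Helper87

variable {Ω : Type*} [Group Ω] {S : Subgroup Ω}

/-- Pull-back of an automorphism `g ∈ Aut_F(P)` along `β ∈ Aut_F(S)`: an automorphism `g'` of
`P' = β⁻¹(P)` with `g (β x) = β (g' x)`. -/
theorem aut_transport (F : FusionSystem S) {β : MulAut S} (hβ : β ∈ F.autGroup S)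
    {P : Subgroup Ω} (hPS : P ≤ S) {g : MulAut P} (hg : g ∈ F.autGroup P) :
    ∃ (P' : Subgroup Ω) (hP'S : P' ≤ S) (g' : MulAut P'), g' ∈ F.autGroup P' ∧
      (∀ x : S, (x : Ω) ∈ P' ↔ ((β x : S) : Ω) ∈ P) ∧
      ∀ (x : P') (hx : ((β ⟨x, hP'S x.2⟩ : S) : Ω) ∈ P),
        ((g ⟨_, hx⟩ : P) : Ω) = ((β ⟨((g' x : P') : Ω), hP'S (g' x).2⟩ : S) : Ω) := by
  obtain ⟨P', hP'def⟩ : ∃ P' : Subgroup Ω,
      P' = ((P.subgroupOf S).comap β.toMonoidHom).map S.subtype := ⟨_, rfl⟩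
  have hmem : ∀ x : S, (x : Ω) ∈ P' ↔ ((β x : S) : Ω) ∈ P := by
    intro x
    rw [hP'def]
    constructor
    · rintro ⟨x', hx', heq⟩
      have : x' = x := Subtype.ext heq
      rw [← this]
      exact Subgroup.mem_subgroupOf.mp hx'
    · intro h
      exact ⟨x, Subgroup.mem_subgroupOf.mpr h, rfl⟩
  have hP'S : P' ≤ S := by
    rw [hP'def]
    rintro _ ⟨x', -, rfl⟩
    exact x'.2
  obtain ⟨φ, hφdef⟩ : ∃ φ : P' →* Ω,
      φ = (S.subtype.comp β.toMonoidHom).comp (Subgroup.inclusion hP'S) := ⟨_, rfl⟩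
  have hφapp : ∀ x : P', φ x = ((β ⟨x, hP'S x.2⟩ : S) : Ω) := by
    intro x; rw [hφdef]; rfl
  have hφ : φ ∈ F.Hom P' := by
    rw [hφdef]
    exact restrict_mem F ((mem_autGroup_iff F le_rfl β).mp hβ) hP'S
  have eβ : ∀ y : S, β (β⁻¹ y) = y := fun y => by
    show β (β.symm y) = y
    simp
  have hr : φ.range = P := by
    apply le_antisymm
    · rintro _ ⟨x, rfl⟩
      rw [hφapp]
      exact (hmem ⟨x, hP'S x.2⟩).mp x.2
    · intro y hy
      have hyS : y ∈ S := hPS hy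
      have h1 : ((β⁻¹ ⟨y, hyS⟩ : S) : Ω) ∈ P' := by
        rw [hmem, eβ]
        exact hy
      refine ⟨⟨_, h1⟩, ?_⟩
      rw [hφapp]
      have : (⟨((β⁻¹ ⟨y, hyS⟩ : S) : Ω), hP'S h1⟩ : S) = β⁻¹ ⟨y, hyS⟩ := rfl
      rw [this, eβ]
  have hinj : Function.Injective φ := by
    intro a b hab
    rw [hφapp, hφapp] at hab
    have h2 := β.injective (Subtype.ext hab)
    exact Subtype.ext (congrArg (fun s : S => (s : Ω)) h2)
  have he := isoOfHom_apply φ hinj hr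
  obtain ⟨e, hedef⟩ : ∃ e : P' ≃* P, e = isoOfHom φ hinj hr := ⟨_, rfl⟩
  rw [← hedef] at he
  rw [← autGroup_map_congr F hφ hr e he] at hg
  obtain ⟨g', hg', rfl⟩ := hg
  refine ⟨P', hP'S, g', hg', hmem, fun x hx => ?_⟩
  have h1 : e x = ⟨_, hx⟩ := Subtype.ext (by rw [he, hφapp])
  have h2 : e.symm ⟨_, hx⟩ = x := by
    rw [← h1]; simp
  have h3 : (MulAut.congr e).toMonoidHom g' ⟨_, hx⟩ = e (g' (e.symm ⟨_, hx⟩)) := rfl
  rw [h3, h2, he, hφapp]

/-- The largest subgroup of `Z(S)` invariant under `Aut_F(P)` for all `Z(S) ≤ P ≤ S`. -/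
def UU (F : FusionSystem S) : Subgroup Ω where
  carrier := {z | ∀ P : Subgroup Ω, ZZ S ≤ P → P ≤ S → InW F P z}
  one_mem' := fun P _ _ => InW.one F P
  mul_mem' := fun ha hb P h1 h2 => (ha P h1 h2).mul (hb P h1 h2) h1
  inv_mem' := fun ha P h1 h2 => (ha P h1 h2).inv h1

theorem mem_UU {F : FusionSystem S} {z : Ω} :
    z ∈ UU F ↔ ∀ P : Subgroup Ω, ZZ S ≤ P → P ≤ S → InW F P z := Iff.rfl

theorem UU_le (F : FusionSystem S) : UU F ≤ ZZ S := fun _ hz => (hz S inf_le_left le_rfl).1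

theorem UU_autS (F : FusionSystem S) {β : MulAut S} (hβ : β ∈ F.autGroup S) {z : S}
    (hz : (z : Ω) ∈ UU F) : ((β z : S) : Ω) ∈ UU F := by
  intro P hZP hPS
  have hzZ : (z : Ω) ∈ ZZ S := UU_le F hz
  refine ⟨(aut_mem_ZZ_iff β z).mpr hzZ, fun g hg hβz => ?_⟩
  obtain ⟨P', hP'S, g', hg', hmem, hcomm⟩ := aut_transport F hβ hPS hg
  have hZP' : ZZ S ≤ P' := by
    intro z' hz'
    have h1 := (hmem ⟨z', hz'.1⟩).mpr (hZP ((aut_mem_ZZ_iff β ⟨z', hz'.1⟩).mpr hz'))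
    exact h1
  have hzP' : (z : Ω) ∈ P' := (hmem z).mpr hβz
  have h2 := hcomm ⟨z, hzP'⟩ hβz
  have h3 : ((g ⟨((β z : S) : Ω), hβz⟩ : P) : Ω) =
      ((β ⟨((g' ⟨z, hzP'⟩ : P') : Ω), hP'S (g' ⟨z, hzP'⟩).2⟩ : S) : Ω) := h2
  rw [h3, aut_mem_ZZ_iff]
  exact (hz P' hZP' hP'S).2 g' hg' hzP'

section ctx

variable [Finite S] {p : ℕ} [hp : Fact p.Prime] {F : FusionSystem S}

/-- `Aut_F(P)` preserves `U` for every intermediate subgroup `P`. -/
theorem SICtx.UU_autP (C : SICtx S p F) {P : Subgroup Ω} (M : Mid S P) :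
    F.autGroup P ≤ stabSubW P (UU F) := by
  have hfn := C.mid_fn M
  have hPS := M.hPS
  have hZP := M.hZP
  obtain ⟨-, -, hSN, -⟩ := C.mid_ab M
  have hfinP : Finite P := finite_of_le hPS
  apply autGroup_le_of_frattini C.hS F C.hF hfn
  · intro g hg c hc
    apply mem_stabSubW_of_forall
    intro y hy
    have hW : InW F P (y : Ω) := hy P hZP hPS
    have h1 := hW.fixed hZP hg hc
    have h2 : (⟨(y : Ω), hZP hW.1⟩ : P) = y := rfl
    rw [h2] at h1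
    rw [h1]
    exact hy
  · rintro ν hν ⟨ψ, hψ, hψe⟩
    apply mem_stabSubW_of_forall
    intro y hy
    obtain ⟨β, hβ, hβe⟩ := exists_aut_of_hom_of_le F hSN hψ
    have h1 := hβe ⟨y, hPS y.2⟩
    rw [hψe y (hSN (hPS y.2))] at h1
    rw [← h1]
    exact UU_autS F hβ (z := ⟨y, hPS y.2⟩) hy

theorem SICtx.UU_normal (C : SICtx S p F) : F.IsNormal (UU F) := by
  apply isNormal_of_AG_invariant C.hS F C.hF
  · intro R hR
    rcases hR with rfl | hR
    · exact (UU_le F).trans inf_le_left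
    · exact (UU_le F).trans (C.ess hR).1
  · intro R hR α hα y hy
    rcases hR with rfl | hR
    · exact UU_autS F hα hy
    · exact ((C.UU_autP (C.mid_of_ess hR) hα) y).mpr hy

theorem SICtx.UU_eq_bot (C : SICtx S p F) (hcore : F.core = ⊥) : UU F = ⊥ := by
  have hle : UU F ≤ F.core := le_sSup C.UU_normal
  rw [hcore] at hle
  exact le_bot_iff.mp hle

/-- Every essential subgroup has an automorphism not preserving `Z(S)`. -/
theorem SICtx.ess_good (C : SICtx S p F) {P : Subgroup Ω} (hP : F.IsEssential p P) :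
    ∃ g ∈ F.autGroup P, IsGood S g := by
  by_contra hcon
  have hall : ∀ g ∈ F.autGroup P, ∀ z : P, (z : Ω) ∈ ZZ S → ((g z : P) : Ω) ∈ ZZ S := by
    intro g hg
    by_contra h
    exact hcon ⟨g, hg, h⟩
  have M := C.mid_of_ess hP
  have hPS := M.hPS
  have hfinP : Finite P := finite_of_le hPS
  have hfn := C.mid_fn M
  obtain ⟨-, -, hSN, -⟩ := C.mid_ab M
  obtain ⟨-, R, hR⟩ := (fc_fa_of_fullyNormalized C.hS F C.hF hfn).2
  have hTle : autInducedBy S P ≤ F.autGroup P := autInducedBy_le_autGroup F hPS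
  obtain ⟨H, hHle, ⟨α, hα, hαH⟩, hprop⟩ :=
    Cfsg.Agent.Lib.Helper88.exists_proper_aut_subgroup F P C.hS C.hF hP
  obtain ⟨y, hy, hyP⟩ := M.exists_not_mem
  have hyN : y ∈ Subgroup.normalizer (P : Set Ω) := (hSN hy).2
  obtain ⟨t, htdef⟩ : ∃ t, t = conjAut P y hyN := ⟨_, rfl⟩
  have htcoe : ∀ u : P, ((t u : P) : Ω) = y * u * y⁻¹ := by
    intro u; rw [htdef]; rfl
  have htZ : ∀ u : P, (u : Ω) ∈ ZZ S → t u = u := fun u hu =>
    Subtype.ext (by rw [htcoe]; exact mem_ZZ_comm hu hy)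
  have htcomm : ∀ u : P, ((t u : P) : Ω) * (u : Ω)⁻¹ ∈ ZZ₀ S := fun u => by
    rw [htcoe]; exact C.mid_comm hy (hPS u.2)
  have eα : ∀ u : P, α (α⁻¹ u) = u := fun u => by
    show α (α.symm u) = u
    simp
  have eα' : ∀ u : P, α⁻¹ (α u) = u := fun u => by
    show α.symm (α u) = u
    simp
  obtain ⟨X, hXdef⟩ : ∃ X : Subgroup (MulAut P), X = chainStab P (ZZ S) ⊓ F.autGroup P :=
    ⟨_, rfl⟩
  have hXle : X ≤ F.autGroup P := hXdef ▸ inf_le_right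
  have hXp : IsPGroup p X := by
    rw [hXdef]
    exact (chainStab_isPGroup (C.hS.to_le hPS)).to_le inf_le_left
  have hN : ∀ c ∈ autInducedBy S P, ∀ φ ∈ X, c * φ * c⁻¹ ∈ X := by
    intro c hc φ hφ
    rw [hXdef] at hφ ⊢
    refine ⟨conj_mem_chainStab ?_ hφ.1, (F.autGroup P).mul_mem
      ((F.autGroup P).mul_mem (hTle hc) hφ.2) ((F.autGroup P).inv_mem (hTle hc))⟩
    intro u
    have h1 := hall c (hTle hc)
    have h2 := mem_stabSubW_of_forall h1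
    exact h2 u
  have hXT : X ≤ autInducedBy S P := le_of_normalizes_sylow R hR hTle hXle hXp hN
  have ht' : α * t * α⁻¹ ∈ X := by
    rw [hXdef]
    refine ⟨⟨fun u hu => ?_, fun u => ?_⟩, ?_⟩
    · show α (t (α⁻¹ u)) = u
      rw [htZ _ (hall α⁻¹ ((F.autGroup P).inv_mem hα) u hu), eα]
    · show ((α (t (α⁻¹ u)) : P) : Ω) * (u : Ω)⁻¹ ∈ ZZ S
      have e : ((α (t (α⁻¹ u)) : P) : Ω) * (u : Ω)⁻¹ =
          ((α (t (α⁻¹ u) * (α⁻¹ u)⁻¹) : P) : Ω) := by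
        rw [map_mul, map_inv, eα]; rfl
      rw [e]
      exact hall α hα _ (htcomm (α⁻¹ u)).1
    · exact (F.autGroup P).mul_mem ((F.autGroup P).mul_mem hα
        (hTle (htdef ▸ conjAut_mem_autInducedBy hy hyN))) ((F.autGroup P).inv_mem hα)
  obtain ⟨s, hs, hcs⟩ := (mem_autInducedBy_iff S P _).mp (hXT ht')
  apply hαH
  apply hprop α hα y (hSN hy) hyP s hs
  intro x hx
  have h1 := hcs (α x)
  have h2 : (α * t * α⁻¹) (α x) = α (t x) := by
    show α (t (α⁻¹ (α x))) = α (t x)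
    rw [eα']
  rw [h2] at h1
  have h3 : t x = ⟨y * x * y⁻¹, hx⟩ := Subtype.ext (htcoe x)
  rw [h3] at h1
  exact h1

/-- Criterion for the focal subgroup to lie in a subgroup `D`, via Alperin–Goldschmidt. -/
theorem focal_le_of_AG (hS : IsPGroup p S) (F : FusionSystem S) (hF : F.IsSaturated p)
    {D : Subgroup Ω}
    (h : ∀ R : Subgroup Ω, IsAG F p R → ∀ α ∈ F.autGroup R, ∀ u : R,
      (u : Ω)⁻¹ * ((α u : R) : Ω) ∈ D) : F.focalSubgroup ≤ D := by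
  have key : ∀ (P : Subgroup Ω) (φ : P →* Ω), GenBy F (IsAG F p) P φ →
      ∀ x : P, (x : Ω)⁻¹ * φ x ∈ D := by
    intro P φ hgen
    induction hgen with
    | @aut P R hR hRS α hα hPR =>
      intro x
      exact h R hR α hα ⟨x, hPR x.2⟩
    | @comp P Q φ ψ _ _ hm ih1 ih2 =>
      intro x
      have e : (x : Ω)⁻¹ * (ψ.comp (φ.codRestrict Q hm)) x =
          ((x : Ω)⁻¹ * φ x) * ((φ x)⁻¹ * ψ ⟨φ x, hm x⟩) := by
        show (x : Ω)⁻¹ * ψ ⟨φ x, hm x⟩ = _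
        group
      rw [e]
      exact D.mul_mem (ih1 x) (ih2 ⟨φ x, hm x⟩)
  unfold focalSubgroup
  rw [Subgroup.closure_le]
  rintro _ ⟨P, φ, x, hφ, rfl⟩
  exact key P φ (alperin_goldschmidt hS F hF P φ hφ) x

end ctx

end Cfsg.Agent.Lib.Helper87
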