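import Cfsg.Agent.Lib.Helper87.SmallIndexTwoB
import Cfsg.Agent.Lib.Helper87.SmallIndexTwoC

set_option autoImplicit false
set_option linter.unusedSectionVars false
open Cfsg Cfsg.FusionSystem

namespace Cfsg.Agent.Lib.Helper87

variable {Ω : Type*} [Group Ω] {S : Subgroup Ω}

section ctx

variable [Finite S] {F : FusionSystem S} {z₀ : Ω}

theorem SI2.inv_z₀ (T : SI2 S F z₀) : z₀⁻¹ = z₀ := inv_eq_of_mul_eq_one_right T.sq

/-- Two elements of `P` outside `Z(S)` have their product in `Z(S)`. -/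
theorem SI2.mul_mem_center (T : SI2 S F z₀) {P : Subgroup Ω} (M : Mid S P) {u u' : Ω}
    (hu : u ∈ P) (hu' : u' ∈ P) (huZ : u ∉ ZZ S) (hu'Z : u' ∉ ZZ S) : u * u' ∈ ZZ S := by
  obtain ⟨-, hcardP, -, -⟩ := T.C.mid_ab M
  have hn0 : 0 < Nat.card ↥(ZZ S) := card_ZZ_pos
  have hidx : ((ZZ S).subgroupOf P).index = 2 := by
    have h5 := Subgroup.card_mul_index ((ZZ S).subgroupOf P)
    rw [Nat.card_congr (Subgroup.subgroupOfEquivOfLe M.hZP).toEquiv, hcardP] at h5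
    have h6 : Nat.card ↥(ZZ S) * ((ZZ S).subgroupOf P).index = Nat.card ↥(ZZ S) * 2 := by
      rw [h5]; ring
    exact Nat.eq_of_mul_eq_mul_left hn0 h6
  have h2 := Subgroup.mul_mem_iff_of_index_two (H := (ZZ S).subgroupOf P) hidx
    (a := ⟨u, hu⟩) (b := ⟨u', hu'⟩)
  rw [Subgroup.mem_subgroupOf, Subgroup.mem_subgroupOf, Subgroup.mem_subgroupOf] at h2
  exact h2.mpr ⟨fun h => absurd h huZ, fun h => absurd h hu'Z⟩

/-- Two elements of `S` outside `P` have their product in `P`. -/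
theorem SI2.mul_mem_mid (T : SI2 S F z₀) {P : Subgroup Ω} (M : Mid S P) {s s' : Ω}
    (hs : s ∈ S) (hs' : s' ∈ S) (hsP : s ∉ P) (hs'P : s' ∉ P) : s * s' ∈ P := by
  obtain ⟨-, -, -, hPi⟩ := T.C.mid_ab M
  have h2 := Subgroup.mul_mem_iff_of_index_two (H := P.subgroupOf S) hPi
    (a := ⟨s, hs⟩) (b := ⟨s', hs'⟩)
  rw [Subgroup.mem_subgroupOf, Subgroup.mem_subgroupOf, Subgroup.mem_subgroupOf] at h2
  exact h2.mpr ⟨fun h => absurd h hsP, fun h => absurd h hs'P⟩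

/-- The centres `e₁ = g₁ z₀`, `e₂ = g₂ z₀` attached to two distinct good subgroups do not
commute: their commutator is `z₀`. -/
theorem SI2.comm_centers (T : SI2 S F z₀) {P₁ P₂ : Subgroup Ω} (M₁ : Mid S P₁) (M₂ : Mid S P₂)
    (hne : P₁ ≠ P₂) {e₁ e₂ : Ω} (h1P : e₁ ∈ P₁) (h1Z : e₁ ∉ ZZ S) (h2P : e₂ ∈ P₂)
    (_h2Z : e₂ ∉ ZZ S) : e₁ * e₂ * e₁⁻¹ * e₂⁻¹ = z₀ := by
  have i12 := T.C.mid_inf M₁ M₂ hne
  have h2P1 : e₂ ∉ P₁ := fun h => _h2Z (i12.le ⟨h, h2P⟩)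
  rcases T.hZ0 _ (T.C.mid_comm (M₁.hPS h1P) (M₂.hPS h2P)) with h | h
  · exfalso
    apply h1Z
    apply T.C.mid_fix M₁ (M₂.hPS h2P) h2P1 h1P
    have : e₁ * e₂ = e₂ * e₁ := by
      calc e₁ * e₂ = (e₁ * e₂ * e₁⁻¹ * e₂⁻¹) * e₂ * e₁ := by group
        _ = e₂ * e₁ := by rw [h, one_mul]
    calc e₂ * e₁ * e₂⁻¹ = (e₂ * e₁) * e₂⁻¹ := rfl
      _ = (e₁ * e₂) * e₂⁻¹ := by rw [this]
      _ = e₁ := by group
  · exact h

/-- At most two intermediate subgroups carry an automorphism moving `Z(S)`. -/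
theorem SI2.no_three (T : SI2 S F z₀) {P₁ P₂ P₃ : Subgroup Ω} (M₁ : Mid S P₁) (M₂ : Mid S P₂)
    (M₃ : Mid S P₃) (h12 : P₁ ≠ P₂) (h13 : P₁ ≠ P₃) (h23 : P₂ ≠ P₃)
    {g₁ : MulAut P₁} (hg₁ : g₁ ∈ F.autGroup P₁) (hgood₁ : IsGood S g₁)
    {g₂ : MulAut P₂} (hg₂ : g₂ ∈ F.autGroup P₂) (hgood₂ : IsGood S g₂)
    {g₃ : MulAut P₃} (hg₃ : g₃ ∈ F.autGroup P₃) (hgood₃ : IsGood S g₃) : False := by
  obtain ⟨a, hadef⟩ : ∃ a : Ω, a = ((g₁ ⟨z₀, M₁.hZP T.hz₀.1⟩ : P₁) : Ω) := ⟨_, rfl⟩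
  obtain ⟨b, hbdef⟩ : ∃ b : Ω, b = ((g₂ ⟨z₀, M₂.hZP T.hz₀.1⟩ : P₂) : Ω) := ⟨_, rfl⟩
  obtain ⟨c, hcdef⟩ : ∃ c : Ω, c = ((g₃ ⟨z₀, M₃.hZP T.hz₀.1⟩ : P₃) : Ω) := ⟨_, rfl⟩
  have haP : a ∈ P₁ := hadef ▸ (g₁ _).2
  have hbP : b ∈ P₂ := hbdef ▸ (g₂ _).2
  have hcP : c ∈ P₃ := hcdef ▸ (g₃ _).2
  have haZ : a ∉ ZZ S := hadef ▸ T.good_center M₁ hg₁ hgood₁
  have hbZ : b ∉ ZZ S := hbdef ▸ T.good_center M₂ hg₂ hgood₂
  have hcZ : c ∉ ZZ S := hcdef ▸ T.good_center M₃ hg₃ hgood₃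
  have haa : a * a = 1 := hadef ▸ T.center_sq M₁ g₁
  have hbb : b * b = 1 := hbdef ▸ T.center_sq M₂ g₂
  have hcc : c * c = 1 := hcdef ▸ T.center_sq M₃ g₃
  have ha' : a⁻¹ = a := inv_eq_of_mul_eq_one_right haa
  have hb' : b⁻¹ = b := inv_eq_of_mul_eq_one_right hbb
  have i12 := T.C.mid_inf M₁ M₂ h12
  have i13 := T.C.mid_inf M₁ M₃ h13
  have i23 := T.C.mid_inf M₂ M₃ h23
  have hbP1 : b ∉ P₁ := fun h => hbZ (i12.le ⟨h, hbP⟩)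
  have hcP1 : c ∉ P₁ := fun h => hcZ (i13.le ⟨h, hcP⟩)
  have hcb : c * b ∈ P₁ := T.mul_mem_mid M₁ (M₃.hPS hcP) (M₂.hPS hbP) hcP1 hbP1
  have hcbZ : c * b ∉ ZZ S := by
    intro h
    apply hcZ
    have h1 : c ∈ P₂ := by
      have : c = (c * b) * b⁻¹ := by group
      rw [this]
      exact P₂.mul_mem (M₂.hZP h) (P₂.inv_mem hbP)
    exact i23.le ⟨h1, hcP⟩
  have hz : c * b * a ∈ ZZ S := T.mul_mem_center M₁ hcb haP hcbZ haZ
  obtain ⟨z, hzdef⟩ : ∃ z : Ω, z = c * b * a := ⟨_, rfl⟩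
  rw [← hzdef] at hz
  have hzc := ((mem_center_iff' z).mp hz).2
  have hc_eq : c = z * a * b := by
    rw [hzdef]
    calc c = c * b * a * a⁻¹ * b⁻¹ := by group
      _ = c * b * a * a * b := by rw [ha', hb']
  have h1 : z * a * b * (z * a * b) = 1 := by rw [← hc_eq]; exact hcc
  have hab : a * b ∈ S := S.mul_mem (M₁.hPS haP) (M₂.hPS hbP)
  have h2 : z * a * b * (z * a * b) = z * z * (a * b * a⁻¹ * b⁻¹) := by
    rw [ha', hb']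
    have h3 : a * b * z = z * (a * b) := (hzc (a * b) hab).symm
    calc z * a * b * (z * a * b) = z * (a * b * z) * (a * b) := by group
      _ = z * (z * (a * b)) * (a * b) := by rw [h3]
      _ = z * z * (a * b * a * b) := by group
  rw [h2, T.comm_centers M₁ M₂ h12 haP haZ hbP hbZ] at h1
  have hzz : z * z = z₀ := by
    have : z * z = z₀⁻¹ := eq_inv_of_mul_eq_one_left h1
    rw [this, T.inv_z₀]
  have hnW := T.not_inW M₁ hg₁ hgood₁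
  rcases T.complement M₁ hz with h | h
  · apply hnW
    rw [← hzz]
    exact h.mul h M₁.hZP
  · apply hnW
    have h3 := h.mul h M₁.hZP
    have e : z * z₀ * (z * z₀) = z₀ := by
      have h4 : z₀ * z = z * z₀ := T.comm hz.1
      calc z * z₀ * (z * z₀) = z * (z₀ * z) * z₀ := by group
        _ = z * (z * z₀) * z₀ := by rw [h4]
        _ = (z * z) * (z₀ * z₀) := by group
        _ = z₀ := by rw [hzz, T.sq, mul_one]
    rwa [e] at h3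

end ctx

end Cfsg.Agent.Lib.Helper87
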