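import Cfsg.Agent.Lib.Helper87.SmallIndexTwoD

set_option autoImplicit false
set_option linter.unusedSectionVars false
open Cfsg Cfsg.FusionSystem

namespace Cfsg.Agent.Lib.Helper87

variable {Ω : Type*} [Group Ω] {S : Subgroup Ω}

/-- The configuration `Z(S) = {1, z₀, w₁, w₁z₀}` with two good subgroups `P₁`, `P₂`. -/
structure Cfg4 (S : Subgroup Ω) (F : FusionSystem S) (z₀ : Ω) (P₁ P₂ : Subgroup Ω)
    (g₁ : MulAut P₁) (g₂ : MulAut P₂) (w₁ : Ω) : Prop where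
  M₁ : Mid S P₁
  M₂ : Mid S P₂
  hne : P₁ ≠ P₂
  hg₁ : g₁ ∈ F.autGroup P₁
  hg₂ : g₂ ∈ F.autGroup P₂
  hgood₁ : IsGood S g₁
  hgood₂ : IsGood S g₂
  hw₁ : InW F P₁ w₁
  hw₁1 : w₁ ≠ 1
  hw₂ : InW F P₂ (w₁ * z₀)
  hZ : ∀ z ∈ ZZ S, z = 1 ∨ z = z₀ ∨ z = w₁ ∨ z = w₁ * z₀
  hthree : ∀ (P : Subgroup Ω), Mid S P → ∀ g : MulAut P, g ∈ F.autGroup P → IsGood S g →
    P = P₁ ∨ P = P₂

section ctx

variable [Finite S] {F : FusionSystem S} {z₀ : Ω}

/-- A nontrivial element of `Z(S)` is moved out of `Z(S)` by some automorphism of some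
intermediate subgroup, if `U = 1`. -/
theorem SI2.exists_bad (_T : SI2 S F z₀) (hU : UU F = ⊥) {v : Ω} (hv : v ∈ ZZ S) (hv1 : v ≠ 1) :
    ∃ (P : Subgroup Ω) (_ : Mid S P) (g : MulAut P), g ∈ F.autGroup P ∧ IsGood S g ∧
      ¬ InW F P v := by
  have h1 : v ∉ UU F := by
    rw [hU, Subgroup.mem_bot]
    exact hv1
  rw [mem_UU] at h1
  push Not at h1
  obtain ⟨P, hZP, hPS, hnW⟩ := h1
  have h2 : ∃ g ∈ F.autGroup P, ((g ⟨v, hZP hv⟩ : P) : Ω) ∉ ZZ S := by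
    by_contra hcon
    push Not at hcon
    exact hnW ⟨hv, fun g hg _ => hcon g hg⟩
  obtain ⟨g, hg, hgv⟩ := h2
  have hgood : IsGood S g := fun h => hgv (h ⟨v, hZP hv⟩ hv)
  refine ⟨P, ⟨hZP, hPS, ?_, ?_⟩, g, hg, hgood, hnW⟩
  · intro h
    exact hgv (h.le (g ⟨v, hZP hv⟩).2)
  · intro h
    subst h
    exact hgv ((aut_mem_ZZ_iff g ⟨v, hZP hv⟩).mpr hv)

/-- If `U = 1` then either `Z(S) = {1, z₀}` or we are in the configuration `Cfg4`. -/
theorem SI2.dichotomy (T : SI2 S F z₀) (hU : UU F = ⊥) {P₁ : Subgroup Ω} (M₁ : Mid S P₁)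
    {g₁ : MulAut P₁} (hg₁ : g₁ ∈ F.autGroup P₁) (hgood₁ : IsGood S g₁) :
    (∀ z ∈ ZZ S, z = 1 ∨ z = z₀) ∨
      ∃ (P₂ : Subgroup Ω) (g₂ : MulAut P₂) (w₁ : Ω), Cfg4 S F z₀ P₁ P₂ g₁ g₂ w₁ := by
  by_cases hW : ∀ w, InW F P₁ w → w = 1
  · left
    intro z hz
    rcases T.complement M₁ hz with h | h
    · exact Or.inl (hW z h)
    · right
      have h1 : z = z₀⁻¹ := eq_inv_of_mul_eq_one_left (hW _ h)
      rw [h1, T.inv_z₀]
  · right
    push Not at hW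
    obtain ⟨w₁, hw₁, hw₁1⟩ := hW
    obtain ⟨P₂, M₂, g₂, hg₂, hgood₂, hnW⟩ := T.exists_bad hU hw₁.1 hw₁1
    have hne : P₁ ≠ P₂ := by
      intro h
      subst h
      exact hnW hw₁
    have hw₂ : InW F P₂ (w₁ * z₀) := (T.complement M₂ hw₁.1).resolve_left hnW
    have hthree : ∀ (P : Subgroup Ω), Mid S P → ∀ g : MulAut P, g ∈ F.autGroup P →
        IsGood S g → P = P₁ ∨ P = P₂ := by
      intro P M g hg hgood
      by_contra hcon
      rw [not_or] at hcon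
      exact T.no_three M₁ M₂ M hne (Ne.symm hcon.1) (Ne.symm hcon.2) hg₁ hgood₁ hg₂ hgood₂
        hg hgood
    have inter : ∀ v, InW F P₁ v → InW F P₂ v → v = 1 := by
      intro v hv₁ hv₂
      by_contra hv1
      obtain ⟨P₃, M₃, g₃, hg₃, hgood₃, hnW₃⟩ := T.exists_bad hU hv₁.1 hv1
      rcases hthree P₃ M₃ g₃ hg₃ hgood₃ with rfl | rfl
      · exact hnW₃ hv₁
      · exact hnW₃ hv₂
    have key : ∀ z', InW F P₁ z' → z' = 1 ∨ z' = w₁ := by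
      intro z' hz'
      rcases T.complement M₂ hz'.1 with h | h
      · exact Or.inl (inter z' hz' h)
      · right
        have h1 : InW F P₂ (z' * z₀ * (w₁ * z₀)⁻¹) := h.mul (hw₂.inv M₂.hZP) M₂.hZP
        have e : z' * z₀ * (w₁ * z₀)⁻¹ = z' * w₁⁻¹ := by group
        rw [e] at h1
        have h2 : InW F P₁ (z' * w₁⁻¹) := hz'.mul (hw₁.inv M₁.hZP) M₁.hZP
        exact mul_inv_eq_one.mp (inter _ h2 h1)
    refine ⟨P₂, g₂, w₁, M₁, M₂, hne, hg₁, hg₂, hgood₁, hgood₂, hw₁, hw₁1, hw₂, ?_, hthree⟩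
    intro z hz
    rcases T.complement M₁ hz with h | h
    · rcases key z h with h1 | h1
      · exact Or.inl h1
      · exact Or.inr (Or.inr (Or.inl h1))
    · rcases key _ h with h1 | h1
      · right; left
        have h2 : z = z₀⁻¹ := eq_inv_of_mul_eq_one_left h1
        rw [h2, T.inv_z₀]
      · right; right; right
        have h2 : z = w₁ * z₀⁻¹ := eq_mul_inv_of_mul_eq h1
        rw [h2, T.inv_z₀]

end ctx

end Cfsg.Agent.Lib.Helper87
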