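import Cfsg.Agent.Lib.Helper87.SmallIndexTwoE
import Cfsg.Agent.Lib.Helper61.DihedralLift

set_option autoImplicit false
set_option linter.unusedSectionVars false
open Cfsg Cfsg.FusionSystem

namespace Cfsg.Agent.Lib.Helper87

variable {Ω : Type*} [Group Ω] {S : Subgroup Ω}

section ctx

variable [Finite S] {F : FusionSystem S} {z₀ : Ω}

/-- All centres `h z₀` of good subgroups lie in any subgroup containing `z₀`, `e₁`, `e₂`. -/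
theorem Cfg4.centers_mem {P₁ P₂ : Subgroup Ω} {g₁ : MulAut P₁} {g₂ : MulAut P₂} {w₁ : Ω}
    (K : Cfg4 S F z₀ P₁ P₂ g₁ g₂ w₁) (T : SI2 S F z₀) {D : Subgroup Ω} (hz₀D : z₀ ∈ D)
    (h1D : ((g₁ ⟨z₀, K.M₁.hZP T.hz₀.1⟩ : P₁) : Ω) ∈ D)
    (h2D : ((g₂ ⟨z₀, K.M₂.hZP T.hz₀.1⟩ : P₂) : Ω) ∈ D)
    {P : Subgroup Ω} (M : Mid S P) {g : MulAut P} (hg : g ∈ F.autGroup P) (hgood : IsGood S g)
    {h : MulAut P} (hh : h ∈ F.autGroup P) : ((h ⟨z₀, M.hZP T.hz₀.1⟩ : P) : Ω) ∈ D := by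
  rcases K.hthree P M g hg hgood with rfl | rfl
  · rcases T.center_cases M K.hg₁ K.hgood₁ hh with h1 | h1 | h1
    · rw [h1]; exact hz₀D
    · rw [h1]; exact h1D
    · rw [h1]; exact D.mul_mem h1D hz₀D
  · rcases T.center_cases M K.hg₂ K.hgood₂ hh with h1 | h1 | h1
    · rw [h1]; exact hz₀D
    · rw [h1]; exact h2D
    · rw [h1]; exact D.mul_mem h2D hz₀D

/-- For a good subgroup `P` and `α ∈ Aut_F(P)`: `z⁻¹ α(z) ∈ D` for `z ∈ Z(S)`. -/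
theorem Cfg4.zquot {P₁ P₂ : Subgroup Ω} {g₁ : MulAut P₁} {g₂ : MulAut P₂} {w₁ : Ω}
    (K : Cfg4 S F z₀ P₁ P₂ g₁ g₂ w₁) (T : SI2 S F z₀) {D : Subgroup Ω} (hz₀D : z₀ ∈ D)
    (h1D : ((g₁ ⟨z₀, K.M₁.hZP T.hz₀.1⟩ : P₁) : Ω) ∈ D)
    (h2D : ((g₂ ⟨z₀, K.M₂.hZP T.hz₀.1⟩ : P₂) : Ω) ∈ D)
    {P : Subgroup Ω} (M : Mid S P) {g : MulAut P} (hg : g ∈ F.autGroup P) (hgood : IsGood S g)
    {α : MulAut P} (hα : α ∈ F.autGroup P) {z : Ω} (hz : z ∈ ZZ S) :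
    z⁻¹ * ((α ⟨z, M.hZP hz⟩ : P) : Ω) ∈ D := by
  have hnW := T.not_inW M hg hgood
  obtain ⟨w, hw, hw1, hZ'⟩ : ∃ w, InW F P w ∧ w ≠ 1 ∧
      ∀ z ∈ ZZ S, z = 1 ∨ z = z₀ ∨ z = w ∨ z = w * z₀ := by
    rcases T.complement M K.hw₁.1 with h | h
    · exact ⟨w₁, h, K.hw₁1, K.hZ⟩
    · refine ⟨w₁ * z₀, h, ?_, ?_⟩
      · intro h1
        have h2 : w₁ = z₀⁻¹ := eq_inv_of_mul_eq_one_left h1
        rw [T.inv_z₀] at h2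
        exact T.not_inW K.M₁ K.hg₁ K.hgood₁ (h2 ▸ K.hw₁)
      · intro z hz
        rcases K.hZ z hz with h1 | h1 | h1 | h1
        · exact Or.inl h1
        · exact Or.inr (Or.inl h1)
        · right; right; right
          rw [h1, mul_assoc, T.sq, mul_one]
        · right; right; left
          exact h1
  have hwP : w ∈ P := M.hZP hw.1
  have hαw : ((α ⟨w, hwP⟩ : P) : Ω) = w := by
    have h1 : InW F P ((α ⟨w, hwP⟩ : P) : Ω) := hw.apply M.hZP hα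
    rcases hZ' _ h1.1 with h2 | h2 | h2 | h2
    · exfalso
      apply hw1
      have h3 : α ⟨w, hwP⟩ = 1 := Subtype.ext h2
      have h4 : (⟨w, hwP⟩ : P) = 1 := by
        have := congrArg (⇑α⁻¹) h3
        rwa [TvCtx.inv_apply_self, map_one] at this
      exact congrArg Subtype.val h4
    · exfalso
      exact hnW (h2 ▸ h1)
    · exact h2
    · exfalso
      apply hnW
      have h3 : InW F P (w⁻¹ * (w * z₀)) := (hw.inv M.hZP).mul (h2 ▸ h1) M.hZP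
      rwa [inv_mul_cancel_left] at h3
  have hαz₀ : ((α ⟨z₀, M.hZP T.hz₀.1⟩ : P) : Ω) ∈ D :=
    K.centers_mem T hz₀D h1D h2D M hg hgood hα
  rcases hZ' z hz with h1 | h1 | h1 | h1
  · subst h1
    have e : (⟨1, M.hZP hz⟩ : P) = 1 := rfl
    rw [e, map_one]
    simp
  · subst h1
    exact D.mul_mem (D.inv_mem hz₀D) hαz₀
  · subst h1
    rw [hαw, inv_mul_cancel]
    exact D.one_mem
  · subst h1
    have e : (⟨w * z₀, M.hZP hz⟩ : P) = ⟨w, hwP⟩ * ⟨z₀, M.hZP T.hz₀.1⟩ := rfl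
    rw [e, map_mul]
    have e2 : (((α ⟨w, hwP⟩ * α ⟨z₀, M.hZP T.hz₀.1⟩ : P)) : Ω) =
        w * ((α ⟨z₀, M.hZP T.hz₀.1⟩ : P) : Ω) := by
      show ((α ⟨w, hwP⟩ : P) : Ω) * ((α ⟨z₀, M.hZP T.hz₀.1⟩ : P) : Ω) = _
      rw [hαw]
    rw [e2]
    have e3 : (w * z₀)⁻¹ * (w * ((α ⟨z₀, M.hZP T.hz₀.1⟩ : P) : Ω)) =
        z₀⁻¹ * ((α ⟨z₀, M.hZP T.hz₀.1⟩ : P) : Ω) := by group
    rw [e3]
    exact D.mul_mem (D.inv_mem hz₀D) hαz₀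

/-- For a good subgroup `P` and `α ∈ Aut_F(P)`: `u⁻¹ α(u) ∈ D` for all `u ∈ P`. -/
theorem Cfg4.quot {P₁ P₂ : Subgroup Ω} {g₁ : MulAut P₁} {g₂ : MulAut P₂} {w₁ : Ω}
    (K : Cfg4 S F z₀ P₁ P₂ g₁ g₂ w₁) (T : SI2 S F z₀) {D : Subgroup Ω} (hz₀D : z₀ ∈ D)
    (h1D : ((g₁ ⟨z₀, K.M₁.hZP T.hz₀.1⟩ : P₁) : Ω) ∈ D)
    (h2D : ((g₂ ⟨z₀, K.M₂.hZP T.hz₀.1⟩ : P₂) : Ω) ∈ D)
    {P : Subgroup Ω} (M : Mid S P) {g : MulAut P} (hg : g ∈ F.autGroup P) (hgood : IsGood S g)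
    {α : MulAut P} (hα : α ∈ F.autGroup P) (u : P) :
    (u : Ω)⁻¹ * ((α u : P) : Ω) ∈ D := by
  obtain ⟨e, hedef⟩ : ∃ e : P, e = g ⟨z₀, M.hZP T.hz₀.1⟩ := ⟨_, rfl⟩
  have heZ : (e : Ω) ∉ ZZ S := hedef ▸ T.good_center M hg hgood
  have heD : (e : Ω) ∈ D := hedef ▸ K.centers_mem T hz₀D h1D h2D M hg hgood hg
  have hαe : ((α e : P) : Ω) ∈ D := by
    have h1 : α e = (α * g) ⟨z₀, M.hZP T.hz₀.1⟩ := by rw [hedef]; rfl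
    rw [h1]
    exact K.centers_mem T hz₀D h1D h2D M hg hgood ((F.autGroup P).mul_mem hα hg)
  by_cases huZ : (u : Ω) ∈ ZZ S
  · exact K.zquot T hz₀D h1D h2D M hg hgood hα huZ
  · have hz : (u : Ω) * (e : Ω) ∈ ZZ S := T.mul_mem_center M u.2 e.2 huZ heZ
    have hu : u = ⟨(u : Ω) * (e : Ω), M.hZP hz⟩ * e⁻¹ := by
      apply Subtype.ext
      show (u : Ω) = (u : Ω) * (e : Ω) * (e : Ω)⁻¹
      group
    have h1 : α u = α ⟨(u : Ω) * (e : Ω), M.hZP hz⟩ * (α e)⁻¹ := by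
      conv_lhs => rw [hu]
      rw [map_mul, map_inv]
    have h2 := K.zquot T hz₀D h1D h2D M hg hgood hα hz
    have e3 : (u : Ω)⁻¹ * ((α u : P) : Ω) =
        (e : Ω) * (((u : Ω) * (e : Ω))⁻¹ * ((α ⟨(u : Ω) * (e : Ω), M.hZP hz⟩ : P) : Ω)) *
          ((α e : P) : Ω)⁻¹ := by
      rw [h1]
      show (u : Ω)⁻¹ * (((α ⟨(u : Ω) * (e : Ω), M.hZP hz⟩ : P) : Ω) * ((α e : P) : Ω)⁻¹) = _
      group
    rw [e3]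
    exact D.mul_mem (D.mul_mem heD h2) (D.inv_mem hαe)

/-- `β ∈ Aut_F(S)` maps the centre `g z₀` of a good subgroup into `D`. -/
theorem Cfg4.autS_center {P₁ P₂ : Subgroup Ω} {g₁ : MulAut P₁} {g₂ : MulAut P₂} {w₁ : Ω}
    (K : Cfg4 S F z₀ P₁ P₂ g₁ g₂ w₁) (T : SI2 S F z₀) {D : Subgroup Ω} (hz₀D : z₀ ∈ D)
    (h1D : ((g₁ ⟨z₀, K.M₁.hZP T.hz₀.1⟩ : P₁) : Ω) ∈ D)
    (h2D : ((g₂ ⟨z₀, K.M₂.hZP T.hz₀.1⟩ : P₂) : Ω) ∈ D)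
    {P : Subgroup Ω} (M : Mid S P) {g : MulAut P} (hg : g ∈ F.autGroup P) (hgood : IsGood S g)
    {β : MulAut S} (hβ : β ∈ F.autGroup S) :
    ((β ⟨((g ⟨z₀, M.hZP T.hz₀.1⟩ : P) : Ω), M.hPS (g _).2⟩ : S) : Ω) ∈ D := by
  have eβ : ∀ y : S, β (β⁻¹ y) = y := fun y => by
    show β (β.symm y) = y
    simp
  have eβ' : ∀ y : S, β⁻¹ (β y) = y := fun y => by
    show β.symm (β y) = y
    simp
  obtain ⟨P', hP'S, g', hg', hmem, hcomm⟩ :=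
    aut_transport F ((F.autGroup S).inv_mem hβ) M.hPS hg
  have hβz₀ : β⁻¹ ⟨z₀, T.hz₀.1.1⟩ = ⟨z₀, T.hz₀.1.1⟩ := by
    have h1 : ((β⁻¹ ⟨z₀, T.hz₀.1.1⟩ : S) : Ω) ∈ ZZ₀ S :=
      (aut_mem_ZZ₀_iff β⁻¹ ⟨z₀, T.hz₀.1.1⟩).mpr T.hz₀
    rcases T.hZ0 _ h1 with h2 | h2
    · exfalso
      apply T.hz₀1
      have h3 : β⁻¹ ⟨z₀, T.hz₀.1.1⟩ = 1 := Subtype.ext h2
      have h4 := congrArg (⇑β) h3
      rw [eβ, map_one] at h4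
      exact congrArg Subtype.val h4
    · exact Subtype.ext h2
  have hZP' : ZZ S ≤ P' := by
    intro z hz
    exact (hmem ⟨z, hz.1⟩).mpr (M.hZP ((aut_mem_ZZ_iff β⁻¹ ⟨z, hz.1⟩).mpr hz))
  have hz₀P' : z₀ ∈ P' := hZP' T.hz₀.1
  -- the transported automorphism is good
  have hgood' : IsGood S g' := by
    intro hcon
    apply hgood
    intro z hz
    have hzS : (z : Ω) ∈ S := M.hPS z.2
    have h1 : ((β ⟨z, hzS⟩ : S) : Ω) ∈ P' := by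
      rw [hmem, eβ']
      exact z.2
    have h2 := hcomm ⟨_, h1⟩ (by rw [eβ']; exact z.2)
    have h3 := hcon ⟨_, h1⟩ ((aut_mem_ZZ_iff β ⟨z, hzS⟩).mpr hz)
    have h4 : (g z : Ω) = ((β⁻¹ ⟨((g' ⟨_, h1⟩ : P') : Ω), hP'S (g' ⟨_, h1⟩).2⟩ : S) : Ω) := by
      rw [← h2]
      congr 2
      apply Subtype.ext
      show (z : Ω) = ((β⁻¹ (β ⟨z, hzS⟩) : S) : Ω)
      rw [eβ']
    rw [h4, aut_mem_ZZ_iff]
    exact h3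
  -- `P'` is an intermediate subgroup
  have M' : Mid S P' := by
    refine ⟨hZP', hP'S, ?_, ?_⟩
    · intro h
      obtain ⟨x, hxP, hxZ⟩ := M.exists_mem_not_center
      have hxS : x ∈ S := M.hPS hxP
      have h1 : ((β ⟨x, hxS⟩ : S) : Ω) ∈ P' := by
        rw [hmem, eβ']
        exact hxP
      have h2 : ((β ⟨x, hxS⟩ : S) : Ω) ∈ ZZ S := h.le h1
      exact hxZ ((aut_mem_ZZ_iff β ⟨x, hxS⟩).mp h2)
    · intro h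
      obtain ⟨y, hy, hyP⟩ := M.exists_not_mem
      have h1 : ((β ⟨y, hy⟩ : S) : Ω) ∈ P' := h.ge (β ⟨y, hy⟩).2
      rw [hmem, eβ'] at h1
      exact hyP h1
  have h5 := hcomm ⟨z₀, hz₀P'⟩ (by
    have : (⟨((⟨z₀, hz₀P'⟩ : P') : Ω), hP'S hz₀P'⟩ : S) = ⟨z₀, T.hz₀.1.1⟩ := rfl
    rw [this, hβz₀]
    exact M.hZP T.hz₀.1)
  have h6 : ((g ⟨z₀, M.hZP T.hz₀.1⟩ : P) : Ω) =
      ((β⁻¹ ⟨((g' ⟨z₀, hz₀P'⟩ : P') : Ω), hP'S (g' ⟨z₀, hz₀P'⟩).2⟩ : S) : Ω) := by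
    rw [← h5]
    congr 2
    apply Subtype.ext
    show z₀ = ((β⁻¹ ⟨z₀, T.hz₀.1.1⟩ : S) : Ω)
    rw [hβz₀]
  have h7 : (⟨((g ⟨z₀, M.hZP T.hz₀.1⟩ : P) : Ω), M.hPS (g _).2⟩ : S) =
      β⁻¹ ⟨((g' ⟨z₀, hz₀P'⟩ : P') : Ω), hP'S (g' ⟨z₀, hz₀P'⟩).2⟩ := Subtype.ext h6
  rw [h7, eβ]
  exact K.centers_mem T hz₀D h1D h2D M' hg' hgood' hg'

end ctx

end Cfsg.Agent.Lib.Helper87
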