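import Cfsg.Agent.Lib.Helper87.SmallIndexTwoF

set_option autoImplicit false
set_option linter.unusedSectionVars false
open Cfsg Cfsg.FusionSystem

namespace Cfsg.Agent.Lib.Helper87

variable {Ω : Type*} [Group Ω] {S : Subgroup Ω}

section ctx

variable [Finite S] {F : FusionSystem S} {z₀ : Ω}

set_option maxHeartbeats 1000000 in
/-- The configuration `Cfg4` is incompatible with `foc(F) = S`. -/
theorem Cfg4.false_of_focal {P₁ P₂ : Subgroup Ω} {g₁ : MulAut P₁} {g₂ : MulAut P₂} {w₁ : Ω}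
    (K : Cfg4 S F z₀ P₁ P₂ g₁ g₂ w₁) (T : SI2 S F z₀) (hfoc : F.focalSubgroup = S) : False := by
  obtain ⟨e₁, he₁def⟩ : ∃ e₁ : Ω, e₁ = ((g₁ ⟨z₀, K.M₁.hZP T.hz₀.1⟩ : P₁) : Ω) := ⟨_, rfl⟩
  obtain ⟨e₂, he₂def⟩ : ∃ e₂ : Ω, e₂ = ((g₂ ⟨z₀, K.M₂.hZP T.hz₀.1⟩ : P₂) : Ω) := ⟨_, rfl⟩
  have h1P : e₁ ∈ P₁ := he₁def ▸ (g₁ _).2
  have h2P : e₂ ∈ P₂ := he₂def ▸ (g₂ _).2
  have h1Z : e₁ ∉ ZZ S := he₁def ▸ T.good_center K.M₁ K.hg₁ K.hgood₁
  have h2Z : e₂ ∉ ZZ S := he₂def ▸ T.good_center K.M₂ K.hg₂ K.hgood₂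
  have h11 : e₁ * e₁ = 1 := he₁def ▸ T.center_sq K.M₁ g₁
  have h22 : e₂ * e₂ = 1 := he₂def ▸ T.center_sq K.M₂ g₂
  have h1' : e₁⁻¹ = e₁ := inv_eq_of_mul_eq_one_right h11
  have h2' : e₂⁻¹ = e₂ := inv_eq_of_mul_eq_one_right h22
  have hcomm : e₁ * e₂ * e₁⁻¹ * e₂⁻¹ = z₀ :=
    T.comm_centers K.M₁ K.M₂ K.hne h1P h1Z h2P h2Z
  have i12 := T.C.mid_inf K.M₁ K.M₂ K.hne
  have h2P1 : e₂ ∉ P₁ := fun h => h2Z (i12.le ⟨h, h2P⟩)
  obtain ⟨D, hDdef⟩ : ∃ D : Subgroup Ω, D = Subgroup.closure {e₁, e₂} := ⟨_, rfl⟩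
  have h1D : e₁ ∈ D := hDdef ▸ Subgroup.subset_closure (Set.mem_insert _ _)
  have h2D : e₂ ∈ D := hDdef ▸ Subgroup.subset_closure (Set.mem_insert_of_mem _ rfl)
  have hz₀D : z₀ ∈ D := by
    rw [← hcomm]
    exact D.mul_mem (D.mul_mem (D.mul_mem h1D h2D) (D.inv_mem h1D)) (D.inv_mem h2D)
  have hDS : D ≤ S := by
    rw [hDdef, Subgroup.closure_le]
    rintro x (rfl | rfl)
    · exact K.M₁.hPS h1P
    · exact K.M₂.hPS h2P
  have h1D' : ((g₁ ⟨z₀, K.M₁.hZP T.hz₀.1⟩ : P₁) : Ω) ∈ D := he₁def ▸ h1D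
  have h2D' : ((g₂ ⟨z₀, K.M₂.hZP T.hz₀.1⟩ : P₂) : Ω) ∈ D := he₂def ▸ h2D
  have hw₁z₀ : w₁ ≠ z₀ := by
    intro h
    exact T.not_inW K.M₁ K.hg₁ K.hgood₁ (h ▸ K.hw₁)
  -- the focal subgroup lies in `D`
  have hfocD : F.focalSubgroup ≤ D := by
    apply focal_le_of_AG T.C.hS F T.C.hF
    intro R hR β hβ u
    rcases hR with rfl | hR
    · have eβ' : ∀ y : R, β⁻¹ (β y) = y := fun y => by
        show β.symm (β y) = y
        simp
      have hβ1 : ((β ⟨e₁, K.M₁.hPS h1P⟩ : R) : Ω) ∈ D := by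
        have := K.autS_center T hz₀D h1D' h2D' K.M₁ K.hg₁ K.hgood₁ hβ
        have e : (⟨((g₁ ⟨z₀, K.M₁.hZP T.hz₀.1⟩ : P₁) : Ω), K.M₁.hPS (g₁ _).2⟩ : R) =
            ⟨e₁, K.M₁.hPS h1P⟩ := Subtype.ext he₁def.symm
        rwa [e] at this
      have hβ2 : ((β ⟨e₂, K.M₂.hPS h2P⟩ : R) : Ω) ∈ D := by
        have := K.autS_center T hz₀D h1D' h2D' K.M₂ K.hg₂ K.hgood₂ hβ
        have e : (⟨((g₂ ⟨z₀, K.M₂.hZP T.hz₀.1⟩ : P₂) : Ω), K.M₂.hPS (g₂ _).2⟩ : R) =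
            ⟨e₂, K.M₂.hPS h2P⟩ := Subtype.ext he₂def.symm
        rwa [e] at this
      have hβD : ∀ d ∈ D, ∃ hdS : d ∈ R, ((β ⟨d, hdS⟩ : R) : Ω) ∈ D := by
        intro d hd
        rw [hDdef] at hd
        refine Subgroup.closure_induction
          (p := fun d _ => ∃ hdS : d ∈ R, ((β ⟨d, hdS⟩ : R) : Ω) ∈ D) ?_ ?_ ?_ ?_ hd
        · rintro x (rfl | rfl)
          · exact ⟨_, hβ1⟩
          · exact ⟨_, hβ2⟩
        · refine ⟨R.one_mem, ?_⟩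
          have : (⟨1, R.one_mem⟩ : R) = 1 := rfl
          rw [this, map_one]
          exact D.one_mem
        · rintro a b _ _ ⟨haS, ha⟩ ⟨hbS, hb⟩
          refine ⟨R.mul_mem haS hbS, ?_⟩
          have : (⟨a * b, R.mul_mem haS hbS⟩ : R) = ⟨a, haS⟩ * ⟨b, hbS⟩ := rfl
          rw [this, map_mul]
          exact D.mul_mem ha hb
        · rintro a _ ⟨haS, ha⟩
          refine ⟨R.inv_mem haS, ?_⟩
          have : (⟨a⁻¹, R.inv_mem haS⟩ : R) = (⟨a, haS⟩ : R)⁻¹ := rfl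
          rw [this, map_inv]
          exact D.inv_mem ha
      have hβz₀ : ((β ⟨z₀, T.hz₀.1.1⟩ : R) : Ω) = z₀ := by
        have h1 : ((β ⟨z₀, T.hz₀.1.1⟩ : R) : Ω) ∈ ZZ₀ R :=
          (aut_mem_ZZ₀_iff β ⟨z₀, T.hz₀.1.1⟩).mpr T.hz₀
        rcases T.hZ0 _ h1 with h2 | h2
        · exfalso
          apply T.hz₀1
          have h3 : β ⟨z₀, T.hz₀.1.1⟩ = 1 := Subtype.ext h2
          have h4 := congrArg (⇑β⁻¹) h3
          rw [eβ', map_one] at h4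
          exact congrArg Subtype.val h4
        · exact h2
      have hβw : ((β ⟨w₁, K.hw₁.1.1⟩ : R) : Ω) = w₁ ∨
          ((β ⟨w₁, K.hw₁.1.1⟩ : R) : Ω) = w₁ * z₀ := by
        have h1 : ((β ⟨w₁, K.hw₁.1.1⟩ : R) : Ω) ∈ ZZ R :=
          (aut_mem_ZZ_iff β ⟨w₁, K.hw₁.1.1⟩).mpr K.hw₁.1
        rcases K.hZ _ h1 with h2 | h2 | h2 | h2
        · exfalso
          apply K.hw₁1
          have h3 : β ⟨w₁, K.hw₁.1.1⟩ = 1 := Subtype.ext h2
          have h4 := congrArg (⇑β⁻¹) h3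
          rw [eβ', map_one] at h4
          exact congrArg Subtype.val h4
        · exfalso
          apply hw₁z₀
          have h3 : β ⟨w₁, K.hw₁.1.1⟩ = β ⟨z₀, T.hz₀.1.1⟩ := Subtype.ext (h2.trans hβz₀.symm)
          exact congrArg Subtype.val (β.injective h3)
        · exact Or.inl h2
        · exact Or.inr h2
      have hβw' : w₁⁻¹ * ((β ⟨w₁, K.hw₁.1.1⟩ : R) : Ω) ∈ D := by
        rcases hβw with h | h
        · rw [h, inv_mul_cancel]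
          exact D.one_mem
        · rw [h, inv_mul_cancel_left]
          exact hz₀D
      have hβZ : ∀ (z : Ω) (hz : z ∈ ZZ R), z⁻¹ * ((β ⟨z, hz.1⟩ : R) : Ω) ∈ D := by
        intro z hz
        rcases K.hZ z hz with h1 | h1 | h1 | h1
        · subst h1
          have e : (⟨1, hz.1⟩ : R) = 1 := rfl
          rw [e, map_one]
          simp
        · subst h1
          rw [hβz₀, inv_mul_cancel]
          exact D.one_mem
        · subst h1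
          exact hβw'
        · subst h1
          have e : (⟨w₁ * z₀, hz.1⟩ : R) = ⟨w₁, K.hw₁.1.1⟩ * ⟨z₀, T.hz₀.1.1⟩ := rfl
          rw [e, map_mul]
          have e2 : (((β ⟨w₁, K.hw₁.1.1⟩ * β ⟨z₀, T.hz₀.1.1⟩ : R)) : Ω) =
              ((β ⟨w₁, K.hw₁.1.1⟩ : R) : Ω) * z₀ := by
            show ((β ⟨w₁, K.hw₁.1.1⟩ : R) : Ω) * ((β ⟨z₀, T.hz₀.1.1⟩ : R) : Ω) = _
            rw [hβz₀]
          rw [e2]
          have e3 : (w₁ * z₀)⁻¹ * (((β ⟨w₁, K.hw₁.1.1⟩ : R) : Ω) * z₀) =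
              z₀⁻¹ * (w₁⁻¹ * ((β ⟨w₁, K.hw₁.1.1⟩ : R) : Ω)) * z₀ := by group
          rw [e3]
          exact D.mul_mem (D.mul_mem (D.inv_mem hz₀D) hβw') hz₀D
      have hdec1 : ∀ v ∈ P₁, ∃ z ∈ ZZ R, ∃ d ∈ D, v = z * d := by
        intro v hv
        by_cases hvZ : v ∈ ZZ R
        · exact ⟨v, hvZ, 1, D.one_mem, (mul_one v).symm⟩
        · refine ⟨v * e₁, T.mul_mem_center K.M₁ hv h1P hvZ h1Z, e₁⁻¹, D.inv_mem h1D, ?_⟩
          group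
      have hdec : ∀ v ∈ R, ∃ z ∈ ZZ R, ∃ d ∈ D, v = z * d := by
        intro v hv
        by_cases hvP : v ∈ P₁
        · exact hdec1 v hvP
        · have h1 := T.mul_mem_mid K.M₁ hv (K.M₂.hPS h2P) hvP h2P1
          obtain ⟨z, hz, d, hd, hvzd⟩ := hdec1 _ h1
          refine ⟨z, hz, d * e₂⁻¹, D.mul_mem hd (D.inv_mem h2D), ?_⟩
          calc v = (v * e₂) * e₂⁻¹ := by group
            _ = z * d * e₂⁻¹ := by rw [hvzd]
            _ = z * (d * e₂⁻¹) := by group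
      obtain ⟨z, hz, d, hd, huzd⟩ := hdec u u.2
      obtain ⟨hdS, hβd⟩ := hβD d hd
      have hu : u = ⟨z, hz.1⟩ * ⟨d, hdS⟩ := Subtype.ext huzd
      have e4 : (u : Ω)⁻¹ * ((β u : R) : Ω) =
          d⁻¹ * (z⁻¹ * ((β ⟨z, hz.1⟩ : R) : Ω)) * ((β ⟨d, hdS⟩ : R) : Ω) := by
        have h1 : β u = β ⟨z, hz.1⟩ * β ⟨d, hdS⟩ := by
          conv_lhs => rw [hu]
          rw [map_mul]
        rw [h1, huzd]
        show (z * d)⁻¹ * (((β ⟨z, hz.1⟩ : R) : Ω) * ((β ⟨d, hdS⟩ : R) : Ω)) = _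
        group
      rw [e4]
      exact D.mul_mem (D.mul_mem (D.inv_mem hd) (hβZ z hz)) hβd
    · obtain ⟨g, hg, hgood⟩ := T.C.ess_good hR
      exact K.quot T hz₀D h1D' h2D' (T.C.mid_of_ess hR) hg hgood hβ u
  -- cardinalities
  have hSD : S ≤ D := hfoc ▸ hfocD
  have hsx : e₁ * (e₁ * e₂) * e₁ = (e₁ * e₂)⁻¹ := by
    rw [mul_inv_rev, h1', h2']
    calc e₁ * (e₁ * e₂) * e₁ = (e₁ * e₁) * e₂ * e₁ := by group
      _ = e₂ * e₁ := by rw [h11, one_mul]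
  have hsq : (e₁ * e₂) * (e₁ * e₂) = z₀ := by
    rw [← hcomm, h1', h2']
    group
  have hx : (e₁ * e₂) ^ 4 = 1 := by
    have : (e₁ * e₂) ^ 4 = ((e₁ * e₂) * (e₁ * e₂)) * ((e₁ * e₂) * (e₁ * e₂)) := by
      rw [show (4 : ℕ) = 2 + 2 from rfl, pow_add, pow_two]
    rw [this, hsq, T.sq]
  obtain ⟨lift, hliftdef⟩ : ∃ lift : DihedralGroup 4 →* Ω,
      lift = Cfsg.Agent.Lib.Helper61.dihedralLift e₁ (e₁ * e₂) 4 h11 hsx hx := ⟨_, rfl⟩
  have hl1 : e₁ ∈ lift.range := by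
    refine ⟨DihedralGroup.sr 0, ?_⟩
    rw [hliftdef, Cfsg.Agent.Lib.Helper61.dihedralLift_sr]
    simp
  have hl2 : e₁ * e₂ ∈ lift.range := by
    refine ⟨DihedralGroup.r 1, ?_⟩
    rw [hliftdef, Cfsg.Agent.Lib.Helper61.dihedralLift_r]
    have : (e₁ * e₂) ^ (((1 : ZMod 4).cast : ℤ)) = (e₁ * e₂) ^ (1 : ℤ) := by
      apply Cfsg.Agent.Lib.Helper61.zpow_eq_of_cast_eq hx
      simp
    rw [this, zpow_one]
  have hDr : D ≤ lift.range := by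
    rw [hDdef, Subgroup.closure_le]
    intro x hx
    rcases hx with h | h
    · rw [h]
      exact hl1
    · rw [Set.mem_singleton_iff] at h
      have e : x = e₁⁻¹ * (e₁ * e₂) := by rw [h]; group
      rw [e]
      exact lift.range.mul_mem (lift.range.inv_mem hl1) hl2
  have hfinr : Finite ↥lift.range :=
    Finite.of_surjective lift.rangeRestrict lift.rangeRestrict_surjective
  have hc1 : Nat.card ↥S ≤ Nat.card ↥lift.range := Subgroup.card_le_of_le (hSD.trans hDr)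
  have hc2 : Nat.card ↥lift.range ≤ Nat.card (DihedralGroup 4) :=
    Nat.card_le_card_of_surjective _ lift.rangeRestrict_surjective
  rw [DihedralGroup.nat_card] at hc2
  have hc3 : 2 < Nat.card ↥(ZZ S) := by
    have hfinZ : Finite ↥(ZZ S) := finite_of_le inf_le_left
    have : Fintype ↥(ZZ S) := Fintype.ofFinite _
    rw [Nat.card_eq_fintype_card, Fintype.two_lt_card_iff]
    refine ⟨1, ⟨z₀, T.hz₀.1⟩, ⟨w₁, K.hw₁.1⟩, ?_, ?_, ?_⟩
    · intro h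
      exact T.hz₀1 (congrArg Subtype.val h).symm
    · intro h
      exact K.hw₁1 (congrArg Subtype.val h).symm
    · intro h
      exact hw₁z₀ (congrArg Subtype.val h).symm
  have hc4 := T.C.hcard
  omega

/-- For `p = 2`, `O_2(F) = 1` and `foc(F) = S` force `Z(S) = {1, z₀}`. -/
theorem SI2.center_two (T : SI2 S F z₀) (hcore : F.core = ⊥) (hfoc : F.focalSubgroup = S) :
    ∀ z ∈ ZZ S, z = 1 ∨ z = z₀ := by
  obtain ⟨P, hP, g, hg, hg1, -⟩ := T.C.exists_good hcore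
  have hU := T.C.UU_eq_bot hcore
  rcases T.dichotomy hU (T.C.mid_of_ess hP) hg hg1 with h | ⟨P₂, g₂, w₁, K⟩
  · exact h
  · exact (K.false_of_focal T hfoc).elim

theorem SI2.card_center (T : SI2 S F z₀) (hcore : F.core = ⊥) (hfoc : F.focalSubgroup = S) :
    Nat.card ↥(ZZ S) = 2 := by
  have h := T.center_two hcore hfoc
  rw [Nat.card_eq_two_iff' (1 : ↥(ZZ S))]
  refine ⟨⟨z₀, T.hz₀.1⟩, fun h' => T.hz₀1 (congrArg Subtype.val h'), fun y hy => ?_⟩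
  rcases h y y.2 with h1 | h1
  · exact absurd (Subtype.ext h1) hy
  · exact Subtype.ext h1

end ctx

end Cfsg.Agent.Lib.Helper87
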