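import Cfsg.Agent.Lib.Helper87.ConstrainedNormal

/-!
# A strongly closed subgroup acting "unipotently" on `O_p(F)` lies in `O_p(F)`
-/

set_option autoImplicit false

namespace Cfsg.Agent.Lib.Helper87

open Cfsg Cfsg.FusionSystem
open scoped commutatorElement

variable {Ω : Type*} [Group Ω] {S : Subgroup Ω}

/-- General form: `Q` the largest normal subgroup of `F`, centric; `Z₂` and `D` strongly
closed with `[Q, D] ≤ Z₂` and `[Z₂, D] = 1`. Then `D ≤ Q`. -/
theorem le_core_of_stabilizes [Finite S] {p : ℕ} [Fact p.Prime] (hS : IsPGroup p S)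
    (F : FusionSystem S) (hF : F.IsSaturated p) {Q Z₂ D : Subgroup Ω} (hQ : F.IsNormal Q)
    (hQc : F.IsCentric Q) (hmax : ∀ Q' : Subgroup Ω, F.IsNormal Q' → Q' ≤ Q)
    (hZsc : F.StronglyClosed Z₂) (hCsc : F.StronglyClosed D)
    (hQC : ∀ q ∈ Q, ∀ c ∈ D, ⁅q, c⁆ ∈ Z₂) (hbot : ⁅Z₂, D⁆ = ⊥) : D ≤ Q := by
  have hQsc := stronglyClosed_of_isNormal F hQ
  have hQS : Q ≤ S := hQ.1
  have hCS : D ≤ S := hCsc.1
  have hQCsc : F.StronglyClosed (Q ⊔ D) :=
    Cfsg.Agent.S5128.result p hS F hF _ _ hQsc hCsc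
  have hQC' : ⁅Q, D⁆ ≤ Z₂ := Subgroup.commutator_le.mpr hQC
  -- `[C, C] ≤ Q` by the three subgroups lemma
  have hCC : ⁅D, D⁆ ≤ Q := by
    have h1 : ⁅⁅D, Q⁆, D⁆ = ⊥ := by
      rw [eq_bot_iff, ← hbot]
      apply Subgroup.commutator_mono _ le_rfl
      rw [Subgroup.commutator_comm]
      exact hQC'
    have h2 : ⁅⁅Q, D⁆, D⁆ = ⊥ := by
      rw [eq_bot_iff, ← hbot]
      exact Subgroup.commutator_mono hQC' le_rfl
    have h3 := Subgroup.commutator_commutator_eq_bot_of_rotate h1 h2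
    rw [Subgroup.commutator_eq_bot_iff_le_centralizer] at h3
    intro z hz
    apply hQc.2 Q (isConj_refl F hQS)
    refine ⟨?_, h3 hz⟩
    have : ⁅D, D⁆ ≤ S :=
      Subgroup.commutator_le.mpr fun a ha b hb => by
        rw [commutatorElement_def]
        exact S.mul_mem (S.mul_mem (S.mul_mem (hCS ha) (hCS hb)) (S.inv_mem (hCS ha)))
          (S.inv_mem (hCS hb))
    exact this hz
  -- `Q C` lies in every centric radical subgroup
  have hle : ∀ P : Subgroup Ω, F.IsCentric P → F.IsRadical p P →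
      Q ⊔ D ≤ P := by
    intro P hPc hPr
    have hPS : P ≤ S := hPc.1
    have hQP : Q ≤ P := isNormal_le_centric_radical hS F hQ hPc hPr
    refine sup_le hQP ?_
    apply le_of_normalizer_inf_le hS hPS hCS (stronglyClosed_le_normalizer F hCsc)
    rintro g ⟨hgC, hgN⟩
    have hgS : g ∈ S := hCS hgC
    have hα : conjAut P g hgN ∈ F.autGroup P :=
      autInducedBy_le_autGroup F hPS (conjAut_mem_autInducedBy hgS hgN)
    -- the chain
    let C : ℕ → Subgroup P := fun i =>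
      match i with
      | 0 => ⊤
      | 1 => (Q ⊔ D).subgroupOf P
      | 2 => Q.subgroupOf P
      | 3 => Z₂.subgroupOf P
      | _ => ⊥
    have hinv : ∀ γ ∈ F.autGroup P, ∀ i, ∀ x ∈ C i, γ x ∈ C i := by
      intro γ hγ i
      match i with
      | 0 => intro x _; exact Subgroup.mem_top _
      | 1 =>
        intro x hx
        exact Subgroup.mem_subgroupOf.mpr
          (autGroup_apply_mem_of_stronglyClosed F hPS hQCsc hγ x (Subgroup.mem_subgroupOf.mp hx))
      | 2 =>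
        intro x hx
        exact Subgroup.mem_subgroupOf.mpr
          (autGroup_apply_mem_of_stronglyClosed F hPS hQsc hγ x (Subgroup.mem_subgroupOf.mp hx))
      | 3 =>
        intro x hx
        exact Subgroup.mem_subgroupOf.mpr
          (autGroup_apply_mem_of_stronglyClosed F hPS hZsc hγ x
            (Subgroup.mem_subgroupOf.mp hx))
      | (i + 4) =>
        intro x hx
        have hx1 : x = 1 := Subgroup.mem_bot.mp hx
        rw [hx1, map_one]
        exact Subgroup.one_mem _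
    have hαC : ∀ i < 4, ∀ x ∈ C i, x⁻¹ * conjAut P g hgN x ∈ C (i + 1) := by
      intro i hi
      have hcoe : ∀ x : P, ((x⁻¹ * conjAut P g hgN x : P) : Ω) = (x : Ω)⁻¹ * (g * x * g⁻¹) :=
        fun x => rfl
      match i with
      | 0 =>
        intro x _
        apply Subgroup.mem_subgroupOf.mpr
        rw [hcoe]
        apply (le_sup_right : D ≤ Q ⊔ D)
        have h1 : (x : Ω)⁻¹ * g * ((x : Ω)⁻¹)⁻¹ ∈ D :=
          conj_mem_of_stronglyClosed F hCsc (S.inv_mem (hPS x.2)) hgC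
        have e : (x : Ω)⁻¹ * (g * x * g⁻¹) = ((x : Ω)⁻¹ * g * ((x : Ω)⁻¹)⁻¹) * g⁻¹ := by group
        rw [e]
        exact Subgroup.mul_mem _ h1 (Subgroup.inv_mem _ hgC)
      | 1 =>
        intro x hx
        have hx' : (x : Ω) ∈ Q ⊔ D := Subgroup.mem_subgroupOf.mp hx
        apply Subgroup.mem_subgroupOf.mpr
        rw [hcoe]
        rw [sup_comm] at hx'
        obtain ⟨c, hc, q, hq, hxcq⟩ := exists_mul_of_mem_sup
          (hCS.trans (stronglyClosed_le_normalizer F hQsc)) hx'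
        rw [hxcq]
        have h1 : ⁅c⁻¹, g⁆ ∈ Q :=
          hCC (Subgroup.commutator_mem_commutator (Subgroup.inv_mem _ hc) hgC)
        have h2 : g * q * g⁻¹ ∈ Q := conj_mem_of_stronglyClosed F hQsc hgS hq
        have e : (c * q)⁻¹ * (g * (c * q) * g⁻¹) = q⁻¹ * ⁅c⁻¹, g⁆ * (g * q * g⁻¹) := by
          rw [commutatorElement_def]; group
        rw [e]
        exact Q.mul_mem (Q.mul_mem (Q.inv_mem hq) h1) h2
      | 2 =>
        intro x hx
        have hx' : (x : Ω) ∈ Q := Subgroup.mem_subgroupOf.mp hx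
        apply Subgroup.mem_subgroupOf.mpr
        rw [hcoe]
        have h1 := hQC _ (Q.inv_mem hx') g hgC
        rw [commutatorElement_def] at h1
        have e : (x : Ω)⁻¹ * (g * x * g⁻¹) = (x : Ω)⁻¹ * g * ((x : Ω)⁻¹)⁻¹ * g⁻¹ := by group
        rw [e]
        exact h1
      | 3 =>
        intro x hx
        have hx' : (x : Ω) ∈ Z₂ := Subgroup.mem_subgroupOf.mp hx
        apply Subgroup.mem_bot.mpr
        apply Subtype.ext
        rw [hcoe]
        have h0 : Z₂ ≤ Subgroup.centralizer (D : Set Ω) :=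
          Subgroup.commutator_eq_bot_iff_le_centralizer.mp hbot
        have h1 : (x : Ω) * g = g * x :=
          (Subgroup.mem_centralizer_iff.mp (h0 hx') g hgC).symm
        have e : g * (x : Ω) * g⁻¹ = x := by rw [← h1]; group
        rw [e]
        simp
    have hinn := stabilizer_le_inn hS F hPS hPr 4 C rfl rfl hinv hα hαC
    obtain ⟨r, hr⟩ := hinn
    have hcen' : (r : Ω)⁻¹ * g ∈ centralizerIn S P := by
      refine ⟨S.mul_mem (S.inv_mem (hPS r.2)) hgS, ?_⟩
      intro x hx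
      have h1 : ((MulAut.conj r ⟨x, hx⟩ : P) : Ω) = ((conjAut P g hgN ⟨x, hx⟩ : P) : Ω) := by
        rw [hr]
      have h2 : (r : Ω) * x * (r : Ω)⁻¹ = g * x * g⁻¹ := h1
      calc x * ((r : Ω)⁻¹ * g) = (r : Ω)⁻¹ * ((r : Ω) * x * (r : Ω)⁻¹) * g := by group
        _ = (r : Ω)⁻¹ * (g * x * g⁻¹) * g := by rw [h2]
        _ = (r : Ω)⁻¹ * g * x := by group
    have hcenR := hPc.2 P (isConj_refl F hPS) hcen'
    have : g = (r : Ω) * ((r : Ω)⁻¹ * g) := by group
    rw [this]
    exact P.mul_mem r.2 hcenR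
  have hnorm : F.IsNormal (Q ⊔ D) :=
    (Cfsg.Agent.S5086.result p hS F hF _).mpr ⟨hQCsc, hle⟩
  exact le_sup_right.trans (hmax _ hnorm)

/-- For a constrained system, `O_p(F)` is normal, centric and the largest normal subgroup. -/
theorem core_spec [Finite S] {p : ℕ} (F : FusionSystem S) (hF : F.IsConstrained p) :
    F.IsNormal F.core ∧ F.IsCentric F.core ∧ ∀ Q' : Subgroup Ω, F.IsNormal Q' → Q' ≤ F.core := by
  obtain ⟨-, Q₁, hQ₁n, hQ₁c⟩ := hF
  have hcore : F.IsNormal F.core := Cfsg.Agent.S5145.result F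
  have hQ₁le : Q₁ ≤ F.core := le_sSup hQ₁n
  have hcoresc := stronglyClosed_of_isNormal F hcore
  refine ⟨hcore, ?_, fun Q' hQ' => le_sSup hQ'⟩
  apply isCentric_of_stronglyClosed F hcoresc
  intro x hx
  apply hQ₁le
  apply hQ₁c.2 Q₁ (isConj_refl F hQ₁n.1)
  exact ⟨hx.1, Subgroup.centralizer_le (by exact_mod_cast hQ₁le) hx.2⟩

end Cfsg.Agent.Lib.Helper87
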