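import Cfsg.Agent.Lib.Helper87.ConstrainedNormal
import Cfsg.Agent.Lib.Helper85.RelSaturated
import Cfsg.Agent.S5076
import Mathlib.GroupTheory.IsSubnormal

/-!
# Fusion systems of subnormal subgroups of a group with constrained fusion system
-/

set_option autoImplicit false

namespace Cfsg.Agent.Lib.Helper87

open Cfsg Cfsg.FusionSystem
open Cfsg.Agent.Lib.Helper85 (SylIn sylIn_top fusionSystemOfSubgroup_isSaturated)

variable {G : Type*} [Group G]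

/-- Inside `G`: for subnormal `H`, `S ∩ H` is Sylow in `H` and `F_{S ∩ H}(H)` is constrained. -/
theorem subnormal_constrained_aux [Finite G] {p : ℕ} [Fact p.Prime] (S : Sylow p G)
    (hF : (Cfsg.groupFusionSystem (S : Subgroup G)).IsConstrained p) {H : Subgroup G}
    (hH : H.IsSubnormal) :
    SylIn p ((S : Subgroup G) ⊓ H) H ∧
      (Cfsg.fusionSystemOfSubgroup H ((S : Subgroup G) ⊓ H) inf_le_right).IsConstrained p := by
  induction hH with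
  | top =>
    have hsyl : SylIn p ((S : Subgroup G) ⊓ ⊤) ⊤ := by
      rw [inf_top_eq]; exact sylIn_top S
    refine ⟨hsyl, ?_⟩
    refine isConstrained_of_subsystem S.isPGroup' (Cfsg.groupFusionSystem (S : Subgroup G)) hF
      (U := (S : Subgroup G) ⊓ ⊤) ?_ _ (fusionSystemOfSubgroup_isSaturated inf_le_right hsyl) ?_
    · exact ⟨inf_le_left, fun R _ φ hφ x => ⟨hφ.2.1 x, Subgroup.mem_top _⟩⟩
    · rintro P φ ⟨hP, hval, g, -, hg⟩
      exact ⟨hP.trans inf_le_left, fun x => (hval x).1, g, hg⟩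
  | step H K h_le hSubn hN ih =>
    obtain ⟨ihsyl, ihc⟩ := ih
    have hKN : K ≤ Subgroup.normalizer (H : Set G) :=
      (Subgroup.normal_subgroupOf_iff_le_normalizer h_le).mp hN
    have hsyl : SylIn p ((S : Subgroup G) ⊓ H) H := by
      have h1 := ihsyl.inf_normal inf_le_right h_le hKN
      have e : ((S : Subgroup G) ⊓ K) ⊓ H = (S : Subgroup G) ⊓ H := by
        rw [inf_assoc, inf_eq_right.mpr h_le]
      rwa [e] at h1
    refine ⟨hsyl, ?_⟩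
    have hKp : IsPGroup p ↥((S : Subgroup G) ⊓ K) := S.isPGroup'.to_le inf_le_left
    refine isConstrained_of_subsystem hKp
      (Cfsg.fusionSystemOfSubgroup K ((S : Subgroup G) ⊓ K) inf_le_right) ihc
      (U := (S : Subgroup G) ⊓ H) ?_ _ (fusionSystemOfSubgroup_isSaturated inf_le_right hsyl) ?_
    · refine ⟨inf_le_inf_left _ h_le, fun R hR φ hφ x => ?_⟩
      obtain ⟨-, hval, k, hk, hkx⟩ := hφ
      refine ⟨(hval x).1, ?_⟩
      rw [hkx x]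
      exact (Subgroup.mem_normalizer_iff.mp (hKN hk) x).mp (hR x.2).2
    · rintro P φ ⟨hP, hval, g, hg, hgx⟩
      exact ⟨hP.trans (inf_le_inf_left _ h_le), fun x => ⟨(hval x).1, h_le (hval x).2⟩, g,
        h_le hg, hgx⟩

end Cfsg.Agent.Lib.Helper87

namespace Cfsg.Agent.Lib.Helper87

open Cfsg Cfsg.FusionSystem

variable {G : Type*} [Group G]

theorem conjHom_apply (P : Subgroup G) (g : G) (x : P) : Cfsg.conjHom P g x = g * x * g⁻¹ := rfl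

/-- Transport of a normal subgroup from `F_T(H)` (inside `G`) to the fusion system of `H` itself. -/
theorem isNormal_subgroupOf {H T : Subgroup G} (hTH : T ≤ H) {Q₀ : Subgroup G}
    (hn : (Cfsg.fusionSystemOfSubgroup H T hTH).IsNormal Q₀) :
    (Cfsg.groupFusionSystem (T.subgroupOf H)).IsNormal (Q₀.subgroupOf H) := by
  have hQ₀T : Q₀ ≤ T := hn.1
  have hQ₀H : Q₀ ≤ H := hQ₀T.trans hTH
  have hQ'T' : Q₀.subgroupOf H ≤ T.subgroupOf H := fun x hx =>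
    Subgroup.mem_subgroupOf.mpr (hQ₀T (Subgroup.mem_subgroupOf.mp hx))
  refine ⟨hQ'T', fun P' φ' hφ' => ?_⟩
  obtain ⟨hP'T', hval', g, hg⟩ := hφ'
  have hPT : P'.map H.subtype ≤ T := by
    rintro _ ⟨x, hx, rfl⟩
    exact Subgroup.mem_subgroupOf.mp (hP'T' hx)
  have hφ : Cfsg.conjHom (P'.map H.subtype) (g : G) ∈
      (Cfsg.fusionSystemOfSubgroup H T hTH).Hom (P'.map H.subtype) := by
    refine ⟨hPT, ?_, g, g.2, fun _ => rfl⟩
    rintro ⟨_, x, hx, rfl⟩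
    have h1 := hval' ⟨x, hx⟩
    rw [hg ⟨x, hx⟩] at h1
    exact Subgroup.mem_subgroupOf.mp h1
  obtain ⟨ψ, hψ, hψe, hψQ⟩ := hn.2 _ _ hφ
  obtain ⟨h1, h2⟩ := (map_subgroupOf_eq_iff ψ).mp hψQ
  obtain ⟨-, hvalψ, h', hh'H, hh'⟩ := hψ
  -- elements of `P' ⊔ Q'` lie over `P ⊔ Q₀`
  have hsup : ∀ x : ↥(P' ⊔ Q₀.subgroupOf H), ((x : H) : G) ∈ P'.map H.subtype ⊔ Q₀ := by
    intro x
    have h3 : (P' ⊔ Q₀.subgroupOf H).map H.subtype ≤ P'.map H.subtype ⊔ Q₀ := by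
      rw [Subgroup.map_sup]
      refine sup_le_sup_left ?_ _
      rintro _ ⟨y, hy, rfl⟩
      exact Subgroup.mem_subgroupOf.mp hy
    exact h3 ⟨x, x.2, rfl⟩
  have hψ'val : ∀ x : ↥(P' ⊔ Q₀.subgroupOf H),
      ((Cfsg.conjHom (P' ⊔ Q₀.subgroupOf H) (⟨h', hh'H⟩ : H) x : H) : G) = ψ ⟨_, hsup x⟩ := by
    intro x
    rw [hh' ⟨_, hsup x⟩]
    rfl
  refine ⟨Cfsg.conjHom (P' ⊔ Q₀.subgroupOf H) (⟨h', hh'H⟩ : H), ?_, ?_, ?_⟩
  · refine ⟨sup_le hP'T' hQ'T', fun x => ?_, ⟨h', hh'H⟩, fun _ => rfl⟩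
    apply Subgroup.mem_subgroupOf.mpr
    rw [hψ'val x]
    exact hvalψ _
  · intro x
    apply Subtype.ext
    rw [hψ'val]
    have hx : ((x : H) : G) ∈ P'.map H.subtype := ⟨x, x.2, rfl⟩
    have h3 := hψe ⟨_, hx⟩
    rw [hg x]
    show ψ _ = (g : G) * ((x : H) : G) * (g : G)⁻¹
    rw [← conjHom_apply (P'.map H.subtype) (g : G) ⟨_, hx⟩, ← h3]
    rfl
  · rw [map_subgroupOf_eq_iff]
    refine ⟨fun y hy => ?_, fun q hq => ?_⟩
    · apply Subgroup.mem_subgroupOf.mpr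
      rw [hψ'val y]
      exact h1 _ (Subgroup.mem_subgroupOf.mp hy)
    · obtain ⟨y, hy, hyq⟩ := h2 (q : G) (Subgroup.mem_subgroupOf.mp hq)
      have hyQ' : (⟨(y : G), hQ₀H hy⟩ : H) ∈ Q₀.subgroupOf H := Subgroup.mem_subgroupOf.mpr hy
      refine ⟨⟨⟨(y : G), hQ₀H hy⟩, (le_sup_right : Q₀.subgroupOf H ≤ P' ⊔ Q₀.subgroupOf H) hyQ'⟩,
        hyQ', ?_⟩
      apply Subtype.ext
      rw [hψ'val, ← hyq]

/-- Transport of a centric subgroup from `F_T(H)` (inside `G`) to the fusion system of `H`. -/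
theorem isCentric_subgroupOf {H T : Subgroup G} (hTH : T ≤ H) {Q₀ : Subgroup G}
    (hc : (Cfsg.fusionSystemOfSubgroup H T hTH).IsCentric Q₀) :
    (Cfsg.groupFusionSystem (T.subgroupOf H)).IsCentric (Q₀.subgroupOf H) := by
  have hQ₀T : Q₀ ≤ T := hc.1
  have hQ₀H : Q₀ ≤ H := hQ₀T.trans hTH
  have hQ'T' : Q₀.subgroupOf H ≤ T.subgroupOf H := fun x hx =>
    Subgroup.mem_subgroupOf.mpr (hQ₀T (Subgroup.mem_subgroupOf.mp hx))
  refine ⟨hQ'T', fun Q'' hQ'' => ?_⟩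
  obtain ⟨φ', ⟨-, hval', g, hg⟩, rfl⟩ := hQ''
  have hφ : Cfsg.conjHom Q₀ (g : G) ∈ (Cfsg.fusionSystemOfSubgroup H T hTH).Hom Q₀ := by
    refine ⟨hQ₀T, ?_, g, g.2, fun _ => rfl⟩
    rintro ⟨q, hq⟩
    have h1 := hval' ⟨⟨q, hQ₀H hq⟩, Subgroup.mem_subgroupOf.mpr hq⟩
    rw [hg] at h1
    exact Subgroup.mem_subgroupOf.mp h1
  have hcen := hc.2 _ ⟨_, hφ, rfl⟩
  intro x hx
  have hxT : ((x : H) : G) ∈ T := Subgroup.mem_subgroupOf.mp hx.1
  have hxc : ((x : H) : G) ∈ Subgroup.centralizer ((Cfsg.conjHom Q₀ (g : G)).range : Set G) := by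
    rw [Subgroup.mem_centralizer_iff]
    rintro _ ⟨⟨q, hq⟩, rfl⟩
    have h2 : φ' ⟨⟨q, hQ₀H hq⟩, Subgroup.mem_subgroupOf.mpr hq⟩ ∈ (φ'.range : Set H) := ⟨_, rfl⟩
    have h3 := Subgroup.mem_centralizer_iff.mp hx.2 _ h2
    rw [hg] at h3
    exact congrArg (fun z : H => (z : G)) h3
  obtain ⟨⟨q, hq⟩, hqx⟩ := hcen ⟨hxT, hxc⟩
  refine ⟨⟨⟨q, hQ₀H hq⟩, Subgroup.mem_subgroupOf.mpr hq⟩, ?_⟩
  apply Subtype.ext
  rw [hg, ← hqx]
  rfl

end Cfsg.Agent.Lib.Helper87
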