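import Cfsg.Agent.Lib.Helper34.TateT1
import Cfsg.Agent.Lib.Helper87.NormalizerSystem
import Cfsg.Agent.Lib.Helper88.InnerSat

set_option autoImplicit false
set_option linter.unusedVariables false

/-!
# [T15] of the Tate project: bookkeeping for S5276
-/

namespace Cfsg.Agent.Lib.Helper34.Tate

open Cfsg Cfsg.FusionSystem
open Cfsg.Agent.Lib.Helper87

variable {Ω : Type*} [Group Ω] {S : Subgroup Ω}

theorem normalizerIn_self_h87 (S : Subgroup Ω) : normalizerIn S S = S := by
  unfold normalizerIn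
  exact inf_eq_left.mpr Subgroup.le_normalizer

theorem s5276_forward [Finite S] {p : ℕ} [Fact p.Prime] (hS : IsPGroup p S)
    (F : FusionSystem S)
    (h : ∀ P : Subgroup Ω, F.Hom P = (Cfsg.innerFusionSystem S).Hom P) :
    (∀ N : Cfsg.FusionSystem (Cfsg.FusionSystem.normalizerIn S S), F.IsNormalizerSystem S N →
      ∀ P : Subgroup Ω, N.Hom P = (Cfsg.innerFusionSystem (Cfsg.FusionSystem.normalizerIn S S)).Hom P) ∧
    F.StronglyClosed ((frattini ↥S).map S.subtype) := by
  have hNS : normalizerIn S S = S := normalizerIn_self_h87 S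
  constructor
  · intro N hN P
    rw [hN P]
    ext φ
    constructor
    · rintro ⟨hφ, hP, -, -⟩
      rw [h P] at hφ
      obtain ⟨-, g, hg, hφg⟩ := hφ
      exact ⟨hP, g, by rw [hNS]; exact hg, hφg⟩
    · rintro ⟨hP, g, hg, hφg⟩
      have hgS : g ∈ S := by rw [hNS] at hg; exact hg
      have hPS : P ≤ S := by rw [hNS] at hP; exact hP
      have hφ : φ ∈ F.Hom P := by
        rw [h P]; exact ⟨hPS, g, hgS, hφg⟩
      refine ⟨hφ, hP, fun x => ?_, ?_⟩
      · rw [hNS]; exact hom_mem_S F hφ x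
      · have hle : P ⊔ S ≤ S := sup_le hPS le_rfl
        refine ⟨conjHom (P ⊔ S) g, F.conj_mem hle hgS, fun x => ?_, ?_⟩
        · rw [hφg x]; rfl
        · ext y
          constructor
          · rintro ⟨z, hz, rfl⟩
            have hzS : ((z : ↥(P ⊔ S)) : Ω) ∈ S := hz
            show g * (z : Ω) * g⁻¹ ∈ S
            exact S.mul_mem (S.mul_mem hgS hzS) (S.inv_mem hgS)
          · intro hy
            have hy' : g⁻¹ * y * g ∈ S := S.mul_mem (S.mul_mem (S.inv_mem hgS) hy) hgS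
            refine ⟨⟨g⁻¹ * y * g, (le_sup_right : S ≤ P ⊔ S) hy'⟩, hy', ?_⟩
            show g * (g⁻¹ * y * g) * g⁻¹ = y
            group
  · refine ⟨?_, ?_⟩
    · rintro _ ⟨y, -, rfl⟩
      exact y.2
    · intro R hR φ hφ x
      rw [h R] at hφ
      obtain ⟨-, g, hg, hφg⟩ := hφ
      rw [hφg x]
      obtain ⟨y, hy, hyx⟩ := hR x.2
      have hn : (frattini ↥S).Normal := inferInstance
      have h1 := hn.conj_mem y hy ⟨g, hg⟩
      refine ⟨⟨g, hg⟩ * y * ⟨g, hg⟩⁻¹, h1, ?_⟩
      show g * (y : Ω) * g⁻¹ = g * (x : Ω) * g⁻¹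
      have : (y : Ω) = x := hyx
      rw [this]

theorem top_inner_of_normalizer [Finite S] {p : ℕ} [Fact p.Prime] (hS : IsPGroup p S)
    (F : FusionSystem S) (hF : F.IsSaturated p)
    (h : ∀ N : Cfsg.FusionSystem (Cfsg.FusionSystem.normalizerIn S S), F.IsNormalizerSystem S N →
      ∀ P : Subgroup Ω, N.Hom P = (Cfsg.innerFusionSystem (Cfsg.FusionSystem.normalizerIn S S)).Hom P) :
    ∀ α : S →* Ω, α ∈ F.Hom S → ∃ s ∈ S, ∀ x : S, α x = s * x * s⁻¹ := by
  intro α hα
  have hNS : normalizerIn S S = S := normalizerIn_self_h87 S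
  have h1 := h (normalizerSystem F S le_rfl) (isNormalizerSystem_normalizerSystem F S le_rfl) S
  have h2 : α ∈ F.normalizerHom S S :=
    Cfsg.Agent.Lib.Helper34.FusYoshida.mem_normalizerHom_top F hα
  have h3 : α ∈ (normalizerSystem F S le_rfl).Hom S := by
    rw [isNormalizerSystem_normalizerSystem F S le_rfl S]; exact h2
  rw [h1] at h3
  obtain ⟨-, g, hg, hαg⟩ := h3
  exact ⟨g, by rw [hNS] at hg; exact hg, hαg⟩

end Cfsg.Agent.Lib.Helper34.Tate
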