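import Cfsg.Agent.Lib.Helper34.WittModule

set_option autoImplicit false
set_option linter.style.haveILetI false

/-!
# Transfer commutes with automorphisms

For an automorphism `σ` of `G`, a subgroup `H`, `H' = σ⁻¹(H)` and `φ' = φ ∘ σ` on `H'`, the
transfer of `φ'` is the transfer of `φ` composed with `σ`.
-/

namespace Cfsg.Agent.Lib.Helper87

open Cfsg.Agent.Lib.Helper34.Witt

variable {G : Type*} [Group G] {A : Type*} [CommGroup A]

/-- the map on left cosets induced by an automorphism -/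
def cosetMap (σ : G ≃* G) (H H' : Subgroup G) (hH' : ∀ y, y ∈ H' ↔ σ y ∈ H) :
    G ⧸ H' → G ⧸ H :=
  Quotient.map' σ (by
    intro a b hab
    rw [QuotientGroup.leftRel_apply] at hab ⊢
    have := (hH' _).mp hab
    simpa using this)

theorem cosetMap_mk (σ : G ≃* G) (H H' : Subgroup G) (hH' : ∀ y, y ∈ H' ↔ σ y ∈ H) (a : G) :
    cosetMap σ H H' hH' (a : G ⧸ H') = ((σ a : G) : G ⧸ H) := rfl

theorem cosetMap_smul (σ : G ≃* G) (H H' : Subgroup G) (hH' : ∀ y, y ∈ H' ↔ σ y ∈ H) (t : G)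
    (q : G ⧸ H') : cosetMap σ H H' hH' (t • q) = σ t • cosetMap σ H H' hH' q := by
  induction q using Quotient.inductionOn' with
  | h a =>
    show cosetMap σ H H' hH' (((t * a : G)) : G ⧸ H') = σ t • (((σ a : G)) : G ⧸ H)
    rw [cosetMap_mk, map_mul]
    rfl

theorem cosetMap_bijective (σ : G ≃* G) (H H' : Subgroup G) (hH' : ∀ y, y ∈ H' ↔ σ y ∈ H) :
    Function.Bijective (cosetMap σ H H' hH') := by
  constructor
  · intro q₁ q₂
    induction q₁ using Quotient.inductionOn' with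
    | h a =>
      induction q₂ using Quotient.inductionOn' with
      | h b =>
        intro h
        have h' : ((σ a : G) : G ⧸ H) = ((σ b : G) : G ⧸ H) := h
        rw [QuotientGroup.eq] at h'
        show ((a : G) : G ⧸ H') = ((b : G) : G ⧸ H')
        rw [QuotientGroup.eq]
        rw [hH']
        simpa using h'
  · intro q
    induction q using Quotient.inductionOn' with
    | h a =>
      refine ⟨((σ.symm a : G) : G ⧸ H'), ?_⟩
      show cosetMap σ H H' hH' ((σ.symm a : G) : G ⧸ H') = ((a : G) : G ⧸ H)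
      rw [cosetMap_mk]
      simp

theorem transfer_comp_equiv [Finite G] (σ : G ≃* G) (H H' : Subgroup G)
    (hH' : ∀ y, y ∈ H' ↔ σ y ∈ H) (φ : H →* A) (φ' : H' →* A)
    (hφ : ∀ (y : H') (hy : σ y ∈ H), φ' y = φ ⟨σ y, hy⟩) (t : G) :
    MonoidHom.transfer φ' t = MonoidHom.transfer φ (σ t) := by
  classical
  haveI : Fintype (G ⧸ H) := Fintype.ofFinite _
  haveI : Fintype (G ⧸ H') := Fintype.ofFinite _
  let f := cosetMap σ H H' hH'
  have hf := cosetMap_bijective σ H H' hH'
  let s : G ⧸ H → G := fun q => Quotient.out q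
  have hs : ∀ q : G ⧸ H, ((s q : G) : G ⧸ H) = q := fun q => Quotient.out_eq' q
  let s' : G ⧸ H' → G := fun q => σ.symm (s (f q))
  have hs' : ∀ q : G ⧸ H', ((s' q : G) : G ⧸ H') = q := by
    intro q
    apply hf.1
    show cosetMap σ H H' hH' ((σ.symm (s (f q)) : G) : G ⧸ H') = f q
    rw [cosetMap_mk]
    simp only [MulEquiv.apply_symm_apply]
    exact hs (f q)
  rw [transfer_eq_prod_sec H' φ' s' hs' t, transfer_eq_prod_sec H φ s hs (σ t)]
  refine Fintype.prod_equiv (Equiv.ofBijective f hf) _ _ ?_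
  intro q
  have hmem : σ ((s' (t • q))⁻¹ * t * s' q) ∈ H :=
    (hH' _).mp (sec_mem H' s' hs' t q)
  rw [hφ ⟨_, sec_mem H' s' hs' t q⟩ hmem]
  congr 1
  apply Subtype.ext
  show σ ((s' (t • q))⁻¹ * t * s' q) = (s (σ t • f q))⁻¹ * σ t * s (f q)
  rw [map_mul, map_mul, map_inv]
  show (σ (σ.symm (s (f (t • q)))))⁻¹ * σ t * σ (σ.symm (s (f q))) = _
  rw [MulEquiv.apply_symm_apply, MulEquiv.apply_symm_apply]
  have : f (t • q) = σ t • f q := cosetMap_smul σ H H' hH' t q
  rw [this]

end Cfsg.Agent.Lib.Helper87
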