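import Cfsg.Agent.Lib.Helper88.TrsDefs
import Cfsg.Agent.S5086
import Cfsg.Agent.Lib.Helper87.NormalChain
import Cfsg.Agent.Lib.Helper87.Chain
import Cfsg.Agent.Lib.Helper87.ConstrainedNormal
import Cfsg.Agent.Lib.Helper87.EssentialIndexP
import Cfsg.Agent.Lib.Helper87.Saturation
import Cfsg.Agent.Lib.Helper87.PCore

/-!
# Trs hive (S5156, owner helper88): leaf TRS-F12 `sup_centralizer_isNormal` (helper87)

If `Q` is normal in the saturated system `E` and the automorphisms in `E` of overgroups of `Q`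
that fix `Q` pointwise form `p`-groups, then `Q C_S(Q)` is normal in `E`.
-/

set_option autoImplicit false
set_option linter.unusedSectionVars false
set_option linter.unusedVariables false

namespace Cfsg.Agent.Lib.Helper88.Trs

open Cfsg Cfsg.FusionSystem Cfsg.Agent.Lib.Helper87

variable {Ω : Type*} [Group Ω] {S : Subgroup Ω} {p : ℕ} [Fact p.Prime]

/-- `S` normalizes `C_S(Q)` when it normalizes `Q`. -/
theorem f12_le_normalizer_centralizerIn {Q : Subgroup Ω}
    (hSNQ : S ≤ Subgroup.normalizer (Q : Set Ω)) :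
    S ≤ Subgroup.normalizer (centralizerIn S Q : Set Ω) := by
  have key : ∀ t ∈ S, ∀ h ∈ centralizerIn S Q, t * h * t⁻¹ ∈ centralizerIn S Q := by
    intro t ht h hh
    refine ⟨S.mul_mem (S.mul_mem ht hh.1) (S.inv_mem ht), ?_⟩
    show t * h * t⁻¹ ∈ Subgroup.centralizer (Q : Set Ω)
    rw [Subgroup.mem_centralizer_iff]
    intro q hq
    have hq' : t⁻¹ * q * t ∈ Q := by
      have := (Subgroup.mem_normalizer_iff.mp (hSNQ (S.inv_mem ht)) q).mp hq
      simpa using this
    have hcomm := Subgroup.mem_centralizer_iff.mp hh.2 _ hq'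
    calc q * (t * h * t⁻¹) = t * ((t⁻¹ * q * t) * h) * t⁻¹ := by group
      _ = t * (h * (t⁻¹ * q * t)) * t⁻¹ := by rw [hcomm]
      _ = t * h * t⁻¹ * q := by group
  intro s hs
  rw [Subgroup.mem_normalizer_iff]
  intro h
  constructor
  · exact key s hs h
  · intro hh
    have := key s⁻¹ (S.inv_mem hs) _ hh
    simpa [mul_assoc] using this

/-- **TRS-F12**. -/
theorem sup_centralizer_isNormal [Finite S] (hS : IsPGroup p S) (E : FusionSystem S)
    (hE : E.IsSaturated p) {Q : Subgroup Ω} (hQ : E.IsNormal Q)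
    (hker : ∀ L : Subgroup Ω, Q ≤ L → L ≤ S → ∀ B : Subgroup (MulAut L), B ≤ E.autGroup L →
      (∀ β ∈ B, ∀ x : L, (x : Ω) ∈ Q → β x = x) → IsPGroup p B) :
    E.IsNormal (Q ⊔ centralizerIn S Q) := by
  have hQsc : E.StronglyClosed Q := stronglyClosed_of_isNormal E hQ
  have hQS : Q ≤ S := hQ.1
  have hSNQ : S ≤ Subgroup.normalizer (Q : Set Ω) := stronglyClosed_le_normalizer E hQsc
  have hCS : centralizerIn S Q ≤ S := inf_le_left
  have hCNQ : centralizerIn S Q ≤ Subgroup.normalizer (Q : Set Ω) := hCS.trans hSNQ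
  rw [Cfsg.Agent.S5086.result p hS E hE]
  refine ⟨⟨sup_le hQS hCS, ?_⟩, ?_⟩
  · -- strongly closed
    intro P hP φ hφ x
    obtain ⟨ψ, hψ, hψe, hψQ⟩ := hQ.2 P φ hφ
    rw [map_subgroupOf_eq_iff] at hψQ
    obtain ⟨hψQ1, hψQ2⟩ := hψQ
    have hx : (x : Ω) ∈ centralizerIn S Q ⊔ Q := by rw [sup_comm]; exact hP x.2
    obtain ⟨c, hc, q, hq, hxcq⟩ := exists_mul_of_mem_sup hCNQ hx
    have hqPQ : q ∈ P ⊔ Q := (le_sup_right : Q ≤ P ⊔ Q) hq
    have hcPQ : c ∈ P ⊔ Q := by
      have hceq : c = (x : Ω) * q⁻¹ := by rw [hxcq]; group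
      rw [hceq]
      exact mul_mem ((le_sup_left : P ≤ P ⊔ Q) x.2) (inv_mem hqPQ)
    have hxe : Subgroup.inclusion (le_sup_left : P ≤ P ⊔ Q) x =
        (⟨c, hcPQ⟩ : ↥(P ⊔ Q)) * ⟨q, hqPQ⟩ := Subtype.ext hxcq
    rw [← hψe x, hxe, map_mul]
    apply mul_mem
    · apply (le_sup_right : centralizerIn S Q ≤ Q ⊔ centralizerIn S Q)
      refine ⟨(E.le_of_mem hψ).2 _, ?_⟩
      show ψ ⟨c, hcPQ⟩ ∈ Subgroup.centralizer (Q : Set Ω)
      rw [Subgroup.mem_centralizer_iff]
      intro q' hq'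
      obtain ⟨y, hyQ, hy⟩ := hψQ2 q' hq'
      rw [← hy, ← map_mul, ← map_mul]
      congr 1
      apply Subtype.ext
      show (y : Ω) * c = c * y
      exact Subgroup.mem_centralizer_iff.mp hc.2 y hyQ
    · exact (le_sup_left : Q ≤ Q ⊔ centralizerIn S Q) (hψQ1 _ hq)
  · intro L hLc hLr
    have hLS : L ≤ S := hLc.1
    have hcen : centralizerIn S L ≤ L := hLc.2 L (isConj_refl E hLS)
    have hQL : Q ≤ L := isNormal_le_centric_radical hS E hQ hLc hLr
    apply sup_le hQL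
    apply le_of_normalizer_inf_le hS hLS hCS (f12_le_normalizer_centralizerIn hSNQ)
    rintro c ⟨hcC, hcN⟩
    -- the group of automorphisms fixing `Q` pointwise
    let B : Subgroup (MulAut L) :=
      { carrier := {β | β ∈ E.autGroup L ∧ ∀ x : L, (x : Ω) ∈ Q → β x = x}
        mul_mem' := by
          rintro a b ⟨ha, ha'⟩ ⟨hb, hb'⟩
          refine ⟨mul_mem ha hb, fun x hx => ?_⟩
          rw [MulAut.mul_apply, hb' x hx, ha' x hx]
        one_mem' := ⟨one_mem _, fun x _ => rfl⟩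
        inv_mem' := by
          rintro a ⟨ha, ha'⟩
          refine ⟨inv_mem ha, fun x hx => ?_⟩
          have h1 : a⁻¹ (a x) = x := by simp
          rw [ha' x hx] at h1
          exact h1 }
    have hBle : B ≤ E.autGroup L := fun β hβ => hβ.1
    have hBp : IsPGroup p B := hker L hQL hLS B hBle (fun β hβ => hβ.2)
    have hBn : (B.subgroupOf (E.autGroup L)).Normal := by
      refine ⟨fun β hβ γ => ?_⟩
      rw [Subgroup.mem_subgroupOf] at hβ ⊢
      refine ⟨(γ * β * γ⁻¹).2, fun x hx => ?_⟩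
      have hγi : ((γ⁻¹ : ↥(E.autGroup L)) : MulAut L) ∈ E.autGroup L := (γ⁻¹).2
      have h1 : (((((γ⁻¹ : ↥(E.autGroup L)) : MulAut L) x : L)) : Ω) ∈ Q :=
        autGroup_apply_mem_of_stronglyClosed E hLS hQsc hγi x hx
      have h2 := hβ.2 _ h1
      show ((γ : MulAut L) * (β : MulAut L) * ((γ⁻¹ : ↥(E.autGroup L)) : MulAut L)) x = x
      rw [MulAut.mul_apply, MulAut.mul_apply, h2]
      show (γ : MulAut L) ((((γ : MulAut L))⁻¹) x) = x
      simp
    have hBp' : IsPGroup p (B.subgroupOf (E.autGroup L)) :=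
      hBp.comap_of_injective _ (Subgroup.subtype_injective _)
    have hBcore : B.subgroupOf (E.autGroup L) ≤ pCore p ↥(E.autGroup L) := le_pCore hBn hBp'
    have hβA : conjAut L c hcN ∈ E.autGroup L :=
      autInducedBy_le_autGroup E hLS (conjAut_mem_autInducedBy hcC.1 hcN)
    have hβB : conjAut L c hcN ∈ B := by
      refine ⟨hβA, fun x hx => ?_⟩
      apply Subtype.ext
      rw [conjAut_coe]
      have := Subgroup.mem_centralizer_iff.mp hcC.2 (x : Ω) hx
      rw [← this]; group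
    have hβI : conjAut L c hcN ∈ Inn L := by
      rw [← hLr.2]
      exact ⟨⟨conjAut L c hcN, hβA⟩, hBcore (Subgroup.mem_subgroupOf.mpr hβB), rfl⟩
    obtain ⟨l, hl⟩ := hβI
    refine mem_of_conjAut_inner hLS hcen hcC.1 hcN l (fun y => ?_)
    rw [← hl]
    rfl

end Cfsg.Agent.Lib.Helper88.Trs
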