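import Cfsg.Agent.Lib.Helper88.TrsDefs
import Cfsg.Agent.Lib.Helper87.HypAct
import Cfsg.Agent.Lib.Helper87.NormalChain
import Cfsg.Agent.Lib.Helper87.NormalCriterion
import Cfsg.Agent.Lib.Helper87.ConstrainedNormal
import Cfsg.Agent.Lib.Helper87.Saturation
import Cfsg.Agent.Lib.Helper87.AutSystem
import Cfsg.Agent.Lib.Helper47.PIrr

/-!
# Trs hive (S5156, owner helper88): leaf TRS-H1 `pResidual_autGroup_eq_top` (helper87)

If `Q` is normal in the saturated system `E` and `hyp(E) = S`, then `O^p(Aut_E(Q)) = Aut_E(Q)`.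
-/

set_option autoImplicit false
set_option linter.unusedSectionVars false
set_option linter.unusedVariables false

namespace Cfsg.Agent.Lib.Helper88.Trs

open Cfsg Cfsg.FusionSystem Cfsg.Agent.Lib.Helper87

variable {Ω : Type*} [Group Ω] {S : Subgroup Ω} {p : ℕ} [Fact p.Prime]

/-- Key step: for `Q` normal in `E`, the element `x⁻¹ α(x)` (`α` of order prime to `p`) acts on `Q`
through `O^p(Aut_E(Q))`. -/
theorem h1_comm_mem_actSub [Finite S] (E : FusionSystem S) {Q : Subgroup Ω} (hQ : E.IsNormal Q)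
    {P : Subgroup Ω} (hP : P ≤ S) {α : MulAut P} (hα : α ∈ E.autGroup P)
    (hcop : (orderOf α).Coprime p) (x : P) :
    (x : Ω)⁻¹ * ((α x : P) : Ω) ∈
      actSub Q ((pResidual p (E.autGroup Q)).map (E.autGroup Q).subtype) := by
  have hT : E.StronglyClosed Q := stronglyClosed_of_isNormal E hQ
  have hTS : Q ≤ S := hQ.1
  have hSN : S ≤ Subgroup.normalizer (Q : Set Ω) :=
    weaklyClosed_le_normalizer E (weaklyClosed_of_stronglyClosed E hT)
  have hfinT : Finite Q := finite_of_le hTS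
  obtain ⟨ψ, hψ, hψe, -⟩ := hQ.2 P (P.subtype.comp α.toMonoidHom)
    ((mem_autGroup_iff E hP α).mp hα)
  have hMS : P ⊔ Q ≤ S := sup_le hP hTS
  have hfinM : Finite ↥(P ⊔ Q) := finite_of_le hMS
  have hmaps : ∀ z : ↥(P ⊔ Q), ψ z ∈ P ⊔ Q := by
    have := forall_sup_of_subgroup (P := P) (Q := Q) ((P ⊔ Q).comap ψ) ?_ ?_
    · intro z; exact this z
    · intro y hy
      show ψ ⟨y, _⟩ ∈ P ⊔ Q
      have h1 := hψe ⟨y, hy⟩
      have h2 : ψ ⟨y, (le_sup_left : P ≤ P ⊔ Q) hy⟩ = ((α ⟨y, hy⟩ : P) : Ω) := h1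
      rw [h2]
      exact (le_sup_left : P ≤ P ⊔ Q) (α ⟨y, hy⟩).2
    · intro y hy
      exact (le_sup_right : Q ≤ P ⊔ Q) (stronglyClosed_map_mem E hT hψ _ hy)
  obtain ⟨Ψ, hΨ, hΨe⟩ := exists_aut_of_hom E hψ hmaps
  have hcong : ∀ x : P, ((α x : P) : Ω) =
      ((Ψ ⟨x, (le_sup_left : P ≤ P ⊔ Q) x.2⟩ : ↥(P ⊔ Q)) : Ω) := by
    intro x
    rw [hΨe]
    exact (hψe x).symm
  obtain ⟨k, hk1, hk2⟩ := exists_pow_coprime α hcop Ψ
  have hcong' := res_pow (le_sup_left : P ≤ P ⊔ Q) hcong k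
  rw [hk1] at hcong'
  set Ψ' := Ψ ^ k with hΨ'def
  have hΨ'F : Ψ' ∈ E.autGroup (P ⊔ Q) := Subgroup.pow_mem _ hΨ k
  have hΨ'hom := (mem_autGroup_iff E hMS Ψ').mp hΨ'F
  -- restriction of Ψ' to Q
  have hΨ'T : ∀ t : Q, ((Ψ' ⟨t, (le_sup_right : Q ≤ P ⊔ Q) t.2⟩ : ↥(P ⊔ Q)) : Ω) ∈ Q :=
    fun t => stronglyClosed_map_mem E hT hΨ'hom _ t.2
  obtain ⟨ρ, hρ⟩ := exists_restrict_aut (le_sup_right : Q ≤ P ⊔ Q) Ψ' hΨ'T
  have hρF : ρ ∈ E.autGroup Q := by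
    rw [mem_autGroup_iff E hTS]
    have h1 := restrict_mem E hΨ'hom (le_sup_right : Q ≤ P ⊔ Q)
    have e : Q.subtype.comp ρ.toMonoidHom =
        ((P ⊔ Q).subtype.comp Ψ'.toMonoidHom).comp (Subgroup.inclusion le_sup_right) := by
      ext t; exact hρ t
    rw [e]; exact h1
  have hρcop : (orderOf ρ).Coprime p := by
    have h1 : ρ ^ (orderOf Ψ') = 1 := by
      ext t
      rw [res_pow (le_sup_right : Q ≤ P ⊔ Q) hρ (orderOf Ψ') t, pow_orderOf_eq_one]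
      rfl
    exact Nat.Coprime.coprime_dvd_left (orderOf_dvd_of_pow_eq_one h1) hk2
  -- the element w = x⁻¹ Ψ'(x) = x⁻¹ α(x)
  have hxN : (x : Ω) ∈ Subgroup.normalizer (Q : Set Ω) := hSN (hP x.2)
  set cx := conjAut Q (x : Ω) hxN with hcx
  have hcxF : cx ∈ E.autGroup Q :=
    autInducedBy_le_autGroup E hTS (conjAut_mem_autInducedBy (hP x.2) hxN)
  have hwx : ((α x : P) : Ω) =
      ((Ψ' ⟨x, (le_sup_left : P ≤ P ⊔ Q) x.2⟩ : ↥(P ⊔ Q)) : Ω) := hcong' x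
  rw [hwx]
  set w : Ω := (x : Ω)⁻¹ *
    ((Ψ' ⟨x, (le_sup_left : P ≤ P ⊔ Q) x.2⟩ : ↥(P ⊔ Q)) : Ω) with hw
  refine ⟨cx⁻¹ * ρ * cx * ρ⁻¹, ?_, fun t => ?_⟩
  · refine Subgroup.mul_mem _ ?_ ?_
    · apply mem_map_pResidual
        ((E.autGroup Q).mul_mem ((E.autGroup Q).mul_mem ((E.autGroup Q).inv_mem hcxF) hρF) hcxF)
      have e : cx⁻¹ * ρ * cx = MulAut.conj cx⁻¹ ρ := by
        rw [MulAut.conj_apply, inv_inv]
      rw [e, MulEquiv.orderOf_eq]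
      exact hρcop
    · apply mem_map_pResidual ((E.autGroup Q).inv_mem hρF)
      rw [orderOf_inv]; exact hρcop
  · -- elementwise computation
    set s : Q := ρ⁻¹ t with hs
    have hρs : ρ s = t := by
      show ρ (ρ.symm t) = t
      simp
    have h1 : ((cx s : Q) : Ω) = (x : Ω) * s * (x : Ω)⁻¹ := conjAut_coe Q _ hxN s
    have h2 : ((ρ (cx s) : Q) : Ω) =
        ((Ψ' ⟨x, (le_sup_left : P ≤ P ⊔ Q) x.2⟩ : ↥(P ⊔ Q)) : Ω) * t *
        (((Ψ' ⟨x, (le_sup_left : P ≤ P ⊔ Q) x.2⟩ : ↥(P ⊔ Q)) : Ω))⁻¹ := by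
      rw [hρ (cx s)]
      have e : (⟨((cx s : Q) : Ω), (le_sup_right : Q ≤ P ⊔ Q) (cx s).2⟩ : ↥(P ⊔ Q)) =
          (⟨x, (le_sup_left : P ≤ P ⊔ Q) x.2⟩ : ↥(P ⊔ Q)) *
            ⟨(s : Ω), (le_sup_right : Q ≤ P ⊔ Q) s.2⟩ *
            (⟨x, (le_sup_left : P ≤ P ⊔ Q) x.2⟩ : ↥(P ⊔ Q))⁻¹ := Subtype.ext h1
      rw [e, map_mul, map_mul, map_inv]
      have e2 : ((Ψ' ⟨(s : Ω), (le_sup_right : Q ≤ P ⊔ Q) s.2⟩ : ↥(P ⊔ Q)) : Ω) = t := by
        rw [← hρ s, hρs]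
      show _ * ((Ψ' ⟨(s : Ω), (le_sup_right : Q ≤ P ⊔ Q) s.2⟩ : ↥(P ⊔ Q)) : Ω) * _ = _
      rw [e2]
      rfl
    show ((cx⁻¹ (ρ (cx (ρ⁻¹ t))) : Q) : Ω) = w * t * w⁻¹
    have h3 : ∀ z : Q, ((cx⁻¹ z : Q) : Ω) = (x : Ω)⁻¹ * z * (x : Ω) := by
      intro z
      have h4 := conjAut_coe Q _ hxN (cx⁻¹ z)
      have e : cx (cx⁻¹ z) = z := by
        show cx (cx.symm z) = z
        simp
      rw [← hcx, e] at h4
      rw [h4]; group
    rw [h3, h2, hw]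
    group

/-- The hyperfocal subgroup acts on a normal subgroup `Q` through `O^p(Aut_E(Q))`. -/
theorem h1_hyperfocal_le_actSub [Finite S] (E : FusionSystem S) {Q : Subgroup Ω}
    (hQ : E.IsNormal Q) :
    E.hyperfocalSubgroup p ≤
      actSub Q ((pResidual p (E.autGroup Q)).map (E.autGroup Q).subtype) := by
  unfold hyperfocalSubgroup
  rw [Subgroup.closure_le]
  rintro _ ⟨P, α, x, hP, hα, rfl⟩
  have hfinP : Finite P := finite_of_le hP
  revert x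
  refine Subgroup.closure_induction
    (p := fun (β : E.autGroup P) _ => ∀ x : P, (x : Ω)⁻¹ * (((β : MulAut P) x : P) : Ω) ∈
      actSub Q ((pResidual p (E.autGroup Q)).map (E.autGroup Q).subtype))
    ?_ ?_ ?_ ?_ hα
  · intro β hβ x
    have hβ' : Nat.Coprime (orderOf β) p := hβ
    rw [← Subgroup.orderOf_coe] at hβ'
    exact h1_comm_mem_actSub E hQ hP β.2 hβ' x
  · intro x
    have : (x : Ω)⁻¹ * ((((1 : E.autGroup P) : MulAut P) x : P) : Ω) = 1 := by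
      show (x : Ω)⁻¹ * (x : Ω) = 1
      group
    rw [this]; exact Subgroup.one_mem _
  · intro β γ _ _ hβ hγ x
    have e : (x : Ω)⁻¹ * ((((β * γ : E.autGroup P) : MulAut P) x : P) : Ω) =
        ((x : Ω)⁻¹ * ((((γ : MulAut P) x : P)) : Ω)) *
        (((((γ : MulAut P) x : P)) : Ω)⁻¹ * (((β : MulAut P) ((γ : MulAut P) x) : P) : Ω)) := by
      rw [mul_assoc, mul_inv_cancel_left]; rfl
    rw [e]
    exact Subgroup.mul_mem _ (hγ x) (hβ _)
  · intro β _ hβ x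
    have h1 := hβ (((β⁻¹ : E.autGroup P) : MulAut P) x)
    have e1 : (β : MulAut P) (((β⁻¹ : E.autGroup P) : MulAut P) x) = x := by
      show (β : MulAut P) ((β : MulAut P)⁻¹ x) = x
      show (β : MulAut P) ((β : MulAut P).symm x) = x
      simp
    rw [e1] at h1
    have e : (x : Ω)⁻¹ * ((((β⁻¹ : E.autGroup P) : MulAut P) x : P) : Ω) =
        (((((β⁻¹ : E.autGroup P) : MulAut P) x : P) : Ω)⁻¹ * (x : Ω))⁻¹ := by
      group
    rw [e]
    exact Subgroup.inv_mem _ h1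

/-- **TRS-H1**. -/
theorem pResidual_autGroup_eq_top [Finite S] (hS : IsPGroup p S) (E : FusionSystem S)
    (hE : E.IsSaturated p) {Q : Subgroup Ω} (hQ : E.IsNormal Q)
    (hyp : E.hyperfocalSubgroup p = S) : pResidual p ↥(E.autGroup Q) = ⊤ := by
  have hT : E.StronglyClosed Q := stronglyClosed_of_isNormal E hQ
  have hWC : E.WeaklyClosed Q := weaklyClosed_of_stronglyClosed E hT
  have hfinQ : Finite Q := finite_of_le hQ.1
  have hact := h1_hyperfocal_le_actSub (p := p) E hQ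
  rw [hyp] at hact
  -- `Aut_S(Q) ≤ O^p(A)`
  have hle : (autInducedBy S Q).subgroupOf (E.autGroup Q) ≤ pResidual p ↥(E.autGroup Q) := by
    intro a ha
    rw [Subgroup.mem_subgroupOf] at ha
    have key : autInducedBy S Q ≤ (pResidual p (E.autGroup Q)).map (E.autGroup Q).subtype := by
      unfold autInducedBy
      rw [Subgroup.closure_le]
      rintro α ⟨g, hg, hα⟩
      obtain ⟨β, hβ, hβe⟩ := hact hg
      have : α = β := by
        ext t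
        rw [hα, hβe]
      rw [this]; exact hβ
    obtain ⟨b, hb, hbe⟩ := key ha
    have : b = a := Subtype.ext hbe
    rw [← this]; exact hb
  -- `Q` is fully automized
  obtain ⟨Q', ⟨φ, hφ, hφr⟩, hfa, -⟩ := hE Q hQ.1
  have hQQ' : Q' = Q := by rw [← hφr]; exact hWC.2 φ hφ
  subst hQQ'
  obtain ⟨-, R, hR⟩ := hfa
  have hRle : (R : Subgroup (E.autGroup Q')) ≤ pResidual p ↥(E.autGroup Q') := by
    rw [hR]; exact hle
  have h := Cfsg.Agent.Lib.Helper47.pResidual_sup_sylow (p := p) R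
  rwa [sup_eq_left.mpr hRle] at h

end Cfsg.Agent.Lib.Helper88.Trs
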